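import Groth.Agent.FF.AdaptedBasis
import Mathlib.Algebra.Polynomial.Derivative
import Mathlib.LinearAlgebra.Matrix.Determinant.Basic
import Mathlib.LinearAlgebra.Vandermonde
import Mathlib.RingTheory.Polynomial.Pochhammer
import Mathlib.RingTheory.Polynomial.DegreeLT
import Mathlib.LinearAlgebra.Matrix.Basis
import Mathlib.RingTheory.Coprime.Lemmas
import Mathlib.Algebra.Polynomial.RingDivision

/-! The Plücker inequality for spaces of polynomials in characteristic zero. -/

namespace Groth.Agent.FF

open Polynomial Module Matrix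

variable {k : Type*} [Field k] {n : ℕ}

/-- The Wronskian matrix. -/
noncomputable def polyWr (p : Fin n → k[X]) : Matrix (Fin n) (Fin n) k[X] :=
  Matrix.of fun j i => derivative^[(j : ℕ)] (p i)

theorem coeff_prod_sum_of_natDegree_le {ι : Type*} (s : Finset ι) (f : ι → k[X]) (e : ι → ℕ)
    (h : ∀ i ∈ s, (f i).natDegree ≤ e i) :
    (∏ i ∈ s, f i).natDegree ≤ ∑ i ∈ s, e i ∧
      (∏ i ∈ s, f i).coeff (∑ i ∈ s, e i) = ∏ i ∈ s, (f i).coeff (e i) := by
  induction s using Finset.cons_induction with
  | empty => simp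
  | cons a s ha ih =>
    obtain ⟨h1, h2⟩ := ih fun i hi => h i (Finset.mem_cons_of_mem hi)
    have ha' := h a (Finset.mem_cons_self a s)
    rw [Finset.prod_cons, Finset.sum_cons, Finset.prod_cons]
    exact ⟨natDegree_mul_le.trans (add_le_add ha' h1),
      by rw [coeff_mul_add_eq_of_natDegree_le ha' h1, h2]⟩

theorem natDegree_det_le (M : Matrix (Fin n) (Fin n) k[X]) (e : Fin n → ℕ)
    (h : ∀ j i, (M j i).natDegree ≤ e i) :
    M.det.natDegree ≤ ∑ i, e i ∧
      M.det.coeff (∑ i, e i) = (Matrix.of fun j i => (M j i).coeff (e i)).det := by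
  rw [Matrix.det_apply, Matrix.det_apply]
  constructor
  · refine natDegree_sum_le_of_forall_le _ _ fun σ _ => ?_
    have := (coeff_prod_sum_of_natDegree_le Finset.univ (fun i => M (σ i) i) e fun i _ => h _ _).1
    rcases Int.units_eq_one_or (Equiv.Perm.sign σ) with h1 | h1 <;>
      simpa [h1, Units.smul_def] using this
  · rw [finset_sum_coeff]
    refine Finset.sum_congr rfl fun σ _ => ?_
    have := (coeff_prod_sum_of_natDegree_le Finset.univ (fun i => M (σ i) i) e fun i _ => h _ _).2
    rcases Int.units_eq_one_or (Equiv.Perm.sign σ) with h1 | h1 <;>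
      simp [h1, Units.smul_def, this]

theorem dvd_det (M : Matrix (Fin n) (Fin n) k[X]) (q : k[X]) (m : Fin n → ℕ)
    (h : ∀ j i, q ^ m i ∣ M j i) : q ^ (∑ i, m i) ∣ M.det := by
  rw [Matrix.det_apply]
  refine Finset.dvd_sum fun σ _ => ?_
  have := Finset.prod_dvd_prod_of_dvd (fun i => q ^ m i) (fun i => M (σ i) i) (s := Finset.univ)
    fun i _ => h _ _
  rw [Finset.prod_pow_eq_pow_sum] at this
  rcases Int.units_eq_one_or (Equiv.Perm.sign σ) with h1 | h1 <;>
    simpa [h1, Units.smul_def] using this

theorem det_row_pow (p : Fin n → k[X]) (q : k[X]) :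
    (Matrix.of fun (j i : Fin n) => q ^ (j : ℕ) * polyWr p j i).det =
      q ^ (∑ j : Fin n, (j : ℕ)) * (polyWr p).det := by
  rw [Matrix.det_mul_column (fun j : Fin n => q ^ (j : ℕ)) (polyWr p), Finset.prod_pow_eq_pow_sum]

theorem natDegree_X_pow_mul_derivative_le (p : k[X]) (j : ℕ) :
    (X ^ j * derivative^[j] p).natDegree ≤ p.natDegree := by
  rcases le_or_gt j p.natDegree with h | h
  · refine natDegree_mul_le.trans ?_
    have := natDegree_iterate_derivative p j
    rw [natDegree_X_pow]; omega
  · rw [iterate_derivative_eq_zero h, mul_zero, natDegree_zero]; exact Nat.zero_le _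

theorem coeff_X_pow_mul_derivative (p : k[X]) (j e : ℕ) :
    (X ^ j * derivative^[j] p).coeff e = (e.descFactorial j : k) * p.coeff e := by
  rw [coeff_X_pow_mul']
  split_ifs with h
  · rw [coeff_iterate_derivative, Nat.sub_add_cancel h, nsmul_eq_mul]
  · rw [Nat.descFactorial_eq_zero_iff_lt.mpr (not_le.mp h), Nat.cast_zero, zero_mul]

theorem det_descFactorial_ne_zero [CharZero k] (e : Fin n → ℕ) (he : Function.Injective e) :
    (Matrix.of fun j i : Fin n => ((e i).descFactorial (j : ℕ) : k)).det ≠ 0 := by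
  rw [← Matrix.det_transpose]
  have := det_eval_matrixOfPolynomials_eq_det_vandermonde (fun i => (e i : k))
    (fun i : Fin n => descPochhammer k i) (fun i => descPochhammer_natDegree k i)
    (fun i => monic_descPochhammer k i)
  simp only [descPochhammer_eval_eq_descFactorial] at this
  change (Matrix.of fun i j : Fin n => ((e i).descFactorial (j : ℕ) : k)).det ≠ 0
  rw [← this, det_vandermonde_ne_zero_iff]
  exact fun a b h => he (Nat.cast_injective h)

theorem wr_degree [CharZero k] (p : Fin n → k[X]) (hp : ∀ i, p i ≠ 0)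
    (he : Function.Injective fun i => (p i).natDegree) :
    (polyWr p).det ≠ 0 ∧
      (polyWr p).det.natDegree + ∑ j : Fin n, (j : ℕ) ≤ ∑ i, (p i).natDegree := by
  have h := natDegree_det_le (Matrix.of fun (j i : Fin n) => X ^ (j : ℕ) * polyWr p j i)
    (fun i => (p i).natDegree) fun j i => natDegree_X_pow_mul_derivative_le _ _
  rw [det_row_pow] at h
  have hne : (polyWr p).det ≠ 0 := by
    intro h0
    rw [h0, mul_zero, coeff_zero] at h
    have e : (Matrix.of fun j i : Fin n => ((Matrix.of fun (j i : Fin n) => X ^ (j : ℕ) * polyWr p j i) j i).coeff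
        (p i).natDegree) = Matrix.of fun j i : Fin n =>
          (p i).leadingCoeff * (Matrix.of fun j i : Fin n => ((p i).natDegree.descFactorial (j : ℕ) : k)) j i := by
      ext j i
      simp only [polyWr, Matrix.of_apply, coeff_X_pow_mul_derivative, leadingCoeff]
      exact mul_comm _ _
    rw [e, Matrix.det_mul_row] at h
    exact mul_ne_zero (Finset.prod_ne_zero_iff.mpr fun i _ => leadingCoeff_ne_zero.mpr (hp i))
      (det_descFactorial_ne_zero _ he) h.2.symm
  refine ⟨hne, ?_⟩
  rw [natDegree_mul (pow_ne_zero _ X_ne_zero) hne, natDegree_X_pow] at h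
  omega

theorem wr_dvd (p : Fin n → k[X]) (a : k) (m : Fin n → ℕ) (h : ∀ i, (X - C a) ^ m i ∣ p i) :
    (X - C a) ^ (∑ i, m i - ∑ j : Fin n, (j : ℕ)) ∣ (polyWr p).det := by
  have h1 := dvd_det (Matrix.of fun (j i : Fin n) => (X - C a) ^ (j : ℕ) * polyWr p j i) (X - C a) m
    fun j i => by
      refine (pow_dvd_pow _ (by omega : m i ≤ (j : ℕ) + (m i - (j : ℕ)))).trans ?_
      rw [pow_add]
      exact mul_dvd_mul_left _ (pow_sub_dvd_iterate_derivative_of_pow_dvd _ (h i))
  rw [det_row_pow] at h1
  rcases le_or_gt (∑ i, m i) (∑ j : Fin n, (j : ℕ)) with h' | h'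
  · rw [Nat.sub_eq_zero_of_le h', pow_zero]; exact one_dvd _
  · rw [← Nat.add_sub_cancel' h'.le, pow_add] at h1
    exact (mul_dvd_mul_iff_left (pow_ne_zero _ (X_sub_C_ne_zero a))).mp h1

theorem wr_change_basis {p q : Fin n → k[X]} (hp : LinearIndependent k p)
    (h : Submodule.span k (Set.range p) = Submodule.span k (Set.range q)) (hq : LinearIndependent k q) :
    Associated (polyWr p).det (polyWr q).det := by
  have hmem : ∀ i, q i ∈ Submodule.span k (Set.range p) := fun i => h ▸ Submodule.subset_span ⟨i, rfl⟩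
  choose c hc using fun i => (Submodule.mem_span_range_iff_exists_fun k).mp (hmem i)
  let A : Matrix (Fin n) (Fin n) k := Matrix.of fun l i => c i l
  have e : polyWr q = polyWr p * A.map C := by
    refine Matrix.ext fun j i => ?_
    simp only [polyWr, Matrix.mul_apply, Matrix.of_apply, Matrix.map_apply, A, ← hc i,
      iterate_derivative_sum, iterate_derivative_smul]
    exact Finset.sum_congr rfl fun l _ => by rw [smul_eq_C_mul, mul_comm]
  have hA : A.det ≠ 0 := by
    intro h0
    obtain ⟨v, hv, hv0⟩ := Matrix.exists_mulVec_eq_zero_iff.mpr h0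
    apply hv
    funext i
    refine linearIndependent_iff'.mp hq Finset.univ v ?_ i (Finset.mem_univ _)
    simp only [← hc, Finset.smul_sum, smul_smul]
    rw [Finset.sum_comm]
    refine Finset.sum_eq_zero fun l _ => ?_
    rw [← Finset.sum_smul]
    have := congrFun hv0 l
    simp only [Matrix.mulVec, dotProduct, A, Matrix.of_apply, Pi.zero_apply] at this
    rw [Finset.sum_congr rfl fun i _ => mul_comm (v i) (c i l), this, zero_smul]
  refine ⟨(((isUnit_iff_ne_zero.mpr hA).map C).unit), ?_⟩
  rw [IsUnit.unit_spec, e, Matrix.det_mul]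
  congr 1
  exact RingHom.map_det C A

/-- The subspace of polynomials divisible by `(X - a) ^ m`. -/
noncomputable def divPow (a : k) (m : ℕ) : Submodule k k[X] :=
  LinearMap.range (LinearMap.mulLeft k ((X - C a) ^ m))

theorem mem_divPow {a : k} {m : ℕ} {p : k[X]} : p ∈ divPow a m ↔ (X - C a) ^ m ∣ p :=
  ⟨fun ⟨q, hq⟩ => ⟨q, hq.symm⟩, fun ⟨q, hq⟩ => ⟨q, hq.symm⟩⟩

theorem divPow_zero (a : k) : divPow a 0 = ⊤ := by
  ext p; simp [mem_divPow]

theorem divPow_succ (a : k) (m : ℕ) : divPow a (m + 1) ≤ divPow a m := fun p hp =>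
  mem_divPow.mpr ((pow_dvd_pow _ (Nat.le_succ m)).trans (mem_divPow.mp hp))

/-- **Plücker inequality.** For a space `W` of dimension `r+1` of polynomials of degree `≤ d` in
characteristic zero, the ramification at finitely many points and at infinity has total at most
`(r+1)(d-r)`. Truncated subtraction is used on each summand. -/
theorem plucker_poly [CharZero k] {d r : ℕ} (W : Submodule k k[X]) (hW : W ≤ degreeLT k (d + 1))
    (hdim : finrank k W = r + 1) (S : Finset k) :
    (∑ a ∈ S, ((∑ m ∈ Finset.range d, finrank k ↥(W ⊓ divPow a (m + 1))) - ∑ j : Fin (r + 1), (j : ℕ))) +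
      (∑ m ∈ Finset.range d, finrank k ↥(W ⊓ degreeLT k (d - m))) + ∑ j : Fin (r + 1), (j : ℕ) ≤
        (r + 1) * d := by
  have hfin : FiniteDimensional k W := Module.finite_of_finrank_pos (by omega)
  -- basis adapted to the degree filtration
  let G : ℕ → Submodule k k[X] := fun m => W ⊓ degreeLT k (d + 1 - m)
  have hG0 : G 0 = W := inf_eq_left.mpr (by simpa using hW)
  have hGm : ∀ m, G (m + 1) ≤ G m := fun m => inf_le_inf_left W fun p hp =>
    mem_degreeLT.mpr (lt_of_lt_of_le (mem_degreeLT.mp hp) (by exact_mod_cast (by omega : d + 1 - (m + 1) ≤ d + 1 - m)))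
  have hfinG : ∀ m, FiniteDimensional k (G m) := fun m => Submodule.finiteDimensional_of_le inf_le_left
  have hstep : ∀ m, finrank k (G m) ≤ finrank k (G (m + 1)) + 1 := fun m => by
    -- one step costs at most one dimension
    let φ : G m →ₗ[k] k := (lcoeff k (d - m)) ∘ₗ (G m).subtype
    have h1 := φ.finrank_range_add_finrank_ker
    have h2 : finrank k (LinearMap.range φ) ≤ 1 := (Submodule.finrank_le _).trans_eq (finrank_self k)
    have h3 : finrank k (LinearMap.ker φ) ≤ finrank k (G (m + 1)) := by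
      have hmap : (LinearMap.ker φ).map (G m).subtype ≤ G (m + 1) := by
        rintro _ ⟨⟨p, hpW, hpd⟩, hp, rfl⟩
        refine ⟨hpW, mem_degreeLT.mpr ?_⟩
        rw [degree_lt_iff_coeff_zero]
        intro i hi
        have hc : p.coeff (d - m) = 0 := hp
        rcases Nat.lt_or_ge i (d + 1 - m) with h | h
        · rw [show i = d - m by omega]; exact hc
        · exact (degree_lt_iff_coeff_zero _ _).mp (mem_degreeLT.mp hpd) i h
      refine le_trans (le_of_eq ?_) (Submodule.finrank_mono hmap)
      exact (Submodule.equivMapOfInjective _ (G m).subtype_injective _).finrank_eq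
    omega
  have hlast : finrank k (G d) ≤ 1 := by
    let φ : G d →ₗ[k] k := (lcoeff k 0) ∘ₗ (G d).subtype
    have hφ : Function.Injective φ := by
      refine (injective_iff_map_eq_zero _).mpr ?_
      rintro ⟨p, hpW, hpd⟩ hp
      refine Subtype.ext (Polynomial.ext fun i => ?_)
      rcases Nat.eq_zero_or_pos i with rfl | hi
      · exact hp
      · exact (degree_lt_iff_coeff_zero _ _).mp (mem_degreeLT.mp hpd) i (by omega)
    exact (LinearMap.finrank_le_finrank_of_injective hφ).trans_eq (finrank_self k)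
  obtain ⟨ι, hι, b, m, hli, hsp, hcard, hmem, hsum, hinj⟩ := exists_filtration_basis d G hGm (by rw [hG0]; exact hfin)
  obtain ⟨hminj, hnot⟩ := hinj (fun m' _ => hstep m') hlast
  rw [hG0, hdim] at hcard
  let e : ι ≃ Fin (r + 1) := Fintype.equivFinOfCardEq hcard
  let p : Fin (r + 1) → k[X] := b ∘ e.symm
  have hp0 : ∀ i, p i ≠ 0 := fun i => hli.ne_zero _
  have hdeg : ∀ i, (b i).natDegree + m i = d := fun i => by
    have hb0 := hli.ne_zero i
    have h1 := mem_degreeLT.mp (hmem i).2.2
    rw [← natDegree_lt_iff_degree_lt hb0] at h1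
    rcases lt_or_eq_of_le (hmem i).1 with h | h
    · have h2 : ¬ ((b i).natDegree < d + 1 - (m i + 1)) := fun hlt => hnot i h
        ⟨(hmem i).2.1, mem_degreeLT.mpr ((natDegree_lt_iff_degree_lt hb0).mp hlt)⟩
      omega
    · omega
  obtain ⟨hne, hdeg'⟩ := wr_degree p hp0 fun i j h => e.symm.injective (hminj (by
    have := hdeg (e.symm i); have := hdeg (e.symm j)
    have h' : (b (e.symm i)).natDegree = (b (e.symm j)).natDegree := h
    omega))
  have hsp' : Submodule.span k (Set.range p) = W := by
    rw [show Set.range p = Set.range b from e.symm.surjective.range_comp b, hsp, hG0]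
  have hesum : ∑ i, (p i).natDegree + ∑ i, m i = (r + 1) * d := by
    rw [show ∑ i, (p i).natDegree = ∑ i, (b i).natDegree from e.symm.sum_comp fun i => (b i).natDegree,
      ← Finset.sum_add_distrib]
    simp [hdeg, hcard]
  have hinf : ∑ i, m i = ∑ m ∈ Finset.range d, finrank k ↥(W ⊓ degreeLT k (d - m)) := by
    rw [hsum]
    refine Finset.sum_congr rfl fun m _ => ?_
    show finrank k ↥(W ⊓ degreeLT k (d + 1 - (m + 1))) = _
    rw [Nat.succ_sub_succ]
  -- divisibility at the finite points
  have hdvd : ∀ a : k, (X - C a) ^ ((∑ m ∈ Finset.range d, finrank k ↥(W ⊓ divPow a (m + 1))) -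
      ∑ j : Fin (r + 1), (j : ℕ)) ∣ (polyWr p).det := fun a => by
    have hF0 : W ⊓ divPow a 0 = W := by rw [divPow_zero, inf_top_eq]
    obtain ⟨ι', hι', b', m', hli', hsp'', hcard', hmem', hsum', -⟩ :=
      exists_filtration_basis d (fun m => W ⊓ divPow a m) (fun m => inf_le_inf_left W (divPow_succ a m))
        (by rw [hF0]; exact hfin)
    rw [hF0, hdim] at hcard'
    let e' : ι' ≃ Fin (r + 1) := Fintype.equivFinOfCardEq hcard'
    have h1 := wr_dvd (b' ∘ e'.symm) a (m' ∘ e'.symm) fun i => mem_divPow.mp (hmem' (e'.symm i)).2.2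
    rw [show (∑ i, (m' ∘ e'.symm) i) = ∑ i, m' i from e'.symm.sum_comp m', hsum'] at h1
    refine h1.trans (wr_change_basis (hli'.comp _ e'.symm.injective) ?_ (hli.comp _ e.symm.injective)).dvd
    rw [show Set.range (b' ∘ e'.symm) = Set.range b' from e'.symm.surjective.range_comp b', hsp'', hF0]
    exact hsp'.symm
  have hprod := Finset.prod_dvd_of_coprime (t := S) (s := fun a => (X - C a) ^
    ((∑ m ∈ Finset.range d, finrank k ↥(W ⊓ divPow a (m + 1))) - ∑ j : Fin (r + 1), (j : ℕ)))
    (z := (polyWr p).det) ?_ fun a _ => hdvd a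
  · have h := natDegree_le_of_dvd hprod hne
    rw [natDegree_prod _ _ fun a _ => pow_ne_zero _ (X_sub_C_ne_zero a)] at h
    simp only [natDegree_pow, natDegree_X_sub_C, mul_one] at h
    omega
  · intro a _ b _ hab
    exact IsCoprime.pow (Polynomial.pairwise_coprime_X_sub_C Function.injective_id hab)

end Groth.Agent.FF
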