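import Groth.Agent.FF.RiemannRoch
import Groth.Agent.FF.Wronskian
import Mathlib.FieldTheory.IsAlgClosed.Basic
import Mathlib.RingTheory.IntegralClosure.IsIntegralClosure.Basic

/-! Linear series on a function field over an algebraically closed field: vanishing sequences,
the two-point bound and, in genus zero, the Plücker inequality. -/

namespace Groth.Agent.FF

open WithZero FunFld Module
open scoped Classical

variable {k K : Type*} [Field k] [Field K] [Algebra k K]

theorem deg_eq_one [IsAlgClosed k] (hK : IsFunctionField k K) (P : Place k K) : P.deg = 1 := by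
  have hfd : Module.Finite k (IsLocalRing.ResidueField P.O) := finiteDimensional_residue hK P
  have : Algebra.IsIntegral k (IsLocalRing.ResidueField P.O) := ⟨fun x => @IsIntegral.of_finite k _ _ _ _ hfd x⟩
  have hs : Function.Surjective (algebraMap k (IsLocalRing.ResidueField P.O)) :=
    IsAlgClosed.algebraMap_bijective_of_isIntegral.2
  exact (LinearEquiv.ofBijective (Algebra.linearMap k (IsLocalRing.ResidueField P.O))
    ⟨(algebraMap k _).injective, hs⟩).finrank_eq.symm.trans (finrank_self k)

theorem exists_const_near [IsAlgClosed k] (hK : IsFunctionField k K) (P : Place k K) {x : K}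
    (hx : P.1 x ≤ 1) : ∃ c : k, P.1 (x - algebraMap k K c) < 1 := by
  have hfd : Module.Finite k (IsLocalRing.ResidueField P.O) := finiteDimensional_residue hK P
  have : Algebra.IsIntegral k (IsLocalRing.ResidueField P.O) := ⟨fun x => @IsIntegral.of_finite k _ _ _ _ hfd x⟩
  obtain ⟨c, hc⟩ : ∃ c, algebraMap k (IsLocalRing.ResidueField P.O) c =
      IsLocalRing.residue P.O ⟨x, (mem_O P).mpr hx⟩ :=
    IsAlgClosed.algebraMap_bijective_of_isIntegral.2 _
  refine ⟨c, ?_⟩
  rw [algebraMap_res, eq_comm, ← sub_eq_zero, ← map_sub, residue_eq_zero_iff] at hc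
  exact hc

/-- `dim V(-nP)`. -/
noncomputable def fdim (V : Submodule k K) (D : Divisor k K) (P : Place k K) (n : ℤ) : ℕ :=
  finrank k ↥(V ⊓ L (D - Finsupp.single P n))

/-- `∑_{n=1}^d dim V(-nP)`: the weight of `V` at `P` shifted by `r(r+1)/2`. -/
noncomputable def wsum (V : Submodule k K) (D : Divisor k K) (d : ℕ) (P : Place k K) : ℕ :=
  ∑ n ∈ Finset.range d, fdim V D P ((n : ℤ) + 1)

theorem sum_fin_val (r : ℕ) : ∑ j : Fin (r + 1), (j : ℕ) = r * (r + 1) / 2 := by
  rw [Fin.sum_univ_eq_sum_range (fun j => j), Finset.sum_range_id, Nat.add_sub_cancel, mul_comm]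

theorem half_mul_two (r : ℕ) : 2 * (r * (r + 1) / 2) = r * (r + 1) :=
  Nat.mul_div_cancel' (Nat.even_mul_succ_self r).two_dvd

/-- A `g^r_d`. -/
structure IsSeries (k : Type*) {K : Type*} [Field k] [Field K] [Algebra k K]
    (V : Submodule k K) (D : Divisor k K) (d r : ℕ) : Prop where
  hK : IsFunctionField k K
  deg : D.deg = d
  le : V ≤ L D
  dim : finrank k V = r + 1

variable [IsAlgClosed k] {V : Submodule k K} {D : Divisor k K} {d r : ℕ}

theorem fdim_zero (h : IsSeries k V D d r) (P : Place k K) : fdim V D P 0 = r + 1 := by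
  rw [fdim, Finsupp.single_zero, sub_zero, inf_eq_left.mpr h.le, h.dim]

theorem fdim_le (h : IsSeries k V D d r) (P : Place k K) (n : ℤ) : fdim V D P n ≤ r + 1 := by
  have : FiniteDimensional k V := Module.finite_of_finrank_pos (by rw [h.dim]; omega)
  exact (Submodule.finrank_mono inf_le_left).trans_eq h.dim

theorem fdim_eq_zero (h : IsSeries k V D d r) (P : Place k K) {n : ℤ} (hn : (d : ℤ) < n) :
    fdim V D P n = 0 := by
  rw [fdim, L_eq_bot_of_deg_neg h.hK (D := D - Finsupp.single P n), inf_bot_eq, finrank_bot]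
  rw [deg_sub, deg_single, deg_eq_one h.hK, h.deg]; omega

theorem fdim_anti (h : IsSeries k V D d r) (P : Place k K) {m n : ℤ} (hmn : m ≤ n) :
    fdim V D P n ≤ fdim V D P m := by
  have : FiniteDimensional k V := Module.finite_of_finrank_pos (by rw [h.dim]; omega)
  have : FiniteDimensional k ↥(V ⊓ L (D - Finsupp.single P m)) :=
    Submodule.finiteDimensional_of_le inf_le_left
  exact Submodule.finrank_mono (inf_le_inf_left V (L_mono (sub_le_sub_left (fun Q => by
    simp only [Finsupp.single_apply]; split_ifs <;> simp [hmn]) D)))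

theorem fdim_step (h : IsSeries k V D d r) (P : Place k K) (n : ℤ) :
    fdim V D P n ≤ fdim V D P (n + 1) + 1 := by
  obtain ⟨e, he, hrel⟩ := hasRelDim_L h.hK (D := D - Finsupp.single P (n + 1))
    (E := D - Finsupp.single P n) (sub_le_sub_left (fun Q => by
      simp only [Finsupp.single_apply]; split_ifs <;> simp) D)
  obtain ⟨e', he', hrel'⟩ := hrel.inf_right V
  have : FiniteDimensional k V := Module.finite_of_finrank_pos (by rw [h.dim]; omega)
  have : FiniteDimensional k ↥(L (D - Finsupp.single P (n + 1)) ⊓ V) :=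
    Submodule.finiteDimensional_of_le inf_le_right
  have h1 := (hrel'.finiteDimensional_iff this).2
  have he1 : (e : ℤ) ≤ 1 := by
    rw [deg_sub, deg_sub, deg_single, deg_single, deg_eq_one h.hK] at he; push_cast at he; omega
  rw [inf_comm, inf_comm (L (D - Finsupp.single P (n + 1)))] at h1
  simp only [fdim]; omega

theorem fdim_ge (h : IsSeries k V D d r) (P : Place k K) (n : ℕ) :
    r + 1 ≤ fdim V D P n + n := by
  induction n with
  | zero => simp [fdim_zero h]
  | succ n ih => have := fdim_step h P n; push_cast; omega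

theorem r_le_d (h : IsSeries k V D d r) : r ≤ d := by
  obtain ⟨P⟩ := nonempty_place h.hK
  have h1 := fdim_ge h P (d + 1)
  rw [fdim_eq_zero h P (by push_cast; omega)] at h1
  omega

theorem wsum_ge (h : IsSeries k V D d r) (P : Place k K) : r * (r + 1) / 2 ≤ wsum V D d P := by
  rw [← sum_fin_val, Fin.sum_univ_eq_sum_range (fun j => j), ← Finset.sum_range_reflect,
    Finset.sum_range_succ, Nat.add_sub_cancel, Nat.sub_self, add_zero]
  refine (Finset.sum_le_sum fun n _ => ?_).trans
    (Finset.sum_le_sum_of_subset (Finset.range_mono (r_le_d h)))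
  have := fdim_ge h P (n + 1)
  push_cast at this; omega

theorem fdim_add_le (h : IsSeries k V D d r) {P Q : Place k K} (hPQ : P ≠ Q) (m n : ℤ)
    (hmn : (d : ℤ) < m + n) : fdim V D P m + fdim V D Q n ≤ r + 1 := by
  have : FiniteDimensional k V := Module.finite_of_finrank_pos (by rw [h.dim]; omega)
  have : FiniteDimensional k ↥(V ⊓ L (D - Finsupp.single P m)) :=
    Submodule.finiteDimensional_of_le inf_le_left
  have : FiniteDimensional k ↥(V ⊓ L (D - Finsupp.single Q n)) :=
    Submodule.finiteDimensional_of_le inf_le_left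
  have hbot : (V ⊓ L (D - Finsupp.single P m)) ⊓ (V ⊓ L (D - Finsupp.single Q n)) = ⊥ := by
    rw [eq_bot_iff, ← L_eq_bot_of_deg_neg h.hK (D := D - Finsupp.single P m - Finsupp.single Q n)
      (by simp [deg_sub, deg_eq_one h.hK, h.deg]; omega)]
    rintro x ⟨⟨-, hP⟩, -, hQ⟩ R
    rcases eq_or_ne R Q with rfl | hRQ
    · simpa [Finsupp.single_eq_of_ne hPQ.symm] using hQ R
    · simpa [Finsupp.single_eq_of_ne hRQ] using hP R
  have h1 := Submodule.finrank_sup_add_finrank_inf_eq (V ⊓ L (D - Finsupp.single P m))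
    (V ⊓ L (D - Finsupp.single Q n))
  rw [hbot, finrank_bot] at h1
  have h2 := (Submodule.finrank_mono (sup_le inf_le_left inf_le_left :
    (V ⊓ L (D - Finsupp.single P m)) ⊔ (V ⊓ L (D - Finsupp.single Q n)) ≤ V))
  rw [h.dim] at h2
  simp only [fdim]; omega

theorem wsum_add_le (h : IsSeries k V D d r) {P Q : Place k K} (hPQ : P ≠ Q) :
    wsum V D d P + wsum V D d Q ≤ (r + 1) * d := by
  rw [wsum, wsum, ← Finset.sum_range_reflect (fun n : ℕ => fdim V D Q ((n : ℤ) + 1)), ← Finset.sum_add_distrib]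
  refine (Finset.sum_le_card_nsmul _ _ (r + 1) fun n hn => ?_).trans_eq (by simp [mul_comm])
  rw [Finset.mem_range] at hn
  exact fdim_add_le h hPQ _ _ (by omega)

theorem wsum_compat {K' : Type*} [Field K'] [Algebra k K'] {V' : Submodule k K'} {D' : Divisor k K'}
    {P : Place k K} {Q : Place k K'}
    (hcomp : ∀ m : ℕ, m ≤ d + 1 → fdim V D P m + fdim V' D' Q ((d : ℤ) + 1 - m) = r + 1) :
    wsum V D d P + wsum V' D' d Q = (r + 1) * d := by
  rw [wsum, wsum, ← Finset.sum_range_reflect (fun n : ℕ => fdim V' D' Q ((n : ℤ) + 1)), ← Finset.sum_add_distrib]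
  refine (Finset.sum_congr rfl fun n hn => ?_).trans
    (by simp [mul_comm] : ∑ _n ∈ Finset.range d, (r + 1) = (r + 1) * d)
  rw [Finset.mem_range] at hn
  have := hcomp (n + 1) (by omega)
  rw [show (d : ℤ) + 1 - ((n + 1 : ℕ) : ℤ) = ((d - 1 - n : ℕ) : ℤ) + 1 by omega] at this
  push_cast at this
  exact this

/-! ### Genus zero -/

variable (hK : IsFunctionField k K) (hg : genus k K = 0)

include hK hg in
theorem exists_coordinate (Pi : Place k K) :
    ∃ t : K, t ∈ L (Finsupp.single Pi (1 : ℤ)) ∧ Transcendental k t ∧ Pi.1 t = exp 1 := by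
  have h2 := ell_eq_of_deg_large hK (D := Finsupp.single Pi (1 : ℤ))
    (by rw [deg_single, deg_eq_one hK, hg]; simp)
  rw [deg_single, deg_eq_one hK, hg] at h2
  have := finiteDimensional_L hK (Finsupp.single Pi (1 : ℤ))
  obtain ⟨t, ht, htc⟩ : ∃ t ∈ L (Finsupp.single Pi (1 : ℤ)), t ∉ Set.range (algebraMap k K) := by
    by_contra hc; push Not at hc
    have hle : L (Finsupp.single Pi (1 : ℤ)) ≤ Submodule.span k {(1 : K)} := fun x hx => by
      obtain ⟨c, rfl⟩ := hc x hx
      exact Submodule.mem_span_singleton.mpr ⟨c, by rw [Algebra.smul_def, mul_one]⟩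
    have := (Submodule.finrank_mono hle).trans (finrank_span_singleton (K := k) one_ne_zero).le
    simp only [ell] at h2; omega
  have htt := transcendental_of_not_mem hK htc
  refine ⟨t, ht, htt, le_antisymm (by simpa using ht Pi) ?_⟩
  by_contra hlt
  obtain ⟨Q, hQ⟩ := exists_one_lt_val hK htt
  have := ht Q
  rcases eq_or_ne Q Pi with rfl | hne
  · have ht0 : t ≠ 0 := fun e => htt (e ▸ isAlgebraic_zero)
    rw [not_le, val_eq_exp_neg_ord Q ht0, exp_lt_exp] at hlt
    rw [val_eq_exp_neg_ord Q ht0, ← exp_zero, exp_lt_exp] at hQ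
    omega
  · rw [Finsupp.single_eq_of_ne hne, exp_zero] at this
    exact absurd hQ (not_lt.mpr this)

theorem val_aeval_le {P : Place k K} {t : K} (ht : P.1 t ≤ 1) (p : Polynomial k) :
    P.1 (Polynomial.aeval t p) ≤ 1 := by
  rw [Polynomial.aeval_eq_sum_range]
  refine P.1.map_sum_le fun i _ => ?_
  rw [Algebra.smul_def, map_mul, map_pow]
  exact mul_le_one' (P.2.1 _) (pow_le_one₀ zero_le ht)

theorem val_aeval_inf {P : Place k K} {t : K} (ht : P.1 t = exp 1) {p : Polynomial k} (hp : p ≠ 0) :
    P.1 (Polynomial.aeval t p) = exp (p.natDegree : ℤ) := by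
  induction h : p.natDegree using Nat.strong_induction_on generalizing p with
  | _ n ih =>
    subst h
    have hlead : P.1 (algebraMap k K p.leadingCoeff * t ^ p.natDegree) = exp (p.natDegree : ℤ) := by
      rw [map_mul, val_algebraMap P (Polynomial.leadingCoeff_ne_zero.mpr hp), one_mul, map_pow, ht,
        ← exp_nsmul, nsmul_eq_mul, mul_one]
    conv_lhs => rw [← Polynomial.eraseLead_add_C_mul_X_pow p]
    rw [map_add, map_mul, Polynomial.aeval_C, map_pow, Polynomial.aeval_X]
    rw [Valuation.map_add_eq_of_lt_right _ ?_, hlead]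
    rw [hlead]
    rcases eq_or_ne p.eraseLead 0 with h0 | h0
    · rw [h0, map_zero, map_zero]; exact exp_pos
    · have hlt : p.eraseLead.natDegree < p.natDegree :=
        (Polynomial.eraseLead_natDegree_lt_or_eraseLead_eq_zero p).resolve_right h0
      rw [ih _ hlt h0 rfl, exp_lt_exp]; omega

theorem val_aeval_finite {P : Place k K} {t : K} {a : k} (ht : P.1 (t - algebraMap k K a) = exp (-1 : ℤ))
    {p : Polynomial k} (hp : p ≠ 0) :
    P.1 (Polynomial.aeval t p) = exp (-(p.rootMultiplicity a : ℤ)) := by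
  obtain ⟨q, hq, hqa⟩ := Polynomial.exists_eq_pow_rootMultiplicity_mul_and_not_dvd p hp a
  conv_lhs => rw [hq]
  have ht1 : P.1 t ≤ 1 := by
    rw [show t = (t - algebraMap k K a) + algebraMap k K a by ring]
    refine P.1.map_add_le ?_ (P.2.1 a)
    rw [ht, ← exp_zero, exp_le_exp]; omega
  have hq1 : P.1 (Polynomial.aeval t q) = 1 := by
    obtain ⟨s, hs⟩ : (Polynomial.X - Polynomial.C a) ∣ q - Polynomial.C (q.eval a) :=
      Polynomial.dvd_iff_isRoot.mpr (by simp [Polynomial.IsRoot])
    have hne : q.eval a ≠ 0 := fun e => hqa (Polynomial.dvd_iff_isRoot.mpr e)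
    rw [show q = Polynomial.C (q.eval a) + (Polynomial.X - Polynomial.C a) * s by rw [← hs]; ring,
      map_add, Polynomial.aeval_C, Valuation.map_add_eq_of_lt_left, val_algebraMap P hne]
    rw [val_algebraMap P hne, map_mul, map_mul, map_sub, Polynomial.aeval_X, Polynomial.aeval_C, ht]
    exact lt_of_le_of_lt (mul_le_of_le_one_right' (val_aeval_le ht1 s))
      (by rw [← exp_zero, exp_lt_exp]; omega)
  rw [map_mul, map_mul, hq1, mul_one, map_pow, map_pow, map_sub, Polynomial.aeval_X,
    Polynomial.aeval_C, ht, ← exp_nsmul, nsmul_eq_mul, mul_neg, mul_one]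

include hK in
/-- The Plücker inequality in genus zero. -/
theorem plucker [CharZero k] (hg : genus k K = 0) (h : IsSeries k V D d r) (S : Finset (Place k K)) :
    (∑ P ∈ S, (wsum V D d P - r * (r + 1) / 2)) + r * (r + 1) ≤ (r + 1) * d := by
  obtain ⟨Pi⟩ := nonempty_place hK
  obtain ⟨t, htL, htt, htv⟩ := exists_coordinate hK hg Pi
  obtain ⟨z, hz0, hz⟩ := exists_div_of_ell_pos_deg_zero hK (D := D - Finsupp.single Pi (d : ℤ))
    (by rw [deg_sub, deg_single, deg_eq_one hK, h.deg]; simp) (by
      have := ell_eq_of_deg_large hK (D := D - Finsupp.single Pi (d : ℤ))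
        (by rw [deg_sub, deg_single, deg_eq_one hK, h.deg, hg]; simp)
      rw [deg_sub, deg_single, deg_eq_one hK, h.deg, hg] at this
      simp at this; omega)
  have hzD : D + div k z = Finsupp.single Pi (d : ℤ) := by
    rw [← sub_eq_zero, ← hz]; abel
  let ψ : Polynomial k →ₗ[k] K := LinearMap.mulLeft k z ∘ₗ (Polynomial.aeval t).toLinearMap
  have hψ : Function.Injective ψ := fun p q e =>
    transcendental_iff_injective.mp htt (mul_left_cancel₀ hz0 e)
  let W := V.comap ψ
  -- the divisor condition on polynomials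
  have hmem : ∀ (E : Divisor k K) (p : Polynomial k),
      ψ p ∈ L (D - E) ↔ Polynomial.aeval t p ∈ L (Finsupp.single Pi (d : ℤ) - E) := fun E p => by
    rw [← hzD, add_sub_right_comm]; exact mul_mem_L_iff hK hz0
  have hne0 : ∀ {p : Polynomial k}, p ≠ 0 → Polynomial.aeval t p ≠ 0 := fun hp e =>
    hp (transcendental_iff_injective.mp htt (e.trans (map_zero _).symm))
  have htQ : ∀ Q, Q ≠ Pi → Q.1 t ≤ 1 := fun Q hQ => by
    simpa [Finsupp.single_eq_of_ne hQ] using htL Q
  have hinf : ∀ (n : ℕ) (p : Polynomial k),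
      Polynomial.aeval t p ∈ L (Finsupp.single Pi (n : ℤ)) ↔ p ∈ Polynomial.degreeLT k (n + 1) := by
    intro n p
    rcases eq_or_ne p 0 with rfl | hp
    · simp
    rw [Polynomial.mem_degreeLT, ← Polynomial.natDegree_lt_iff_degree_lt hp]
    refine ⟨fun hL => ?_, fun hd Q => ?_⟩
    · have := hL Pi
      rw [val_aeval_inf htv hp, Finsupp.single_eq_same, exp_le_exp] at this
      omega
    · rcases eq_or_ne Q Pi with rfl | hQ
      · rw [val_aeval_inf htv hp, Finsupp.single_eq_same, exp_le_exp]; omega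
      · rw [Finsupp.single_eq_of_ne hQ, exp_zero]; exact val_aeval_le (htQ Q hQ) p
  -- coordinates of the finite places
  have hcoord : ∀ P, P ≠ Pi → ∃ a : k, P.1 (t - algebraMap k K a) = exp (-1 : ℤ) ∧
      ∀ Q, Q ≠ P → Q.1 (t - algebraMap k K a) < 1 → False := by
    intro P hP
    obtain ⟨a, ha⟩ := exists_const_near hK P (htQ P hP)
    have hu0 : t - algebraMap k K a ≠ 0 := fun e => htt ((sub_eq_zero.mp e) ▸ isAlgebraic_algebraMap _)
    have huL : t - algebraMap k K a ∈ L (Finsupp.single Pi (1 : ℤ)) :=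
      Submodule.sub_mem _ htL fun Q => (Q.2.1 a).trans (by
        rw [← exp_zero, exp_le_exp]; exact (Finsupp.single_nonneg.mpr zero_le_one :
          (0 : Divisor k K) ≤ Finsupp.single Pi 1) Q)
    have hpos := (mem_L_iff hK hu0).mp huL
    have hdeg : Divisor.deg (Finsupp.single Pi (1 : ℤ) + div k (t - algebraMap k K a)) = 1 := by
      rw [deg_add, deg_single, deg_eq_one hK, deg_div_eq_zero hK]; rfl
    have hle : Finsupp.single P (1 : ℤ) ≤ Finsupp.single Pi (1 : ℤ) + div k (t - algebraMap k K a) := fun Q => by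
      rcases eq_or_ne Q P with rfl | hQ
      · rw [val_lt_one_iff Q hu0] at ha
        simp [div_apply hK, Finsupp.single_eq_of_ne hP]; omega
      · simpa [Finsupp.single_eq_of_ne hQ] using hpos Q
    have heq := eq_of_le_of_deg_le hK hle (by rw [hdeg, deg_single, deg_eq_one hK]; rfl)
    have hord : ∀ Q, Q.ord (t - algebraMap k K a) =
        Finsupp.single P (1 : ℤ) Q - Finsupp.single Pi (1 : ℤ) Q := fun Q => by
      have := DFunLike.congr_fun heq Q
      rw [Finsupp.add_apply, div_apply hK] at this; omega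
    refine ⟨a, ?_, fun Q hQ hv => ?_⟩
    · rw [val_eq_exp_neg_ord P hu0, hord, Finsupp.single_eq_same, Finsupp.single_eq_of_ne hP, sub_zero]
    · rw [val_lt_one_iff Q hu0, hord, Finsupp.single_eq_of_ne hQ] at hv
      have := (Finsupp.single_nonneg.mpr zero_le_one : (0 : Divisor k K) ≤ Finsupp.single Pi 1) Q
      simp at this; omega
  choose a ha haut using hcoord
  have hfin : ∀ P (hP : P ≠ Pi) (m : ℕ) (p : Polynomial k),
      Polynomial.aeval t p ∈ L (Finsupp.single Pi (d : ℤ) - Finsupp.single P (m : ℤ)) ↔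
        p ∈ Polynomial.degreeLT k (d + 1) ⊓ divPow (a P hP) m := by
    intro P hP m p
    rcases eq_or_ne p 0 with rfl | hp
    · simp
    rw [Submodule.mem_inf, mem_divPow, ← Polynomial.le_rootMultiplicity_iff hp, ← hinf]
    refine ⟨fun hL => ⟨L_mono (sub_le_self _ (Finsupp.single_nonneg.mpr (by omega))) hL, ?_⟩,
      fun ⟨hd, hm⟩ Q => ?_⟩
    · have := hL P
      rw [val_aeval_finite (ha P hP) hp, exp_le_exp] at this
      simp [Finsupp.single_eq_of_ne hP] at this
      omega
    · rcases eq_or_ne Q P with rfl | hQ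
      · rw [val_aeval_finite (ha Q hP) hp, exp_le_exp]
        simp [Finsupp.single_eq_of_ne hP]; omega
      · simpa [Finsupp.single_eq_of_ne hQ] using hd Q
  have htrans : ∀ (E : Divisor k K), 0 ≤ E →
      finrank k ↥(V ⊓ L (D - E)) = finrank k ↥(W ⊓ (L (D - E)).comap ψ) := fun E hE => by
    rw [← Submodule.comap_inf]
    refine ((Submodule.equivMapOfInjective ψ hψ _).finrank_eq.trans ?_).symm
    rw [Submodule.map_comap_eq, inf_eq_right.mpr ?_]
    refine le_trans (le_trans inf_le_left h.le) fun x hx => ?_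
    have hz' : z⁻¹ * x ∈ L (Finsupp.single Pi (d : ℤ)) := by
      rw [← hzD, ← mul_mem_L_iff hK hz0, mul_inv_cancel_left₀ hz0]; exact hx
    -- polynomials fill up `L(d Pi)`
    have hmap : (Polynomial.degreeLT k (d + 1)).map (Polynomial.aeval t).toLinearMap =
        L (Finsupp.single Pi (d : ℤ)) := by
      have := finiteDimensional_L hK (Finsupp.single Pi (d : ℤ))
      refine Submodule.eq_of_le_of_finrank_le ?_ ?_
      · rintro _ ⟨p, hp, rfl⟩; exact (hinf d p).mpr hp
      · rw [← (Submodule.equivMapOfInjective _ (transcendental_iff_injective.mp htt) _).finrank_eq,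
          (Polynomial.degreeLTEquiv k (d + 1)).finrank_eq, finrank_fin_fun]
        have := ell_eq_of_deg_large hK (D := Finsupp.single Pi (d : ℤ))
          (by rw [deg_single, deg_eq_one hK, hg]; simp)
        rw [deg_single, deg_eq_one hK, hg] at this
        simp only [ell] at this; push_cast at this; omega
    obtain ⟨p, -, hp⟩ : z⁻¹ * x ∈ (Polynomial.degreeLT k (d + 1)).map (Polynomial.aeval t).toLinearMap :=
      hmap ▸ hz'
    exact ⟨p, show z * Polynomial.aeval t p = x by
      rw [show Polynomial.aeval t p = z⁻¹ * x from hp, mul_inv_cancel_left₀ hz0]⟩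
  have hW : W ≤ Polynomial.degreeLT k (d + 1) := fun p hp => by
    have := (hmem 0 p).mp (by rw [sub_zero]; exact h.le hp)
    rw [sub_zero] at this; exact (hinf d p).mp this
  have hdimW : finrank k W = r + 1 := by
    have := htrans 0 le_rfl
    rw [sub_zero, inf_eq_left.mpr h.le, h.dim, inf_eq_left.mpr (Submodule.comap_mono h.le)] at this
    exact this.symm
  let S' := (S.erase Pi).attach.image fun P => a P.1 (Finset.ne_of_mem_erase P.2)
  have key := plucker_poly W hW hdimW S'
  have hinjS : Set.InjOn (fun P : {P // P ∈ S.erase Pi} => a P.1 (Finset.ne_of_mem_erase P.2)) (S.erase Pi).attach := by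
    intro P _ Q _ e
    simp only at e
    refine Subtype.ext ?_
    by_contra hne
    refine haut Q.1 (Finset.ne_of_mem_erase Q.2) P.1 hne ?_
    rw [← e, ha, ← exp_zero, exp_lt_exp]; omega
  rw [Finset.sum_image hinjS] at key
  have hwfin : ∀ P (hP : P ≠ Pi), wsum V D d P =
      ∑ m ∈ Finset.range d, finrank k ↥(W ⊓ divPow (a P hP) (m + 1)) := fun P hP => by
    refine Finset.sum_congr rfl fun m _ => ?_
    have e : (L (D - Finsupp.single P ((m : ℤ) + 1))).comap ψ =
        Polynomial.degreeLT k (d + 1) ⊓ divPow (a P hP) (m + 1) := by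
      ext p; rw [Submodule.mem_comap, hmem, ← hfin P hP (m + 1) p]; push_cast; rfl
    rw [fdim, htrans _ (Finsupp.single_nonneg.mpr (by omega)), e, ← inf_assoc, inf_eq_left.mpr hW]
  have hwinf : wsum V D d Pi = ∑ m ∈ Finset.range d, finrank k ↥(W ⊓ Polynomial.degreeLT k (d - m)) := by
    refine Finset.sum_congr rfl fun m hm => ?_
    rw [Finset.mem_range] at hm
    have e : (L (D - Finsupp.single Pi ((m : ℤ) + 1))).comap ψ = Polynomial.degreeLT k (d - m) := by
      ext p
      rw [Submodule.mem_comap, hmem, ← Finsupp.single_sub,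
        show (d : ℤ) - ((m : ℤ) + 1) = ((d - m - 1 : ℕ) : ℤ) by omega, hinf,
        show d - m - 1 + 1 = d - m by omega]
    rw [fdim, htrans _ (Finsupp.single_nonneg.mpr (by omega)), e]
  simp only [sum_fin_val] at key
  rw [← hwinf] at key
  rw [Finset.sum_congr rfl fun P _ => congrArg (· - _) (hwfin P.1 (Finset.ne_of_mem_erase P.2)).symm] at key
  rw [Finset.sum_attach (S.erase Pi) fun P => wsum V D d P - r * (r + 1) / 2] at key
  have hle : ∑ P ∈ S, (wsum V D d P - r * (r + 1) / 2) ≤
      (∑ P ∈ S.erase Pi, (wsum V D d P - r * (r + 1) / 2)) + (wsum V D d Pi - r * (r + 1) / 2) := by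
    by_cases hPi : Pi ∈ S
    · rw [Finset.sum_erase_add S _ hPi]
    · rw [Finset.erase_eq_of_notMem hPi]; exact Nat.le_add_right _ _
  have := wsum_ge h Pi
  have := half_mul_two r
  omega

end Groth.Agent.FF
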