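import Groth.Agent.FF.Degree
import Mathlib.LinearAlgebra.Dual.Lemmas

/-! Riemann's inequality, repartitions, Weil differentials, the Riemann–Roch theorem. -/

namespace Groth.Agent.FF

open WithZero FunFld IntermediateField Module
open scoped Classical

variable {k K : Type*} [Field k] [Field K] [Algebra k K]

theorem exists_transcendental (hK : IsFunctionField k K) : ∃ x : K, Transcendental k x :=
  hK.1.imp fun _ h => h.1

theorem exists_deg_ge (hK : IsFunctionField k K) (n : ℤ) :
    ∃ B : Divisor k K, 0 ≤ B ∧ n ≤ B.deg := by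
  obtain ⟨x, hx⟩ := exists_transcendental hK
  have := finiteDimensional_adjoin hK hx
  have h1 : (0 : ℤ) < (poles (k := k) x).deg := by
    rw [deg_poles hK hx]; exact_mod_cast Module.finrank_pos
  refine ⟨(n.toNat : ℤ) • poles x, smul_nonneg (by omega) (poles_nonneg x), ?_⟩
  rw [deg_zsmul]; nlinarith [Int.self_le_toNat n, Int.natCast_nonneg n.toNat]

theorem mul_mem_L_iff (hK : IsFunctionField k K) {D : Divisor k K} {x y : K} (hx : x ≠ 0) :
    x * y ∈ L D ↔ y ∈ L (D + div k x) := by
  refine forall_congr' fun P => ?_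
  rw [map_mul, val_eq_exp_neg_ord P hx, Finsupp.add_apply, div_apply hK, exp_add, exp_neg,
    mul_comm (exp (D P)), inv_mul_le_iff₀ exp_pos]

theorem div_inv (hK : IsFunctionField k K) (x : K) : div k x⁻¹ = -div k x := by
  ext P; simp [div_apply hK]

theorem div_mul (hK : IsFunctionField k K) {x y : K} (hx : x ≠ 0) (hy : y ≠ 0) :
    div k (x * y) = div k x + div k y := by
  ext P; simp [div_apply hK, ord_mul P hx hy]

theorem ell_add_div (hK : IsFunctionField k K) (D : Divisor k K) {x : K} (hx : x ≠ 0) :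
    ell (D + div k x) = ell D := by
  let e : L (D + div k x) ≃ₗ[k] L D :=
    { toFun := fun y => ⟨x * y.1, (mul_mem_L_iff hK hx).mpr y.2⟩
      map_add' := fun a b => Subtype.ext (mul_add _ _ _)
      map_smul' := fun c a => Subtype.ext (mul_smul_comm _ _ _)
      invFun := fun y => ⟨x⁻¹ * y.1, (mul_mem_L_iff hK hx).mp (by rw [mul_inv_cancel_left₀ hx]; exact y.2)⟩
      left_inv := fun a => Subtype.ext (inv_mul_cancel_left₀ hx _)
      right_inv := fun a => Subtype.ext (mul_inv_cancel_left₀ hx _) }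
  exact e.finrank_eq

theorem L_eq_bot_of_deg_neg (hK : IsFunctionField k K) {D : Divisor k K} (h : D.deg < 0) :
    L D = ⊥ := by
  rw [Submodule.eq_bot_iff]
  intro x hx
  by_contra hx0
  have := deg_nonneg ((mem_L_iff hK hx0).mp hx)
  rw [deg_add, deg_div_eq_zero hK] at this
  omega

theorem ell_eq_zero_of_deg_neg (hK : IsFunctionField k K) {D : Divisor k K} (h : D.deg < 0) :
    ell D = 0 := by rw [ell, L_eq_bot_of_deg_neg hK h, finrank_bot]

theorem exists_of_ell_pos {D : Divisor k K} (h : 0 < ell D) : ∃ x, x ≠ 0 ∧ x ∈ L D := by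
  by_contra hc; push Not at hc
  have : L D = ⊥ := (Submodule.eq_bot_iff _).mpr fun x hx => by
    by_contra h0; exact hc x h0 hx
  rw [ell, this, finrank_bot] at h; omega

theorem ell_pos_of_mem (hK : IsFunctionField k K) {D : Divisor k K} {x : K} (h0 : x ≠ 0)
    (h : x ∈ L D) : 0 < ell D := by
  have := finiteDimensional_L hK D
  have : Nontrivial (L D) := ⟨⟨⟨x, h⟩, 0, fun e => h0 (congrArg Subtype.val e)⟩⟩
  exact Module.finrank_pos

/-- `deg D + 1 - ℓ(D)`, the quantity bounded by the genus. -/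
noncomputable def defect (D : Divisor k K) : ℤ := D.deg + 1 - (ell D : ℤ)

theorem defect_mono (hK : IsFunctionField k K) {D E : Divisor k K} (h : D ≤ E) :
    defect D ≤ defect E := by
  have := (ell_mono hK h).2; simp only [defect]; omega

theorem defect_add_div (hK : IsFunctionField k K) (D : Divisor k K) {x : K} (hx : x ≠ 0) :
    defect (D + div k x) = defect D := by
  simp [defect, ell_add_div hK D hx, deg_add, deg_div_eq_zero hK]

theorem defect_bddAbove (hK : IsFunctionField k K) : ∃ M : ℤ, ∀ D : Divisor k K, defect D ≤ M := by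
  obtain ⟨x, hx⟩ := exists_transcendental hK
  obtain ⟨C, hC, hl⟩ := ell_multiple_ge hK hx
  have := finiteDimensional_adjoin hK hx
  set n : ℕ := finrank k⟮x⟯ K with hn
  have hnpos : 0 < n := Module.finrank_pos
  have hB : (poles (k := k) x).deg = n := deg_poles hK hx
  have key : ∀ l : ℕ, ((l : ℤ) + 1) * n - C.deg ≤ ell ((l : ℤ) • poles (k := k) x) := fun l => by
    have h1 : (((l + 1) * n : ℕ) : ℤ) ≤ ell ((l : ℤ) • poles (k := k) x + C) := by exact_mod_cast hl l
    have h2 := (ell_mono hK (D := (l : ℤ) • poles (k := k) x) (le_add_of_nonneg_right hC)).2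
    rw [deg_add] at h2; push_cast at h1; omega
  refine ⟨C.deg + 1 - n, fun A => ?_⟩
  let A₁ : Divisor k K := A.mapRange (fun m => max m 0) (by simp)
  have hA₁ : ∀ P, A₁ P = max (A P) 0 := fun P => Finsupp.mapRange_apply
  refine (defect_mono hK (fun P => by simp [hA₁] : A ≤ A₁)).trans ?_
  have hA₁0 : (0 : Divisor k K) ≤ A₁ := fun P => by simp [hA₁]
  let l : ℕ := (C.deg + A₁.deg).toNat + 1
  have hpos : 0 < ell ((l : ℤ) • poles (k := k) x - A₁) := by
    have h2 := (ell_mono hK (D := (l : ℤ) • poles (k := k) x - A₁) (sub_le_self _ hA₁0)).2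
    rw [deg_sub] at h2
    have h3 := key l
    have h4 : C.deg + A₁.deg < l := by omega
    have : (l : ℤ) < ((l : ℤ) + 1) * n := by nlinarith
    omega
  obtain ⟨z, hz0, hz⟩ := exists_of_ell_pos hpos
  have hz' := (mem_L_iff hK hz0).mp hz
  have hle : A₁ + div k z⁻¹ ≤ (l : ℤ) • poles x := by
    rw [div_inv hK]; intro P
    have := hz' P; simp at this ⊢; omega
  refine (defect_add_div hK A₁ (inv_ne_zero hz0)).symm.le.trans ((defect_mono hK hle).trans ?_)
  have := key l
  simp only [defect, deg_zsmul, hB]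
  nlinarith

theorem defect_le_genus (hK : IsFunctionField k K) (D : Divisor k K) :
    defect D ≤ genus k K := by
  obtain ⟨M, hM⟩ := defect_bddAbove hK
  have : (defect D).toNat ≤ genus k K := le_csSup ⟨M.toNat, by
    rintro _ ⟨E, rfl⟩; exact Int.toNat_le_toNat (hM E)⟩ ⟨D, rfl⟩
  omega

theorem exists_defect_eq_genus (hK : IsFunctionField k K) :
    ∃ D : Divisor k K, defect D = genus k K := by
  obtain ⟨M, hM⟩ := defect_bddAbove hK
  obtain ⟨D, hD⟩ := Nat.sSup_mem (s := Set.range fun D : Divisor k K => (D.deg + 1 - (ell D : ℤ)).toNat)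
    ⟨_, ⟨0, rfl⟩⟩ ⟨M.toNat, by rintro _ ⟨E, rfl⟩; exact Int.toNat_le_toNat (hM E)⟩
  have h0 : defect (0 : Divisor k K) = 0 := by simp [defect, (finrank_L_zero hK).2]
  by_cases hg : genus k K = 0
  · exact ⟨0, by rw [h0, hg]; rfl⟩
  · refine ⟨D, ?_⟩
    have h1 : (defect D).toNat = genus k K := hD
    omega

theorem exists_defect_eq_genus_of_deg_ge (hK : IsFunctionField k K) :
    ∃ N : ℤ, ∀ D : Divisor k K, N ≤ D.deg → defect D = genus k K := by
  obtain ⟨D₀, hD₀⟩ := exists_defect_eq_genus hK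
  refine ⟨D₀.deg + genus k K, fun D hD => le_antisymm (defect_le_genus hK D) ?_⟩
  have h1 := defect_le_genus hK (D - D₀)
  simp only [defect, deg_sub] at h1
  obtain ⟨z, hz0, hz⟩ := exists_of_ell_pos (D := D - D₀) (by omega)
  have hz' := (mem_L_iff hK hz0).mp hz
  have hle : D₀ ≤ D + div k z := by
    intro P; have := hz' P; simp at this ⊢; omega
  have := defect_mono hK hle
  rw [defect_add_div hK D hz0, hD₀] at this
  exact this

/-! ### Repartitions -/

theorem AD_le_adele (D : Divisor k K) : AD D ≤ adele k K := fun a ha => by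
  refine Filter.mem_cofinite.mpr (D.finite_support.subset fun P hP hD => hP ?_)
  simpa [hD] using ha P

theorem diag_le_adele (hK : IsFunctionField k K) :
    LinearMap.range (diag k K) ≤ adele k K := by
  rintro _ ⟨x, rfl⟩
  refine AD_le_adele (poles x) fun P => ?_
  exact val_le_exp_poles hK x P

theorem smul_mem_adele (hK : IsFunctionField k K) (x : K) :
    ∀ a ∈ adele k K, x • a ∈ adele k K := fun a ha => by
  refine Filter.mem_cofinite.mpr (((Filter.mem_cofinite.mp ha).union
    (finite_support_ord hK x)).subset fun P hP => ?_)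
  by_contra hc
  simp only [Set.mem_union, Function.mem_support, not_or, not_not] at hc
  apply hP
  show P.1 ((x • a) P) ≤ 1
  rw [Pi.smul_apply, smul_eq_mul, map_mul]
  rcases eq_or_ne x 0 with rfl | hx
  · simp
  · rw [val_eq_exp_neg_ord P hx, hc.2, neg_zero, exp_zero, one_mul]
    exact not_not.mp hc.1

theorem exists_mem_AD {a : Place k K → K} (ha : a ∈ adele k K) (D : Divisor k K) :
    ∃ E, D ≤ E ∧ a ∈ AD E := by
  have hfin := Filter.mem_cofinite.mp ha
  let F : Divisor k K := ∑ P ∈ hfin.toFinset ∪ D.support,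
    Finsupp.single P (max (P.1 (a P)).log 0 + max (-(D P)) 0)
  have hF : ∀ P, F P = if P ∈ hfin.toFinset ∪ D.support then
      max (P.1 (a P)).log 0 + max (-(D P)) 0 else 0 := fun P => by
    simp only [F, Finsupp.finsetSum_apply, Finsupp.single_apply, Finset.sum_ite_eq']
  refine ⟨D + F, le_add_of_nonneg_right fun P => ?_, fun P => ?_⟩
  · rw [hF]; split_ifs <;> simp <;> omega
  · rw [Finsupp.add_apply, hF]
    split_ifs with h
    · rcases eq_or_ne (P.1 (a P)) 0 with h0 | h0
      · rw [h0]; exact zero_le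
      · conv_lhs => rw [← exp_log h0]
        rw [exp_le_exp]; omega
    · simp only [Finset.mem_union, Set.Finite.mem_toFinset, Finsupp.mem_support_iff, not_or,
        not_not] at h
      rw [h.2, add_zero, exp_zero]
      exact not_not.mp h.1

theorem AD_inf_range (D : Divisor k K) :
    AD D ⊓ LinearMap.range (diag k K) = (L D).map (diag k K) := by
  rw [L_eq_comap, Submodule.map_comap_eq, inf_comm]

theorem diag_injective [Nonempty (Place k K)] : Function.Injective (diag k K) :=
  fun _ _ h => congrFun h (Classical.arbitrary _)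

theorem nonempty_place (hK : IsFunctionField k K) : Nonempty (Place k K) := by
  obtain ⟨x, hx⟩ := exists_transcendental hK
  obtain ⟨P, -⟩ := exists_val_lt_one hK hx
  exact ⟨P⟩

theorem hasRelDim_AD_sup (hK : IsFunctionField k K) {D E : Divisor k K} (h : D ≤ E) :
    ∃ d : ℕ, (d : ℤ) = defect E - defect D ∧
      HasRelDim (AD D ⊔ LinearMap.range (diag k K)) (AD E ⊔ LinearMap.range (diag k K)) d := by
  obtain ⟨d, hd, hAD⟩ := hasRelDim_AD hK h
  obtain ⟨e, -, he⟩ := hAD.inf_right (LinearMap.range (diag k K))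
  obtain ⟨f, hf, hsup⟩ := hAD.sup_right _ he
  refine ⟨f, ?_, hsup⟩
  have := nonempty_place hK
  have := finiteDimensional_L hK D
  have h1 : ∀ D' : Divisor k K, finrank k ↥(AD D' ⊓ LinearMap.range (diag k K)) = ell D' := fun D' => by
    rw [AD_inf_range]
    exact (Submodule.equivMapOfInjective _ diag_injective (L D')).symm.finrank_eq
  have hfd : FiniteDimensional k ↥(AD D ⊓ LinearMap.range (diag k K)) := by
    rw [AD_inf_range]; exact Module.Finite.map _ _
  have h2 := (he.finiteDimensional_iff hfd).2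
  rw [h1, h1] at h2
  simp only [defect]; omega

theorem adele_eq_sup (hK : IsFunctionField k K) {D : Divisor k K} (h : defect D = genus k K) :
    adele k K = AD D ⊔ LinearMap.range (diag k K) := by
  refine le_antisymm (fun a ha => ?_) (sup_le (AD_le_adele D) (diag_le_adele hK))
  obtain ⟨E, hDE, haE⟩ := exists_mem_AD ha D
  obtain ⟨d, hd, hrel⟩ := hasRelDim_AD_sup hK hDE
  have := defect_le_genus hK E
  have hd0 : d = 0 := by have := defect_mono hK hDE; omega
  obtain ⟨-, φ, -, hker⟩ := hrel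
  subst hd0
  exact (hker ⟨a, Submodule.mem_sup_left haE⟩).mp (Subsingleton.elim _ _)

theorem exists_ge_defect_eq (hK : IsFunctionField k K) (D : Divisor k K) :
    ∃ E, D ≤ E ∧ defect E = genus k K := by
  obtain ⟨N, hN⟩ := exists_defect_eq_genus_of_deg_ge hK
  obtain ⟨B, hB, hdeg⟩ := exists_deg_ge hK (N - D.deg)
  exact ⟨D + B, le_add_of_nonneg_right hB, hN _ (by rw [deg_add]; omega)⟩

theorem quotient_ADK (hK : IsFunctionField k K) (D : Divisor k K) :
    FiniteDimensional k (↥(adele k K) ⧸ ADK D) ∧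
      (finrank k (↥(adele k K) ⧸ ADK D) : ℤ) = genus k K - defect D := by
  obtain ⟨E, hDE, hE⟩ := exists_ge_defect_eq hK D
  obtain ⟨d, hd, hrel⟩ := hasRelDim_AD_sup hK hDE
  rw [← adele_eq_sup hK hE] at hrel
  obtain ⟨h1, h2⟩ := hrel.quotient
  exact ⟨h1, by rw [← hE, ← hd, ← h2]; rfl⟩

theorem finrank_WD' (hK : IsFunctionField k K) (D : Divisor k K) :
    FiniteDimensional k (WD D) ∧ (finrank k (WD D) : ℤ) = genus k K - defect D := by
  obtain ⟨h1, h2⟩ := quotient_ADK hK D
  let e := (ADK D).dualQuotEquivDualAnnihilator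
  exact ⟨e.finiteDimensional, by
    rw [show finrank k (WD D) = _ from e.symm.finrank_eq, Subspace.dual_finrank_eq, h2]⟩

/-! ### Weil differentials -/

theorem mem_WD {D : Divisor k K} {ω : Module.Dual k (adele k K)} :
    ω ∈ WD D ↔ ∀ a : adele k K, (a : Place k K → K) ∈ AD D ⊔ LinearMap.range (diag k K) → ω a = 0 :=
  Submodule.mem_dualAnnihilator _

theorem WD_antitone {D E : Divisor k K} (h : D ≤ E) : WD E ≤ WD D :=
  Submodule.dualAnnihilator_anti (Submodule.comap_mono (sup_le_sup_right (AD_mono h) _))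

theorem AD_sup' (D E : Divisor k K) : AD (D ⊔ E) = AD D ⊔ AD E := by
  refine le_antisymm (fun a ha => ?_) (sup_le (AD_mono le_sup_left) (AD_mono le_sup_right))
  refine Submodule.mem_sup.mpr ⟨fun P => if E P ≤ D P then a P else 0, fun P => ?_,
    fun P => if E P ≤ D P then 0 else a P, fun P => ?_, ?_⟩
  · have := ha P
    rw [Finsupp.sup_apply] at this
    dsimp only
    split_ifs with h
    · rwa [sup_eq_left.mpr h] at this
    · simp
  · have := ha P
    rw [Finsupp.sup_apply] at this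
    dsimp only
    split_ifs with h
    · simp
    · rwa [sup_eq_right.mpr (le_of_not_ge h)] at this
  · funext P; simp only [Pi.add_apply]; split_ifs <;> simp

theorem WD_sup {D E : Divisor k K} {ω : Module.Dual k (adele k K)} (h₁ : ω ∈ WD D) (h₂ : ω ∈ WD E)
    (hR : LinearMap.range (diag k K) ≤ adele k K) : ω ∈ WD (D ⊔ E) := by
  rw [mem_WD] at h₁ h₂ ⊢
  intro a ha
  rw [AD_sup', sup_assoc] at ha
  obtain ⟨u, hu, v, hv, huv⟩ := Submodule.mem_sup.mp ha
  have hv' : v ∈ adele k K := (sup_le (AD_le_adele E) hR) hv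
  rw [show a = (⟨u, AD_le_adele D hu⟩ : adele k K) + ⟨v, hv'⟩ from Subtype.ext huv.symm, map_add,
    h₁ _ (Submodule.mem_sup_left hu), h₂ _ hv, add_zero]

theorem eq_of_le_of_deg_le (hK : IsFunctionField k K) {D E : Divisor k K} (h : D ≤ E)
    (h' : E.deg ≤ D.deg) : D = E := by
  ext P
  by_contra hne
  have hlt : D P + 1 ≤ E P := lt_of_le_of_ne (h P) hne
  have h1 : D + Finsupp.single P 1 ≤ E := fun Q => by
    rcases eq_or_ne Q P with rfl | hQ
    · simpa using hlt
    · simpa [Finsupp.single_eq_of_ne hQ] using h Q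
  have := deg_mono h1
  rw [deg_add, deg_single] at this
  have := deg_pos hK P
  omega

theorem exists_isDivOf' (hK : IsFunctionField k K) {ω : Module.Dual k (adele k K)} (hω : IsWeil ω)
    (h0 : ω ≠ 0) : ∃ C, IsDivOf ω C := by
  obtain ⟨N, hN⟩ := exists_defect_eq_genus_of_deg_ge hK
  have hbdd : ∀ E, ω ∈ WD E → E.deg < N := fun E hE => by
    by_contra hc
    apply h0
    ext a
    exact mem_WD.mp hE a (adele_eq_sup hK (hN E (not_lt.mp hc)) ▸ a.2)
  obtain ⟨D, hD⟩ := hω
  obtain ⟨m, ⟨C, hC, rfl⟩, hmax⟩ := Int.exists_greatest_of_bdd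
    (P := fun m => ∃ E : Divisor k K, ω ∈ WD E ∧ E.deg = m)
    ⟨N, fun m ⟨E, hE, hm⟩ => hm ▸ (hbdd E hE).le⟩ ⟨D.deg, D, hD, rfl⟩
  refine ⟨C, fun E => ⟨fun hE => ?_, fun h => WD_antitone h hC⟩⟩
  have h1 := hmax _ ⟨C ⊔ E, WD_sup hC hE (diag_le_adele hK), rfl⟩
  exact le_sup_right.trans (eq_of_le_of_deg_le hK le_sup_left h1).symm.le

theorem mulW_apply (x : K) (hx : ∀ a ∈ adele k K, x • a ∈ adele k K)
    (ω : Module.Dual k (adele k K)) (a : adele k K) :
    mulW x hx ω a = ω ⟨x • (a : Place k K → K), hx a a.2⟩ := rfl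

theorem mulW_mem_WD' {C D : Divisor k K} {x : K} (hxD : x ∈ L D)
    (hx : ∀ a ∈ adele k K, x • a ∈ adele k K) {ω : Module.Dual k (adele k K)} (hω : ω ∈ WD C) :
    mulW x hx ω ∈ WD (C - D) := by
  rw [mem_WD] at hω ⊢
  intro a ha
  refine hω _ ?_
  obtain ⟨u, hu, v, ⟨z, rfl⟩, huv⟩ := Submodule.mem_sup.mp ha
  change x • (a : Place k K → K) ∈ _
  rw [← huv, smul_add]
  refine Submodule.add_mem_sup (fun P => ?_) ⟨x * z, ?_⟩
  · rw [Pi.smul_apply, smul_eq_mul, map_mul, show C P = D P + (C - D) P by simp, exp_add]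
    exact mul_le_mul' (hxD P) (hu P)
  · funext P; rfl

theorem mulW_mulW {x y : K} (hx : ∀ a ∈ adele k K, x • a ∈ adele k K)
    (hy : ∀ a ∈ adele k K, y • a ∈ adele k K) (hxy : ∀ a ∈ adele k K, (y * x) • a ∈ adele k K)
    (ω : Module.Dual k (adele k K)) : mulW y hy (mulW x hx ω) = mulW (y * x) hxy ω := by
  ext a
  simp only [mulW_apply]
  congr 1
  refine Subtype.ext ?_
  change x • y • _ = (y * x) • _
  rw [smul_smul, mul_comm x y]

theorem mulW_one (h : ∀ a ∈ adele k K, (1 : K) • a ∈ adele k K) (ω : Module.Dual k (adele k K)) :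
    mulW 1 h ω = ω := by
  ext a; simp only [mulW_apply, one_smul]

theorem mulW_eq_zero (hK : IsFunctionField k K) {x : K} (hx0 : x ≠ 0)
    {ω : Module.Dual k (adele k K)} (h : mulW x (smul_mem_adele hK x) ω = 0) : ω = 0 := by
  have := congrArg (mulW x⁻¹ (smul_mem_adele hK x⁻¹)) h
  rw [mulW_mulW _ _ (smul_mem_adele hK _)] at this
  simp only [inv_mul_cancel₀ hx0] at this
  rw [mulW_one] at this
  rw [this]; rfl

theorem isDivOf_mulW' (hK : IsFunctionField k K) {x : K} (h0 : x ≠ 0)
    (hx : ∀ a ∈ adele k K, x • a ∈ adele k K) {ω : Module.Dual k (adele k K)} {C : Divisor k K}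
    (hω : IsDivOf ω C) : IsDivOf (mulW x hx ω) (C + div k x) := by
  have hmem : ∀ {y : K}, y ≠ 0 → y ∈ L (-div k y) := fun {y} hy => by
    rw [mem_L_iff hK hy, neg_add_cancel]
  intro E
  constructor
  · intro hE
    have := mulW_mem_WD' (hmem (inv_ne_zero h0)) (smul_mem_adele hK x⁻¹) hE
    rw [mulW_mulW _ _ (smul_mem_adele hK _)] at this
    simp only [inv_mul_cancel₀ h0] at this
    rw [mulW_one, hω] at this
    rw [div_inv hK, neg_neg, sub_le_iff_le_add] at this
    exact this
  · intro hE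
    have := mulW_mem_WD' (hmem h0) hx ((hω C).mpr le_rfl)
    rw [sub_neg_eq_add] at this
    exact WD_antitone hE this

/-- The map `x ↦ x ω` from `L(D)` to `WD (C - D)`. -/
noncomputable def mulWLin (hK : IsFunctionField k K) {C : Divisor k K} {ω : Module.Dual k (adele k K)}
    (hω : ω ∈ WD C) (D : Divisor k K) : L D →ₗ[k] WD (C - D) where
  toFun x := ⟨mulW x.1 (smul_mem_adele hK x.1) ω, mulW_mem_WD' x.2 _ hω⟩
  map_add' x y := Subtype.ext (LinearMap.ext fun a => by
    simp only [Submodule.coe_add, LinearMap.add_apply, mulW_apply, ← map_add]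
    congr 1; exact Subtype.ext (add_smul _ _ _))
  map_smul' c x := Subtype.ext (LinearMap.ext fun a => by
    simp only [SetLike.val_smul, RingHom.id_apply, LinearMap.smul_apply, mulW_apply, ← map_smul]
    congr 1; exact Subtype.ext (smul_assoc _ _ _))

theorem mulWLin_injective (hK : IsFunctionField k K) {C : Divisor k K}
    {ω : Module.Dual k (adele k K)} (hω : ω ∈ WD C) (h0 : ω ≠ 0) (D : Divisor k K) :
    Function.Injective (mulWLin hK hω D) := by
  refine (injective_iff_map_eq_zero _).mpr ?_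
  intro x hx
  by_contra hne
  exact h0 (mulW_eq_zero hK (fun e => hne (Subtype.ext e)) (congrArg Subtype.val hx))

theorem exists_mulW_eq' (hK : IsFunctionField k K) {ω₁ ω₂ : Module.Dual k (adele k K)}
    (h₁ : IsWeil ω₁) (h0 : ω₁ ≠ 0) (h₂ : IsWeil ω₂) :
    ∃ x : K, mulW x (smul_mem_adele hK x) ω₁ = ω₂ := by
  by_cases h20 : ω₂ = 0
  · exact ⟨0, by rw [h20]; ext a; simp only [mulW_apply, zero_smul, LinearMap.zero_apply]; exact map_zero ω₁⟩
  obtain ⟨A₁, hA₁⟩ := h₁
  obtain ⟨A₂, hA₂⟩ := h₂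
  replace hA₁ := WD_antitone (inf_le_left : A₁ ⊓ A₂ ≤ A₁) hA₁
  replace hA₂ := WD_antitone (inf_le_right : A₁ ⊓ A₂ ≤ A₂) hA₂
  set A := A₁ ⊓ A₂
  obtain ⟨N, hN⟩ := exists_defect_eq_genus_of_deg_ge hK
  obtain ⟨B, hB, hBdeg⟩ := exists_deg_ge hK
    (|N| + |A.deg| * 3 + 3 * (genus k K : ℤ) + 1)
  have hN' := hN (A + B) (by rw [deg_add]; cases abs_cases N <;> cases abs_cases A.deg <;> omega)
  simp only [defect, deg_add] at hN'
  obtain ⟨hf, hdim⟩ := finrank_WD' hK (-B)
  have hneg : (-B).deg < 0 := by rw [deg_neg]; cases abs_cases A.deg <;> cases abs_cases N <;> omega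
  simp only [defect, ell_eq_zero_of_deg_neg hK hneg, deg_neg] at hdim
  have hA : A - (A + B) = -B := by abel
  rw [← hA] at hdim hf
  let f := (mulWLin hK hA₁ (A + B)).coprod (mulWLin hK hA₂ (A + B))
  have := finiteDimensional_L hK (A + B)
  by_contra hne
  have hinj : Function.Injective f := by
    refine (injective_iff_map_eq_zero _).mpr ?_
    rintro ⟨x, y⟩ hxy
    have h := congrArg Subtype.val hxy
    by_cases hy : y = 0
    · subst hy
      have hx : mulWLin hK hA₁ (A + B) x = 0 := by simpa [f] using hxy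
      rw [mulWLin_injective hK hA₁ h0 _ (hx.trans (map_zero (mulWLin hK hA₁ (A + B))).symm)]
      rfl
    · exfalso; apply hne
      refine ⟨-((y : K)⁻¹ * x), ?_⟩
      have hy0 : (y : K) ≠ 0 := fun e => hy (Subtype.ext e)
      ext a
      have ha := LinearMap.congr_fun h ⟨(y : K)⁻¹ • (a : Place k K → K), smul_mem_adele hK _ _ a.2⟩
      simp only [f, LinearMap.coprod_apply, mulWLin, LinearMap.coe_mk, AddHom.coe_mk,
        Submodule.coe_add, LinearMap.add_apply, mulW_apply, smul_smul, mul_inv_cancel₀ hy0,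
        one_smul] at ha
      rw [mulW_apply]
      have hneg' : (⟨-((y : K)⁻¹ * (x : K)) • (a : Place k K → K), smul_mem_adele hK _ _ a.2⟩ : adele k K) =
          -⟨((x : K) * (y : K)⁻¹) • (a : Place k K → K), smul_mem_adele hK _ _ a.2⟩ :=
        Subtype.ext (by simp [neg_smul, mul_comm])
      rw [hneg', map_neg]
      exact neg_eq_of_add_eq_zero_right (by simpa using ha)
  have hle := LinearMap.finrank_le_finrank_of_injective hinj
  rw [finrank_prod] at hle
  change finrank k ↥(L (A + B)) + finrank k ↥(L (A + B)) ≤ _ at hle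
  simp only [ell] at hN'
  cases abs_cases A.deg <;> cases abs_cases N <;> omega

theorem exists_isCanonical (hK : IsFunctionField k K) : ∃ C, IsCanonical k K C := by
  obtain ⟨B, hB, hdeg⟩ := exists_deg_ge hK 2
  have hneg : (-B).deg < 0 := by rw [deg_neg]; omega
  obtain ⟨hf, hdim⟩ := finrank_WD' hK (-B)
  simp only [defect, ell_eq_zero_of_deg_neg hK hneg, deg_neg] at hdim
  have : Nontrivial (WD (-B)) := Module.nontrivial_of_finrank_pos (R := k) (by omega)
  obtain ⟨ω, hω⟩ := exists_ne (0 : WD (-B))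
  obtain ⟨C, hC⟩ := exists_isDivOf' hK ⟨-B, ω.2⟩ (fun e => hω (Subtype.ext e))
  exact ⟨C, ω, fun e => hω (Subtype.ext e), hC⟩

theorem exists_unique_mulW' (hK : IsFunctionField k K) {ω : Module.Dual k (adele k K)}
    {C : Divisor k K} (h0 : ω ≠ 0) (hω : IsDivOf ω C) {D : Divisor k K}
    {ω' : Module.Dual k (adele k K)} (hω' : ω' ∈ WD D) :
    ∃ x, x ∈ L (C - D) ∧ mulW x (smul_mem_adele hK x) ω = ω' := by
  obtain ⟨x, hx⟩ := exists_mulW_eq' hK ⟨C, (hω C).mpr le_rfl⟩ h0 ⟨D, hω'⟩
  refine ⟨x, ?_, hx⟩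
  rcases eq_or_ne x 0 with rfl | hx0
  · exact Submodule.zero_mem _
  rw [mem_L_iff hK hx0]
  have := (isDivOf_mulW' hK hx0 (smul_mem_adele hK x) hω D).mp (hx ▸ hω')
  rw [sub_add_eq_add_sub, sub_nonneg]; exact this

/-- The Riemann–Roch theorem. -/
theorem riemann_roch' (hK : IsFunctionField k K) {C : Divisor k K} (hC : IsCanonical k K C)
    (D : Divisor k K) : (ell D : ℤ) = D.deg + 1 - genus k K + ell (C - D) := by
  obtain ⟨ω, h0, hω⟩ := hC
  have hωC := (hω C).mpr le_rfl
  have e : L (C - D) ≃ₗ[k] WD (C - (C - D)) := LinearEquiv.ofBijective (mulWLin hK hωC (C - D))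
    ⟨mulWLin_injective hK hωC h0 _, fun w => by
      have hw : w.1 ∈ WD D := WD_antitone (le_of_eq (sub_sub_cancel C D).symm) w.2
      obtain ⟨x, hx, hxe⟩ := exists_unique_mulW' hK h0 hω hw
      exact ⟨⟨x, hx⟩, Subtype.ext hxe⟩⟩
  have hf := e.finrank_eq
  rw [sub_sub_cancel] at hf
  have := (finrank_WD' hK D).2
  simp only [defect, ← hf] at this
  simp only [ell] at this ⊢; omega

theorem ell_canonical (hK : IsFunctionField k K) {C : Divisor k K} (hC : IsCanonical k K C) :
    ell C = genus k K ∧ C.deg = 2 * genus k K - 2 := by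
  have h1 := riemann_roch' hK hC 0
  rw [sub_zero, (finrank_L_zero hK).2, deg_zero] at h1
  push_cast at h1
  have h2 := riemann_roch' hK hC C
  rw [sub_self, (finrank_L_zero hK).2] at h2
  omega

theorem ell_eq_of_deg_large (hK : IsFunctionField k K) {D : Divisor k K}
    (h : 2 * (genus k K : ℤ) - 1 ≤ D.deg) : (ell D : ℤ) = D.deg + 1 - genus k K := by
  obtain ⟨C, hC⟩ := exists_isCanonical hK
  have h1 := riemann_roch' hK hC D
  have h2 := (ell_canonical hK hC).2
  rw [ell_eq_zero_of_deg_neg hK (D := C - D) (by rw [deg_sub]; omega)] at h1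
  simpa using h1

/-- A function field with a degree-zero effective-equivalent divisor: it is principal. -/
theorem exists_div_of_ell_pos_deg_zero (hK : IsFunctionField k K) {D : Divisor k K}
    (hd : D.deg = 0) (h : 0 < ell D) : ∃ x, x ≠ 0 ∧ D + div k x = 0 := by
  obtain ⟨x, hx0, hx⟩ := exists_of_ell_pos h
  exact ⟨x, hx0, (eq_of_le_of_deg_le hK ((mem_L_iff hK hx0).mp hx)
    (by rw [deg_add, deg_div_eq_zero hK, hd, deg_zero]; rfl)).symm⟩

theorem isCanonical_of_ell_deg (hK : IsFunctionField k K) {C : Divisor k K}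
    (h1 : ell C = genus k K) (h2 : C.deg = 2 * genus k K - 2) : IsCanonical k K C := by
  obtain ⟨C₀, hC₀⟩ := exists_isCanonical hK
  have h3 := riemann_roch' hK hC₀ C
  have h4 := (ell_canonical hK hC₀).2
  obtain ⟨x, hx0, hx⟩ := exists_div_of_ell_pos_deg_zero hK (D := C₀ - C)
    (by rw [deg_sub]; omega) (by omega)
  obtain ⟨ω, h0, hω⟩ := hC₀
  have hC : C = C₀ + div k x := by rw [← sub_eq_zero, ← neg_eq_zero]; rw [← hx]; abel
  exact ⟨mulW x (smul_mem_adele hK x) ω, fun e => h0 (mulW_eq_zero hK hx0 e),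
    hC ▸ isDivOf_mulW' hK hx0 _ hω⟩

theorem strong_approximation' (hK : IsFunctionField k K) (Pinf : Place k K) (S : Finset (Place k K))
    (hinf : Pinf ∉ S) (x : Place k K → K) (n : Place k K → ℤ) :
    ∃ y : K, (∀ P ∈ S, P.1 (y - x P) ≤ exp (n P)) ∧
      ∀ Q, Q ≠ Pinf → Q ∉ S → Q.1 y ≤ 1 := by
  obtain ⟨N, hN⟩ := exists_defect_eq_genus_of_deg_ge hK
  let D₀ : Divisor k K := ∑ P ∈ S, Finsupp.single P (n P)
  let m : ℕ := (N - D₀.deg).toNat
  let D : Divisor k K := D₀ + Finsupp.single Pinf (m : ℤ)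
  have hD : N ≤ D.deg := by
    rw [deg_add, deg_single]
    have hp : (1 : ℤ) ≤ Pinf.deg := by exact_mod_cast deg_pos hK Pinf
    nlinarith [Int.self_le_toNat (N - D₀.deg), Int.natCast_nonneg m]
  let a : Place k K → K := fun P => if P ∈ S then x P else 0
  have ha : a ∈ adele k K := Filter.mem_cofinite.mpr (S.finite_toSet.subset fun P hP => by
    by_contra hc
    apply hP
    simp only [Finset.mem_coe] at hc
    simp [a, hc])
  rw [adele_eq_sup hK (hN D hD)] at ha
  obtain ⟨u, hu, _, ⟨y, rfl⟩, huy⟩ := Submodule.mem_sup.mp ha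
  have hval : ∀ P, a P = u P + y := fun P => (congrFun huy P).symm
  have hDP : ∀ P, P ≠ Pinf → D P = if P ∈ S then n P else 0 := fun P hP => by
    simp [D, D₀, Finsupp.finsetSum_apply, Finsupp.single_apply, Ne.symm hP]
  refine ⟨y, fun P hP => ?_, fun Q hQ hQS => ?_⟩
  · have h := hu P
    rw [hDP P (fun e => hinf (e ▸ hP)), if_pos hP] at h
    rw [show y - x P = -(u P) by have := hval P; simp [a, hP] at this; rw [this]; ring,
      Valuation.map_neg]
    exact h
  · have h := hu Q
    rw [hDP Q hQ, if_neg hQS, exp_zero] at h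
    have := hval Q
    simp [a, hQS] at this
    rwa [show y = -(u Q) by linear_combination -this, Valuation.map_neg]

end Groth.Agent.FF
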