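import Groth.Agent.FF.Quadratic
import Groth.Agent.FF.RiemannRoch
import Mathlib.RingTheory.Polynomial.Basic

/-!
# Genus of `y² = f(x)`
-/

set_option autoImplicit false

open FunFld IntermediateField Module WithZero

namespace Groth.Agent.FF.HyperGenus

open Groth.Agent.FF

variable {k K : Type*} [Field k] [Field K] [Algebra k K]

theorem val_aeval_le_one (P : Place k K) {x : K} (hx : P.1 x ≤ 1) (p : Polynomial k) :
    P.1 (Polynomial.aeval x p) ≤ 1 := by
  rw [Polynomial.aeval_eq_sum_range]
  refine Valuation.map_sum_le _ fun i _ => ?_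
  rw [Algebra.smul_def, map_mul, map_pow]
  exact mul_le_one' (P.2.1 _) (pow_le_one₀ zero_le hx)

theorem val_aeval_eq (P : Place k K) {x : K} (hx : 1 < P.1 x) {p : Polynomial k} (hp : p ≠ 0) :
    P.1 (Polynomial.aeval x p) = P.1 x ^ p.natDegree := by
  have hterm : ∀ i, p.coeff i ≠ 0 → P.1 (p.coeff i • x ^ i) = P.1 x ^ i := fun i hi => by
    rw [Algebra.smul_def, map_mul, map_pow, val_algebraMap P hi, one_mul]
  rw [Polynomial.aeval_eq_sum_range, ← hterm p.natDegree (Polynomial.leadingCoeff_ne_zero.mpr hp)]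
  refine Valuation.map_sum_eq_of_lt P.1 (Finset.self_mem_range_succ _) fun i hi => ?_
  rw [Finset.mem_sdiff, Finset.mem_singleton, Finset.mem_range] at hi
  rw [hterm p.natDegree (Polynomial.leadingCoeff_ne_zero.mpr hp)]
  rcases eq_or_ne (p.coeff i) 0 with h | h
  · rw [h, zero_smul, map_zero]; exact pow_pos (zero_lt_one.trans hx) _
  · rw [hterm i h]; exact pow_lt_pow_right₀ hx (by omega)

/-- A polynomial in `x` of degree at most `m` lies in `L(m (x)_∞)`. -/
theorem aeval_mem_L (hK : IsFunctionField k K) (x : K) {m : ℕ} {p : Polynomial k} (hp : p.natDegree ≤ m) :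
    Polynomial.aeval x p ∈ L ((m : ℤ) • poles (k := k) x) := by
  intro P
  rw [Polynomial.aeval_eq_sum_range]
  refine Valuation.map_sum_le _ fun i hi => ?_
  rw [Algebra.smul_def, map_mul, map_pow]
  refine (mul_le_of_le_one_left zero_le (P.2.1 _)).trans ?_
  refine (pow_le_pow_left₀ zero_le (val_le_exp_poles hK x P) _).trans ?_
  rw [← exp_nsmul, exp_le_exp, nsmul_eq_mul, Finsupp.smul_apply, smul_eq_mul]
  have hi' : i ≤ p.natDegree := Nat.le_of_lt_succ (Finset.mem_range.mp hi)
  exact mul_le_mul_of_nonneg_right (by exact_mod_cast hi'.trans hp) (poles_nonneg x P)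

theorem exists_place_pole (hK : IsFunctionField k K) {z : K} (hz : Transcendental k z) :
    ∃ P : Place k K, 1 < P.1 z := by
  have := finiteDimensional_adjoin hK hz
  have h := deg_poles hK hz
  by_contra! hc
  have h0 : poles (k := k) z = 0 := by
    ext P
    have hz0 : z ≠ 0 := fun e => hz (by rw [e]; exact isAlgebraic_zero)
    have := (val_le_one_iff P hz0).mp (hc P)
    rw [poles_apply hK, Finsupp.zero_apply]; omega
  rw [h0, deg_zero] at h
  have : 0 < finrank k⟮z⟯ K := Module.finrank_pos
  omega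

/-- Elements of `k(x)` in `L(m (x)_∞)` are polynomials of degree at most `m`. -/
theorem exists_poly_of_mem_L (hK : IsFunctionField k K) {x : K} (hx : Transcendental k x) {m : ℕ}
    {num den : Polynomial k} (hcop : IsCoprime num den) (hden : den ≠ 0) {r : K}
    (hr : r * Polynomial.aeval x den = Polynomial.aeval x num) (hmem : r ∈ L ((m : ℤ) • poles (k := k) x)) :
    den.natDegree = 0 ∧ num.natDegree ≤ m := by
  have hden0 : den.natDegree = 0 := by
    by_contra hd
    have htd : Transcendental k (Polynomial.aeval x den) := fun ha => by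
      obtain ⟨c, hc⟩ := hK.2 _ ha
      have h : den = Polynomial.C c :=
        transcendental_iff_injective.mp hx (by rw [Polynomial.aeval_C]; exact hc.symm)
      exact hd (by rw [h, Polynomial.natDegree_C])
    have htd' : Transcendental k (Polynomial.aeval x den)⁻¹ := fun ha => htd (inv_inv (Polynomial.aeval x den) ▸ ha.inv)
    obtain ⟨P, hP⟩ := exists_place_pole hK htd'
    rw [map_inv₀, one_lt_inv_iff₀] at hP
    have hvx : P.1 x ≤ 1 := by
      by_contra hc
      push Not at hc
      have := val_aeval_eq P hc hden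
      rw [this] at hP
      exact absurd hP.2 (not_lt.mpr (one_le_pow₀ hc.le))
    have hr1 : P.1 r ≤ 1 := by
      refine (hmem P).trans ?_
      rw [Finsupp.smul_apply, poles_apply hK, ← exp_zero, exp_le_exp]
      rcases eq_or_ne x 0 with h | h
      · exact absurd (h ▸ isAlgebraic_zero) hx
      · have := (val_le_one_iff P h).mp hvx
        rw [max_eq_right (by omega)]; simp
    obtain ⟨u, w, huw⟩ := hcop
    have hone := congrArg (Polynomial.aeval x) huw
    rw [map_add, map_mul, map_mul, map_one, ← hr] at hone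
    have h1 : P.1 (Polynomial.aeval x u * (r * Polynomial.aeval x den) + Polynomial.aeval x w * Polynomial.aeval x den) < 1 := by
      refine lt_of_le_of_lt (P.1.map_add _ _) (max_lt ?_ ?_)
      · rw [map_mul, map_mul]
        exact lt_of_le_of_lt (mul_le_of_le_one_left zero_le (val_aeval_le_one P hvx u))
          (lt_of_le_of_lt (mul_le_of_le_one_left zero_le hr1) hP.2)
      · rw [map_mul]
        exact lt_of_le_of_lt (mul_le_of_le_one_left zero_le (val_aeval_le_one P hvx w)) hP.2
    rw [hone, map_one] at h1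
    exact lt_irrefl _ h1
  refine ⟨hden0, ?_⟩
  rcases eq_or_ne num 0 with hn | hn
  · rw [hn, Polynomial.natDegree_zero]; exact zero_le
  obtain ⟨P, hP⟩ := exists_place_pole hK hx
  have h1 : P.1 r = P.1 x ^ num.natDegree := by
    rw [← val_aeval_eq P hP hn, ← hr, map_mul, val_aeval_eq P hP hden, hden0, pow_zero, mul_one]
  have h2 := hmem P
  have hx0 : x ≠ 0 := fun h => hx (h ▸ isAlgebraic_zero)
  have hpos : P.ord x < 0 := by
    by_contra hc
    exact absurd hP (not_lt.mpr ((val_le_one_iff P hx0).mpr (not_lt.mp hc)))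
  rw [h1, val_eq_exp_neg_ord P hx0, ← exp_nsmul, exp_le_exp, nsmul_eq_mul, Finsupp.smul_apply, smul_eq_mul,
    poles_apply hK, max_eq_left (by omega)] at h2
  exact_mod_cast le_of_mul_le_mul_right h2 (by omega)

variable (x y : K) (f : Polynomial k)

theorem genus_eq (hK : IsFunctionField k K) (h2 : ringChar k ≠ 2) (hx : Transcendental k x)
    (hxy : IntermediateField.adjoin k ({x, y} : Set K) = ⊤)
    (hf : Squarefree f) (hd : 1 ≤ f.natDegree) (heq : y ^ 2 = Polynomial.aeval x f) :
    FunFld.genus k K = (f.natDegree - 1) / 2 := by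
  set F := IntermediateField.adjoin k ({x} : Set K)
  let e : RatFunc k ≃ₐ[k] F := RatFunc.algEquivOfTranscendental x hx
  have he : ∀ p : Polynomial k, (e (algebraMap (Polynomial k) (RatFunc k) p) : K) = Polynomial.aeval x p := fun p => by
    rw [RatFunc.algEquivOfTranscendental_algebraMap]; simp
  have hyF : y ∉ F := fun hy => not_square hf hd (e.symm ⟨y, hy⟩) (by
    apply e.injective
    rw [map_pow, AlgEquiv.apply_symm_apply]
    exact Subtype.ext (heq.trans (he f).symm))
  have hq : Polynomial.aeval y (Polynomial.X ^ 2 - Polynomial.C (e (algebraMap (Polynomial k) (RatFunc k) f))) = 0 := by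
    rw [map_sub, map_pow, Polynomial.aeval_X, Polynomial.aeval_C, heq]
    exact sub_eq_zero.mpr (he f).symm
  have hint : IsIntegral F y := ⟨_, Polynomial.monic_X_pow_sub_C _ two_ne_zero, hq⟩
  have htop : IntermediateField.adjoin F ({y} : Set K) = ⊤ := by
    apply IntermediateField.restrictScalars_injective k
    rw [IntermediateField.adjoin_adjoin_left, IntermediateField.restrictScalars_top, Set.singleton_union, hxy]
  have hdeg : (minpoly F y).natDegree = 2 := by
    have h1 := Polynomial.natDegree_le_of_dvd (minpoly.dvd F y hq) (Polynomial.X_pow_sub_C_ne_zero two_pos _)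
    rw [Polynomial.natDegree_X_pow_sub_C] at h1
    have h2' : (minpoly F y).natDegree ≠ 1 := fun h => by
      obtain ⟨r, hr⟩ := minpoly.natDegree_eq_one_iff.mp h
      exact hyF (hr ▸ r.2)
    have h3 := minpoly.natDegree_pos hint
    omega
  have hmin : minpoly F y = Polynomial.X ^ 2 - Polynomial.C (e (algebraMap (Polynomial k) (RatFunc k) f)) :=
    (Polynomial.eq_of_monic_of_dvd_of_natDegree_le (minpoly.monic hint) (Polynomial.monic_X_pow_sub_C _ two_ne_zero)
      (minpoly.dvd F y hq) (by rw [hdeg, Polynomial.natDegree_X_pow_sub_C])).symm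
  have hfin2 : Module.finrank F K = 2 := by
    rw [← IntermediateField.finrank_top', ← htop, IntermediateField.adjoin.finrank hint, hdeg]
  haveI : FiniteDimensional F K := Module.finite_of_finrank_pos (by omega)
  -- conjugation
  have hroot : -y ∈ (minpoly F y).aroots K := by
    rw [Polynomial.mem_aroots, hmin]
    refine ⟨Polynomial.X_pow_sub_C_ne_zero two_pos _, ?_⟩
    rw [map_sub, map_pow, Polynomial.aeval_X, neg_sq]
    rw [map_sub, map_pow, Polynomial.aeval_X, Polynomial.aeval_C] at hq
    rw [Polynomial.aeval_C]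
    exact hq
  let φ := (IntermediateField.algHomAdjoinIntegralEquiv F hint).symm ⟨-y, hroot⟩
  let σ : K →ₐ[F] K := φ.comp
    ((IntermediateField.equivOfEq htop).symm.toAlgHom.comp IntermediateField.topEquiv.symm.toAlgHom)
  have hσy : σ y = -y := IntermediateField.algHomAdjoinIntegralEquiv_symm_apply_gen F hint ⟨-y, hroot⟩
  have hσx : σ x = x := σ.commutes ⟨x, mem_adjoin_simple_self k x⟩
  have hσs : Function.Surjective σ := (Algebra.IsAlgebraic.algHom_bijective σ).2
  have hσL : ∀ (m : ℕ) (z : K), z ∈ L ((m : ℤ) • poles (k := k) x) → σ z ∈ L ((m : ℤ) • poles (k := k) x) := by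
    intro m z hz P
    let P' : Place k K := ⟨P.1.comap σ.toRingHom, fun c => by
      show P.1 (σ (algebraMap k K c)) ≤ 1
      rw [IsScalarTower.algebraMap_apply k F K, σ.commutes, ← IsScalarTower.algebraMap_apply k F K]
      exact P.2.1 c, fun v => by
      obtain ⟨a, ha⟩ := P.2.2 v
      obtain ⟨a', rfl⟩ := hσs a
      exact ⟨a', ha⟩⟩
    have h1 : P.1 (σ z) ≤ exp (((m : ℤ) • poles (k := k) x) P') := hz P'
    have h2' : P'.ord x = P.ord x := by
      show -WithZero.log (P.1 (σ x)) = _
      rw [hσx]; rfl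
    rwa [Finsupp.smul_apply, poles_apply hK, h2', ← poles_apply hK, ← Finsupp.smul_apply] at h1
  have h2k : (2 : k) ≠ 0 := fun h => h2 (CharP.ringChar_of_prime_eq_zero Nat.prime_two (by exact_mod_cast h))
  set c := (f.natDegree + 1) / 2 with hc
  set n := FunFld.genus k K + c + f.natDegree with hn
  set N : Divisor k K := (n : ℤ) • poles (k := k) x with hN
  have hhalf : ∀ z : K, (2 : k) • z ∈ L N → z ∈ L N := fun z hz => by
    have := (L N).smul_mem (2 : k)⁻¹ hz
    rwa [smul_smul, inv_mul_cancel₀ h2k, one_smul] at this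
  -- upper bound
  have hup : ∀ z ∈ L N, ∃ p q : Polynomial k, p.natDegree ≤ n ∧ (q = 0 ∨ q.natDegree + c ≤ n) ∧
      z = Polynomial.aeval x p + Polynomial.aeval x q * y := by
    intro z hz
    obtain ⟨a, b, hab⟩ := exists_decomp hfin2 (z := y) (fun ⟨r, hr⟩ => hyF (hr ▸ r.2)) z
    have hzσ := hσL n z hz
    have hσz : σ z = algebraMap F K a - algebraMap F K b * y := by
      rw [hab, map_add, map_mul, σ.commutes, σ.commutes, hσy]; ring
    have ha : algebraMap F K a ∈ L N := hhalf _ (by
      have h : (2 : k) • algebraMap F K a = z + σ z := by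
        rw [hσz, hab, Algebra.smul_def, map_ofNat]; ring
      rw [h]; exact add_mem hz hzσ)
    have hb : algebraMap F K b * y ∈ L N := hhalf _ (by
      have h : (2 : k) • (algebraMap F K b * y) = z - σ z := by
        rw [hσz, hab, Algebra.smul_def, map_ofNat]; ring
      rw [h]; exact sub_mem hz hzσ)
    have hb2 : (algebraMap F K b * y) ^ 2 ∈ L (((2 * n : ℕ) : ℤ) • poles (k := k) x) := by
      intro P
      rw [map_pow]
      refine (pow_le_pow_left₀ zero_le (hb P) _).trans ?_
      rw [← exp_nsmul, exp_le_exp, hN, Finsupp.smul_apply, Finsupp.smul_apply]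
      push_cast; ring_nf; exact le_rfl
    have key : ∀ (r : F), ∃ num den : Polynomial k, IsCoprime num den ∧ den ≠ 0 ∧
        algebraMap F K r * Polynomial.aeval x den = Polynomial.aeval x num := by
      intro r
      refine ⟨(e.symm r).num, (e.symm r).denom, RatFunc.isCoprime_num_denom _, RatFunc.denom_ne_zero _, ?_⟩
      have h := RatFunc.num_div_denom (e.symm r)
      rw [div_eq_iff ((map_ne_zero_iff _ (RatFunc.algebraMap_injective k)).mpr (RatFunc.denom_ne_zero _))] at h
      have h' := congrArg (fun t => (e t : K)) h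
      simp only [map_mul, MulMemClass.coe_mul, he, AlgEquiv.apply_symm_apply] at h'
      exact h'.symm
    obtain ⟨an, ad, hacop, had, har⟩ := key a
    obtain ⟨had0, han⟩ := exists_poly_of_mem_L hK hx hacop had har ha
    obtain ⟨bn, bd, hbcop, hbd, hbr⟩ := key b
    obtain ⟨ca, hca⟩ := Polynomial.natDegree_eq_zero.mp had0
    have hca0 : ca ≠ 0 := fun h => had (by rw [← hca, h, map_zero])
    let g : RatFunc k := e.symm b ^ 2 * algebraMap (Polynomial k) (RatFunc k) f
    obtain ⟨gn, gd, hgcop, hgd, hgr⟩ := key (e g)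
    have hgK : algebraMap F K (e g) = (algebraMap F K b * y) ^ 2 := by
      show ((e g : F) : K) = _
      rw [map_mul, map_pow, AlgEquiv.apply_symm_apply, MulMemClass.coe_mul, he, mul_pow, heq]
      rfl
    obtain ⟨hgd0, hgn⟩ := exists_poly_of_mem_L hK hx hgcop hgd hgr (hgK ▸ hb2)
    obtain ⟨cg, hcg⟩ := Polynomial.natDegree_eq_zero.mp hgd0
    have hcg0 : cg ≠ 0 := fun h => hgd (by rw [← hcg, h, map_zero])
    have hpoly : bn ^ 2 * f * Polynomial.C cg = gn * bd ^ 2 := by
      apply transcendental_iff_injective.mp hx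
      rw [map_mul, map_mul, map_mul, map_pow, map_pow, ← hbr, ← hgr, hgK, hcg, ← heq]; ring
    have hbdu : IsUnit bd := by
      refine hf bd ?_
      rw [← pow_two]
      have h1 : bd ^ 2 ∣ bn ^ 2 * (f * Polynomial.C cg) := ⟨gn, by rw [← mul_assoc, hpoly, mul_comm]⟩
      have h2' : bd ^ 2 ∣ f * Polynomial.C cg := (hbcop.symm.pow).dvd_of_dvd_mul_left h1
      exact ((Polynomial.isUnit_C.mpr (Ne.isUnit hcg0)).dvd_mul_right).mp h2'
    obtain ⟨cb, hcb, hcb'⟩ := Polynomial.isUnit_iff.mp hbdu
    have hcb0 : cb ≠ 0 := hcb.ne_zero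
    refine ⟨Polynomial.C ca⁻¹ * an, Polynomial.C cb⁻¹ * bn, ?_, ?_, ?_⟩
    · exact Polynomial.natDegree_C_mul_le _ _ |>.trans han
    · rcases eq_or_ne bn 0 with h | h
      · left; rw [h, mul_zero]
      · right
        have hdegs := congrArg Polynomial.natDegree hpoly
        rw [← hcb', Polynomial.natDegree_mul_C hcg0, Polynomial.natDegree_mul (pow_ne_zero 2 h) hf.ne_zero,
          ← Polynomial.C_pow, Polynomial.natDegree_mul_C (pow_ne_zero 2 hcb0), Polynomial.natDegree_pow] at hdegs
        rw [Polynomial.natDegree_C_mul (inv_ne_zero hcb0)]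
        omega
    · rw [hab, map_mul, map_mul, Polynomial.aeval_C, Polynomial.aeval_C, ← har, ← hbr, ← hca, ← hcb',
        Polynomial.aeval_C, Polynomial.aeval_C, mul_left_comm, ← map_mul, inv_mul_cancel₀ hca0, map_one, mul_one]
      rw [show algebraMap k K cb⁻¹ * (algebraMap F K b * algebraMap k K cb) * y =
        algebraMap F K b * (algebraMap k K cb⁻¹ * algebraMap k K cb) * y by ring, ← map_mul, inv_mul_cancel₀ hcb0,
        map_one, mul_one]
  -- the parametrisation
  let Ψ : (Polynomial.degreeLT k (n + 1) × Polynomial.degreeLT k (n + 1 - c)) →ₗ[k] K :=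
    (((Polynomial.aeval x).toLinearMap).comp (Polynomial.degreeLT k (n + 1)).subtype).coprod
      ((LinearMap.mulRight k y).comp (((Polynomial.aeval x).toLinearMap).comp
        (Polynomial.degreeLT k (n + 1 - c)).subtype))
  have hΨ : ∀ p q, Ψ (p, q) = Polynomial.aeval x p.1 + Polynomial.aeval x q.1 * y := fun p q => rfl
  have hinj : Function.Injective Ψ := by
    rw [← LinearMap.ker_eq_bot, Submodule.eq_bot_iff]
    rintro ⟨p, q⟩ hpq
    rw [LinearMap.mem_ker, hΨ] at hpq
    have hinjx := transcendental_iff_injective.mp hx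
    have hq0 : q.1 = 0 := by
      by_contra hq0
      refine hyF ?_
      have hne : Polynomial.aeval x q.1 ≠ 0 := (map_ne_zero_iff _ hinjx).mpr hq0
      have : y = -Polynomial.aeval x p.1 / Polynomial.aeval x q.1 := by
        rw [eq_div_iff hne]; linear_combination hpq
      rw [this, ← he, ← he]
      exact div_mem (neg_mem (e _).2) (e _).2
    rw [hq0, map_zero, zero_mul, add_zero] at hpq
    have hp0 : p.1 = 0 := hinjx (hpq.trans (map_zero (Polynomial.aeval x)).symm)
    exact Prod.ext (Subtype.ext hp0) (Subtype.ext hq0)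
  have hmemLT : ∀ (N : ℕ) (p : Polynomial k), (p = 0 ∨ p.natDegree < N) → p ∈ Polynomial.degreeLT k N := by
    intro N p hp
    rw [Polynomial.mem_degreeLT]
    rcases hp with h | h
    · rw [h, Polynomial.degree_zero]; exact WithBot.bot_lt_coe _
    · exact lt_of_le_of_lt Polynomial.degree_le_natDegree (by exact_mod_cast h)
  have hrange : LinearMap.range Ψ = L N := by
    refine le_antisymm ?_ fun z hz => ?_
    · rintro _ ⟨⟨p, q⟩, rfl⟩
      rw [hΨ]
      have hpd : p.1.natDegree ≤ n := by
        rcases eq_or_ne p.1 0 with h | h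
        · rw [h]; simp
        · have := (Polynomial.natDegree_lt_iff_degree_lt h).mpr (Polynomial.mem_degreeLT.mp p.2); omega
      refine add_mem (aeval_mem_L hK x hpd) ?_
      rcases eq_or_ne q.1 0 with h | h
      · rw [h, map_zero, zero_mul]; exact zero_mem _
      intro P
      have hqd := (Polynomial.natDegree_lt_iff_degree_lt h).mpr (Polynomial.mem_degreeLT.mp q.2)
      have hD := poles_nonneg (k := k) x P
      have hy0 : y ≠ 0 := fun h0 => hyF (h0 ▸ zero_mem _)
      have hvy : 2 * -P.ord y ≤ (f.natDegree : ℤ) * poles (k := k) x P := by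
        have h1 := (aeval_mem_L hK x (le_refl f.natDegree) : _) P
        rw [← heq, map_pow, val_eq_exp_neg_ord P hy0, ← exp_nsmul, exp_le_exp, nsmul_eq_mul, Finsupp.smul_apply,
          smul_eq_mul] at h1
        exact_mod_cast h1
      rw [map_mul]
      refine (mul_le_mul' ((aeval_mem_L hK x (le_refl q.1.natDegree) : _) P) (val_eq_exp_neg_ord P hy0).le).trans ?_
      rw [← exp_add, exp_le_exp, hN, Finsupp.smul_apply, Finsupp.smul_apply, smul_eq_mul, smul_eq_mul]
      have h3 : (2 * (q.1.natDegree : ℤ) + f.natDegree) ≤ 2 * n := by omega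
      have h4 := mul_le_mul_of_nonneg_right h3 (hD : (0 : ℤ) ≤ poles (k := k) x P)
      rw [add_mul, mul_assoc, mul_assoc] at h4
      linarith
    · obtain ⟨p, q, hp, hq, rfl⟩ := hup z hz
      exact ⟨(⟨p, hmemLT _ _ (Or.inr (by omega))⟩, ⟨q, hmemLT _ _ (hq.imp id fun h => by omega)⟩), hΨ _ _⟩
  have hell : ell N = (n + 1) + (n + 1 - c) := by
    rw [ell, ← hrange, LinearMap.finrank_range_of_inj hinj, Module.finrank_prod,
      (Polynomial.degreeLTEquiv k (n + 1)).finrank_eq, (Polynomial.degreeLTEquiv k (n + 1 - c)).finrank_eq,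
      Module.finrank_fin_fun, Module.finrank_fin_fun]
  have hdegN : N.deg = 2 * n := by
    rw [hN, deg_zsmul, deg_poles hK hx, hfin2]; push_cast; ring
  have hRR := ell_eq_of_deg_large hK (D := N) (by rw [hdegN]; omega)
  rw [hell, hdegN] at hRR
  omega

end Groth.Agent.FF.HyperGenus
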