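import Groth.Agent.FF.RiemannRoch

/-! Genus zero and rational function fields. -/

namespace Groth.Agent.FF

open WithZero FunFld IntermediateField Module
open scoped Classical

variable {k K : Type*} [Field k] [Field K] [Algebra k K]

theorem exists_pow_mem_L {P : Place k K} {x : K} (hx : x ∈ L (Finsupp.single P (1 : ℤ))) (n i : ℕ)
    (hi : i ≤ n) : x ^ i ∈ L (Finsupp.single P (n : ℤ)) := fun Q => by
  rw [map_pow]
  refine (pow_le_pow_left₀ zero_le (hx Q) i).trans ?_
  rw [← exp_nsmul, exp_le_exp, nsmul_eq_mul, Finsupp.single_apply, Finsupp.single_apply]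
  split_ifs <;> simp <;> omega

theorem genus_le_zero_of_two_le (hK : IsFunctionField k K) {P : Place k K} (hP : P.deg = 1)
    (h : 2 ≤ ell (Finsupp.single P (1 : ℤ))) : (genus k K : ℤ) ≤ 0 := by
  have := finiteDimensional_L hK (Finsupp.single P (1 : ℤ))
  obtain ⟨x, hx, hxc⟩ : ∃ x ∈ L (Finsupp.single P (1 : ℤ)), x ∉ Set.range (algebraMap k K) := by
    by_contra hc; push Not at hc
    have hle : L (Finsupp.single P (1 : ℤ)) ≤ Submodule.span k {(1 : K)} := fun x hx => by
      obtain ⟨c, rfl⟩ := hc x hx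
      exact Submodule.mem_span_singleton.mpr ⟨c, by rw [Algebra.smul_def, mul_one]⟩
    have := (Submodule.finrank_mono hle).trans (finrank_span_singleton (K := k) one_ne_zero).le
    simp only [ell] at h; omega
  have hxt := transcendental_of_not_mem hK hxc
  obtain ⟨N, hN⟩ := exists_defect_eq_genus_of_deg_ge hK
  have h1 := hN (Finsupp.single P ((N.toNat : ℕ) : ℤ)) (by rw [deg_single, hP]; simp)
  have := finiteDimensional_L hK (Finsupp.single P ((N.toNat : ℕ) : ℤ))
  have li0 := ((Polynomial.basisMonomials k).linearIndependent.map' (Polynomial.aeval x).toLinearMap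
      (LinearMap.ker_eq_bot.mpr (transcendental_iff_injective.mp hxt))).comp
      (fun i : Fin (N.toNat + 1) => (i : ℕ)) Fin.val_injective
  have li : LinearIndependent k (fun i : Fin (N.toNat + 1) =>
      (⟨x ^ (i : ℕ), exists_pow_mem_L hx N.toNat i (Nat.le_of_lt_succ i.2)⟩ :
        L (Finsupp.single P ((N.toNat : ℕ) : ℤ)))) := by
    refine LinearIndependent.of_comp (L (Finsupp.single P ((N.toNat : ℕ) : ℤ))).subtype ?_
    have e : (⇑(L (Finsupp.single P ((N.toNat : ℕ) : ℤ))).subtype ∘ fun i : Fin (N.toNat + 1) =>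
        (⟨x ^ (i : ℕ), exists_pow_mem_L hx N.toNat i (Nat.le_of_lt_succ i.2)⟩ :
          L (Finsupp.single P ((N.toNat : ℕ) : ℤ)))) =
        (⇑(Polynomial.aeval x).toLinearMap ∘ ⇑(Polynomial.basisMonomials k)) ∘
          fun i : Fin (N.toNat + 1) => (i : ℕ) := by funext i; simp
    rw [e]; exact li0
  have h2 := li.fintype_card_le_finrank
  simp only [defect, ell, deg_single, hP] at h1
  simp at h2
  omega

theorem adjoin_eq_top_iff (hK : IsFunctionField k K) {x : K} (hx : Transcendental k x) :
    k⟮x⟯ = ⊤ ↔ (poles (k := k) x).deg = 1 := by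
  rw [deg_poles hK hx, Nat.cast_eq_one, IntermediateField.finrank_eq_one_iff_eq_top]

theorem exists_single_of_deg_one (hK : IsFunctionField k K) {D : Divisor k K} (h : 0 ≤ D)
    (h1 : D.deg = 1) : ∃ P : Place k K, P.deg = 1 ∧ D = Finsupp.single P 1 := by
  obtain ⟨P, hP⟩ : ∃ P, D P ≠ 0 := by
    by_contra hc; push Not at hc
    rw [show D = 0 from Finsupp.ext hc, deg_zero] at h1; omega
  have hle : Finsupp.single P (1 : ℤ) ≤ D := fun Q => by
    rcases eq_or_ne Q P with rfl | hQ
    · have := lt_of_le_of_ne (h Q) (Ne.symm hP); simp at this ⊢; omega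
    · simpa [Finsupp.single_eq_of_ne hQ] using h Q
  have h2 := deg_mono hle
  have h3 := deg_pos hK P
  rw [deg_single] at h2
  refine ⟨P, by omega, (eq_of_le_of_deg_le hK hle ?_).symm⟩
  rw [deg_single]; omega

theorem genus_zero_of_adjoin_eq_top (hK : IsFunctionField k K) {x : K}
    (htop : k⟮x⟯ = ⊤) (hx : Transcendental k x) :
    ∃ P : Place k K, P.deg = 1 ∧ P.ord x = -1 ∧ (∀ Q, Q ≠ P → 0 ≤ Q.ord x) ∧ genus k K = 0 := by
  obtain ⟨P, hP, hD⟩ := exists_single_of_deg_one hK (poles_nonneg x) ((adjoin_eq_top_iff hK hx).mp htop)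
  have hval : ∀ Q, max (-Q.ord x) 0 = Finsupp.single P (1 : ℤ) Q := fun Q => by rw [← poles_apply hK, hD]
  refine ⟨P, hP, ?_, fun Q hQ => ?_, ?_⟩
  · have := hval P; simp at this; omega
  · have := hval Q; rw [Finsupp.single_eq_of_ne hQ] at this; omega
  · have := finiteDimensional_L hK (Finsupp.single P (1 : ℤ))
    have hxm : x ∈ L (Finsupp.single P (1 : ℤ)) := fun Q => by rw [← hD]; exact val_le_exp_poles hK x Q
    have hone : (1 : K) ∈ L (Finsupp.single P (1 : ℤ)) :=
      L_mono (Finsupp.single_nonneg.mpr zero_le_one)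
        (by rw [L_zero_eq hK]; exact Submodule.mem_span_singleton_self _)
    have li : LinearIndependent k ![(⟨1, hone⟩ : L (Finsupp.single P (1 : ℤ))), ⟨x, hxm⟩] := by
      refine LinearIndependent.pair_iff.mpr fun s t hst => ?_
      have := congrArg Subtype.val hst
      simp only [Submodule.coe_add, SetLike.val_smul, Algebra.smul_def, mul_one, ZeroMemClass.coe_zero] at this
      rcases eq_or_ne t 0 with rfl | ht
      · exact ⟨by simpa using this, rfl⟩
      · refine absurd ?_ hx
        have : x = algebraMap k K (-s / t) := by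
          rw [map_div₀, map_neg, eq_div_iff ((map_ne_zero _).mpr ht)]; linear_combination this
        rw [this]; exact isAlgebraic_algebraMap (R := k) (A := K) _
    have h2 : 2 ≤ ell (Finsupp.single P (1 : ℤ)) := by simpa [ell] using li.fintype_card_le_finrank
    have := genus_le_zero_of_two_le hK hP h2
    omega

theorem transcendental_of_adjoin_eq_top (hK : IsFunctionField k K) {x : K} (htop : k⟮x⟯ = ⊤) :
    Transcendental k x := by
  refine transcendental_of_not_mem hK fun ⟨c, hc⟩ => ?_
  obtain ⟨y, hy⟩ := exists_transcendental hK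
  have : y ∈ (⊤ : IntermediateField k K) := IntermediateField.mem_top
  rw [← htop, ← hc, IntermediateField.adjoin_simple_eq_bot_iff.mpr (IntermediateField.mem_bot.mpr ⟨c, rfl⟩)] at this
  obtain ⟨d, rfl⟩ := IntermediateField.mem_bot.mp this
  exact hy (isAlgebraic_algebraMap _)

end Groth.Agent.FF
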