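import Groth.Agent.FF.Extension
import Groth.Agent.FF.Rational
import Mathlib

/-! Places of quadratic extensions of the rational function field. -/

universe u v

namespace Groth.Agent.FF

open FunFld WithZero Module
open scoped Classical

variable {k K K' : Type*} [Field k] [Field K] [Field K'] [Algebra k K] [Algebra K K'] [Algebra k K']
  [IsScalarTower k K K']

theorem ord_pow' (P : Place k K) (x : K) (n : ℕ) : P.ord (x ^ n) = n * P.ord x := by
  simp [Place.ord, map_pow, log_pow]

section Quad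

variable [FiniteDimensional K K']

/-- The residue degree of a place is at most that of a place above it. -/
theorem deg_le_of_isOver (hK : IsFF' k K) {Q : Place k K'} {P : Place k K} {e : ℕ} (h : IsOverWith Q P e) :
    P.deg ≤ Q.deg := by
  let f : P.O →+* Q.O := ((algebraMap K K').comp P.O.subtype).codRestrict Q.O fun x =>
    (mem_O Q).mpr ((ow_le_one_iff h _).mpr ((mem_O P).mp x.2))
  have : IsLocalHom f := ⟨fun a ha => by
    by_contra hna
    have hz : IsLocalRing.residue Q.O (f a) = 0 := (residue_eq_zero_iff Q).mpr ((ow_lt_one_iff h _).mpr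
      ((residue_eq_zero_iff P).mp (by rwa [IsLocalRing.residue_eq_zero_iff, IsLocalRing.mem_maximalIdeal, mem_nonunits_iff])))
    exact (ha.map (IsLocalRing.residue Q.O)).ne_zero hz⟩
  let fbar : IsLocalRing.ResidueField P.O →ₐ[k] IsLocalRing.ResidueField Q.O :=
    { IsLocalRing.ResidueField.map f with
      commutes' := fun c => by
        show IsLocalRing.residue Q.O (f _) = IsLocalRing.residue Q.O _
        congr 1
        exact Subtype.ext (IsScalarTower.algebraMap_apply k K K' c).symm }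
  have := finiteDimensional_residue' (isFF'_ext hK) Q
  exact LinearMap.finrank_le_finrank_of_injective (f := fbar.toLinearMap) fbar.toRingHom.injective

theorem ramified_unique (hK : IsFF' k K) (h2 : finrank K K' = 2) {P : Place k K} {Q : Place k K'}
    (hQ : IsOverWith Q P 2) : (∀ Q', IsOver Q' P → Q' = Q) ∧ Q.deg = P.deg := by
  have hsum := sum_ramIdx_mul_deg (K' := K') hK P (finite_over hK P).toFinset (by simp)
  rw [h2] at hsum
  have hmem : Q ∈ (finite_over (K' := K') hK P).toFinset := (Set.Finite.mem_toFinset _).mpr ⟨2, hQ⟩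
  have hd := deg_le_of_isOver hK hQ
  have hpos := deg_pos' hK P
  rw [← Finset.add_sum_erase _ _ hmem, ow_ramIdx_eq hQ] at hsum
  refine ⟨fun Q' hQ' => ?_, by omega⟩
  by_contra hne
  have hmem' : Q' ∈ (finite_over (K' := K') hK P).toFinset.erase Q := by simpa [hne] using hQ'
  have h1 := Finset.single_le_sum (f := fun Q => ramIdx Q P * Q.deg) (fun _ _ => Nat.zero_le _) hmem'
  have := Nat.mul_pos (ramIdx_pos hQ') (deg_pos' (isFF'_ext (K' := K') hK) Q')
  omega

theorem ramIdx_le_two (hK : IsFF' k K) (h2 : finrank K K' = 2) {P : Place k K} {Q : Place k K'} {e : ℕ}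
    (hQ : IsOverWith Q P e) : e ≤ 2 := by
  have hsum := sum_ramIdx_mul_deg (K' := K') hK P (finite_over hK P).toFinset (by simp)
  rw [h2] at hsum
  have hmem : Q ∈ (finite_over (K' := K') hK P).toFinset := (Set.Finite.mem_toFinset _).mpr ⟨e, hQ⟩
  have hd := deg_le_of_isOver hK hQ
  rw [← Finset.add_sum_erase _ _ hmem, ow_ramIdx_eq hQ] at hsum
  have hpos := deg_pos' hK P
  by_contra hc
  have : 3 * P.deg ≤ e * Q.deg := Nat.mul_le_mul (by omega) hd
  omega

/-- An element of twice odd order forces ramification. -/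
theorem ramified_of_odd (hK : IsFF' k K) (h2 : finrank K K' = 2) {P : Place k K}
    (hodd : ∀ Q : Place k K', ∀ e, IsOverWith Q P e → Even e) :
    (∃! Q : Place k K', IsOver Q P) ∧
      ∀ Q : Place k K', IsOver Q P → IsOverWith Q P 2 ∧ Q.deg = P.deg := by
  have key : ∀ Q : Place k K', IsOver Q P → IsOverWith Q P 2 := fun Q hQ => by
    have he := isOverWith_ramIdx hQ
    obtain ⟨r, hr⟩ := hodd Q _ he
    have := ramIdx_le_two hK h2 he
    have := ramIdx_pos hQ
    rwa [show ramIdx Q P = 2 by omega] at he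
  obtain ⟨Q, hQ⟩ := exists_over (K' := K') hK P
  exact ⟨⟨Q, hQ, fun Q' hQ' => (ramified_unique hK h2 (key Q hQ)).1 Q' hQ'⟩,
    fun Q' hQ' => ⟨key Q' hQ', (ramified_unique hK h2 (key Q' hQ')).2⟩⟩

theorem exists_decomp (h2 : finrank K K' = 2) {z : K'} (hz : z ∉ Set.range (algebraMap K K')) (w : K') :
    ∃ c d : K, w = algebraMap K K' c + algebraMap K K' d * z := by
  have li : LinearIndependent K ![(1 : K'), z] := by
    refine LinearIndependent.pair_iff.mpr fun s t hst => ?_
    rcases eq_or_ne t 0 with rfl | ht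
    · refine ⟨?_, rfl⟩
      simpa [Algebra.smul_def] using hst
    · refine absurd ⟨-s / t, ?_⟩ hz
      rw [Algebra.smul_def, Algebra.smul_def, mul_one] at hst
      rw [map_div₀, map_neg, div_eq_iff ((map_ne_zero _).mpr ht)]
      linear_combination -hst
  have htop := li.span_eq_top_of_card_eq_finrank (by simp [h2])
  have hw : w ∈ Submodule.span K (Set.range ![(1 : K'), z]) := htop ▸ trivial
  obtain ⟨g, hg⟩ := (Submodule.mem_span_range_iff_exists_fun K).mp hw
  refine ⟨g 0, g 1, ?_⟩
  rw [← hg, Fin.sum_univ_two]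
  simp [Algebra.smul_def]

/-- An element approximable from below excludes ramification. -/
theorem unramified_of_approx (hK : IsFF' k K) (h2 : finrank K K' = 2) {P : Place k K} {Q : Place k K'}
    {z : K'} (hz : z ∉ Set.range (algebraMap K K'))
    (happ : IsOverWith Q P 2 → ∀ N : ℕ, ∃ b : K, Q.1 (z - algebraMap K K' b) ≤ exp (-(N : ℤ)))
    (hQ : IsOver Q P) : IsOverWith Q P 1 := by
  have he := isOverWith_ramIdx hQ
  have hle := ramIdx_le_two hK h2 he
  have hpos := ramIdx_pos hQ
  rcases eq_or_ne (ramIdx Q P) 1 with h | h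
  · rwa [h] at he
  exfalso
  rw [show ramIdx Q P = 2 by omega] at he
  obtain ⟨π, -, hπ⟩ := exists_uniformizer Q
  obtain ⟨c, d, hcd⟩ := exists_decomp h2 hz π
  have hd0 : d ≠ 0 := fun hd => by
    rw [hd, map_zero, zero_mul, add_zero] at hcd
    have := ord_eq_of_val Q hπ
    rw [hcd, ow_ord_eq he] at this
    omega
  obtain ⟨b, hb⟩ := happ he (2 - 2 * P.ord d).toNat
  have hπ' : π = algebraMap K K' (c + d * b) + algebraMap K K' d * (z - algebraMap K K' b) := by
    rw [hcd, map_add, map_mul]; ring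
  have hsmall : Q.1 (algebraMap K K' d * (z - algebraMap K K' b)) < exp (-1 : ℤ) := by
    rw [map_mul, he]
    refine lt_of_le_of_lt (mul_le_mul_right hb _) ?_
    rw [val_eq_exp_neg_ord P hd0, ← exp_nsmul, ← exp_add, exp_lt_exp, nsmul_eq_mul]
    have := Int.self_le_toNat (2 - 2 * P.ord d)
    push_cast
    omega
  have hmain : Q.1 (algebraMap K K' (c + d * b)) = exp (-1 : ℤ) := by
    have h1 := Valuation.map_sub_eq_of_lt_left Q.1 (x := π)
      (y := algebraMap K K' d * (z - algebraMap K K' b)) (by rw [hπ]; exact hsmall)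
    rw [hπ] at h1
    rwa [show algebraMap K K' (c + d * b) = π - algebraMap K K' d * (z - algebraMap K K' b) by rw [hπ']; ring]
  have := ord_eq_of_val Q hmain
  rw [ow_ord_eq he] at this
  omega

/-- At a place with `e = 2` every residue is represented from below. -/
theorem exists_residue_approx (hK : IsFF' k K) (h2 : finrank K K' = 2) {P : Place k K} {Q : Place k K'}
    (hQ : IsOverWith Q P 2) {z : K'} (hz : Q.1 z ≤ 1) :
    ∃ a : K, P.1 a ≤ 1 ∧ Q.1 (z - algebraMap K K' a) < 1 := by
  have hdeg := (ramified_unique hK h2 hQ).2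
  let f : P.O →+* Q.O := ((algebraMap K K').comp P.O.subtype).codRestrict Q.O fun x =>
    (mem_O Q).mpr ((ow_le_one_iff hQ _).mpr ((mem_O P).mp x.2))
  have : IsLocalHom f := ⟨fun a ha => by
    by_contra hna
    have hz : IsLocalRing.residue Q.O (f a) = 0 := (residue_eq_zero_iff Q).mpr ((ow_lt_one_iff hQ _).mpr
      ((residue_eq_zero_iff P).mp (by rwa [IsLocalRing.residue_eq_zero_iff, IsLocalRing.mem_maximalIdeal, mem_nonunits_iff])))
    exact (ha.map (IsLocalRing.residue Q.O)).ne_zero hz⟩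
  let fbar : IsLocalRing.ResidueField P.O →ₐ[k] IsLocalRing.ResidueField Q.O :=
    { IsLocalRing.ResidueField.map f with
      commutes' := fun c => by
        show IsLocalRing.residue Q.O (f _) = IsLocalRing.residue Q.O _
        congr 1
        exact Subtype.ext (IsScalarTower.algebraMap_apply k K K' c).symm }
  have := finiteDimensional_residue' (isFF'_ext hK) Q
  have := finiteDimensional_residue' hK P
  have hsur : Function.Surjective fbar :=
    (LinearMap.injective_iff_surjective_of_finrank_eq_finrank (f := fbar.toLinearMap) hdeg.symm).mp fbar.toRingHom.injective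
  obtain ⟨r, hr⟩ := hsur (IsLocalRing.residue Q.O ⟨z, (mem_O Q).mpr hz⟩)
  obtain ⟨a, rfl⟩ := IsLocalRing.residue_surjective r
  refine ⟨a, (mem_O P).mp a.2, ?_⟩
  exact (residue_eq_zero_iff Q).mp
    (show IsLocalRing.residue Q.O (⟨z, (mem_O Q).mpr hz⟩ - f a) = 0 by rw [map_sub]; exact sub_eq_zero.mpr hr.symm)

/-- Newton: a root of `w (w + u) = g` near zero is approximated from below. -/
theorem exists_approx_root {P : Place k K} {Q : Place k K'} (hQ : IsOver Q P) {w : K'} {u g : K}
    (hw : Q.1 w < 1) (hu : P.1 u = 1) (h : w * (w + algebraMap K K' u) = algebraMap K K' g) :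
    ∀ N : ℕ, ∃ b : K, Q.1 (w - algebraMap K K' b) ≤ exp (-(N : ℤ)) := by
  obtain ⟨e, he⟩ := hQ
  suffices key : ∀ N : ℕ, ∀ w : K', ∀ u g : K, Q.1 w < 1 → P.1 u = 1 → w * (w + algebraMap K K' u) = algebraMap K K' g →
      ∃ (b : K) (w' : K') (u' g' : K), w' = w - algebraMap K K' b ∧ Q.1 w' ≤ exp (-(N : ℤ)) ∧ Q.1 w' < 1 ∧ P.1 u' = 1 ∧
        w' * (w' + algebraMap K K' u') = algebraMap K K' g' by
    intro N
    obtain ⟨b, w', -, -, rfl, hb, -⟩ := key N w u g hw hu h
    exact ⟨b, hb⟩
  intro N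
  induction N with
  | zero => exact fun w u g hw hu h => ⟨0, w, u, g, by simp, by simpa using hw.le, hw, hu, h⟩
  | succ N ih =>
    intro w u g hw hu h
    obtain ⟨b, w₁, u₁, g₁, rfl, hN, hw1, hu1, h1⟩ := ih w u g hw hu h
    set w₁ := w - algebraMap K K' b
    have hu0 : u₁ ≠ 0 := fun h0 => by rw [h0, map_zero] at hu1; exact zero_ne_one hu1
    have hu0' : algebraMap K K' u₁ ≠ 0 := (map_ne_zero _).mpr hu0
    have hQu : Q.1 (algebraMap K K' u₁) = 1 := by rw [he, hu1, one_pow]
    have hwu : Q.1 (w₁ + algebraMap K K' u₁) = 1 := by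
      rw [Valuation.map_add_eq_of_lt_right Q.1 (by rw [hQu]; exact hw1), hQu]
    have hg : P.1 g₁ < 1 := (ow_lt_one_iff he g₁).mp (by rw [← h1, map_mul, hwu, mul_one]; exact hw1)
    have heq : w₁ - algebraMap K K' (g₁ / u₁) = -(w₁ ^ 2 / algebraMap K K' u₁) := by
      rw [map_div₀, ← h1]; field_simp; ring
    have hw2 : Q.1 (w₁ - algebraMap K K' (g₁ / u₁)) = Q.1 w₁ ^ 2 := by
      rw [heq, Valuation.map_neg, map_div₀, map_pow, hQu, div_one]
    refine ⟨b + g₁ / u₁, w₁ - algebraMap K K' (g₁ / u₁), u₁ + 2 * (g₁ / u₁), -(g₁ / u₁) ^ 2, ?_, ?_, ?_, ?_, ?_⟩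
    · rw [map_add, sub_add_eq_sub_sub]
    · rw [hw2, sq]
      refine (mul_le_mul' hN ?_).trans_eq (by rw [← exp_add]; push_cast; ring_nf : exp (-(N : ℤ)) * exp (-(1 : ℤ)) = _)
      rcases eq_or_ne w₁ 0 with h0 | h0
      · rw [h0, map_zero]; exact zero_le
      · rw [val_eq_exp_neg_ord Q h0, exp_le_exp]
        have := (val_lt_one_iff Q h0).mp hw1
        omega
    · rw [hw2]; exact pow_lt_one' hw1 two_ne_zero
    · have h2 : P.1 (g₁ / u₁) < 1 := by rw [map_div₀, hu1, div_one]; exact hg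
      rw [Valuation.map_add_eq_of_lt_left P.1 (y := 2 * (g₁ / u₁)) ?_, hu1]
      rw [hu1, two_mul]
      exact P.1.map_add_lt h2 h2
    · simp only [map_div₀, map_add, map_mul, map_ofNat, map_neg, map_pow]
      field_simp
      linear_combination (algebraMap K K' u₁) ^ 2 * h1

end Quad

/-! ### The rational function field -/

variable {k : Type*} [Field k]

theorem isFunctionField_ratFunc : IsFunctionField k (RatFunc k) := by
  refine ⟨⟨RatFunc.X, ?_, ?_⟩, fun y hy => ?_⟩
  · rw [← RatFunc.algebraMap_X]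
    intro h
    exact Polynomial.transcendental_X k ((isAlgebraic_algebraMap_iff (IsFractionRing.injective (Polynomial k) (RatFunc k))).mp h)
  · rw [RatFunc.adjoin_X]
    exact Module.Finite.of_surjective (Algebra.linearMap (⊤ : IntermediateField k (RatFunc k)) (RatFunc k))
      fun y => ⟨⟨y, trivial⟩, rfl⟩
  · have h1 : IsIntegral (Polynomial k) y := hy.isIntegral.tower_top
    obtain ⟨p, rfl⟩ := IsIntegrallyClosed.isIntegral_iff.mp h1
    have hp : IsAlgebraic k p := (isAlgebraic_algebraMap_iff (IsFractionRing.injective (Polynomial k) (RatFunc k))).mp hy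
    have hdeg : p.natDegree = 0 := by
      by_contra hne
      exact (Polynomial.transcendental p hne (mem_nonZeroDivisors_of_ne_zero
        (Polynomial.leadingCoeff_ne_zero.mpr fun h => hne (by rw [h, Polynomial.natDegree_zero])))) hp
    refine ⟨p.coeff 0, ?_⟩
    conv_rhs => rw [Polynomial.eq_C_of_natDegree_eq_zero hdeg]
    rw [IsScalarTower.algebraMap_apply k (Polynomial k) (RatFunc k)]
    rfl

theorem isFF'_ratFunc : IsFF' k (RatFunc k) := isFF'_of_isFunctionField isFunctionField_ratFunc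

local notation "ι" => algebraMap (Polynomial k) (RatFunc k)

theorem ι_ne_zero {g : Polynomial k} (hg : g ≠ 0) : ι g ≠ 0 :=
  (map_ne_zero_iff _ (IsFractionRing.injective (Polynomial k) (RatFunc k))).mpr hg

variable (P : Place k (RatFunc k))

theorem val_poly_le_one (hX : P.1 (RatFunc.X : RatFunc k) ≤ 1) (g : Polynomial k) : P.1 (ι g) ≤ 1 := by
  induction g using Polynomial.induction_on' with
  | add a b ha hb => rw [map_add]; exact (P.1.map_add _ _).trans (max_le ha hb)
  | monomial n c =>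
    rw [← Polynomial.C_mul_X_pow_eq_monomial, map_mul, map_pow, RatFunc.algebraMap_C, RatFunc.algebraMap_X, map_mul, map_pow]
    refine mul_le_one' ?_ (pow_le_one' hX n)
    rw [← RatFunc.algebraMap_eq_C]
    exact P.2.1 c

/-- A place finite at `X` is given by an irreducible polynomial of order one there. -/
theorem exists_prime_of_finite (hX : P.1 (RatFunc.X : RatFunc k) ≤ 1) :
    ∃ q : Polynomial k, Irreducible q ∧ P.ord (ι q) = 1 ∧ ∀ g : Polynomial k, ¬ q ∣ g → P.ord (ι g) = 0 := by
  let I : Ideal (Polynomial k) :=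
    { carrier := {g | P.1 (ι g) < 1}
      add_mem' := fun {a b} ha hb => by
        show P.1 (ι (a + b)) < 1
        rw [map_add]; exact P.1.map_add_lt ha hb
      zero_mem' := by simp
      smul_mem' := fun c a ha => by
        show P.1 (ι (c * a)) < 1
        rw [map_mul, map_mul]
        exact lt_of_le_of_lt (mul_le_of_le_one_left' (val_poly_le_one P hX c)) ha }
  obtain ⟨q, hq⟩ := (IsPrincipalIdealRing.principal I).principal
  change I = Ideal.span {q} at hq
  have hI : ∀ g : Polynomial k, P.1 (ι g) < 1 ↔ q ∣ g := fun g => by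
    show g ∈ I ↔ _; rw [hq, Ideal.mem_span_singleton]
  have h0 : ∀ g : Polynomial k, ¬ q ∣ g → P.ord (ι g) = 0 := fun g hg => by
    have h1 : P.1 (ι g) = 1 := le_antisymm (val_poly_le_one P hX g) (not_lt.mp fun h => hg ((hI g).mp h))
    simp [Place.ord, h1]
  have hnunit : ¬ IsUnit q := fun hu => by
    have := (hI 1).mpr hu.dvd
    simp at this
  have hq0 : q ≠ 0 := fun h => by
    obtain ⟨t, ht0, ht⟩ := exists_uniformizer P
    obtain ⟨a, b, hb, rfl⟩ := IsFractionRing.div_surjective (A := Polynomial k) t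
    have ha0 : a ≠ 0 := fun e => ht0 (by rw [e, map_zero, zero_div])
    have hb0 : b ≠ 0 := nonZeroDivisors.ne_zero hb
    have := ord_eq_of_val P ht
    rw [div_eq_mul_inv, ord_mul P (ι_ne_zero ha0) (inv_ne_zero (ι_ne_zero hb0)), ord_inv,
      h0 a (h ▸ by simpa using ha0), h0 b (h ▸ by simpa using hb0)] at this
    omega
  have hqirr : Irreducible q := by
    refine ⟨hnunit, fun a b hab => ?_⟩
    have hqv : P.1 (ι q) < 1 := (hI q).mpr dvd_rfl
    rw [hab, map_mul, map_mul] at hqv
    have hab0 : a ≠ 0 ∧ b ≠ 0 := mul_ne_zero_iff.mp (hab ▸ hq0)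
    rcases lt_or_eq_of_le (val_poly_le_one P hX a) with ha | ha
    · obtain ⟨c, hc⟩ := (hI a).mp ha
      refine .inr (IsUnit.of_mul_eq_one c ?_)
      have : q * (b * c - 1) = 0 := by rw [mul_sub, mul_one, sub_eq_zero]; (conv_rhs => rw [hab, hc]); ring
      exact sub_eq_zero.mp ((mul_eq_zero.mp this).resolve_left hq0)
    · rw [ha, one_mul] at hqv
      obtain ⟨c, hc⟩ := (hI b).mp hqv
      refine .inl (IsUnit.of_mul_eq_one c ?_)
      have : q * (a * c - 1) = 0 := by rw [mul_sub, mul_one, sub_eq_zero]; (conv_rhs => rw [hab, hc]); ring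
      exact sub_eq_zero.mp ((mul_eq_zero.mp this).resolve_left hq0)
  refine ⟨q, hqirr, ?_, h0⟩
  have hmult : ∀ g : Polynomial k, g ≠ 0 → ∃ i : ℕ, P.ord (ι g) = i * P.ord (ι q) := fun g hg => by
    obtain ⟨i, g', hg', rfl⟩ := WfDvdMonoid.max_power_factor hg hqirr
    refine ⟨i, ?_⟩
    rw [map_mul, map_pow, ord_mul P (pow_ne_zero _ (ι_ne_zero hq0)) (ι_ne_zero (right_ne_zero_of_mul hg)),
      ord_pow', h0 g' hg', add_zero]
  have hpos : 0 < P.ord (ι q) := (val_lt_one_iff P (ι_ne_zero hq0)).mp ((hI q).mpr dvd_rfl)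
  obtain ⟨t, ht0, ht⟩ := exists_uniformizer P
  obtain ⟨a, b, hb, rfl⟩ := IsFractionRing.div_surjective (A := Polynomial k) t
  have ha0 : a ≠ 0 := fun e => ht0 (by rw [e, map_zero, zero_div])
  have hb0 : b ≠ 0 := nonZeroDivisors.ne_zero hb
  obtain ⟨i, hi⟩ := hmult a ha0
  obtain ⟨j, hj⟩ := hmult b hb0
  have h1 := ord_eq_of_val P ht
  rw [div_eq_mul_inv, ord_mul P (ι_ne_zero ha0) (inv_ne_zero (ι_ne_zero hb0)), ord_inv, hi, hj, ← sub_eq_add_neg,
    ← sub_mul] at h1
  exact Int.eq_one_of_mul_eq_one_left hpos.le h1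

/-- Squarefree polynomials vanish at most simply at places finite at `X`. -/
theorem ord_squarefree_le_one (hX : P.1 (RatFunc.X : RatFunc k) ≤ 1) {f : Polynomial k} (hf : Squarefree f) :
    0 ≤ P.ord (ι f) ∧ P.ord (ι f) ≤ 1 := by
  obtain ⟨q, hq, hq1, h0⟩ := exists_prime_of_finite P hX
  by_cases hd : q ∣ f
  · obtain ⟨g, rfl⟩ := hd
    have hg : ¬ q ∣ g := fun ⟨r, hr⟩ => hq.not_isUnit (hf q ⟨r, by rw [hr]; ring⟩)
    have hg0 : g ≠ 0 := fun h => hg (h ▸ dvd_zero q)
    rw [map_mul, ord_mul P (ι_ne_zero hq.ne_zero) (ι_ne_zero hg0), hq1, h0 g hg]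
    norm_num
  · rw [h0 f hd]; norm_num

/-- The infinite place. -/
theorem infinite_place (hX : ¬ P.1 (RatFunc.X : RatFunc k) ≤ 1) :
    P.deg = 1 ∧ ∀ g : Polynomial k, g ≠ 0 → P.ord (ι g) = -(g.natDegree : ℤ) := by
  have hK := isFunctionField_ratFunc (k := k)
  obtain ⟨P', hP', hord, hnonneg, -⟩ := genus_zero_of_adjoin_eq_top hK RatFunc.adjoin_X
    (transcendental_of_adjoin_eq_top hK RatFunc.adjoin_X)
  have hX0 : (RatFunc.X : RatFunc k) ≠ 0 := RatFunc.X_ne_zero
  have hPP : P = P' := by_contra fun hne => hX ((val_le_one_iff P hX0).mpr (hnonneg P hne))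
  subst hPP
  refine ⟨hP', fun g hg => ?_⟩
  have hvX : P.1 (RatFunc.X : RatFunc k) = exp (1 : ℤ) := by rw [val_eq_exp_neg_ord P hX0, hord, neg_neg]
  refine ord_eq_of_val P ?_
  rw [neg_neg]
  have hterm : ∀ i, g.coeff i ≠ 0 → P.1 (ι (Polynomial.monomial i (g.coeff i))) = exp (i : ℤ) := fun i hi => by
    rw [← Polynomial.C_mul_X_pow_eq_monomial, map_mul, map_pow, RatFunc.algebraMap_C, RatFunc.algebraMap_X, map_mul,
      map_pow, hvX, ← RatFunc.algebraMap_eq_C, val_algebraMap P hi, one_mul, ← exp_nsmul]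
    simp
  conv_lhs => rw [g.as_sum_range, map_sum]
  have hn := hterm g.natDegree (Polynomial.leadingCoeff_ne_zero.mpr hg)
  rw [← hn]
  refine Valuation.map_sum_eq_of_lt P.1 (Finset.self_mem_range_succ _) fun i hi => ?_
  rw [Finset.mem_sdiff, Finset.mem_singleton, Finset.mem_range] at hi
  rcases eq_or_ne (g.coeff i) 0 with h | h
  · rw [h, map_zero, map_zero, map_zero, hn]; exact exp_pos
  · rw [hterm i h, hn, exp_lt_exp]; omega

/-- A squarefree polynomial of positive degree is not a constant times a square. -/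
theorem squarefree_mul_sq_ne_const {f : Polynomial k} (hf : Squarefree f) (hd : 1 ≤ f.natDegree) {c : k} (hc : c ≠ 0)
    (b : RatFunc k) : ι f * b ^ 2 ≠ algebraMap k (RatFunc k) c := by
  intro h
  have hb : b ≠ 0 := fun e => by
    rw [e, zero_pow two_ne_zero, mul_zero, eq_comm, map_eq_zero] at h
    exact hc h
  have h1 : f * b.num ^ 2 = Polynomial.C c * b.denom ^ 2 := by
    refine IsFractionRing.injective (Polynomial k) (RatFunc k) ?_
    rw [map_mul, map_mul, map_pow, map_pow, RatFunc.algebraMap_C, ← RatFunc.algebraMap_eq_C, ← h]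
    have hd0 : ι b.denom ≠ 0 := ι_ne_zero b.denom_ne_zero
    have hb' := RatFunc.num_div_denom b
    rw [div_eq_iff hd0] at hb'
    rw [hb']; ring
  have hcop : IsCoprime (b.num ^ 2) (b.denom ^ 2) := (RatFunc.isCoprime_num_denom b).pow
  have hdvd : b.num ^ 2 ∣ Polynomial.C c := hcop.dvd_of_dvd_mul_right ⟨f, by rw [← h1]; ring⟩
  obtain ⟨r, hr⟩ : b.denom ^ 2 ∣ f := hcop.symm.dvd_of_dvd_mul_right ⟨Polynomial.C c, by rw [h1]; ring⟩
  have hsd : IsUnit b.denom := hf _ ⟨r, by rw [hr]; ring⟩
  have h2 := congrArg Polynomial.natDegree h1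
  have hn0 : b.num ≠ 0 := fun e => hb (by rw [← RatFunc.num_div_denom b, e, map_zero, zero_div])
  have hnd : (b.num ^ 2).natDegree = 0 := by
    have := Polynomial.natDegree_le_of_dvd hdvd (by simpa using hc)
    simp at this ⊢
    omega
  rw [Polynomial.natDegree_mul hf.ne_zero (pow_ne_zero _ hn0), Polynomial.natDegree_C_mul hc, hnd,
    Polynomial.natDegree_pow, Polynomial.natDegree_eq_zero_of_isUnit hsd] at h2
  omega

theorem not_square {f : Polynomial k} (hf : Squarefree f) (hd : 1 ≤ f.natDegree) (r : RatFunc k) : r ^ 2 ≠ ι f := by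
  intro h
  have hr : r ≠ 0 := fun e => ι_ne_zero hf.ne_zero (by rw [← h, e, zero_pow two_ne_zero])
  refine squarefree_mul_sq_ne_const hf hd one_ne_zero r⁻¹ ?_
  rw [← h, map_one, ← mul_pow, mul_inv_cancel₀ hr, one_pow]

end Groth.Agent.FF
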