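import Groth.Agent.FF.Hasse
import Mathlib

/-! Geometric function fields: separating variables exist, and conversely a separating variable
makes the field geometric; Kähler differentials and `k K^p`. -/

universe u v w

namespace Groth.Agent.FF

open FunFld IntermediateField LocRes
open scoped TensorProduct

/-- `p`-th powers preserve linear independence over `k` of finite families of tuples. -/
def PowInd (k : Type u) [Field k] (p : ℕ) (P : Type v) [CommRing P] [Algebra k P] : Prop :=
  ∀ (n : ℕ) (J : Type w) (g : Fin n → J → P),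
    (∀ c : Fin n → k, (∀ j, ∑ i, c i • g i j = 0) → c = 0) →
      ∀ c : Fin n → k, (∀ j, ∑ i, c i • g i j ^ p = 0) → c = 0

section PowInd

variable (k : Type u) [Field k] (p : ℕ) [ExpChar k p]

theorem powInd_self : PowInd.{u, u, w} k p k := by
  classical
  intro n J g hg c hc
  let col : J → Fin n → k := fun j i => g i j
  have hspan : Submodule.span k (Set.range col) = ⊤ := by
    by_contra h
    obtain ⟨φ, hφ0, hφ⟩ := Submodule.exists_dual_map_eq_bot_of_lt_top (lt_top_iff_ne_top.2 h) inferInstance
    refine hφ0 (LinearMap.pi_ext' fun i => LinearMap.ext_ring ?_)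
    have hlin : ∀ w : Fin n → k, φ w = ∑ i, φ (Pi.single i 1) • w i := fun w => by
      conv_lhs => rw [← Finset.univ_sum_single w]
      rw [map_sum]
      refine Finset.sum_congr rfl fun i _ => ?_
      rw [show Pi.single i (w i) = w i • Pi.single i (1 : k) from by rw [← Pi.single_smul, smul_eq_mul, mul_one],
        map_smul, smul_eq_mul, smul_eq_mul, mul_comm]
    have := hg (fun i => φ (Pi.single i 1)) fun j => by
      rw [← hlin (col j)]
      have := Submodule.mem_map_of_mem (f := φ) (Submodule.subset_span ⟨j, rfl⟩ : col j ∈ Submodule.span k (Set.range col))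
      rwa [hφ, Submodule.mem_bot] at this
    simpa using congrFun this i
  have key : ∀ w ∈ Submodule.span k (Set.range col), ∑ i, c i * w i ^ p = 0 := by
    intro w hw
    induction hw using Submodule.span_induction with
    | mem x hx => obtain ⟨j, rfl⟩ := hx; simpa using hc j
    | zero => simp [(expChar_pos k p).ne']
    | add x y _ _ hx hy => simp [add_pow_expChar, mul_add, Finset.sum_add_distrib, hx, hy]
    | smul a x _ hx =>
      simp only [Pi.smul_apply, smul_eq_mul, mul_pow, mul_left_comm (c _) (a ^ p) _, ← Finset.mul_sum, hx, mul_zero]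
  funext i
  have := key (Pi.single i 1) (hspan ▸ Submodule.mem_top)
  rwa [Finset.sum_eq_single i (fun b _ hb => by simp [Pi.single_eq_of_ne hb, (expChar_pos k p).ne']) (by simp),
    Pi.single_eq_same, one_pow, mul_one] at this

theorem powInd_polynomial : PowInd.{u, u, w} k p (Polynomial k) := by
  classical
  intro n J g hg c hc
  refine powInd_self.{u, w} k p n (J × ℕ) (fun i jm => (g i jm.1).coeff jm.2) (fun d hd => hg d fun j => ?_)
    c fun jm => ?_
  · ext m
    simpa [Polynomial.finsetSum_coeff] using hd (j, m)
  · have hexp : ∀ f : Polynomial k, (f ^ p).coeff (jm.2 * p) = f.coeff jm.2 ^ p := fun f => by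
      rw [← Polynomial.map_frobenius_expand p f, Polynomial.coeff_map, Polynomial.coeff_expand_mul (expChar_pos k p),
        frobenius_def]
    have := congrArg (fun f : Polynomial k => f.coeff (jm.2 * p)) (hc jm.1)
    simpa [Polynomial.finsetSum_coeff, hexp] using this

omit [ExpChar k p] in
theorem powInd_congr {P : Type v} {Q : Type*} [CommRing P] [Algebra k P] [CommRing Q] [Algebra k Q]
    (e : P ≃ₐ[k] Q) (h : PowInd.{u, v, w} k p P) : PowInd.{u, _, w} k p Q := by
  intro n J g hg c hc
  refine h n J (fun i j => e.symm (g i j)) (fun d hd => hg d fun j => ?_) c fun j => ?_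
  · apply e.symm.injective
    rw [map_sum, map_zero]
    simpa [map_smul] using hd j
  · apply e.injective
    rw [map_sum, map_zero]
    simpa [map_smul] using hc j

omit [ExpChar k p] in
theorem powInd_fractionRing (P : Type*) [CommRing P] [IsDomain P] [Algebra k P] (E : Type*) [Field E]
    [Algebra k E] [Algebra P E] [IsScalarTower k P E] [IsFractionRing P E] (h : PowInd.{u, _, w} k p P) :
    PowInd.{u, _, w} k p E := by
  classical
  intro n J g hg c hc
  have hden : ∀ j, ∃ d : nonZeroDivisors P, ∀ i, IsLocalization.IsInteger P ((d : P) • g i j) := fun j =>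
    IsLocalization.exist_integer_multiples_of_finite (nonZeroDivisors P) (fun i => g i j)
  choose d hd using hden
  choose f hf using hd
  have hinj := IsFractionRing.injective P E
  have hsm : ∀ (a : k) (y : P), algebraMap P E (a • y) = a • algebraMap P E y := fun a y => by
    rw [Algebra.smul_def, map_mul, ← IsScalarTower.algebraMap_apply, ← Algebra.smul_def]
  refine h n J (fun i j => f j i) (fun a ha => hg a fun j => ?_) c fun j => hinj ?_
  · have := congrArg (algebraMap P E) (ha j)
    simp only [map_sum, map_zero, hsm, hf, Algebra.smul_def (d j : P)] at this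
    rw [Finset.sum_congr rfl (fun i _ => (mul_smul_comm (a i) (algebraMap P E (d j : P)) (g i j)).symm)] at this
    rw [← Finset.mul_sum, mul_eq_zero] at this
    exact this.resolve_left ((map_ne_zero_iff _ hinj).2 (nonZeroDivisors.ne_zero (d j).2))
  · simp only [map_sum, map_zero, hsm, map_pow, hf, Algebra.smul_def (d j : P), mul_pow]
    rw [Finset.sum_congr rfl (fun i _ => (mul_smul_comm (c i) ((algebraMap P E (d j : P)) ^ p) (g i j ^ p)).symm),
      ← Finset.mul_sum, hc j, mul_zero]

theorem powInd_of_isSeparable (E K : Type v) [Field E] [Field K] [Algebra k E] [Algebra k K] [Algebra E K]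
    [IsScalarTower k E K] [Algebra.IsSeparable E K] (h : PowInd.{u, v, max v w} k p E) :
    PowInd.{u, v, w} k p K := by
  classical
  intro n J g hg c hc
  have : ExpChar E p := expChar_of_injective_algebraMap (algebraMap k E).injective p
  have : ExpChar K p := expChar_of_injective_algebraMap (algebraMap k K).injective p
  let b := Module.Free.chooseBasis E K
  have hb : LinearIndependent E (b · ^ p) := by
    simpa using b.linearIndependent.map_pow_expChar_pow_of_isSeparable p 1
  refine h n (J × Module.Free.ChooseBasisIndex E K) (fun i jb => b.repr (g i jb.1) jb.2) (fun d hd => hg d fun j => ?_)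
    c fun jb => ?_
  · apply b.repr.injective
    ext l
    rw [map_zero, Finsupp.zero_apply, ← hd (j, l), map_sum, Finsupp.finsetSum_apply]
    refine Finset.sum_congr rfl fun i _ => ?_
    rw [← algebraMap_smul E (d i) (g i j), map_smul, Finsupp.smul_apply, algebraMap_smul]
  · obtain ⟨j, l⟩ := jb
    let S : Finset (Module.Free.ChooseBasisIndex E K) := Finset.univ.biUnion fun i => (b.repr (g i j)).support
    have hsum : ∀ i, g i j ^ p = ∑ l ∈ S, (b.repr (g i j) l) ^ p • b l ^ p := fun i => by
      conv_lhs => rw [← b.linearCombination_repr (g i j), Finsupp.linearCombination_apply,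
        Finsupp.sum_of_support_subset _ (Finset.subset_biUnion_of_mem (fun i => (b.repr (g i j)).support) (Finset.mem_univ i)) _ (by simp)]
      rw [sum_pow_char p]
      simp [smul_pow, S]
    have h0 := hc j
    simp only [hsum, Finset.smul_sum] at h0
    rw [Finset.sum_comm] at h0
    simp_rw [← smul_assoc, ← Finset.sum_smul] at h0
    by_cases hl : l ∈ S
    · exact linearIndependent_iff'.1 hb S _ h0 l hl
    · refine Finset.sum_eq_zero fun i _ => ?_
      have : b.repr (g i j) l = 0 := Finsupp.notMem_support_iff.1 fun h => hl (Finset.mem_biUnion.2 ⟨i, Finset.mem_univ i, h⟩)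
      simp [this, (expChar_pos k p).ne']

/-- A separably generated extension of transcendence degree one preserves linear independence under `p`-th powers. -/
theorem powInd_of_separating {K : Type v} [Field K] [Algebra k K] {t : K} (ht : Transcendental k t)
    [Algebra.IsSeparable k⟮t⟯ K] : PowInd.{u, v, v} k p K := by
  open scoped IntermediateField.algebraAdjoinAdjoin in
  have h1 : PowInd.{u, v, v} k p k⟮t⟯ :=
    powInd_fractionRing k p (Algebra.adjoin k ({t} : Set K)) _
      (powInd_congr k p (AlgEquiv.ofInjective (Polynomial.aeval t) (transcendental_iff_injective.mp ht) |>.trans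
        (Subalgebra.equivOfEq _ _ (Algebra.adjoin_singleton_eq_range_aeval k t).symm))
        (powInd_polynomial.{u, v} k p))
  exact powInd_of_isSeparable.{u, v, v} k p k⟮t⟯ K h1

end PowInd

variable {k : Type u} {K : Type v} [Field k] [Field K] [Algebra k K]

/-- A coordinate functional for a linearly independent family. -/
theorem exists_coord {ι : Type*} [DecidableEq ι] {x : ι → K} (hx : LinearIndependent k x) (i₀ : ι) :
    ∃ ℓ : K →ₗ[k] k, ∀ i, ℓ (x i) = if i = i₀ then 1 else 0 := by
  obtain ⟨ℓ, hℓ⟩ := LinearMap.exists_extend ((Finsupp.lapply i₀).comp hx.repr)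
  refine ⟨ℓ, fun i => ?_⟩
  have h := LinearMap.congr_fun hℓ ⟨x i, Submodule.subset_span ⟨i, rfl⟩⟩
  simp only [LinearMap.comp_apply, Submodule.subtype_apply, Finsupp.lapply_apply,
    hx.repr_eq_single i ⟨x i, Submodule.subset_span ⟨i, rfl⟩⟩ rfl] at h
  rw [h, Finsupp.single_apply]

/-- A geometric extension has `p`-th powers preserving linear independence. -/
theorem linearIndepOn_pow_of_isGeometric (hg : IsGeometric k K) (p : ℕ) [hp : Fact p.Prime] [CharP k p]
    (s : Finset K) (hs : LinearIndepOn k _root_.id (s : Set K)) : LinearIndepOn k (· ^ p) (s : Set K) := by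
  classical
  have hli : LinearIndependent k (fun x : (s : Set K) => (x : K)) := hs
  show LinearIndependent k (fun x : (s : Set K) => (x : K) ^ p)
  rw [Fintype.linearIndependent_iff]
  intro a ha i₀
  choose r hr using fun i => IsAlgClosed.exists_pow_nat_eq (algebraMap k (AlgebraicClosure k) (a i)) hp.out.pos
  let k' : IntermediateField k (AlgebraicClosure k) := adjoin k (Set.range r)
  have : FiniteDimensional k k' :=
    IntermediateField.finiteDimensional_adjoin fun x _ => Algebra.IsIntegral.isIntegral x
  have hF := hg k' this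
  have hrmem : ∀ i, r i ∈ k' := fun i => subset_adjoin k _ (Set.mem_range_self i)
  let z : k' ⊗[k] K := ∑ i, (⟨r i, hrmem i⟩ : k') ⊗ₜ[k] (i : K)
  have : ExpChar (k' ⊗[k] K) p := by
    have : ExpChar k p := .prime hp.out
    let := hF.nontrivial
    exact expChar_of_injective_algebraMap (algebraMap k (k' ⊗[k] K)).injective p
  have hzp : z ^ p = 0 := by
    refine (sum_pow_char p Finset.univ fun i => (⟨r i, hrmem i⟩ : k') ⊗ₜ[k] (i : K)).trans ?_
    have : ∀ i, (⟨r i, hrmem i⟩ : k') ^ p = algebraMap k k' (a i) := fun i => Subtype.ext (hr i)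
    simp only [Algebra.TensorProduct.tmul_pow, this, Algebra.algebraMap_eq_smul_one, TensorProduct.smul_tmul,
      ← TensorProduct.tmul_sum, ha, TensorProduct.tmul_zero]
  let := hF.toField
  have hz : z = 0 := (pow_eq_zero_iff hp.out.ne_zero).mp hzp
  obtain ⟨ℓ, hℓ⟩ := exists_coord hli i₀
  have h0 := congrArg (fun w => TensorProduct.rid k k' (ℓ.lTensor k' w)) hz
  simp only [z, map_sum, LinearMap.lTensor_tmul, TensorProduct.rid_tmul, map_zero, hℓ, ite_smul, one_smul,
    zero_smul, Finset.sum_ite_eq', Finset.mem_univ, if_true] at h0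
  have h1 : r i₀ = 0 := congrArg Subtype.val h0
  have := hr i₀
  rw [h1, zero_pow hp.out.ne_zero, eq_comm, map_eq_zero_iff _ (algebraMap k _).injective] at this
  exact this

/-- A geometric function field has a separating variable. -/
theorem exists_separating_of_isGeometric (hK : IsFunctionField k K) (hg : IsGeometric k K) :
    ∃ x : K, Transcendental k x ∧ FiniteDimensional k⟮x⟯ K ∧ Algebra.IsSeparable k⟮x⟯ K := by
  obtain _ | ⟨p, hp, hpk⟩ := CharP.exists' k
  · exact exists_separating hK
  have : Fact p.Prime := hp
  have : ExpChar k p := .prime hp.out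
  obtain ⟨⟨x, hx, hfin⟩, -⟩ := id hK
  have hxb : IsTranscendenceBasis k ((↑) : ({x} : Set K) → K) := by
    have ind : AlgebraicIndependent k ((↑) : ({x} : Set K) → K) := by
      have : AlgebraicIndependent k (fun _ : ({x} : Set K) => x) := algebraicIndependent_unique_type_iff.mpr hx
      convert this using 2 with w
      exact w.2
    rw [ind.isTranscendenceBasis_iff_isAlgebraic, Subtype.range_coe]
    exact IntermediateField.isAlgebraic_adjoin_iff_top.mp (inferInstance : Algebra.IsAlgebraic k⟮x⟯ K)
  have h1 : Algebra.EssFiniteType k k⟮x⟯ :=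
    IntermediateField.essFiniteType_iff.mpr (IntermediateField.fg_adjoin_of_finite (Set.finite_singleton x))
  have h2 : Algebra.EssFiniteType k K := Algebra.EssFiniteType.comp k k⟮x⟯ K
  obtain ⟨s, hs, hsep⟩ := exists_isTranscendenceBasis_and_isSeparable_of_linearIndepOn_pow_of_essFiniteType
    p hp.out (fun s hs => linearIndepOn_pow_of_isGeometric hg p s hs)
  have hs1 : s.card = 1 := by
    have h := hs.cardinalMk_eq hxb
    simp only [Cardinal.mk_fintype, Fintype.card_coe, Set.card_singleton, Nat.cast_one] at h
    exact_mod_cast h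
  obtain ⟨y, rfl⟩ := Finset.card_eq_one.mp hs1
  rw [Finset.coe_singleton] at hsep
  have hy : Transcendental k y := (hs.1.transcendental ⟨y, Finset.mem_singleton_self y⟩)
  exact ⟨y, hy, finiteDimensional_adjoin hK hy, hsep⟩

/-- If `k` is algebraically closed in `K`, finite separable extensions stay fields. -/
theorem isField_tensor_of_isSeparable (hcl : ∀ y : K, IsAlgebraic k y → y ∈ Set.range (algebraMap k K))
    (k' : Type*) [Field k'] [Algebra k k'] [FiniteDimensional k k'] [Algebra.IsSeparable k k'] :
    IsField (K ⊗[k] k') := by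
  obtain ⟨α, hα⟩ := Field.exists_primitive_element k k'
  have hint := IsIntegral.of_finite k α
  let f := minpoly k α
  have hirr : Irreducible (f.map (algebraMap k K)) := by
    rw [Polynomial.Monic.irreducible_iff_natDegree' ((minpoly.monic hint).map _)]
    refine ⟨fun h => ?_, fun a b ha hb hab hdeg => ?_⟩
    · have := congrArg Polynomial.natDegree h
      simp [f, (minpoly.natDegree_pos hint).ne'] at this
    have hmem : ∀ g : Polynomial K, g.Monic → g ∣ f.map (algebraMap k K) → g ∈ Polynomial.lifts (algebraMap k K) := by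
      intro g hg hd
      have h := (Polynomial.lifts_iff_coeff_lifts _).mp
        (integralClosure.mem_lifts_of_monic_of_dvd_map K (minpoly.monic hint) hg hd)
      refine (Polynomial.lifts_iff_coeff_lifts _).mpr fun n => ?_
      obtain ⟨c, hc⟩ := h n
      exact hcl _ (hc ▸ (c.2 : IsIntegral k (c : K)).isAlgebraic)
    obtain ⟨a', ha'⟩ := (Polynomial.mem_lifts a).mp (hmem a ha ⟨b, hab.symm⟩)
    obtain ⟨b', hb'⟩ := (Polynomial.mem_lifts b).mp (hmem b hb ⟨a, (mul_comm b a).trans hab |>.symm⟩)
    have hmul : a' * b' = f := Polynomial.map_injective _ (algebraMap k K).injective (by rw [Polynomial.map_mul, ha', hb', hab])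
    rw [Finset.mem_Ioc, Polynomial.natDegree_map, ← hb', Polynomial.natDegree_map] at hdeg
    have ha0 : a'.natDegree = a.natDegree := by rw [← ha', Polynomial.natDegree_map]
    have hne : a' ≠ 0 ∧ b' ≠ 0 := mul_ne_zero_iff.mp (hmul ▸ minpoly.ne_zero hint)
    have hsum := congrArg Polynomial.natDegree hmul
    rw [Polynomial.natDegree_mul hne.1 hne.2] at hsum
    have hfdef : f.natDegree = (minpoly k α).natDegree := rfl
    rcases (minpoly.irreducible hint).isUnit_or_isUnit hmul.symm with h | h <;>
      have := Polynomial.natDegree_eq_zero_of_isUnit h <;> omega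
  have := Fact.mk hirr
  let E := AdjoinRoot (f.map (algebraMap k K))
  have hne : f.map (algebraMap k K) ≠ 0 := hirr.ne_zero
  have htop : Algebra.adjoin k ({α} : Set k') = ⊤ := by
    rw [← IntermediateField.adjoin_simple_toSubalgebra_of_isAlgebraic hint.isAlgebraic, hα]; rfl
  let pb := (Algebra.adjoin.powerBasis hint).map ((Subalgebra.equivOfEq _ _ htop).trans Subalgebra.topEquiv)
  have hgen : pb.gen = α := rfl
  let ψ : k' →ₐ[k] E := pb.lift (AdjoinRoot.root _) (by
    rw [hgen, ← Polynomial.aeval_map_algebraMap K, AdjoinRoot.aeval_eq, AdjoinRoot.mk_self])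
  let φ : K ⊗[k] k' →ₐ[K] E := Algebra.TensorProduct.lift (Algebra.ofId K E) ψ fun _ _ => Commute.all _ _
  have hsurj : Function.Surjective φ := by
    rw [← AlgHom.range_eq_top, eq_top_iff, ← AdjoinRoot.adjoinRoot_eq_top, Algebra.adjoin_le_iff,
      Set.singleton_subset_iff]
    refine ⟨1 ⊗ₜ pb.gen, ?_⟩
    simp [φ, ψ, PowerBasis.lift_gen]
  have hdim : Module.finrank K (K ⊗[k] k') = Module.finrank K E := by
    rw [Module.finrank_baseChange, (AdjoinRoot.powerBasis hne).finrank, pb.finrank, AdjoinRoot.powerBasis_dim,
      Polynomial.natDegree_map]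
    rfl
  have : Module.Finite K E := (AdjoinRoot.powerBasis hne).finite
  have hinj : Function.Injective φ := (LinearMap.injective_iff_surjective_of_finrank_eq_finrank hdim
    (f := φ.toLinearMap)).mpr hsurj
  exact (AlgEquiv.ofBijective φ ⟨hinj, hsurj⟩).toMulEquiv.isField (Field.toIsField E)

/-- `k` algebraically closed in `K` and `p`-th powers preserving linear independence make `K/k` geometric. -/
theorem isGeometric_of_powInd (hcl : ∀ y : K, IsAlgebraic k y → y ∈ Set.range (algebraMap k K))
    (p : ℕ) [ExpChar k p] (hpi : PowInd.{u, v, v} k p K) : IsGeometric k K := by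
  classical
  intro k' _ _ _
  refine (Algebra.TensorProduct.comm k k' K).toMulEquiv.isField ?_
  have : ExpChar k' p := expChar_of_injective_algebraMap (algebraMap k k').injective p
  have hnt : Nontrivial (K ⊗[k] k') := Module.FaithfullyFlat.lTensor_nontrivial ..
  have hker : ∀ c : k, algebraMap k (K ⊗[k] k') c = 0 → c = 0 := fun c hc => by
    by_contra h
    exact not_isUnit_zero (hc ▸ (Ne.isUnit h).map (algebraMap k (K ⊗[k] k')))
  have : ExpChar (K ⊗[k] k') p :=
    expChar_of_injective_algebraMap ((injective_iff_map_eq_zero _).mpr hker) p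
  have hred : ∀ x : K ⊗[k] k', x ^ p = 0 → x = 0 := by
    intro x hx
    let β := Module.Free.chooseBasis k K
    obtain ⟨b, rfl⟩ := TensorProduct.eq_repr_basis_left β x
    have hli : LinearIndependent k (fun i : b.support => β i ^ p) := by
      let e := b.support.equivFin
      refine (linearIndependent_equiv e.symm).mp (Fintype.linearIndependent_iff.mpr fun c hc => ?_)
      refine congrFun (hpi _ PUnit (fun i _ => β (e.symm i).1) (fun d hd => ?_) c fun _ => hc)
      exact _root_.funext (Fintype.linearIndependent_iff.mp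
        ((β.linearIndependent.comp _ Subtype.val_injective).comp _ e.symm.injective) d (hd PUnit.unit))
    rw [Finsupp.sum, sum_pow_char p] at hx
    simp only [Algebra.TensorProduct.tmul_pow] at hx
    refine Finset.sum_eq_zero fun i hi => ?_
    obtain ⟨ℓ, hℓ⟩ := exists_coord hli ⟨i, hi⟩
    have h0 := congrArg (fun w => TensorProduct.lid k k' (ℓ.rTensor k' w)) hx
    rw [← Finset.sum_coe_sort b.support] at h0
    simp only [map_sum, LinearMap.rTensor_tmul, TensorProduct.lid_tmul, map_zero, hℓ, ite_smul, one_smul,
      zero_smul, Finset.sum_ite_eq', Finset.mem_univ, if_true] at h0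
    simp [eq_zero_of_pow_eq_zero h0]
  let k₁ := separableClosure k k'
  have hK1 := isField_tensor_of_isSeparable hcl k₁
  let ι : K ⊗[k] k₁ →ₐ[K] K ⊗[k] k' := Algebra.TensorProduct.map (AlgHom.id K K) k₁.val
  let := hK1.toField
  have hmem : ∀ x : K ⊗[k] k', ∃ n : ℕ, x ^ p ^ n ∈ ι.range := by
    intro x
    induction x with
    | zero => exact ⟨0, by simp⟩
    | tmul a c =>
      have : ExpChar k₁ p := expChar_of_injective_algebraMap (algebraMap k k₁).injective p
      obtain ⟨n, y, hy⟩ := IsPurelyInseparable.pow_mem k₁ p c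
      refine ⟨n, (a ^ p ^ n) ⊗ₜ y, ?_⟩
      simp only [ι, RingHom.coe_coe, Algebra.TensorProduct.map_tmul, AlgHom.coe_id, id_eq,
        Algebra.TensorProduct.tmul_pow, ← hy]
      rfl
    | add x y hx hy =>
      obtain ⟨n, hn⟩ := hx
      obtain ⟨m, hm⟩ := hy
      refine ⟨n + m, ?_⟩
      rw [add_pow_expChar_pow, pow_add]
      nth_rewrite 2 [mul_comm]
      rw [pow_mul, pow_mul]
      exact add_mem (pow_mem hn _) (pow_mem hm _)
  have hredn : ∀ n : ℕ, ∀ x : K ⊗[k] k', x ^ p ^ n = 0 → x = 0 := by
    intro n
    induction n with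
    | zero => intro x hx; simpa using hx
    | succ n ih => intro x hx; rw [pow_succ, pow_mul] at hx; exact ih x (hred _ hx)
  refine ⟨exists_pair_ne _, mul_comm, fun {a} ha => ?_⟩
  obtain ⟨n, y, hy⟩ := hmem a
  have hy0 : y ≠ 0 := fun h => ha (hredn n a (hy.symm.trans (by rw [h]; exact map_zero ι)))
  have hu : IsUnit (a ^ p ^ n) := hy ▸ hy0.isUnit.map ι
  rw [isUnit_pow_iff (pow_ne_zero _ (expChar_pos k p).ne')] at hu
  exact ⟨_, hu.unit.mul_inv⟩

/-- A separating variable makes a function field geometric. -/
theorem isGeometric_of_separating (hK : IsFunctionField k K) {t : K} (ht : Transcendental k t)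
    [Algebra.IsSeparable k⟮t⟯ K] : IsGeometric k K := by
  obtain ⟨p, _⟩ := ExpChar.exists k
  exact isGeometric_of_powInd hK.2 p (powInd_of_separating k p ht)

theorem transcendental_of_separable_adjoin' (hK : IsFunctionField k K) {x : K}
    [Algebra.IsSeparable k⟮x⟯ K] : Transcendental k x := by
  refine transcendental_of_not_mem hK fun ⟨c, hc⟩ => ?_
  obtain ⟨⟨z, hz, -⟩, -⟩ := id hK
  have hbot : k⟮x⟯ = ⊥ := by
    rw [IntermediateField.adjoin_simple_eq_bot_iff]; exact IntermediateField.mem_bot.mpr ⟨c, hc⟩
  have h1 : Algebra.IsAlgebraic k k⟮x⟯ := by rw [hbot]; infer_instance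
  exact hz ((Algebra.IsAlgebraic.trans k k⟮x⟯ K).isAlgebraic z)

/-- The differential of a separating variable spans and is non-zero. -/
theorem D_separating (hK : IsFunctionField k K) {t : K} [Algebra.IsSeparable k⟮t⟯ K] :
    KaehlerDifferential.D k K t ≠ 0 ∧
      ∀ w : KaehlerDifferential k K, ∃ c : K, c • KaehlerDifferential.D k K t = w := by
  have ht := transcendental_of_separable_adjoin' hK (x := t)
  have := finiteDimensional_adjoin hK ht
  obtain ⟨H, hH⟩ := exists_hasse ht
  refine ⟨fun h => ?_, fun w => ?_⟩
  · have h1 := Derivation.liftKaehlerDifferential_comp_D (hasseDer hH) t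
    rw [h, map_zero] at h1
    exact one_ne_zero ((hasseD_one_self hH).symm.trans h1.symm)
  · have hd : KaehlerDifferential.D k K =
        (LinearMap.toSpanSingleton K _ (KaehlerDifferential.D k K t)).compDer (hasseDer hH) := by
      refine derivation_ext_separable (x := t) _ _ ?_
      change _ = hasseD H 1 t • KaehlerDifferential.D k K t
      rw [hasseD_one_self hH, one_smul]
    have hw : w ∈ Submodule.span K (Set.range (KaehlerDifferential.D k K)) := by
      rw [KaehlerDifferential.span_range_derivation]; trivial
    induction hw using Submodule.span_induction with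
    | mem y hy => obtain ⟨z, rfl⟩ := hy; exact ⟨hasseD H 1 z, (Derivation.congr_fun hd z).symm⟩
    | zero => exact ⟨0, zero_smul _ _⟩
    | add a b _ _ ha hb =>
      obtain ⟨c, rfl⟩ := ha; obtain ⟨d, rfl⟩ := hb
      exact ⟨c + d, add_smul _ _ _⟩
    | smul r a _ ha => obtain ⟨c, rfl⟩ := ha; exact ⟨r * c, mul_smul _ _ _⟩

theorem finrank_kaehler (hK : IsFunctionField k K) (hg : IsGeometric k K) :
    Module.finrank K (KaehlerDifferential k K) = 1 := by
  obtain ⟨t, -, -, _⟩ := exists_separating_of_isGeometric hK hg
  exact finrank_eq_one _ (D_separating hK (t := t)).1 (D_separating hK (t := t)).2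

/-- `x` is separating iff `dx ≠ 0`. -/
theorem isSeparable_iff_D_ne_zero (hK : IsFunctionField k K) (hg : IsGeometric k K) (x : K) :
    Algebra.IsSeparable k⟮x⟯ K ↔ KaehlerDifferential.D k K x ≠ 0 := by
  refine ⟨fun _ => (D_separating hK).1, fun hx => ?_⟩
  obtain ⟨t, -, -, _⟩ := exists_separating_of_isGeometric hK hg
  obtain ⟨c, hc⟩ := (D_separating hK (t := t)).2 (KaehlerDifferential.D k K x)
  have htr : Transcendental k x := transcendental_of_not_mem hK fun ⟨a, ha⟩ => hx (by
    rw [← ha]; exact Derivation.map_algebraMap _ _)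
  have := finiteDimensional_adjoin hK htr
  rw [← Algebra.FormallyUnramified.iff_isSeparable]
  let d : Derivation k K (KaehlerDifferential k⟮x⟯ K) := (KaehlerDifferential.D k⟮x⟯ K).restrictScalars k
  let L := d.liftKaehlerDifferential
  have hL : ∀ z, L (KaehlerDifferential.D k K z) = d z := fun z => d.liftKaehlerDifferential_comp_D z
  have h0 : d t = 0 := by
    have := hL x
    rw [← hc, map_smul, hL, show d x = 0 from (KaehlerDifferential.D k⟮x⟯ K).map_algebraMap (AdjoinSimple.gen k x)] at this
    exact (smul_eq_zero.mp this).resolve_left fun h => hx (by rw [← hc, h, zero_smul])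
  refine ⟨subsingleton_of_forall_eq 0 fun w => ?_⟩
  have htop : (⊤ : Submodule K (KaehlerDifferential k⟮x⟯ K)) ≤ ⊥ := by
    rw [← KaehlerDifferential.span_range_derivation, Submodule.span_le]
    rintro _ ⟨z, rfl⟩
    change d z = 0
    obtain ⟨e, he⟩ := (D_separating hK (t := t)).2 (KaehlerDifferential.D k K z)
    rw [← hL, ← he, map_smul, hL, h0, smul_zero]
  exact htop trivial

section CharP

variable (k K) (p : ℕ)

/-- The subfield `k K^p`. -/
abbrev powField : IntermediateField k K := adjoin k (Set.range fun y : K => y ^ p)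

variable [hp : Fact p.Prime] [CharP K p]
variable {k K}

omit hp in
theorem pow_mem_powField (y : K) : y ^ p ∈ powField k K p := subset_adjoin k _ ⟨y, rfl⟩

omit hp in
theorem D_eq_zero_of_mem {x : K} (hx : x ∈ powField k K p) : KaehlerDifferential.D k K x = 0 := by
  induction hx using IntermediateField.adjoin_induction with
  | mem x hx =>
    obtain ⟨y, rfl⟩ := hx
    rw [Derivation.leibniz_pow, ← Nat.cast_smul_eq_nsmul K, CharP.cast_eq_zero, zero_smul]
  | algebraMap r => exact Derivation.map_algebraMap _ _
  | add x y _ _ hx hy => rw [map_add, hx, hy, add_zero]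
  | inv x _ hx => rw [Derivation.leibniz_inv, hx, smul_zero]
  | mul x y _ _ hx hy => rw [Derivation.leibniz, hx, hy, smul_zero, smul_zero, add_zero]

omit hp in
theorem adjoin_separating_eq_top [hp : Fact p.Prime] {t : K} [Algebra.IsSeparable k⟮t⟯ K] :
    (powField k K p)⟮t⟯ = ⊤ := by
  let N := ((powField k K p)⟮t⟯).restrictScalars k
  have hle : k⟮t⟯ ≤ N :=
    IntermediateField.adjoin_le_iff.mpr (Set.singleton_subset_iff.mpr (mem_adjoin_simple_self _ t))
  let := (IntermediateField.inclusion hle).toRingHom.toAlgebra
  have : IsScalarTower k⟮t⟯ N K := IsScalarTower.of_algebraMap_eq fun _ => rfl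
  have : Algebra.IsSeparable N K := Algebra.isSeparable_tower_top_of_isSeparable k⟮t⟯ N K
  have : ExpChar N p := by
    have : ExpChar K p := .prime hp.out
    exact (algebraMap N K).expChar (algebraMap N K).injective p
  have : IsPurelyInseparable N K := (isPurelyInseparable_iff_pow_mem N p).mpr fun z =>
    ⟨1, ⟨z ^ p, (IntermediateField.algebraMap_mem (powField k K p)⟮t⟯ ⟨_, pow_mem_powField p z⟩)⟩,
      by rw [pow_one]; rfl⟩
  refine eq_top_iff.mpr fun z _ => ?_
  obtain ⟨y, rfl⟩ := IsPurelyInseparable.surjective_algebraMap_of_isSeparable N K z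
  exact y.2

theorem finrank_powField (hK : IsFunctionField k K) (hg : IsGeometric k K) :
    Module.finrank (powField k K p) K = p := by
  obtain ⟨t, -, -, _⟩ := exists_separating_of_isGeometric hK hg
  have htop := adjoin_separating_eq_top (k := k) p (t := t)
  have hirr : Irreducible (Polynomial.X ^ p - Polynomial.C (⟨t ^ p, pow_mem_powField p t⟩ : powField k K p)) := by
    refine X_pow_sub_C_irreducible_of_prime hp.out fun b hb => (D_separating hK (t := t)).1 ?_
    have : (b : K) = t := frobenius_inj K p (congrArg Subtype.val hb)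
    exact this ▸ D_eq_zero_of_mem p b.2
  have hmp := minpoly.eq_of_irreducible_of_monic hirr
    (x := t) (by simp) (Polynomial.monic_X_pow_sub_C _ hp.out.ne_zero)
  have hint : IsIntegral (powField k K p) t :=
    ⟨_, Polynomial.monic_X_pow_sub_C ⟨t ^ p, pow_mem_powField p t⟩ hp.out.ne_zero, by simp⟩
  rw [← IntermediateField.finrank_top', ← htop, IntermediateField.adjoin.finrank hint, ← hmp,
    Polynomial.natDegree_X_pow_sub_C]

theorem mem_powField_iff (hK : IsFunctionField k K) (hg : IsGeometric k K) (x : K) :
    x ∈ powField k K p ↔ KaehlerDifferential.D k K x = 0 := by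
  refine ⟨D_eq_zero_of_mem p, fun hx => ?_⟩
  by_contra hxM
  have hprime : (Module.finrank (powField k K p) K).Prime := by rw [finrank_powField p hK hg]; exact hp.out
  have : FiniteDimensional (powField k K p) K := Module.finite_of_finrank_pos hprime.pos
  have htop : (powField k K p)⟮x⟯ = ⊤ := by
    rcases (IntermediateField.isSimpleOrder_of_finrank_prime _ _ hprime).eq_bot_or_eq_top (powField k K p)⟮x⟯ with h | h
    · exfalso
      rw [IntermediateField.adjoin_simple_eq_bot_iff, IntermediateField.mem_bot] at h
      obtain ⟨y, hy⟩ := h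
      exact hxM (hy ▸ y.2)
    · exact h
  obtain ⟨t, -, -, _⟩ := exists_separating_of_isGeometric hK hg
  refine (D_separating hK (t := t)).1 ?_
  suffices ∀ z ∈ (powField k K p)⟮x⟯, KaehlerDifferential.D k K z = 0 from this t (htop ▸ IntermediateField.mem_top)
  intro z hz
  clear * - hz hx
  induction hz using IntermediateField.adjoin_induction with
  | mem z hz => rw [Set.mem_singleton_iff.mp hz, hx]
  | algebraMap r => exact D_eq_zero_of_mem p r.2
  | add a b _ _ ha hb => rw [map_add, ha, hb, add_zero]
  | inv a _ ha => rw [Derivation.leibniz_inv, ha, smul_zero]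
  | mul a b _ _ ha hb => rw [Derivation.leibniz, ha, hb, smul_zero, smul_zero, add_zero]

end CharP

end Groth.Agent.FF
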