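import Groth.Agent.FF.ExtConst
import Groth.Prelude.Def_W4bk4goldsch23Ext
import Groth.Prelude.Def_W4bk4goldsch45

/-! Places in finite extensions of function fields: the fundamental identity, the conorm. -/

open FunFld WithZero Module IntermediateField
open scoped Classical

namespace Groth.Agent.FF

variable {k K K' : Type*} [Field k] [Field K] [Field K'] [Algebra k K] [Algebra K K'] [Algebra k K']
  [IsScalarTower k K K']

section
variable [FiniteDimensional K K']

omit [Algebra k K] [Algebra k K'] [IsScalarTower k K K'] in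
theorem finrank_adjoin_map [Algebra k K] [Algebra k K'] [IsScalarTower k K K'] (x : K) :
    finrank k⟮algebraMap K K' x⟯ K' = finrank k⟮x⟯ K * finrank K K' := by
  rw [Module.finrank_mul_finrank]
  let f := IsScalarTower.toAlgHom k K K'
  have hmap : k⟮x⟯.map f = k⟮algebraMap K K' x⟯ := by
    rw [IntermediateField.adjoin_map, Set.image_singleton]; rfl
  let e := (k⟮x⟯.equivMap f).trans (IntermediateField.equivOfEq hmap)
  exact (Algebra.finrank_eq_of_equiv_equiv e.toRingEquiv (RingEquiv.refl K') (by ext y; rfl)).symm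

theorem isFF'_ext (hK : IsFF' k K) : IsFF' k K' := by
  obtain ⟨x, hx, hfd⟩ := hK
  refine ⟨algebraMap K K' x, fun h => hx ((isAlgebraic_algebraMap_iff
    (algebraMap K K').injective).mp h), Module.finite_of_finrank_pos ?_⟩
  rw [finrank_adjoin_map (k := k) (K' := K') x]
  exact Nat.mul_pos finrank_pos finrank_pos

theorem deg_pos_ext (hK : IsFF' k K) (Q : Place k K') : 0 < Q.deg :=
  deg_pos' (isFF'_ext hK) Q

theorem exists_isOverWith (hK : IsFF' k K) (Q : Place k K') :
    ∃ (P : Place k K) (e : ℕ), 0 < e ∧ IsOverWith Q P e := by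
  have hne : Q.O.comap (algebraMap K K') ≠ ⊤ := by
    intro htop
    have hle : ∀ a : K, Q.1 (algebraMap K K' a) ≤ 1 := fun a => by
      have : a ∈ Q.O.comap (algebraMap K K') := htop ▸ trivial
      exact (mem_O Q).mp (ValuationSubring.mem_comap.mp this)
    obtain ⟨t, ht0, ht⟩ := exists_uniformizer Q
    let f : K →+* Q.O := (algebraMap K K').codRestrict Q.O fun a => (mem_O Q).mpr (hle a)
    have h1 : IsIntegral Q.O t⁻¹ :=
      (IsIntegral.of_finite K t⁻¹).map_of_comp_eq f (RingHom.id K') rfl
    obtain ⟨d, hd⟩ := IsIntegrallyClosed.isIntegral_iff.mp h1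
    have h2 : Q.1 t⁻¹ ≤ 1 := hd ▸ (mem_O Q).mp d.2
    rw [map_inv₀, ht, ← exp_neg, ← exp_zero, exp_le_exp] at h2
    omega
  obtain ⟨P, hP⟩ := exists_place' hK (Q.O.comap (algebraMap K K'))
    (fun c => by
      rw [ValuationSubring.mem_comap, ← IsScalarTower.algebraMap_apply]
      exact (mem_O Q).mpr (Q.2.1 c)) hne
  have hiff : ∀ a : K, Q.1 (algebraMap K K' a) ≤ 1 ↔ P.1 a ≤ 1 := fun a => by
    rw [← mem_O P, hP, ValuationSubring.mem_comap, mem_O]
  obtain ⟨t, ht0, ht⟩ := exists_uniformizer P
  have hft : algebraMap K K' t ≠ 0 := (map_ne_zero _).mpr ht0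
  have hepos : 0 < Q.ord (algebraMap K K' t) := by
    have h1 := (val_le_one_iff Q hft).mp ((hiff t).mpr (by rw [ht, ← exp_zero, exp_le_exp]; omega))
    rcases h1.lt_or_eq with h | h
    · exact h
    exfalso
    have h2 : Q.1 (algebraMap K K' t⁻¹) ≤ 1 := by
      rw [map_inv₀, val_le_one_iff Q (inv_ne_zero hft), ord_inv]; omega
    have h3 := (hiff _).mp h2
    rw [map_inv₀, ht, ← exp_neg, ← exp_zero, exp_le_exp] at h3
    omega
  refine ⟨P, (Q.ord (algebraMap K K' t)).toNat, by omega, fun x => ?_⟩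
  rcases eq_or_ne x 0 with rfl | hx
  · simp only [map_zero]
    rw [zero_pow (by omega)]
  have hu : P.1 (x / t ^ P.ord x) = 1 := by
    rw [map_div₀, map_zpow₀, ht, ← exp_zsmul, smul_eq_mul, val_eq_exp_neg_ord P hx,
      div_eq_one_iff_eq exp_ne_zero]
    congr 1; ring
  have hu' : Q.1 (algebraMap K K' (x / t ^ P.ord x)) = 1 := by
    refine le_antisymm ((hiff _).mpr hu.le) ?_
    have h2 := (hiff (x / t ^ P.ord x)⁻¹).mpr (by rw [map_inv₀, hu, inv_one])
    have hne0 : algebraMap K K' (x / t ^ P.ord x) ≠ 0 :=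
      (map_ne_zero _).mpr (div_ne_zero hx (zpow_ne_zero _ ht0))
    rwa [map_inv₀, map_inv₀, inv_le_one₀ (zero_lt_iff.mpr ((map_ne_zero _).mpr hne0))] at h2
  rw [map_div₀, map_div₀, map_zpow₀, map_zpow₀,
    div_eq_one_iff_eq (zpow_ne_zero _ ((map_ne_zero _).mpr hft))] at hu'
  rw [hu', val_eq_exp_neg_ord Q hft, val_eq_exp_neg_ord P hx, ← exp_zsmul, ← exp_nsmul, exp_inj,
    smul_eq_mul, nsmul_eq_mul, Int.toNat_of_nonneg hepos.le]
  ring

end

theorem ow_pos {Q : Place k K'} {P : Place k K} {e : ℕ} (h : IsOverWith Q P e) : 0 < e := by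
  rcases Nat.eq_zero_or_pos e with rfl | he
  · have := h 0; simp at this
  · exact he

omit [IsScalarTower k K K'] in
theorem ow_ord_eq {Q : Place k K'} {P : Place k K} {e : ℕ} (h : IsOverWith Q P e) (x : K) :
    Q.ord (algebraMap K K' x) = e * P.ord x := by
  simp only [Place.ord, h x, log_pow, nsmul_eq_mul]; ring

theorem ow_eq {Q : Place k K'} {P : Place k K} {e e' : ℕ} (h : IsOverWith Q P e)
    (h' : IsOverWith Q P e') : e = e' := by
  obtain ⟨t, ht0, ht⟩ := exists_uniformizer P
  have h1 := (ow_ord_eq h t).symm.trans (ow_ord_eq h' t)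
  rw [ord_eq_of_val P ht] at h1
  push_cast at h1
  omega

theorem ow_le_one_iff {Q : Place k K'} {P : Place k K} {e : ℕ} (h : IsOverWith Q P e) (x : K) :
    Q.1 (algebraMap K K' x) ≤ 1 ↔ P.1 x ≤ 1 := by
  rw [h x]; exact pow_le_one_iff (ow_pos h).ne'

theorem ow_lt_one_iff {Q : Place k K'} {P : Place k K} {e : ℕ} (h : IsOverWith Q P e) (x : K) :
    Q.1 (algebraMap K K' x) < 1 ↔ P.1 x < 1 := by
  rw [h x]; exact pow_lt_one_iff_of_nonneg zero_le (ow_pos h).ne'

theorem isOver_unique {Q : Place k K'} {P P' : Place k K} (h : IsOver Q P) (h' : IsOver Q P') : P = P' := by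
  obtain ⟨e, he⟩ := h; obtain ⟨e', he'⟩ := h'
  exact eq_of_le fun x hx => (ow_le_one_iff he' x).mp ((ow_le_one_iff he x).mpr hx)

theorem isOverWith_ramIdx {Q : Place k K'} {P : Place k K} (h : IsOver Q P) :
    IsOverWith Q P (ramIdx Q P) := by
  have e : ramIdx Q P = Nat.find h := by rw [ramIdx, dif_pos h]
  rw [e]
  exact Nat.find_spec h

theorem ow_ramIdx_eq {Q : Place k K'} {P : Place k K} {e : ℕ} (h : IsOverWith Q P e) :
    ramIdx Q P = e := ow_eq (isOverWith_ramIdx ⟨e, h⟩) h

theorem ramIdx_pos {Q : Place k K'} {P : Place k K} (h : IsOver Q P) : 0 < ramIdx Q P :=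
  ow_pos (isOverWith_ramIdx h)

omit [IsScalarTower k K K'] in
theorem ramIdx_eq_zero {Q : Place k K'} {P : Place k K} (h : ¬ IsOver Q P) : ramIdx Q P = 0 :=
  dif_neg h

/-- There is a function with a single pole, at the prescribed place. -/
theorem exists_poles_eq_single (hK : IsFunctionField k K) (P : Place k K) :
    ∃ x : K, ∃ m : ℕ, 0 < m ∧ Transcendental k x ∧ poles (k := k) x = Finsupp.single P (m : ℤ) := by
  have hdP := deg_pos hK P
  obtain ⟨m, hm⟩ : ∃ m : ℕ, m = 2 * genus k K + 2 := ⟨_, rfl⟩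
  have hdeg : ∀ j : ℕ, Divisor.deg (Finsupp.single P (j : ℤ)) = (j : ℤ) * P.deg := fun j => deg_single P _
  have h1 := ell_eq_of_deg_large hK (D := Finsupp.single P ((m : ℤ) - 1))
    (by rw [deg_single, hm]; push_cast; nlinarith)
  have h2 := ell_eq_of_deg_large hK (D := Finsupp.single P (m : ℤ))
    (by rw [hdeg, hm]; push_cast; nlinarith)
  rw [deg_single] at h1
  rw [hdeg] at h2
  obtain ⟨x, hx, hx'⟩ : ∃ x ∈ L (Finsupp.single P (m : ℤ)), x ∉ L (Finsupp.single P ((m : ℤ) - 1)) := by
    by_contra hc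
    push Not at hc
    have := finiteDimensional_L hK (Finsupp.single P ((m : ℤ) - 1))
    have h3 := Submodule.finrank_mono (s := L (Finsupp.single P (m : ℤ))) hc
    change ell _ ≤ ell _ at h3
    nlinarith
  have hx0 : x ≠ 0 := fun e => hx' (e ▸ Submodule.zero_mem _)
  have hP : P.ord x = -(m : ℤ) := by
    have a := hx P
    rw [Finsupp.single_eq_same, val_le_exp_iff P hx0] at a
    by_contra hne
    refine hx' fun R => ?_
    rw [val_le_exp_iff R hx0]
    by_cases hR : R = P
    · subst hR; rw [Finsupp.single_eq_same]; omega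
    · have b := hx R
      rw [Finsupp.single_eq_of_ne hR, val_le_exp_iff R hx0] at b
      rw [Finsupp.single_eq_of_ne hR]; omega
  refine ⟨x, m, by omega, transcendental_of_not_mem hK ?_, Finsupp.ext fun R => ?_⟩
  · rintro ⟨c, rfl⟩
    rw [ord_algebraMap] at hP; omega
  · rw [poles_apply hK]
    by_cases hR : R = P
    · subst hR; rw [Finsupp.single_eq_same, hP]; omega
    · have b := hx R
      rw [Finsupp.single_eq_of_ne hR, val_le_exp_iff R hx0] at b
      rw [Finsupp.single_eq_of_ne hR]; omega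

omit [Field K'] [Algebra K K'] [Algebra k K'] [IsScalarTower k K K'] in
/-- There is a function with a single pole; constants may be larger. -/
theorem exists_poles_eq_single' (hK : IsFF' k K) (P : Place k K) :
    ∃ x : K, ∃ m : ℕ, 0 < m ∧ Transcendental k x ∧
      ∀ R : Place k K, max (-R.ord x) 0 = Finsupp.single P (m : ℤ) R := by
  obtain ⟨x, m, hm, -, hp⟩ := exists_poles_eq_single (isFunctionField_consts hK) (placeConsts (k := k) (L := K) P)
  have hord : ∀ R : Place k K, max (-R.ord x) 0 = Finsupp.single P (m : ℤ) R := fun R => by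
    have e := poles_apply (isFunctionField_consts hK) x (placeConsts (k := k) (L := K) R)
    rw [hp] at e
    refine e.symm.trans ?_
    simp [Finsupp.single_apply]
  refine ⟨x, m, hm, transcendental_of_ord_ne_zero' (P := P) fun h0 => ?_, hord⟩
  have := hord P
  rw [Finsupp.single_eq_same, h0] at this
  omega

variable [FiniteDimensional K K']

omit [IsScalarTower k K K'] in
theorem finite_over [IsScalarTower k K K'] (hK : IsFF' k K) (P : Place k K) :
    {Q : Place k K' | IsOver Q P}.Finite := by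
  obtain ⟨t, ht0, ht⟩ := exists_uniformizer P
  refine (finite_support_ord' (isFF'_ext hK) (algebraMap K K' t)).subset fun Q hQ => ?_
  have h := isOverWith_ramIdx hQ
  rw [Function.mem_support, ow_ord_eq h, ord_eq_of_val P ht, mul_one]
  exact_mod_cast (ow_pos h).ne'

/-- The fundamental identity. -/
theorem sum_ramIdx_mul_deg (hK : IsFF' k K) (P : Place k K) (Qs : Finset (Place k K'))
    (hQs : ∀ Q, Q ∈ Qs ↔ IsOver Q P) :
    ∑ Q ∈ Qs, ramIdx Q P * Q.deg = finrank K K' * P.deg := by
  obtain ⟨x, m, hm, hxt, hxp⟩ := exists_poles_eq_single' hK P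
  have hFF : IsFF' k K' := isFF'_ext hK
  have hxt' : Transcendental k (algebraMap K K' x) := fun h =>
    hxt ((isAlgebraic_algebraMap_iff (algebraMap K K').injective).mp h)
  have hord : ∀ Q : Place k K', ∀ R, IsOver Q R →
      max (-Q.ord (algebraMap K K' x)) 0 = (ramIdx Q R : ℤ) * Finsupp.single P (m : ℤ) R := by
    intro Q R hR
    rw [ow_ord_eq (isOverWith_ramIdx hR), ← hxp R, mul_max_of_nonneg _ _ (by positivity),
      mul_zero, mul_neg]
  have h := sum_poles' hFF hxt' Qs fun Q hQ => by
    obtain ⟨R, e, -, he⟩ := exists_isOverWith hK Q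
    rw [hQs]
    by_contra hne
    have := hord Q R ⟨e, he⟩
    rw [Finsupp.single_eq_of_ne (fun hRP => hne (by rw [← hRP]; exact ⟨e, he⟩)), mul_zero] at this
    omega
  have hsum : ∀ Q ∈ Qs, max (-Q.ord (algebraMap K K' x)) 0 * Q.deg = (m : ℤ) * ((ramIdx Q P * Q.deg : ℕ) : ℤ) :=
    fun Q hQ => by
      rw [hord Q P ((hQs Q).mp hQ), Finsupp.single_eq_same]; push_cast; ring
  rw [Finset.sum_congr rfl hsum, ← Finset.mul_sum, ← Nat.cast_sum, finrank_adjoin_map] at h
  have h2 := sum_poles' hK hxt {P} fun R hR => by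
    have := hxp R
    by_contra hne
    rw [Finset.mem_singleton] at hne
    rw [Finsupp.single_eq_of_ne hne] at this
    omega
  rw [Finset.sum_singleton, hxp P, Finsupp.single_eq_same] at h2
  have h3 : (m : ℤ) * ((∑ Q ∈ Qs, ramIdx Q P * Q.deg : ℕ) : ℤ) = (m : ℤ) * ((finrank K K' * P.deg : ℕ) : ℤ) := by
    rw [h]; push_cast; rw [← h2]; ring
  exact_mod_cast mul_left_cancel₀ (by exact_mod_cast hm.ne') h3

theorem exists_over (hK : IsFF' k K) (P : Place k K) : ∃ Q : Place k K', IsOver Q P := by
  have h := sum_ramIdx_mul_deg (K' := K') hK P (finite_over hK P).toFinset (by simp)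
  by_contra hc
  push Not at hc
  rw [show (finite_over (K' := K') hK P).toFinset = ∅ from Finset.eq_empty_of_forall_notMem fun Q hQ =>
    hc Q (by simpa using hQ), Finset.sum_empty] at h
  exact (Nat.mul_pos finrank_pos (deg_pos' hK P)).ne' h.symm

theorem conorm_single (hK : IsFF' k K) (P : Place k K) (n : ℤ) :
    conorm K' (Finsupp.single P n) =
      n • (finite_over (K' := K') hK P).toFinset.sum (fun Q => (ramIdx Q P : ℤ) • Finsupp.single Q (1 : ℤ)) := by
  rw [conorm, Finsupp.sum_single_index (by simp), dif_pos (finite_over hK P)]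

omit [Algebra K K'] [IsScalarTower k K K'] [FiniteDimensional K K'] in
theorem conorm_add [Algebra K K'] (D E : Divisor k K) : conorm K' (D + E) = conorm K' D + conorm K' E := by
  unfold conorm
  exact Finsupp.sum_add_index' (fun P => zero_smul _ _) (fun P a b => add_smul _ _ _)

omit [Algebra K K'] [IsScalarTower k K K'] [FiniteDimensional K K'] in
theorem conorm_zero [Algebra K K'] : conorm K' (0 : Divisor k K) = 0 := Finsupp.sum_zero_index

theorem conorm_apply (hK : IsFF' k K) (D : Divisor k K) {Q : Place k K'} {P : Place k K}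
    (h : IsOver Q P) : conorm K' D Q = (ramIdx Q P : ℤ) * D P := by
  induction D using Finsupp.induction_linear with
  | zero => simp [conorm_zero]
  | add D E hD hE => rw [conorm_add, Finsupp.add_apply, hD, hE, Finsupp.add_apply, mul_add]
  | single R n =>
    rw [conorm_single hK, Finsupp.smul_apply, Finsupp.finsetSum_apply]
    simp only [Finsupp.smul_apply, Finsupp.single_apply, smul_eq_mul, mul_ite, mul_one, mul_zero]
    rw [Finset.sum_ite_eq']
    by_cases hR : R = P
    · subst hR; simp [h, mul_comm]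
    · rw [if_neg (by simpa using fun hQR => hR (isOver_unique hQR h)), if_neg hR, mul_zero]
      

theorem deg_conorm (hK : IsFF' k K) (D : Divisor k K) :
    (conorm K' D).deg = finrank K K' * D.deg := by
  induction D using Finsupp.induction_linear with
  | zero => simp [conorm_zero]
  | add D E hD hE => rw [conorm_add, deg_add, hD, hE, deg_add, mul_add]
  | single R n =>
    rw [conorm_single hK, deg_zsmul, deg_single]
    have hsum : ∀ s : Finset (Place k K'),
        (s.sum fun Q => (ramIdx Q R : ℤ) • Finsupp.single Q (1 : ℤ) : Divisor k K').deg =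
          ((∑ Q ∈ s, ramIdx Q R * Q.deg : ℕ) : ℤ) := fun s => by
      induction s using Finset.induction with
      | empty => simp
      | insert Q s hQ ih => rw [Finset.sum_insert hQ, Finset.sum_insert hQ, deg_add, ih, deg_zsmul, deg_single]; push_cast; ring
    rw [hsum, sum_ramIdx_mul_deg hK R _ (by simp)]
    push_cast; ring

theorem div_algebraMap_eq_conorm (hK : IsFunctionField k K) (x : K) :
    div k (algebraMap K K' x) = conorm K' (div k x) := by
  ext Q
  obtain ⟨P, e, -, he⟩ := exists_isOverWith hK.1 Q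
  rw [conorm_apply hK.1 _ ⟨e, he⟩, ow_ramIdx_eq he, div_apply hK, FunFld.div,
    dif_pos (finite_support_ord' (isFF'_ext hK.1) _)]
  exact ow_ord_eq he x

omit [FiniteDimensional K K'] in
theorem ow_trans {K'' : Type*} [Field K''] [Algebra K' K''] [Algebra K K''] [Algebra k K'']
    [IsScalarTower K K' K''] {P : Place k K} {Q : Place k K'} {R : Place k K''} {a b : ℕ}
    (h₁ : IsOverWith Q P a) (h₂ : IsOverWith R Q b) : IsOverWith R P (a * b) := fun x => by
  rw [IsScalarTower.algebraMap_apply K K' K'', h₂, h₁, pow_mul]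

theorem conorm_conorm' {K'' : Type*} [Field K''] [Algebra K' K''] [Algebra K K''] [Algebra k K'']
    [IsScalarTower K K' K''] [IsScalarTower k K' K''] [IsScalarTower k K K''] [FiniteDimensional K' K'']
    (hK : IsFunctionField k K) (D : Divisor k K) :
    conorm K'' (conorm K' D) = conorm K'' D := by
  have : FiniteDimensional K K'' := Module.Finite.trans K' K''
  ext R
  have hFF' : IsFF' k K' := isFF'_ext hK.1
  obtain ⟨Q, b, -, hQ⟩ := exists_isOverWith hFF' R
  obtain ⟨P, a, -, hP⟩ := exists_isOverWith hK.1 Q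
  have htr := ow_trans (K'' := K'') hP hQ
  rw [conorm_apply hK.1 D ⟨_, htr⟩, ow_ramIdx_eq htr, conorm_apply hFF' _ ⟨_, hQ⟩, ow_ramIdx_eq hQ,
    conorm_apply hK.1 D ⟨_, hP⟩, ow_ramIdx_eq hP]
  push_cast; ring

end Groth.Agent.FF

namespace Groth.Agent.FF

variable {k K : Type*} [Field k] [Field K] [Algebra k K]

theorem mapDiv_apply' {ι : Type*} [Fintype ι] [Nonempty ι] (hK : IsFF' k K) (φ : ι → K) (P : Place k K) :
    mapDiv k φ P = -Finset.univ.inf' Finset.univ_nonempty (fun i => P.ord (φ i)) := by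
  have hfin : (Function.support fun Q : Place k K =>
      -Finset.univ.inf' Finset.univ_nonempty (fun i => Q.ord (φ i))).Finite := by
    refine (Set.finite_iUnion fun i => finite_support_ord' hK (φ i)).subset fun Q hQ => ?_
    rw [Set.mem_iUnion]
    by_contra hc
    push Not at hc
    simp only [Function.mem_support, ne_eq, not_not] at hc
    refine hQ ?_
    simp only [hc]
    simp
  rw [mapDiv, dif_pos hfin]; rfl

end Groth.Agent.FF
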