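import Groth.Agent.FF.Galois
import Mathlib.RingTheory.IntegralDomain

/-! Higher ramification groups. -/

open FunFld WithZero Module
open scoped Pointwise Classical

namespace Groth.Agent.FF

variable {k K K' : Type*} [Field k] [Field K] [Field K'] [Algebra k K] [Algebra K K'] [Algebra k K']
  [IsScalarTower k K K'] [FiniteDimensional K K']

omit [Algebra K K'] [IsScalarTower k K K'] [FiniteDimensional K K'] in
theorem exists_residue_lift [Algebra K K'] [IsScalarTower k K K'] [FiniteDimensional K K'] (hK : IsFF' k K)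
    {Q : Place k K'} {P : Place k K} (h : IsOverWith Q P (finrank K K')) {z : K'} (hz : Q.1 z ≤ 1) :
    ∃ b : K, P.1 b ≤ 1 ∧ Q.1 (z - algebraMap K K' b) < 1 := by
  have hQP : IsOver Q P := ⟨_, h⟩
  let FP := IsLocalRing.ResidueField P.O
  let FQ := IsLocalRing.ResidueField Q.O
  let alg : Algebra FP FQ := (resMap hQP).toAlgebra
  have hcompat : ∀ c : k, @algebraMap k FQ _ _ (Place.algRes Q) c =
      @algebraMap FP FQ _ _ alg (@algebraMap k FP _ _ (Place.algRes P) c) := fun c => by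
    change IsLocalRing.residue Q.O _ = IsLocalRing.residue Q.O _
    exact congrArg _ (Subtype.ext (IsScalarTower.algebraMap_apply k K K' c))
  have hfd := finiteDimensional_residue' (isFF'_ext hK) Q
  obtain ⟨hfin, hrank⟩ := @finite_and_finrank_of_compat k FP FQ _ _ _ (Place.algRes P) (Place.algRes Q) alg hcompat hfd
  have hle : finrank K K' * Q.deg ≤ finrank K K' * P.deg := by
    have hs := sum_ramIdx_mul_deg (K' := K') hK P (finite_over hK P).toFinset (by simp)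
    rw [← hs, ← ow_ramIdx_eq h]
    exact Finset.single_le_sum (f := fun R => ramIdx R P * R.deg) (fun _ _ => Nat.zero_le _) (by simpa using hQP)
  have hle' := Nat.le_of_mul_le_mul_left hle finrank_pos
  have h1 : finrank FP FQ = 1 := by
    have hpos := deg_pos' (isFF'_ext hK) Q
    have hr : P.deg * finrank FP FQ = Q.deg := hrank
    rcases Nat.lt_or_ge 1 (finrank FP FQ) with h2 | h2
    · have := Nat.mul_le_mul_left P.deg h2
      omega
    · rcases Nat.lt_or_ge (finrank FP FQ) 1 with h3 | h3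
      · rw [Nat.lt_one_iff.mp h3, mul_zero] at hr; omega
      · omega
  obtain ⟨c, hc⟩ := (finrank_eq_one_iff_of_nonzero' (1 : FQ) one_ne_zero).mp h1
    (IsLocalRing.residue Q.O ⟨z, (mem_O Q).mpr hz⟩)
  obtain ⟨⟨b, hb⟩, rfl⟩ := IsLocalRing.residue_surjective c
  refine ⟨b, (mem_O P).mp hb, ?_⟩
  have h2 : IsLocalRing.residue Q.O (ringMap hQP ⟨b, hb⟩) = IsLocalRing.residue Q.O ⟨z, (mem_O Q).mpr hz⟩ := by
    rw [← hc, Algebra.smul_def, mul_one]; rfl
  exact (residue_eq_zero_iff Q).mp (show IsLocalRing.residue Q.O (⟨z, (mem_O Q).mpr hz⟩ - ringMap hQP ⟨b, hb⟩) = 0 by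
    rw [map_sub, h2, sub_self])

theorem val_inertia_eq {σ : K' ≃ₐ[K] K'} {Q : Place k K'} (hσ : σ ∈ inertiaG K Q) (x : K') :
    Q.1 (σ x) = Q.1 x := by
  conv_rhs => rw [← smul_eq_of_mem_inertia hσ]
  rw [smul_eq_of_mem_inertia hσ]
  have h := smul_eq_of_mem_inertia hσ
  calc Q.1 (σ x) = (σ • Q).1 (σ x) := by rw [h]
    _ = Q.1 x := by rw [smul_apply, AlgEquiv.symm_apply_apply]

theorem exists_fixed_residue [IsGalois K K'] (hK : IsFF' k K) (Q : Place k K')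
    [Algebra.IsSeparable k (IsLocalRing.ResidueField Q.O)] {z : K'} (hz : Q.1 z ≤ 1) :
    ∃ b : K', Q.1 b ≤ 1 ∧ (∀ σ ∈ inertiaG K Q, σ b = b) ∧ Q.1 (z - b) < 1 := by
  set K₁ : IntermediateField K K' := IntermediateField.fixedField
    (((Q.O).inertiaSubgroup K).map ((Q.O).decompositionSubgroup K).subtype)
  obtain ⟨P, e, -, h⟩ := exists_isOverWith hK Q
  have : IsScalarTower k K₁ K' := IsScalarTower.of_algebraMap_eq fun c => rfl
  obtain ⟨QE, e', -, hE⟩ := exists_isOverWith (K := K₁) (isFF'_ext hK) Q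
  obtain ⟨-, hiff⟩ := ramIdx_tower_iff hK h K₁ hE
  have hrank : finrank K₁ K' = e' := by
    rw [hiff.mpr le_rfl, IntermediateField.finrank_fixedField_eq_card,
      Subgroup.card_map_of_injective Subtype.val_injective]
    exact card_inertia hK h
  rw [← hrank] at hE
  obtain ⟨b, hb, hzb⟩ := exists_residue_lift (isFF'_ext hK) hE hz
  exact ⟨algebraMap K₁ K' b, (ow_le_one_iff hE b).mpr hb,
    fun σ hσ => b.2 ⟨σ, (mem_inertia_iff σ).mpr hσ⟩, hzb⟩

theorem val_pow_sub_pow_le {Q : Place k K'} {a t : K'} (ha : Q.1 a ≤ exp (-1)) (ht : Q.1 t ≤ exp (-1))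
    {j : ℕ} (h : Q.1 (a - t) ≤ exp (-(j : ℤ))) : ∀ m : ℕ, 0 < m →
      Q.1 (a ^ m - t ^ m) ≤ exp (-((j : ℤ) + (m : ℤ) - 1)) := by
  intro m hm
  obtain ⟨m, rfl⟩ := Nat.exists_eq_succ_of_ne_zero hm.ne'
  clear hm
  induction m with
  | zero => simpa using h
  | succ m ih =>
    rw [show a ^ (m + 1 + 1) - t ^ (m + 1 + 1) = a * (a ^ (m + 1) - t ^ (m + 1)) + t ^ (m + 1) * (a - t) by ring]
    refine (Q.1.map_add _ _).trans (max_le ?_ ?_)
    · rw [map_mul]
      refine (mul_le_mul' ha ih).trans ?_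
      rw [← exp_add, exp_le_exp]; push_cast; omega
    · rw [map_mul, map_pow]
      refine (mul_le_mul' (pow_le_pow_left₀ zero_le ht _) h).trans ?_
      rw [← exp_nsmul, ← exp_add, exp_le_exp, nsmul_eq_mul]; push_cast; omega

theorem sub_le_iff_uniformizer [IsGalois K K'] (hK : IsFF' k K) {Q : Place k K'}
    [Algebra.IsSeparable k (IsLocalRing.ResidueField Q.O)] {σ : K' ≃ₐ[K] K'} (hσ : σ ∈ inertiaG K Q) {t : K'}
    (ht : Q.1 t = exp (-1)) (j : ℕ) :
    (∀ x, Q.1 x ≤ 1 → Q.1 (σ x - x) ≤ exp (-(j : ℤ))) ↔ Q.1 (σ t - t) ≤ exp (-(j : ℤ)) := by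
  refine ⟨fun h => h t (by rw [ht, ← exp_zero, exp_le_exp]; omega), fun h x hx => ?_⟩
  have ht0 : t ≠ 0 := fun e => exp_ne_zero (by rw [← ht, e, map_zero])
  suffices hm : ∀ m ≤ j, ∃ s, Q.1 (σ s - s) ≤ exp (-(j : ℤ)) ∧ Q.1 (x - s) ≤ exp (-(m : ℤ)) by
    obtain ⟨s, hs, hxs⟩ := hm j le_rfl
    rw [show σ x - x = (σ s - s) + (σ (x - s) - (x - s)) by rw [map_sub]; ring]
    refine (Q.1.map_add _ _).trans (max_le hs ((Q.1.map_sub _ _).trans (max_le ?_ hxs)))
    rw [val_inertia_eq hσ]; exact hxs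
  intro m
  induction m with
  | zero => intro _; exact ⟨0, by simp, by simpa using hx⟩
  | succ m ih =>
    intro hm
    obtain ⟨s, hs, hxs⟩ := ih (by omega)
    have hu : Q.1 ((x - s) / t ^ m) ≤ 1 := by
      rw [map_div₀, map_pow, ht, ← exp_nsmul, div_le_one₀ exp_pos]
      simpa using hxs
    obtain ⟨b, hb, hfix, hub⟩ := exists_fixed_residue hK Q hu
    refine ⟨s + b * t ^ m, ?_, ?_⟩
    · rw [show σ (s + b * t ^ m) - (s + b * t ^ m) = (σ s - s) + b * (σ t ^ m - t ^ m) by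
        rw [map_add, map_mul, hfix σ hσ, map_pow]; ring]
      refine (Q.1.map_add _ _).trans (max_le hs ?_)
      rcases Nat.eq_zero_or_pos m with rfl | hm0
      · simp
      rw [map_mul]
      refine (mul_le_mul' hb (val_pow_sub_pow_le (by rw [val_inertia_eq hσ, ht]) ht.le h m hm0)).trans ?_
      rw [one_mul, exp_le_exp]; omega
    · rw [show x - (s + b * t ^ m) = ((x - s) / t ^ m - b) * t ^ m by field_simp; ring, map_mul, map_pow, ht]
      refine (mul_le_mul' (show Q.1 ((x - s) / t ^ m - b) ≤ exp (-1) by simpa using pow_le_exp_neg hub 1) le_rfl).trans ?_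
      rw [← exp_nsmul, ← exp_add, exp_le_exp, nsmul_eq_mul]; push_cast; omega

theorem mem_inertia_of_le {σ : K' ≃ₐ[K] K'} {Q : Place k K'} {i : ℕ} (hi : 1 ≤ i)
    (h : ∀ x, Q.1 x ≤ 1 → Q.1 (σ x - x) ≤ exp (-(i : ℤ))) : σ ∈ inertiaG K Q := fun x hx =>
  (h x hx).trans_lt (by rw [← exp_zero, exp_lt_exp]; omega)

theorem inertia_mul {σ τ : K' ≃ₐ[K] K'} {Q : Place k K'} (hσ : σ ∈ inertiaG K Q) (hτ : τ ∈ inertiaG K Q) :
    σ * τ ∈ inertiaG K Q := fun x hx => by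
  rw [show (σ * τ) x - x = (σ (τ x) - τ x) + (τ x - x) by rw [AlgEquiv.mul_apply]; ring]
  exact (Q.1.map_add _ _).trans_lt (max_lt (hσ _ (by rw [val_inertia_eq hτ]; exact hx)) (hτ x hx))

theorem inertia_inv {σ : K' ≃ₐ[K] K'} {Q : Place k K'} (hσ : σ ∈ inertiaG K Q) : σ⁻¹ ∈ inertiaG K Q := fun x hx => by
  have hv : Q.1 (σ⁻¹ x) = Q.1 x := by
    conv_rhs => rw [show x = σ (σ⁻¹ x) from (σ.apply_symm_apply x).symm, val_inertia_eq hσ]
  rw [show σ⁻¹ x - x = -(σ (σ⁻¹ x) - σ⁻¹ x) by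
    rw [show σ (σ⁻¹ x) = x from σ.apply_symm_apply x]; ring, Valuation.map_neg]
  exact hσ _ (hv ▸ hx)

theorem inertia_one (Q : Place k K') : (1 : K' ≃ₐ[K] K') ∈ inertiaG K Q := fun x _ => by simp

theorem inertia_pow {σ : K' ≃ₐ[K] K'} {Q : Place k K'} (hσ : σ ∈ inertiaG K Q) (n : ℕ) : σ ^ n ∈ inertiaG K Q := by
  induction n with
  | zero => exact inertia_one Q
  | succ n ih => rw [pow_succ]; exact inertia_mul ih hσ

theorem near_fix {σ : K' ≃ₐ[K] K'} {Q : Place k K'} {t : K'} (ht : Q.1 t = exp (-1))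
    (h2 : ∀ x, Q.1 x ≤ 1 → Q.1 (σ x - x) ≤ exp (-2)) {i : ℕ} {b : K'} (hb : Q.1 b ≤ exp (-(i : ℤ))) :
    Q.1 (σ b - b) ≤ exp (-((i : ℤ) + 1)) := by
  have ht0 : t ≠ 0 := fun e => exp_ne_zero (by rw [← ht, e, map_zero])
  have hI : σ ∈ inertiaG K Q := mem_inertia_of_le (i := 2) (by omega) (by simpa using h2)
  set u := b / t ^ i with hu
  have hu1 : Q.1 u ≤ 1 := by
    rw [hu, map_div₀, map_pow, ht, ← exp_nsmul, div_le_one₀ exp_pos]; simpa using hb
  have e : b = u * t ^ i := by rw [hu]; field_simp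
  rw [e, show σ (u * t ^ i) - u * t ^ i = (σ u - u) * σ t ^ i + u * (σ t ^ i - t ^ i) by
    rw [map_mul, map_pow]; ring]
  refine (Q.1.map_add _ _).trans (max_le ?_ ?_)
  · rw [map_mul, map_pow, val_inertia_eq hI, ht]
    refine (mul_le_mul' (h2 u hu1) le_rfl).trans ?_
    rw [← exp_nsmul, ← exp_add, exp_le_exp, nsmul_eq_mul]; omega
  · rcases Nat.eq_zero_or_pos i with hi0 | hi0
    · subst hi0; simp
    rw [map_mul]
    refine (mul_le_mul' hu1 (val_pow_sub_pow_le (j := 2) (by rw [val_inertia_eq hI, ht]) ht.le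
      (h2 t (by rw [ht, ← exp_zero, exp_le_exp]; omega)) i hi0)).trans ?_
    rw [one_mul, exp_le_exp]; omega

/-- The ramification quotients above the first are elementary. -/
theorem quotient_elementary [IsGalois K K'] (hK : IsFF' k K) {Q : Place k K'}
    [Algebra.IsSeparable k (IsLocalRing.ResidueField Q.O)] {i : ℕ} (hi : 2 ≤ i) (σ τ : K' ≃ₐ[K] K')
    (hσ : ∀ x : K', Q.1 x ≤ 1 → Q.1 (σ x - x) ≤ exp (-(i : ℤ)))
    (hτ : ∀ x : K', Q.1 x ≤ 1 → Q.1 (τ x - x) ≤ exp (-(i : ℤ))) :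
    (∀ x : K', Q.1 x ≤ 1 → Q.1 ((σ * τ * σ⁻¹ * τ⁻¹) x - x) ≤ exp (-((i + 1) : ℤ))) ∧
    (ringChar K = 0 → ∀ x : K', Q.1 x ≤ 1 → Q.1 (σ x - x) ≤ exp (-((i + 1) : ℤ))) ∧
    ∀ p : ℕ, p.Prime → ringChar K = p → ∀ x : K', Q.1 x ≤ 1 → Q.1 ((σ ^ p) x - x) ≤ exp (-((i + 1) : ℤ)) := by
  obtain ⟨t, ht0, ht⟩ := exists_uniformizer Q
  have ht1 : Q.1 t ≤ 1 := by rw [ht, ← exp_zero, exp_le_exp]; omega
  have hσI := mem_inertia_of_le (by omega) hσ
  have hτI := mem_inertia_of_le (by omega) hτ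
  have h2σ : ∀ x, Q.1 x ≤ 1 → Q.1 (σ x - x) ≤ exp (-2) := fun x hx => (hσ x hx).trans (exp_le_exp.mpr (by omega))
  have h2τ : ∀ x, Q.1 x ≤ 1 → Q.1 (τ x - x) ≤ exp (-2) := fun x hx => (hτ x hx).trans (exp_le_exp.mpr (by omega))
  have hup : ∀ ρ : K' ≃ₐ[K] K', ρ ∈ inertiaG K Q → Q.1 (ρ t - t) ≤ exp (-((i + 1 : ℕ) : ℤ)) →
      ∀ x, Q.1 x ≤ 1 → Q.1 (ρ x - x) ≤ exp (-((i + 1) : ℤ)) := fun ρ hρ h x hx => by
    have := (sub_le_iff_uniformizer hK hρ ht (i + 1)).mpr h x hx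
    exact_mod_cast this
  set a := σ t - t with ha
  set b := τ t - t with hb
  have haI : Q.1 a ≤ exp (-(i : ℤ)) := hσ t ht1
  have hbI : Q.1 b ≤ exp (-(i : ℤ)) := hτ t ht1
  have hpow : ∀ m : ℕ, Q.1 ((σ ^ m) t - t - (m : K') * a) ≤ exp (-((i + 1 : ℕ) : ℤ)) := by
    intro m
    induction m with
    | zero => simp
    | succ m ih =>
      have e : (σ ^ (m + 1)) t - t - ((m + 1 : ℕ) : K') * a =
          (σ ((σ ^ m) t - t) - ((σ ^ m) t - t)) + ((σ ^ m) t - t - (m : K') * a) := by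
        rw [pow_succ', AlgEquiv.mul_apply, map_sub, ha]; push_cast; ring
      rw [e]
      refine (Q.1.map_add _ _).trans (max_le ?_ ih)
      have hle : Q.1 ((σ ^ m) t - t) ≤ exp (-(i : ℤ)) := by
        rw [← sub_add_cancel ((σ ^ m) t - t) ((m : K') * a)]
        refine (Q.1.map_add _ _).trans (max_le (ih.trans (exp_le_exp.mpr (by omega))) ?_)
        rw [map_mul]
        refine (mul_le_mul' (?_ : Q.1 (m : K') ≤ 1) haI).trans_eq (one_mul _)
        have := Q.2.1 (m : k)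
        rwa [map_natCast] at this
      exact (near_fix ht h2σ hle).trans (exp_le_exp.mpr (by push_cast; omega))
  refine ⟨?_, ?_, ?_⟩
  · refine hup _ (inertia_mul (inertia_mul (inertia_mul hσI hτI) (inertia_inv hσI)) (inertia_inv hτI)) ?_
    set ρ := σ * τ * σ⁻¹ * τ⁻¹
    have hρI : ρ ∈ inertiaG K Q := inertia_mul (inertia_mul (inertia_mul hσI hτI) (inertia_inv hσI)) (inertia_inv hτI)
    have hts : Q.1 ((τ * σ) t) = exp (-1) := by rw [val_inertia_eq (inertia_mul hτI hσI), ht]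
    have key : Q.1 (ρ ((τ * σ) t) - (τ * σ) t) ≤ exp (-((i + 1 : ℕ) : ℤ)) := by
      have e : ρ ((τ * σ) t) - (τ * σ) t = (σ b - b) - (τ a - a) := by
        have : ρ * (τ * σ) = σ * τ := by simp [ρ, mul_assoc]
        rw [← AlgEquiv.mul_apply, this, AlgEquiv.mul_apply, AlgEquiv.mul_apply, ha, hb, map_sub, map_sub]
        ring
      rw [e]
      refine (Q.1.map_sub _ _).trans (max_le ?_ ?_)
      · exact (near_fix ht h2σ hbI).trans (exp_le_exp.mpr (by push_cast; omega))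
      · exact (near_fix ht h2τ haI).trans (exp_le_exp.mpr (by push_cast; omega))
    exact (sub_le_iff_uniformizer hK hρI hts (i + 1)).mpr key t ht1
  · intro hchar
    refine hup σ hσI ?_
    obtain ⟨m, hm, hσm⟩ := (isOfFinOrder_of_finite σ).exists_pow_eq_one
    have h := hpow m
    rw [hσm, AlgEquiv.one_apply, sub_self, zero_sub, Valuation.map_neg, map_mul] at h
    have : CharZero K := (CharP.ringChar_zero_iff_CharZero K).mp hchar
    have hm1 : Q.1 (m : K') = 1 := by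
      have hk : (m : k) ≠ 0 := fun e => by
        have h0 : ((m : ℕ) : K) = 0 := by rw [← map_natCast (algebraMap k K), e, map_zero]
        exact hm.ne' (Nat.cast_eq_zero.mp h0)
      have := val_algebraMap Q hk
      rwa [map_natCast] at this
    rwa [hm1, one_mul] at h
  · intro p hp hchar
    refine hup _ (inertia_pow hσI p) ?_
    have h := hpow p
    have hp0 : (p : K') = 0 := by
      have : CharP K p := ringChar.eq_iff.mp hchar
      rw [← map_natCast (algebraMap K K'), CharP.cast_eq_zero, map_zero]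
    rwa [hp0, zero_mul, sub_zero] at h

/-- The tame quotient is cyclic. -/
theorem tame_quotient_cyclic [IsGalois K K'] (hK : IsFF' k K) (Q : Place k K')
    [Algebra.IsSeparable k (IsLocalRing.ResidueField Q.O)] :
    ∃ σ₀ ∈ inertiaG K Q, ∀ σ ∈ inertiaG K Q, ∃ n : ℕ,
      ∀ x : K', Q.1 x ≤ 1 → Q.1 (((σ₀ ^ n)⁻¹ * σ) x - x) ≤ exp (-(2 : ℤ)) := by
  obtain ⟨t, ht0, ht⟩ := exists_uniformizer Q
  let G : Subgroup (K' ≃ₐ[K] K') :=
    { carrier := inertiaG K Q
      mul_mem' := inertia_mul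
      one_mem' := inertia_one Q
      inv_mem' := inertia_inv }
  have hv : ∀ σ : G, σ.1 t / t ∈ Q.O := fun σ => (mem_O Q).mpr (by
    rw [map_div₀, val_inertia_eq σ.2, div_self (by rw [ht]; exact exp_ne_zero)])
  let θ : G →* IsLocalRing.ResidueField Q.O :=
    { toFun := fun σ => IsLocalRing.residue Q.O ⟨σ.1 t / t, hv σ⟩
      map_one' := by
        refine (congrArg _ (Subtype.ext ?_)).trans (map_one (IsLocalRing.residue Q.O))
        exact div_self ht0
      map_mul' := fun σ τ => by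
        rw [← map_mul, ← sub_eq_zero, ← map_sub]
        refine (residue_eq_zero_iff Q).mpr ?_
        change Q.1 ((σ.1 * τ.1) t / t - σ.1 t / t * (τ.1 t / t)) < 1
        have e : (σ.1 * τ.1) t / t = σ.1 (τ.1 t / t) * (σ.1 t / t) := by
          have hne : σ.1 t ≠ 0 := (map_ne_zero σ.1).mpr ht0
          rw [map_div₀, AlgEquiv.mul_apply]; field_simp
        rw [e, show σ.1 (τ.1 t / t) * (σ.1 t / t) - σ.1 t / t * (τ.1 t / t) =
          (σ.1 (τ.1 t / t) - τ.1 t / t) * (σ.1 t / t) by ring, map_mul]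
        exact lt_of_le_of_lt (mul_le_of_le_one_right' ((mem_O Q).mp (hv σ))) (σ.2 _ ((mem_O Q).mp (hv τ))) }
  let θu := θ.toHomUnits
  have : Finite θu.range := Finite.of_surjective θu.rangeRestrict θu.rangeRestrict_surjective
  obtain ⟨⟨g, σ₀, rfl⟩, hg⟩ := IsCyclic.exists_generator (α := θu.range)
  refine ⟨σ₀.1, σ₀.2, fun σ hσ => ?_⟩
  obtain ⟨n, hn⟩ : ∃ n : ℕ, θu σ₀ ^ n = θu ⟨σ, hσ⟩ := by
    obtain ⟨n, hn⟩ := (mem_powers_iff_mem_zpowers).mpr (hg ⟨θu ⟨σ, hσ⟩, ⟨σ, hσ⟩, rfl⟩)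
    exact ⟨n, by simpa using congrArg Subtype.val hn⟩
  refine ⟨n, ?_⟩
  set ρ : G := (σ₀ ^ n)⁻¹ * ⟨σ, hσ⟩ with hρ
  have hρ' : θu ρ = 1 := by rw [hρ, map_mul, map_inv, map_pow, hn, inv_mul_cancel]
  have h1 : θ ρ = 1 := by simpa [θu] using congrArg Units.val hρ'
  have h2 : Q.1 (ρ.1 t / t - 1) < 1 := (residue_eq_zero_iff Q).mp
    (show IsLocalRing.residue Q.O (⟨ρ.1 t / t, hv ρ⟩ - 1) = 0 by rw [map_sub, map_one, sub_eq_zero]; exact h1)
  have h3 : Q.1 (ρ.1 t - t) ≤ exp (-((2 : ℕ) : ℤ)) := by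
    rw [show ρ.1 t - t = (ρ.1 t / t - 1) * t by field_simp, map_mul, ht]
    refine (mul_le_mul' (show Q.1 (ρ.1 t / t - 1) ≤ exp (-1) by simpa using pow_le_exp_neg h2 1) le_rfl).trans ?_
    rw [← exp_add, exp_le_exp]; omega
  intro x hx
  exact (sub_le_iff_uniformizer hK ρ.2 ht 2).mpr h3 x hx

end Groth.Agent.FF
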