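import Groth.Agent.FF.Integral
import Mathlib.RingTheory.Norm.Basic

/-! Orders of norms. -/

open FunFld WithZero Module
open scoped Classical

namespace Groth.Agent.FF

variable {k K K' : Type*} [Field k] [Field K] [Field K'] [Algebra k K] [Algebra K K'] [Algebra k K']
  [IsScalarTower k K K'] [FiniteDimensional K K']

omit [Algebra K K'] [IsScalarTower k K K'] [FiniteDimensional K K'] in
theorem exists_ord_indicator [Algebra K K'] (T : Finset (Place k K')) {Q : Place k K'} (hQ : Q ∈ T) :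
    ∃ π : K', π ≠ 0 ∧ Q.ord π = 1 ∧ ∀ R ∈ T, R ≠ Q → R.ord π = 0 := by
  obtain ⟨t, ht0, ht⟩ := exists_uniformizer Q
  obtain ⟨π, hπ⟩ := exists_approx T (fun R => if R = Q then t else 1) (fun _ => -2)
  have hQ1 : Q.1 π = exp (-1) := by
    have h := hπ Q hQ
    rw [if_pos rfl] at h
    rw [← sub_add_cancel π t, Valuation.map_add_eq_of_lt_right _ (h.trans_lt (by rw [ht, exp_lt_exp]; omega)), ht]
  refine ⟨π, fun e => exp_ne_zero (by rw [← hQ1, e, map_zero]), ord_eq_of_val Q hQ1, fun R hR hne => ?_⟩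
  have h := hπ R hR
  rw [if_neg hne] at h
  have h2 : R.1 π = 1 := by
    rw [← sub_add_cancel π 1, Valuation.map_add_eq_of_lt_right _ (h.trans_lt (by rw [map_one, ← exp_zero, exp_lt_exp]; omega)), map_one]
  exact ord_eq_of_val R (by rw [h2]; simp)

theorem ord_prod_zpow {L : Type*} [Field L] [Algebra k L] (P : Place k L) {ι : Type*} (s : Finset ι) (g : ι → L)
    (hg : ∀ i ∈ s, g i ≠ 0) (m : ι → ℤ) : P.ord (∏ i ∈ s, g i ^ m i) = ∑ i ∈ s, m i * P.ord (g i) := by
  have hval : P.1 (∏ i ∈ s, g i ^ m i) = exp (-∑ i ∈ s, m i * P.ord (g i)) := by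
    induction s using Finset.induction with
    | empty => simp
    | insert a s ha ih =>
      rw [Finset.prod_insert ha, Finset.sum_insert ha, map_mul, ih (fun i hi => hg i (Finset.mem_insert_of_mem hi)),
        map_zpow₀, val_eq_exp_neg_ord P (hg a (Finset.mem_insert_self a s)), ← exp_zsmul, ← exp_add, exp_inj,
        smul_eq_mul]
      ring
  exact ord_eq_of_val P hval

/-- The norm formula: `deg P · ord_P N(x) = ∑ deg Q · ord_Q x`. -/
theorem deg_mul_ord_norm (hK : IsFF' k K) (P : Place k K) (x : K') (T : Finset (Place k K'))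
    (hT : ∀ Q, Q ∈ T ↔ IsOver Q P) :
    (P.deg : ℤ) * P.ord (Algebra.norm K x) = ∑ Q ∈ T, (Q.deg : ℤ) * Q.ord x := by
  obtain ⟨ι, _, ω, hω, hrepr, hrow⟩ := exists_adapted_basis (K' := K') hK P
  have hN0 : ∀ z : K', z ≠ 0 → Algebra.norm K z ≠ 0 := fun z hz => Algebra.norm_ne_zero_iff.mpr hz
  -- integral elements have integral norm
  have hint : ∀ z : K', (∀ Q ∈ T, Q.1 z ≤ 1) → ∀ i j, P.1 (Algebra.leftMulMatrix ω z i j) ≤ 1 := by
    intro z hz i j
    rw [Algebra.leftMulMatrix_eq_repr_mul]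
    exact hrepr _ (fun Q hQ => by rw [map_mul]; exact mul_le_one' (hz Q ((hT Q).mpr hQ)) (hω j Q hQ)) i
  have hNle : ∀ z : K', (∀ Q ∈ T, Q.1 z ≤ 1) → P.1 (Algebra.norm K z) ≤ 1 := fun z hz => by
    rw [Algebra.norm_eq_matrix_det ω]
    exact (det_val_le P _ (hint z hz) ∅ (by simp)).trans_eq (by simp)
  have hNunit : ∀ z : K', z ≠ 0 → (∀ Q ∈ T, Q.ord z = 0) → P.ord (Algebra.norm K z) = 0 := fun z hz0 hz => by
    have h1 := hNle z fun Q hQ => (val_le_one_iff Q hz0).mpr (hz Q hQ).ge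
    have h2 := hNle z⁻¹ fun Q hQ => (val_le_one_iff Q (inv_ne_zero hz0)).mpr (by rw [ord_inv, hz Q hQ]; simp)
    rw [Algebra.norm_inv] at h2
    have a := (val_le_one_iff P (hN0 z hz0)).mp h1
    have b := (val_le_one_iff P (inv_ne_zero (hN0 z hz0))).mp h2
    rw [ord_inv] at b
    omega
  choose π hπ0 hπQ hπR using fun Q : T => exists_ord_indicator (K := K) T Q.2
  have hπord : ∀ R : T, ∀ Q : T, R.1.ord (π Q) = if R = Q then 1 else 0 := fun R Q => by
    split_ifs with h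
    · rw [h]; exact hπQ Q
    · exact hπR Q R R.2 fun e => h (Subtype.ext e)
  set a : T → ℤ := fun Q => P.ord (Algebra.norm K (π Q))
  have ha : ∀ Q : T, (Q.1.deg : ℤ) ≤ (P.deg : ℤ) * a Q := fun Q => by
    obtain ⟨S, hS, hSrow⟩ := hrow Q.1 ((hT _).mp Q.2)
    have hz : ∀ R ∈ T, R.1 (π Q) ≤ 1 := fun R hR => (val_le_one_iff R (hπ0 Q)).mpr (by
      rw [hπord ⟨R, hR⟩ Q]; split_ifs <;> omega)
    have h := det_val_le P _ (hint (π Q) hz) S (fun i hi j => by
      rw [Algebra.leftMulMatrix_eq_repr_mul]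
      refine (pow_le_exp_neg (r := 1) ?_).trans' (by rw [pow_one])
      refine hSrow _ (fun R hR => by
        rw [map_mul]; exact mul_le_one' (hz R ((hT R).mpr hR)) (hω j R hR)) ?_ i hi
      rw [map_mul]
      refine lt_of_le_of_lt (mul_le_of_le_one_right' (hω j Q.1 ((hT _).mp Q.2))) ?_
      exact (val_lt_one_iff Q.1 (hπ0 Q)).mpr (by rw [hπQ]; omega))
    rw [← Algebra.norm_eq_matrix_det ω, val_eq_exp_neg_ord P (hN0 _ (hπ0 Q)), exp_le_exp] at h
    rw [← hS]
    push_cast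
    rw [mul_comm]
    exact mul_le_mul_of_nonneg_left (by simpa [a] using h) (by positivity)
  have hgen : ∀ z : K', z ≠ 0 → P.ord (Algebra.norm K z) = ∑ Q : T, Q.1.ord z * a Q := by
    intro z hz
    set m : T → ℤ := fun Q => Q.1.ord z
    set p := ∏ Q : T, π Q ^ m Q
    have hp0 : p ≠ 0 := Finset.prod_ne_zero_iff.mpr fun Q _ => zpow_ne_zero _ (hπ0 Q)
    have hu := hNunit (z / p) (div_ne_zero hz hp0) fun R hR => by
      rw [div_eq_mul_inv, ord_mul R hz (inv_ne_zero hp0), ord_inv, ord_prod_zpow R _ _ fun Q _ => hπ0 Q]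
      simp only [hπord ⟨R, hR⟩, mul_ite, mul_one, mul_zero, Finset.sum_ite_eq, Finset.mem_univ, if_true, m]
      ring
    rw [div_eq_mul_inv, map_mul, ord_mul P (hN0 z hz) (hN0 _ (inv_ne_zero hp0)), Algebra.norm_inv, ord_inv] at hu
    rw [show P.ord (Algebra.norm K z) = P.ord (Algebra.norm K p) by omega, map_prod,
      Finset.prod_congr rfl fun Q _ => Algebra.norm_zpow (π Q) (m Q), ord_prod_zpow P _ _ fun Q _ => hN0 _ (hπ0 Q)]
  obtain ⟨t, ht0, ht⟩ := exists_uniformizer P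
  have hsum : ∑ Q : T, (Q.1.deg : ℤ) * ramIdx Q.1 P = finrank K K' * P.deg := by
    have h := sum_ramIdx_mul_deg (K' := K') hK P T hT
    rw [← Finset.sum_coe_sort T] at h
    have h' := congrArg (Nat.cast : ℕ → ℤ) h
    push_cast at h'
    rw [← h']
    exact Finset.sum_congr rfl fun Q _ => mul_comm _ _
  have heq : ∀ Q : T, (P.deg : ℤ) * a Q = Q.1.deg := by
    have h1 := hgen (algebraMap K K' t) ((map_ne_zero _).mpr ht0)
    rw [Algebra.norm_algebraMap] at h1
    have hpow : P.ord (t ^ finrank K K') = (finrank K K' : ℤ) := by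
      refine ord_eq_of_val P ?_
      rw [map_pow, ht, ← exp_nsmul]; congr 1; simp
    rw [hpow] at h1
    have h2 : ∀ Q : T, Q.1.ord (algebraMap K K' t) = ramIdx Q.1 P := fun Q => by
      rw [ow_ord_eq (isOverWith_ramIdx ((hT _).mp Q.2)), ord_eq_of_val P ht, mul_one]
    simp only [h2] at h1
    have h3 : ∑ Q : T, (ramIdx Q.1 P : ℤ) * ((P.deg : ℤ) * a Q - Q.1.deg) = 0 := by
      have e : ∑ Q : T, (ramIdx Q.1 P : ℤ) * ((P.deg : ℤ) * a Q) = (P.deg : ℤ) * finrank K K' := by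
        rw [h1, Finset.mul_sum]
        exact Finset.sum_congr rfl fun Q _ => by ring
      simp only [mul_sub, Finset.sum_sub_distrib, e]
      rw [mul_comm (P.deg : ℤ), ← hsum, sub_eq_zero]
      exact Finset.sum_congr rfl fun Q _ => mul_comm _ _
    intro Q
    have h4 := (Finset.sum_eq_zero_iff_of_nonneg fun Q _ => mul_nonneg (by positivity) (sub_nonneg.mpr (ha Q))).mp h3 Q (Finset.mem_univ Q)
    have h5 : 0 < ramIdx Q.1 P := ramIdx_pos ((hT _).mp Q.2)
    rcases mul_eq_zero.mp h4 with h | h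
    · omega
    · omega
  rcases eq_or_ne x 0 with rfl | hx
  · simp [Algebra.norm_zero]
  rw [hgen x hx, Finset.mul_sum, ← Finset.sum_coe_sort T]
  exact Finset.sum_congr rfl fun Q _ => by rw [← heq Q]; ring

end Groth.Agent.FF
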