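import Mathlib.LinearAlgebra.FiniteDimensional.Lemmas
import Mathlib.LinearAlgebra.Dimension.Constructions
import Mathlib.LinearAlgebra.Isomorphisms
import Mathlib.LinearAlgebra.Basis.VectorSpace

/-! Subspaces of finite codimension in one another. -/

namespace Groth.Agent.FF

open Module Submodule LinearMap

variable {k : Type*} [Field k] {V W : Type*} [AddCommGroup V] [Module k V] [AddCommGroup W] [Module k W]

/-- `A ≤ B` and `B / A` has dimension `d`. -/
def HasRelDim (A B : Submodule k V) (d : ℕ) : Prop :=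
  A ≤ B ∧ ∃ φ : B →ₗ[k] (Fin d → k), Function.Surjective φ ∧ ∀ b : B, φ b = 0 ↔ (b : V) ∈ A

namespace HasRelDim

variable {A B C : Submodule k V} {d e : ℕ}

theorem ker_eq {φ : B →ₗ[k] (Fin d → k)} (h : ∀ b : B, φ b = 0 ↔ (b : V) ∈ A) :
    ker φ = A.comap B.subtype := by
  ext b; simpa using h b

theorem quotient (h : HasRelDim A B d) :
    FiniteDimensional k (B ⧸ A.comap B.subtype) ∧ finrank k (B ⧸ A.comap B.subtype) = d := by
  obtain ⟨-, φ, hφ, hker⟩ := h
  have e := (Submodule.quotEquivOfEq _ _ (ker_eq hker).symm).trans (φ.quotKerEquivOfSurjective hφ)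
  exact ⟨e.symm.finiteDimensional, by rw [e.finrank_eq, finrank_fin_fun]⟩

theorem of_quotient (hAB : A ≤ B) [FiniteDimensional k (B ⧸ A.comap B.subtype)]
    (hd : finrank k (B ⧸ A.comap B.subtype) = d) : HasRelDim A B d := by
  obtain ⟨e⟩ := FiniteDimensional.nonempty_linearEquiv_of_finrank_eq
    (hd.trans (finrank_fin_fun k).symm)
  refine ⟨hAB, e.toLinearMap ∘ₗ mkQ _, e.surjective.comp (mkQ_surjective _), fun b => ?_⟩
  simp

theorem of_map {U : Type*} [AddCommGroup U] [Module k U] [FiniteDimensional k U]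
    (hAB : A ≤ B) (φ : B →ₗ[k] U) (hs : Function.Surjective φ)
    (hker : ∀ b : B, φ b = 0 ↔ (b : V) ∈ A) : HasRelDim A B (finrank k U) := by
  let e := (Module.finBasis k U).equivFun
  exact ⟨hAB, e.toLinearMap ∘ₗ φ, e.surjective.comp hs, fun b => by simp [hker]⟩

theorem refl (A : Submodule k V) : HasRelDim A A 0 :=
  ⟨le_rfl, 0, fun x => ⟨0, Subsingleton.elim _ _⟩, fun b => by simp⟩

theorem unique (h : HasRelDim A B d) (h' : HasRelDim A B e) : d = e :=
  h.quotient.2.symm.trans h'.quotient.2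

theorem trans (h₁ : HasRelDim A B d) (h₂ : HasRelDim B C e) : HasRelDim A C (d + e) := by
  obtain ⟨hAB, φ, hφ, hφk⟩ := h₁
  obtain ⟨hBC, ψ, hψ, hψk⟩ := h₂
  obtain ⟨φ', hφ'⟩ := LinearMap.exists_extend φ
  have happ : ∀ b : B, φ' (b : V) = φ b := fun b => LinearMap.congr_fun hφ' b
  have := of_map (U := (Fin d → k) × (Fin e → k)) (hAB.trans hBC)
    ((φ' ∘ₗ C.subtype).prod ψ) ?_ ?_
  · simpa using this
  · rintro ⟨a, b⟩
    obtain ⟨c, hc⟩ := hψ b
    obtain ⟨b', hb'⟩ := hφ (a - φ' (c : V))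
    refine ⟨c + ⟨b', hBC b'.2⟩, Prod.ext ?_ ?_⟩
    · simp [happ, hb']
    · simp [hc, (hψk ⟨b', hBC b'.2⟩).mpr b'.2]
  · intro c
    constructor
    · intro h
      have h2 := congrArg Prod.snd h
      have hcB : (c : V) ∈ B := (hψk c).mp (by simpa using h2)
      have h1 := congrArg Prod.fst h
      exact (hφk ⟨c, hcB⟩).mp (by rw [← happ ⟨c, hcB⟩]; simpa using h1)
    · intro h
      exact Prod.ext (by simpa [(hφk ⟨c, hAB h⟩).mpr h] using happ ⟨c, hAB h⟩)
        (by simpa using (hψk c).mpr (hAB h))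

theorem inf_comap (h : HasRelDim A B d) (f : W →ₗ[k] V) :
    ∃ e ≤ d, HasRelDim (A.comap f) (B.comap f) e := by
  obtain ⟨hAB, φ, -, hφk⟩ := h
  let χ : B.comap f →ₗ[k] (Fin d → k) :=
    φ ∘ₗ (f.restrict (p := B.comap f) (q := B) fun x hx => hx)
  refine ⟨finrank k (range χ), (Submodule.finrank_le _).trans_eq (finrank_fin_fun k),
    of_map (Submodule.comap_mono hAB) χ.rangeRestrict χ.surjective_rangeRestrict fun b => ?_⟩
  rw [← Subtype.coe_inj, ZeroMemClass.coe_zero]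
  exact hφk _

theorem inf_right (h : HasRelDim A B d) (R : Submodule k V) :
    ∃ e ≤ d, HasRelDim (A ⊓ R) (B ⊓ R) e := by
  obtain ⟨hAB, φ, -, hφk⟩ := h
  let χ : (B ⊓ R : Submodule k V) →ₗ[k] (Fin d → k) := φ ∘ₗ Submodule.inclusion inf_le_left
  refine ⟨finrank k (range χ), (Submodule.finrank_le _).trans_eq (finrank_fin_fun k),
    of_map (inf_le_inf_right R hAB) χ.rangeRestrict χ.surjective_rangeRestrict fun b => ?_⟩
  rw [← Subtype.coe_inj, ZeroMemClass.coe_zero]
  exact (hφk _).trans ⟨fun h => ⟨h, b.2.2⟩, fun h => h.1⟩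

theorem sup_right (h : HasRelDim A B d) (R : Submodule k V) {e : ℕ}
    (he : HasRelDim (A ⊓ R) (B ⊓ R) e) : ∃ f, f + e = d ∧ HasRelDim (A ⊔ R) (B ⊔ R) f := by
  obtain ⟨hAB, φ, hφ, hφk⟩ := h
  let χ : (B ⊓ R : Submodule k V) →ₗ[k] (Fin d → k) := φ ∘ₗ Submodule.inclusion inf_le_left
  have hχe : finrank k (range χ) = e := by
    refine (of_map (inf_le_inf_right R hAB) χ.rangeRestrict χ.surjective_rangeRestrict
      fun b => ?_).unique he
    rw [← Subtype.coe_inj, ZeroMemClass.coe_zero]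
    exact (hφk _).trans ⟨fun h => ⟨h, b.2.2⟩, fun h => h.1⟩
  let S : Submodule k (B ⊔ R : Submodule k V) := (A ⊔ R).comap (B ⊔ R).subtype
  obtain ⟨s, hs⟩ := φ.exists_rightInverse_of_surjective (LinearMap.range_eq_top.mpr hφ)
  let α : B →ₗ[k] (B ⊔ R : Submodule k V) ⧸ S := S.mkQ ∘ₗ Submodule.inclusion le_sup_left
  let β : (Fin d → k) →ₗ[k] (B ⊔ R : Submodule k V) ⧸ S := α ∘ₗ s
  have hα : Function.Surjective α := by
    intro q
    obtain ⟨⟨v, hv⟩, rfl⟩ := S.mkQ_surjective q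
    obtain ⟨b, hb, r, hr, rfl⟩ := Submodule.mem_sup.mp hv
    refine ⟨⟨b, hb⟩, (Submodule.Quotient.eq S).mpr ?_⟩
    change b - (b + r) ∈ A ⊔ R
    exact Submodule.mem_sup_right (by simpa using R.neg_mem hr)
  have hαk : ∀ b, φ b = 0 → α b = 0 := fun b hb =>
    (Submodule.Quotient.mk_eq_zero S).mpr (Submodule.mem_sup_left ((hφk b).mp hb))
  have hβα : ∀ b, β (φ b) = α b := fun b => by
    have := hαk (s (φ b) - b) (by rw [map_sub]; exact sub_eq_zero.mpr (LinearMap.congr_fun hs (φ b)))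
    rwa [map_sub, sub_eq_zero] at this
  have hβ : Function.Surjective β := fun q => by
    obtain ⟨b, rfl⟩ := hα q; exact ⟨φ b, hβα b⟩
  have hkβ : ker β = range χ := by
    apply le_antisymm
    · intro u hu
      obtain ⟨b, rfl⟩ := hφ u
      rw [LinearMap.mem_ker, hβα] at hu
      obtain ⟨a, ha, r, hr, har⟩ := Submodule.mem_sup.mp ((Submodule.Quotient.mk_eq_zero S).mp hu)
      have hrb : r = (b : V) - a := eq_sub_of_add_eq' har
      refine ⟨⟨r, ⟨by rw [hrb]; exact B.sub_mem b.2 (hAB ha), hr⟩⟩, ?_⟩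
      change φ ⟨r, _⟩ = φ b
      rw [← sub_eq_zero, ← map_sub, hφk]
      change r - (b : V) ∈ A
      simpa [hrb] using A.neg_mem ha
    · rintro _ ⟨⟨v, hvB, hvR⟩, rfl⟩
      rw [LinearMap.mem_ker]
      refine (hβα ⟨v, hvB⟩).trans ((Submodule.Quotient.mk_eq_zero S).mpr ?_)
      exact Submodule.mem_sup_right hvR
  have : FiniteDimensional k ((B ⊔ R : Submodule k V) ⧸ S) := Module.Finite.of_surjective β hβ
  refine ⟨finrank k ((B ⊔ R : Submodule k V) ⧸ S), ?_,
    of_quotient (sup_le_sup_right hAB R) rfl⟩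
  have := β.finrank_range_add_finrank_ker
  rw [LinearMap.range_eq_top.mpr hβ, finrank_top, hkβ, hχe, finrank_fin_fun] at this
  omega

theorem finiteDimensional_iff (h : HasRelDim A B d) :
    FiniteDimensional k A → FiniteDimensional k B ∧ finrank k B = finrank k A + d := by
  intro hA
  obtain ⟨hAB, φ, hφ, hker⟩ := h
  let e : ker φ ≃ₗ[k] A :=
    (LinearEquiv.ofEq _ _ (ker_eq hker)).trans (Submodule.comapSubtypeEquivOfLe hAB)
  have : FiniteDimensional k (ker φ) := e.symm.finiteDimensional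
  have hB : Module.Finite k B := by
    refine ⟨Submodule.fg_of_fg_map_of_fg_inf_ker φ ?_ ?_⟩
    · exact IsNoetherian.noetherian _
    · rw [top_inf_eq]; exact (Submodule.fg_top _).mp this.fg_top
  refine ⟨hB, ?_⟩
  have := φ.finrank_range_add_finrank_ker
  rw [LinearMap.range_eq_top.mpr hφ, finrank_top, finrank_fin_fun, e.finrank_eq] at this
  omega

end HasRelDim
end Groth.Agent.FF
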