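import Groth.Agent.FF.Basic
import Groth.Agent.FF.RelDim
import Mathlib.LinearAlgebra.Finsupp.LinearCombination
import Mathlib.Algebra.Polynomial.Basis
import Mathlib.RingTheory.AlgebraTower
import Mathlib.RingTheory.Ideal.Quotient.Basic
import Mathlib.Data.Finsupp.Order

/-! Residue fields, repartition layers, the degree of a principal divisor, finiteness of `L(D)`. -/

namespace Groth.Agent.FF

open WithZero FunFld IntermediateField Module
open scoped Classical

variable {k K : Type*} [Field k] [Field K] [Algebra k K]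

/-- The residue class of an element integral at `P`. -/
noncomputable def res (P : Place k K) : ↥(P.1.integer) →+* IsLocalRing.ResidueField P.O :=
  IsLocalRing.residue P.O

theorem algebraMap_res (P : Place k K) (c : k) :
    algebraMap k (IsLocalRing.ResidueField P.O) c =
      IsLocalRing.residue P.O ⟨algebraMap k K c, (mem_O P).mpr (P.2.1 c)⟩ := rfl

theorem smul_residue (P : Place k K) (c : k) (a : P.O) :
    c • IsLocalRing.residue P.O a = IsLocalRing.residue P.O ⟨c • (a : K), (mem_O P).mpr (by
      rw [Algebra.smul_def, map_mul]; exact mul_le_one' (P.2.1 c) ((mem_O P).mp a.2))⟩ := by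
  rw [Algebra.smul_def, algebraMap_res, ← map_mul]
  congr 1
  exact Subtype.ext (Algebra.smul_def _ _).symm

theorem finiteDimensional_residue (hK : IsFunctionField k K) (P : Place k K) :
    FiniteDimensional k (IsLocalRing.ResidueField P.O) := by
  obtain ⟨t, ht0, ht⟩ := exists_uniformizer P
  have htr : Transcendental k t := transcendental_of_not_mem hK fun ⟨c, hc⟩ => by
    rcases eq_or_ne c 0 with rfl | hc0
    · exact ht0 (by rw [← hc, map_zero])
    · rw [← hc, val_algebraMap P hc0, ← exp_zero, exp_inj] at ht; omega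
  have := finiteDimensional_adjoin hK htr
  let S : Submodule k K :=
    { carrier := {a | P.1 a ≤ 1}
      add_mem' := fun {a b} ha hb => (P.1.map_add a b).trans (max_le ha hb)
      zero_mem' := by simp
      smul_mem' := fun c a ha => by
        change P.1 (c • a) ≤ 1
        rw [Algebra.smul_def, map_mul]; exact mul_le_one' (P.2.1 c) ha }
  let b := Basis.ofVectorSpace k (IsLocalRing.ResidueField P.O)
  choose z hz using fun i => IsLocalRing.residue_surjective (R := P.O) (b i)
  have li := linearIndependent_adjoin_of_mod htr S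
    (fun s (hs : P.1 s ≤ 1) => (show P.1 (t * s) ≤ 1 by
      rw [map_mul]; exact mul_le_one' (by rw [ht, ← exp_zero, exp_le_exp]; omega) hs))
    (fun i => (z i : K)) (fun i => (mem_O P).mp (z i).2) fun s c ⟨a, ha, hsum⟩ => by
      refine linearIndependent_iff'.mp b.linearIndependent s c ?_
      refine (Finset.sum_congr rfl fun i (_ : i ∈ s) =>
        ((congrArg (c i • ·) (hz i).symm).trans (smul_residue P (c i) (z i)))).trans ?_
      refine (map_sum (IsLocalRing.residue P.O) _ _).symm.trans ((residue_eq_zero_iff P).mpr ?_)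
      change P.1 ((P.O.subtype) (∑ i ∈ s, _)) < 1
      rw [map_sum]
      change P.1 (∑ i ∈ s, c i • (z i : K)) < 1
      rw [hsum, map_mul]
      exact lt_of_le_of_lt (mul_le_of_le_one_right' ha) (by rw [ht, ← exp_zero, exp_lt_exp]; omega)
  have : Finite (Basis.ofVectorSpaceIndex k (IsLocalRing.ResidueField P.O)) := li.finite
  exact Module.Finite.of_basis b

theorem deg_pos (hK : IsFunctionField k K) (P : Place k K) : 0 < P.deg := by
  have := finiteDimensional_residue hK P
  exact Module.finrank_pos

theorem mem_AD {D : Divisor k K} {a : Place k K → K} :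
    a ∈ AD D ↔ ∀ P, P.1 (a P) ≤ exp (D P) := Iff.rfl

theorem mem_L {D : Divisor k K} {x : K} : x ∈ L D ↔ ∀ P : Place k K, P.1 x ≤ exp (D P) := Iff.rfl

theorem L_eq_comap (D : Divisor k K) : L D = (AD D).comap (diag k K) := rfl

theorem deg_add (D E : Divisor k K) : (D + E).deg = D.deg + E.deg :=
  Finsupp.sum_add_index' (fun _ => by simp) (fun _ _ _ => by ring)

@[simp] theorem deg_zero : (0 : Divisor k K).deg = 0 := Finsupp.sum_zero_index

@[simp] theorem deg_single (P : Place k K) (n : ℤ) :
    Divisor.deg (Finsupp.single P n) = n * P.deg := Finsupp.sum_single_index (by simp)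

theorem deg_neg (D : Divisor k K) : (-D).deg = -D.deg := by
  have := deg_add (-D) D; rw [neg_add_cancel, deg_zero] at this; omega

theorem deg_sub (D E : Divisor k K) : (D - E).deg = D.deg - E.deg := by
  rw [sub_eq_add_neg, deg_add, deg_neg]; ring

theorem deg_nonneg {D : Divisor k K} (h : 0 ≤ D) : 0 ≤ D.deg :=
  Finset.sum_nonneg fun P _ => mul_nonneg (h P) (Int.natCast_nonneg _)

theorem deg_mono {D E : Divisor k K} (h : D ≤ E) : D.deg ≤ E.deg := by
  have := deg_nonneg (sub_nonneg.mpr h : 0 ≤ E - D)
  rw [deg_sub] at this; omega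

theorem AD_mono {D E : Divisor k K} (h : D ≤ E) : AD D ≤ AD E :=
  fun _ ha P => (ha P).trans (exp_le_exp.mpr (h P))

theorem L_mono {D E : Divisor k K} (h : D ≤ E) : L D ≤ L E :=
  fun _ ha P => (ha P).trans (exp_le_exp.mpr (h P))

theorem hasRelDim_AD_single (hK : IsFunctionField k K) (D : Divisor k K) (P : Place k K) :
    HasRelDim (AD D) (AD (D + Finsupp.single P 1)) P.deg := by
  obtain ⟨t, ht0, ht⟩ := exists_uniformizer P
  set n := D P + 1 with hn
  have htn : P.1 (t ^ n) = exp (-n) := by
    rw [map_zpow₀, ht, ← exp_zsmul, smul_eq_mul]; congr 1; ring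
  have hle : ∀ x : K, P.1 x ≤ exp n → P.1 (x * t ^ n) ≤ 1 := fun x hx => by
    rw [map_mul, htn]
    refine (mul_le_mul_left hx _).trans_eq ?_
    rw [← exp_add, add_neg_cancel, exp_zero]
  have hlt : ∀ x : K, P.1 (x * t ^ n) < 1 ↔ P.1 x ≤ exp (D P) := fun x => by
    rcases eq_or_ne x 0 with rfl | hx
    · simp
    · rw [map_mul, htn, val_eq_exp_neg_ord P hx, ← exp_add, ← exp_zero, exp_lt_exp, exp_le_exp]
      omega
  have hmemP : ∀ a : ↥(AD (D + Finsupp.single P 1)), P.1 (a.1 P) ≤ exp n := fun a => by
    have := a.2 P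
    rwa [Finsupp.add_apply, Finsupp.single_eq_same] at this
  let φ : ↥(AD (D + Finsupp.single P 1)) →ₗ[k] IsLocalRing.ResidueField P.O :=
    { toFun := fun a => IsLocalRing.residue P.O ⟨a.1 P * t ^ n, (mem_O P).mpr (hle _ (hmemP a))⟩
      map_add' := fun a b => by
        rw [← map_add]; congr 1; exact Subtype.ext (add_mul _ _ _)
      map_smul' := fun c a => by
        refine Eq.trans (congrArg _ (Subtype.ext ?_)) (smul_residue P c _).symm
        exact smul_mul_assoc _ _ _ }
  have := finiteDimensional_residue hK P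
  refine HasRelDim.of_map (AD_mono (le_add_of_nonneg_right (Finsupp.single_nonneg.mpr zero_le_one))) φ
    (fun r => ?_) fun b => ?_
  · obtain ⟨⟨u, hu⟩, rfl⟩ := IsLocalRing.residue_surjective r
    refine ⟨⟨Function.update (0 : Place k K → K) P (u * (t ^ n)⁻¹), fun Q => ?_⟩, ?_⟩
    · rcases eq_or_ne Q P with rfl | hQ
      · rw [Function.update_self, Finsupp.add_apply, Finsupp.single_eq_same, map_mul, map_inv₀,
          htn, ← exp_neg, neg_neg]
        exact mul_le_of_le_one_left' ((mem_O _).mp hu)
      · rw [Function.update_of_ne hQ]; simp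
    · change IsLocalRing.residue P.O _ = _
      congr 1
      refine Subtype.ext ?_
      change Function.update (0 : Place k K → K) P (u * (t ^ n)⁻¹) P * t ^ n = u
      rw [Function.update_self, mul_assoc, inv_mul_cancel₀ (zpow_ne_zero _ ht0), mul_one]
  · change IsLocalRing.residue P.O _ = 0 ↔ _
    rw [residue_eq_zero_iff]
    refine (hlt _).trans ⟨fun h Q => ?_, fun h => h P⟩
    rcases eq_or_ne Q P with rfl | hQ
    · exact h
    · have := b.2 Q
      rwa [Finsupp.add_apply, Finsupp.single_eq_of_ne hQ, add_zero] at this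

theorem hasRelDim_AD (hK : IsFunctionField k K) {D E : Divisor k K} (h : D ≤ E) :
    ∃ d : ℕ, (d : ℤ) = E.deg - D.deg ∧ HasRelDim (AD D) (AD E) d := by
  suffices ∀ F : Divisor k K, 0 ≤ F → ∀ D, ∃ d : ℕ, (d : ℤ) = F.deg ∧ HasRelDim (AD D) (AD (D + F)) d by
    obtain ⟨d, hd, h'⟩ := this (E - D) (sub_nonneg.mpr h) D
    rw [add_sub_cancel] at h'
    exact ⟨d, by rw [hd, deg_sub], h'⟩
  intro F
  induction F using Finsupp.induction with
  | zero => intro _ D; exact ⟨0, by simp, by simpa using HasRelDim.refl _⟩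
  | single_add P n F hP hn ih =>
    intro hF
    have hn0 : 0 ≤ n := by
      have := hF P
      rwa [Finsupp.add_apply, Finsupp.single_eq_same, Finsupp.notMem_support_iff.mp hP,
        add_zero] at this
    have hF0 : 0 ≤ F := fun Q => by
      rcases eq_or_ne Q P with rfl | hQ
      · simp [Finsupp.notMem_support_iff.mp hP]
      · simpa [Finsupp.single_eq_of_ne hQ] using hF Q
    obtain ⟨m, rfl⟩ := Int.eq_ofNat_of_zero_le hn0
    clear hn hn0 hF hP
    induction m with
    | zero => intro D; simpa using ih hF0 D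
    | succ m ihm =>
      intro D
      obtain ⟨d, hd, h⟩ := ihm D
      refine ⟨d + P.deg, ?_, h.trans ?_⟩
      · rw [deg_add, deg_single] at hd ⊢; push_cast; rw [hd]; ring
      · have := hasRelDim_AD_single hK (D + (Finsupp.single P (m : ℤ) + F)) P
        rwa [show D + (Finsupp.single P (m : ℤ) + F) + Finsupp.single P 1 =
          D + (Finsupp.single P ((m + 1 : ℕ) : ℤ) + F) by
            push_cast; rw [Finsupp.single_add]; abel] at this

theorem hasRelDim_L (hK : IsFunctionField k K) {D E : Divisor k K} (h : D ≤ E) :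
    ∃ e : ℕ, (e : ℤ) ≤ E.deg - D.deg ∧ HasRelDim (L D) (L E) e := by
  obtain ⟨d, hd, h'⟩ := hasRelDim_AD hK h
  obtain ⟨e, he, h''⟩ := h'.inf_comap (diag k K)
  exact ⟨e, by omega, h''⟩

theorem val_inv_gt {P : Place k K} {x : K} (hx : x ≠ 0) : P.1 x < 1 ↔ 1 < P.1 x⁻¹ := by
  rw [map_inv₀, one_lt_inv₀ (zero_lt_iff.mpr ((map_ne_zero _).mpr hx))]

/-- A transcendental element has a pole. -/
theorem exists_one_lt_val (hK : IsFunctionField k K) {z : K} (hz : Transcendental k z) :
    ∃ P : Place k K, 1 < P.1 z := by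
  have hz0 : z ≠ 0 := fun e => hz (e ▸ isAlgebraic_zero)
  obtain ⟨P, hP⟩ := exists_val_lt_one hK (z := z⁻¹)
    (transcendental_of_not_mem hK fun ⟨c, hc⟩ => hz ⟨Polynomial.X - Polynomial.C c⁻¹,
      Polynomial.X_sub_C_ne_zero _, by simp [map_inv₀, hc]⟩)
  exact ⟨P, by rwa [val_inv_gt (inv_ne_zero hz0), inv_inv] at hP⟩

theorem L_zero_eq (hK : IsFunctionField k K) :
    L (0 : Divisor k K) = Submodule.span k {(1 : K)} := by
  refine le_antisymm (fun x hx => ?_) ?_
  · by_contra hc
    obtain ⟨P, hP⟩ := exists_one_lt_val hK (z := x) (transcendental_of_not_mem hK fun ⟨c, hc'⟩ =>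
      hc (Submodule.mem_span_singleton.mpr ⟨c, by rw [← hc', Algebra.smul_def, mul_one]⟩))
    exact absurd (hx P) (not_le.mpr (by simpa using hP))
  · rw [Submodule.span_singleton_le_iff_mem]
    intro P; simp

theorem finrank_L_zero (hK : IsFunctionField k K) :
    FiniteDimensional k (L (0 : Divisor k K)) ∧ ell (0 : Divisor k K) = 1 := by
  rw [ell, L_zero_eq hK]
  exact ⟨inferInstance, finrank_span_singleton one_ne_zero⟩

theorem finiteDimensional_L (hK : IsFunctionField k K) (D : Divisor k K) :
    FiniteDimensional k (L D) := by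
  let E : Divisor k K := D.mapRange (fun n => max n 0) (by simp)
  have hE : ∀ P, E P = max (D P) 0 := fun P => Finsupp.mapRange_apply
  obtain ⟨e, -, h⟩ := hasRelDim_L hK (D := 0) (E := E) (fun P => by simp [hE])
  have := (h.finiteDimensional_iff (finrank_L_zero hK).1).1
  exact Submodule.finiteDimensional_of_le (L_mono (fun P => by simp [hE] : D ≤ E))

theorem ell_mono (hK : IsFunctionField k K) {D E : Divisor k K} (h : D ≤ E) :
    ell D ≤ ell E ∧ (ell E : ℤ) - ell D ≤ E.deg - D.deg := by
  obtain ⟨e, he, h'⟩ := hasRelDim_L hK h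
  have := h'.finiteDimensional_iff (finiteDimensional_L hK D)
  simp only [ell]; omega

theorem ell_le_deg_add_one (hK : IsFunctionField k K) {D : Divisor k K} (h : 0 ≤ D) :
    (ell D : ℤ) ≤ D.deg + 1 := by
  have := (ell_mono hK h).2
  rw [(finrank_L_zero hK).2, deg_zero] at this
  push_cast at this; omega

/-! ### Zeros -/

theorem not_mem_range_of_val {P : Place k K} {x : K} (h0 : x ≠ 0) (h : P.ord x ≠ 0) :
    x ∉ Set.range (algebraMap k K) := fun ⟨c, hc⟩ => h (by rw [← hc, ord_algebraMap])

theorem sum_ord_mul_deg_le (hK : IsFunctionField k K) {x : K} (hx : Transcendental k x)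
    (S : Finset (Place k K)) (hS : ∀ P ∈ S, 0 ≤ P.ord x) :
    ∑ P ∈ S, P.ord x * P.deg ≤ finrank k⟮x⟯ K := by
  have hx0 : x ≠ 0 := fun e => hx (e ▸ isAlgebraic_zero)
  have := finiteDimensional_adjoin hK hx
  let E : Divisor k K := ∑ P ∈ S, Finsupp.single P (P.ord x)
  have hEv : ∀ P, E P = if P ∈ S then P.ord x else 0 := fun P => by
    simp [E, Finsupp.finsetSum_apply, Finsupp.single_apply]
  obtain ⟨d, hd, ⟨-, φ, hφ, hker⟩⟩ := hasRelDim_AD hK (D := -E) (E := 0) (fun P => by
    simp only [Finsupp.neg_apply, hEv, Finsupp.coe_zero, Pi.zero_apply]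
    split_ifs with h
    · linarith [hS P h]
    · simp)
  have hdeg : (d : ℤ) = ∑ P ∈ S, P.ord x * P.deg := by
    rw [hd, deg_zero, deg_neg, zero_sub, neg_neg]
    simp only [E]
    clear hd hEv hker φ hφ
    induction S using Finset.induction with
    | empty => simp
    | insert a s ha ih =>
      rw [Finset.sum_insert ha, Finset.sum_insert ha, deg_add, deg_single,
        ih fun P hP => hS P (Finset.mem_insert_of_mem hP)]
  rw [← hdeg]
  choose a ha using fun i => hφ (Pi.single i (1 : k))
  choose y hy using fun i => exists_approx S (a i).1 (fun P => -(P.ord x))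
  let T : Submodule k K :=
    { carrier := {z | ∀ P ∈ S, P.1 z ≤ 1}
      add_mem' := fun {u v} hu hv P hP => (P.1.map_add u v).trans (max_le (hu P hP) (hv P hP))
      zero_mem' := fun P _ => by simp
      smul_mem' := fun c u hu P hP => by
        rw [Algebra.smul_def, map_mul]; exact mul_le_one' (P.2.1 c) (hu P hP) }
  have hxT : ∀ P ∈ S, P.1 x ≤ 1 := fun P hP => (val_le_one_iff P hx0).mpr (hS P hP)
  have li := linearIndependent_adjoin_of_mod hx T
    (fun s hs P hP => by rw [map_mul]; exact mul_le_one' (hxT P hP) (hs P hP))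
    y (fun i P hP => by
      rw [show y i = (y i - (a i).1 P) + (a i).1 P by ring]
      refine P.1.map_add_le ((hy i P hP).trans ?_) (by simpa using (a i).2 P)
      rw [← exp_zero, exp_le_exp]; linarith [hS P hP])
    fun t c ⟨s, hs, hsum⟩ => by
      intro i hi
      have hzero : φ (∑ i ∈ t, c i • a i) = 0 := by
        rw [hker]
        intro P
        rw [Submodule.coe_sum, Finset.sum_apply]
        simp only [SetLike.val_smul, Pi.smul_apply]
        rw [Finsupp.neg_apply, hEv]
        split_ifs with hP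
        · rw [show ∑ j ∈ t, c j • (a j).1 P =
            x * s - ∑ j ∈ t, c j • (y j - (a j).1 P) by
              simp only [smul_sub, Finset.sum_sub_distrib, hsum]; ring]
          refine P.1.map_sub_le ?_ (P.1.map_sum_le fun j _ => ?_)
          · rw [map_mul, val_eq_exp_neg_ord P hx0]
            exact mul_le_of_le_one_right' (hs P hP)
          · rw [Algebra.smul_def, map_mul]
            exact (mul_le_of_le_one_left' (P.2.1 _)).trans (hy j P hP)
        · refine P.1.map_sum_le fun j _ => ?_
          rw [Algebra.smul_def, map_mul]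
          refine (mul_le_of_le_one_left' (P.2.1 _)).trans ?_
          simpa using (a j).2 P
      have := congrFun hzero i
      simpa [map_sum, map_smul, ha, Finset.sum_apply, Pi.single_apply, hi] using this
  have := li.fintype_card_le_finrank
  simpa using this

theorem finite_support_ord (hK : IsFunctionField k K) (x : K) :
    (Function.support fun P : Place k K => P.ord x).Finite := by
  by_cases hx : x ∈ Set.range (algebraMap k K)
  · obtain ⟨c, rfl⟩ := hx
    convert Set.finite_empty
    ext P; simp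
  have key : ∀ y : K, Transcendental k y → {P : Place k K | 0 < P.ord y}.Finite := by
    intro y hy
    by_contra hinf
    obtain ⟨T, hT, hTc⟩ := Set.Infinite.exists_subset_card_eq hinf (finrank k⟮y⟯ K + 1)
    have h1 := sum_ord_mul_deg_le hK hy T fun P hP => le_of_lt (hT hP)
    have h2 : (T.card : ℤ) ≤ ∑ P ∈ T, P.ord y * P.deg := by
      rw [Finset.card_eq_sum_ones]; push_cast
      exact Finset.sum_le_sum fun P hP => one_le_mul_of_one_le_of_one_le (hT hP)
        (by exact_mod_cast deg_pos hK P)
    omega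
  have hx0 : x ≠ 0 := fun e => hx ⟨0, by rw [e, map_zero]⟩
  have hxi : x⁻¹ ∉ Set.range (algebraMap k K) := fun ⟨c, hc⟩ => hx ⟨c⁻¹, by rw [map_inv₀, hc, inv_inv]⟩
  refine ((key x (transcendental_of_not_mem hK hx)).union
    (key x⁻¹ (transcendental_of_not_mem hK hxi))).subset fun P hP => ?_
  simp only [Function.mem_support] at hP
  simp only [Set.mem_union, Set.mem_setOf_eq, ord_inv]
  omega

theorem div_apply (hK : IsFunctionField k K) (x : K) (P : Place k K) :
    div k x P = P.ord x := by
  rw [FunFld.div, dif_pos (finite_support_ord hK x)]; rfl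

theorem mem_L_iff (hK : IsFunctionField k K) {D : Divisor k K} {x : K} (hx : x ≠ 0) :
    x ∈ L D ↔ 0 ≤ D + div k x := by
  simp only [mem_L, val_le_exp_iff _ hx, Finsupp.le_def, Finsupp.coe_zero, Pi.zero_apply,
    Finsupp.add_apply, div_apply hK]

/-- The pole divisor. -/
noncomputable def poles (x : K) : Divisor k K := (-div k x).mapRange (fun n => max n 0) (by simp)

theorem poles_apply (hK : IsFunctionField k K) (x : K) (P : Place k K) :
    poles (k := k) x P = max (-P.ord x) 0 := by simp [poles, div_apply hK]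

theorem poles_nonneg (x : K) : 0 ≤ poles (k := k) x := fun P => by simp [poles]

theorem div_eq_poles_sub (hK : IsFunctionField k K) (x : K) :
    div k x = poles x⁻¹ - poles x := by
  ext P; simp [div_apply hK, poles_apply hK]

theorem val_le_exp_poles (hK : IsFunctionField k K) (x : K) (P : Place k K) :
    P.1 x ≤ exp (poles (k := k) x P) := by
  rcases eq_or_ne x 0 with rfl | h
  · simp
  · rw [val_le_exp_iff P h, poles_apply hK]; omega

theorem exists_mem_L_family (hK : IsFunctionField k K) {ι : Type*} [Fintype ι] (u : ι → K) :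
    ∃ C : Divisor k K, 0 ≤ C ∧ ∀ i, u i ∈ L C := by
  refine ⟨∑ i, poles (u i), Finset.sum_nonneg fun i _ => poles_nonneg _, fun i P => ?_⟩
  refine (val_le_exp_poles hK (u i) P).trans (exp_le_exp.mpr ?_)
  exact Finsupp.le_def.mp (Finset.single_le_sum (f := fun j => poles (k := k) (u j))
    (fun j _ => poles_nonneg _) (Finset.mem_univ i)) P

theorem ell_multiple_ge (hK : IsFunctionField k K) {x : K} (hx : Transcendental k x) :
    ∃ C : Divisor k K, 0 ≤ C ∧ ∀ l : ℕ,
      ((l + 1) * finrank k⟮x⟯ K : ℕ) ≤ ell ((l : ℤ) • poles x + C) := by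
  have := finiteDimensional_adjoin hK hx
  let b := Module.finBasis k⟮x⟯ K
  obtain ⟨C, hC, hu⟩ := exists_mem_L_family hK b
  refine ⟨C, hC, fun l => ?_⟩
  have := finiteDimensional_L hK ((l : ℤ) • poles x + C)
  have hli0 : LinearIndependent k (fun i : Fin (l + 1) => (⟨x, mem_adjoin_simple_self k x⟩ : k⟮x⟯) ^ (i : ℕ)) := by
    refine LinearIndependent.of_comp (k⟮x⟯.val.toLinearMap) ?_
    have h := (transcendental_iff_injective.mp hx)
    have := (Polynomial.basisMonomials k).linearIndependent.map' (Polynomial.aeval x).toLinearMap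
      (LinearMap.ker_eq_bot.mpr h)
    have e : (⇑k⟮x⟯.val.toLinearMap ∘ fun i : Fin (l + 1) => (⟨x, mem_adjoin_simple_self k x⟩ : k⟮x⟯) ^ (i : ℕ)) =
        (⇑(Polynomial.aeval x).toLinearMap ∘ ⇑(Polynomial.basisMonomials k)) ∘ fun i : Fin (l + 1) => (i : ℕ) := by
      funext i; simp
    rw [e]
    exact this.comp _ Fin.val_injective
  have hli := linearIndependent_smul hli0 b.linearIndependent
  have hmem : ∀ p : Fin (l + 1) × Fin _, (⟨x, mem_adjoin_simple_self k x⟩ : k⟮x⟯) ^ (p.1 : ℕ) • b p.2 ∈
      L ((l : ℤ) • poles x + C) := fun p P => by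
    rw [IntermediateField.smul_def, smul_eq_mul, SubmonoidClass.coe_pow, map_mul, map_pow,
      Finsupp.add_apply, exp_add, Finsupp.smul_apply, smul_eq_mul]
    refine mul_le_mul' ((pow_le_pow_left₀ zero_le (val_le_exp_poles hK x P) _).trans ?_) (hu p.2 P)
    rw [← exp_nsmul, exp_le_exp, nsmul_eq_mul]
    have h1 : ((p.1 : ℕ) : ℤ) ≤ (l : ℤ) := by exact_mod_cast Nat.le_of_lt_succ p.1.2
    exact mul_le_mul_of_nonneg_right h1 (poles_nonneg x P)
  have h2 : LinearIndependent k (fun p => (⟨_, hmem p⟩ : L ((l : ℤ) • poles x + C))) :=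
    LinearIndependent.of_comp (L ((l : ℤ) • poles x + C)).subtype hli
  simpa [ell] using h2.fintype_card_le_finrank

theorem deg_zsmul (n : ℤ) (D : Divisor k K) : (n • D).deg = n * D.deg := by
  induction n using Int.induction_on with
  | zero => simp
  | succ i ih => rw [add_zsmul, one_zsmul, deg_add, ih]; ring
  | pred i ih => rw [sub_zsmul, one_zsmul, ← sub_eq_add_neg, deg_sub, ih]; ring

theorem deg_poles (hK : IsFunctionField k K) {x : K} (hx : Transcendental k x) :
    (poles (k := k) x).deg = finrank k⟮x⟯ K := by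
  have hxi : Transcendental k x⁻¹ := transcendental_of_not_mem hK fun ⟨c, hc⟩ => hx (by
    rw [← inv_inv x, ← hc, ← map_inv₀]; exact isAlgebraic_algebraMap _)
  have hadj : k⟮x⁻¹⟯ = k⟮x⟯ := by
    refine le_antisymm (adjoin_simple_le_iff.mpr (inv_mem (mem_adjoin_simple_self k x)))
      (adjoin_simple_le_iff.mpr ?_)
    have := inv_mem (mem_adjoin_simple_self k x⁻¹)
    rwa [inv_inv] at this
  refine le_antisymm ?_ ?_
  · have h := sum_ord_mul_deg_le hK hxi (poles (k := k) x).support fun P hP => by
      rw [Finsupp.mem_support_iff, poles_apply hK] at hP; rw [ord_inv]; omega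
    rw [hadj] at h
    refine le_of_eq_of_le (Finset.sum_congr rfl fun P hP => ?_) h
    rw [Finsupp.mem_support_iff, poles_apply hK] at hP
    rw [poles_apply hK, ord_inv, max_eq_left (by omega)]
  · obtain ⟨C, hC, hl⟩ := ell_multiple_ge hK hx
    by_contra hlt; push Not at hlt
    let l : ℕ := C.deg.toNat + 1
    have h1 : (((l + 1) * finrank k⟮x⟯ K : ℕ) : ℤ) ≤ ell ((l : ℤ) • poles x + C) := by exact_mod_cast hl l
    have h2 := ell_le_deg_add_one hK (D := (l : ℤ) • poles x + C)
      (add_nonneg (smul_nonneg (by omega) (poles_nonneg x)) hC)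
    rw [deg_add, deg_zsmul] at h2
    have h3 := deg_nonneg (poles_nonneg (k := k) x)
    have h4 : (l : ℤ) = C.deg + 1 := by have := deg_nonneg hC; omega
    push_cast at h1
    nlinarith [mul_le_mul_of_nonneg_left (show (poles (k := k) x).deg + 1 ≤ finrank k⟮x⟯ K by omega)
      (show (0 : ℤ) ≤ l by omega)]

theorem deg_div_eq_zero (hK : IsFunctionField k K) (x : K) : (div k x).deg = 0 := by
  by_cases hx : x ∈ Set.range (algebraMap k K)
  · obtain ⟨c, rfl⟩ := hx
    rw [show div k (algebraMap k K c) = 0 by ext P; simp [div_apply hK], deg_zero]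
  have hxt := transcendental_of_not_mem hK hx
  have hxi : Transcendental k x⁻¹ := transcendental_of_not_mem hK fun ⟨c, hc⟩ => hx ⟨c⁻¹, by
    rw [map_inv₀, hc, inv_inv]⟩
  have hadj : k⟮x⁻¹⟯ = k⟮x⟯ := by
    refine le_antisymm (adjoin_simple_le_iff.mpr (inv_mem (mem_adjoin_simple_self k x)))
      (adjoin_simple_le_iff.mpr ?_)
    have := inv_mem (mem_adjoin_simple_self k x⁻¹)
    rwa [inv_inv] at this
  rw [div_eq_poles_sub hK, deg_sub, deg_poles hK hxi, deg_poles hK hxt, hadj, sub_self]

end Groth.Agent.FF
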