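import Mathlib.RingTheory.Nullstellensatz
import Mathlib.RingTheory.Ideal.Height
import Mathlib.RingTheory.KrullDimension.Field
import Mathlib.RingTheory.KrullDimension.Polynomial
import Mathlib.RingTheory.UniqueFactorizationDomain.Ideal
import Mathlib.RingTheory.Polynomial.UniqueFactorization
import Mathlib.RingTheory.MvPolynomial.Basic

/-! The relation of two generators of a function field: the kernel of `k[X, Y] → K` is principal;
dimensions of spaces of polynomials of bounded total degree. -/

open MvPolynomial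

namespace Groth.Agent.FF

variable {k : Type*} [Field k]

theorem isMaximal_of_lt {f : MvPolynomial (Fin 2) k} (hf : Irreducible f)
    {P : Ideal (MvPolynomial (Fin 2) k)} [P.IsPrime] (h : Ideal.span {f} < P) : P.IsMaximal := by
  have hp : (Ideal.span {f}).IsPrime :=
    (Ideal.span_singleton_prime hf.ne_zero).mpr (UniqueFactorizationMonoid.irreducible_iff_prime.mp hf)
  obtain ⟨m, hm, hPm⟩ := Ideal.exists_le_maximal P (Ideal.IsPrime.ne_top ‹_›)
  rcases hPm.eq_or_lt with rfl | hlt
  · exact hm
  exfalso
  have h0 : (⊥ : Ideal (MvPolynomial (Fin 2) k)) < Ideal.span {f} :=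
    bot_lt_iff_ne_bot.mpr (by simp [hf.ne_zero])
  have : (⊥ : Ideal (MvPolynomial (Fin 2) k)).IsPrime := Ideal.isPrime_bot
  have := hm.isPrime
  have h1 := Ideal.height_strict_mono_of_isPrime_of_isPrime h0
  have h2 := Ideal.height_strict_mono_of_isPrime_of_isPrime h
  have h3 := Ideal.height_strict_mono_of_isPrime_of_isPrime hlt
  have h4 : (m.height : WithBot ℕ∞) ≤ 2 := by
    refine (Ideal.height_le_ringKrullDim_of_ne_top hm.ne_top).trans ?_
    rw [MvPolynomial.ringKrullDim_of_isNoetherianRing, ringKrullDim_eq_zero_of_field k]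
    simp
  have h4' : m.height ≤ 2 := WithBot.coe_le_coe.mp h4
  have k1 : (1 : ℕ∞) ≤ (Ideal.span {f}).height := Order.one_le_iff_pos.mpr ((bot_le : (0:ℕ∞) ≤ _).trans_lt h1)
  have e2 := (Order.add_one_le_of_lt h2).trans' (add_le_add_left k1 1)
  have e3 := (Order.add_one_le_of_lt h3).trans' (add_le_add_left e2 1)
  have := e3.trans h4'
  revert this
  norm_num

variable {K : Type*} [Field K] [Algebra k K] [IsAlgClosed k]

theorem not_isMaximal_ker (x y : K) (hne : x ∉ Set.range (algebraMap k K) ∨
    y ∉ Set.range (algebraMap k K)) :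
    ¬ (RingHom.ker (aeval ![x, y] : MvPolynomial (Fin 2) k →ₐ[k] K)).IsMaximal := by
  intro hm
  obtain ⟨a, ha⟩ := isMaximal_iff_eq_vanishingIdeal_singleton.mp hm
  have h : ∀ i : Fin 2, (![x, y] : Fin 2 → K) i = algebraMap k K (a i) := fun i => by
    have : (X i - C (a i) : MvPolynomial (Fin 2) k) ∈ RingHom.ker (aeval ![x, y]) := by
      rw [ha, mem_vanishingIdeal_singleton_iff]; simp
    rw [RingHom.mem_ker, map_sub, aeval_X, aeval_C, sub_eq_zero] at this
    exact this
  rcases hne with h' | h'
  · exact h' ⟨a 0, (h 0).symm⟩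
  · exact h' ⟨a 1, (h 1).symm⟩

theorem ker_eq_span (x y : K) (hne : x ∉ Set.range (algebraMap k K) ∨ y ∉ Set.range (algebraMap k K))
    {f : MvPolynomial (Fin 2) k} (hf : Irreducible f) (hfxy : aeval ![x, y] f = 0) :
    RingHom.ker (aeval ![x, y] : MvPolynomial (Fin 2) k →ₐ[k] K) = Ideal.span {f} := by
  refine le_antisymm ?_ ((Ideal.span_singleton_le_iff_mem _).mpr hfxy)
  by_contra hc
  have : (RingHom.ker (aeval ![x, y] : MvPolynomial (Fin 2) k →ₐ[k] K)).IsPrime := RingHom.ker_isPrime _
  exact not_isMaximal_ker x y hne (isMaximal_of_lt hf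
    (lt_of_le_not_ge ((Ideal.span_singleton_le_iff_mem _).mpr hfxy) hc))

theorem exists_irreducible_of_ker_ne_bot (x y : K)
    (h : RingHom.ker (aeval ![x, y] : MvPolynomial (Fin 2) k →ₐ[k] K) ≠ ⊥) :
    ∃ f, Irreducible f ∧ (aeval ![x, y] : MvPolynomial (Fin 2) k →ₐ[k] K) f = 0 := by
  have hp : (RingHom.ker (aeval ![x, y] : MvPolynomial (Fin 2) k →ₐ[k] K)).IsPrime := RingHom.ker_isPrime _
  obtain ⟨f, hf, hfp⟩ := hp.exists_mem_prime_of_ne_bot h
  exact ⟨f, hfp.irreducible, hf⟩

/-! ### Dimension counting -/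

variable (k) in
/-- Dimension of the polynomials in two variables of total degree at most `n`. -/
noncomputable def polyCount (n : ℕ) : ℕ := Module.finrank k (restrictTotalDegree (Fin 2) k n)

omit [IsAlgClosed k] in
theorem two_mul_polyCount (n : ℕ) : 2 * polyCount k n = (n + 1) * (n + 2) := by
  classical
  let s : Finset (Fin 2 →₀ ℕ) := ((Finset.range (n + 1)).biUnion Finset.antidiagonal).map
    (finTwoArrowEquiv ℕ |>.symm.trans Finsupp.equivFunOnFinite.symm).toEmbedding
  have hs : polyCount k n = s.card := by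
    rw [polyCount, restrictTotalDegree,
      Module.finrank_eq_nat_card_basis (basisRestrictSupport k _)]
    refine (Nat.card_congr (Equiv.subtypeEquivRight fun d => ?_)).trans (Nat.card_eq_finsetCard s)
    have hd : (d.sum fun _ e => e) = d 0 + d 1 := by
      rw [Finsupp.sum_fintype d (fun _ e => e) (fun _ => rfl), Fin.sum_univ_two]
    simp only [s, Finset.mem_map_equiv, Finset.mem_biUnion, Finset.mem_range, Finset.mem_antidiagonal,
      Set.mem_ofPred_eq]
    rw [hd]
    constructor
    · intro h; exact ⟨d 0 + d 1, by omega, rfl⟩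
    · rintro ⟨j, hj, he⟩
      have : d 0 + d 1 = j := he
      omega
  rw [hs, Finset.card_map, Finset.card_biUnion]
  · simp only [Finset.Nat.card_antidiagonal]
    clear_value s
    clear hs s
    induction n with
    | zero => simp
    | succ n ih => rw [Finset.sum_range_succ, mul_add, ih]; ring
  · intro a _ b _ hab
    rw [Function.onFun, Finset.disjoint_left]
    intro p hp hp'
    simp only [Finset.mem_antidiagonal] at hp hp'
    omega

end Groth.Agent.FF
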