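import Groth.Agent.FF.Orders

/-! Orders at a place: vanishing orders, adapted bases and the Wronskian at a fixed point. -/

namespace Groth.Agent.FF

open FunFld LocRes WithZero Submodule Module
open scoped Classical

variable {k K : Type*} [Field k] [Field K] [Algebra k K] [IsAlgClosed k]

/-- The values of the Hasse derivatives at `P` detect the order of vanishing. -/
theorem val_hasseD_lt_iff (hK : IsFunctionField k K) (P : Place k K) {t : K} (ht : P.1 t = exp (-1 : ℤ))
    {H : K →ₐ[k] PowerSeries K} (hH : IsHasseFamily t H) {f : K} (hf : P.1 f ≤ 1) (j : ℕ) :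
    P.1 f ≤ exp (-(j : ℤ)) ↔ ∀ i < j, P.1 (hasseD H i f) < 1 := by
  rcases eq_or_ne f 0 with rfl | hf0
  · simp [hasseD_apply]
  have h0 : 0 ≤ P.ord f := (val_le_one_iff P hf0).mp hf
  rw [val_le_exp_iff P hf0]
  constructor
  · intro hj i hi
    have := isSeparable_of_hasse hK hH
    obtain ⟨φ, hφ, hφt, hps⟩ := exists_expansion hK P ht
    obtain ⟨g, hg⟩ := hps f hf
    have hz : ∀ m < (j : ℤ), (φ f).coeff m = 0 := (LaurentSeries.valuation_le_iff_coeff_lt_eq_zero k).mp (by
      rw [hφ.1, val_le_exp_iff P hf0]; omega)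
    have : Valued.v (φ (hasseD H i f)) ≤ exp (-(1 : ℤ)) := by
      refine (LaurentSeries.valuation_le_iff_coeff_lt_eq_zero k).mpr fun m hm => ?_
      rw [expansion_hasseD hH φ hφt g hg, LaurentSeries.hasseDeriv_coeff, hz (m + i) (by omega), smul_zero]
    rw [hφ.1] at this
    exact this.trans_lt (by rw [← exp_zero, exp_lt_exp]; omega)
  · intro h
    by_contra hlt
    have := h (P.ord f).toNat (by omega)
    rw [exists_val_hasseD_eq_one hK P ht hH hf0 hf] at this
    exact lt_irrefl _ this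

theorem residue_surjective_const (hK : IsFunctionField k K) (P : Place k K) :
    Function.Surjective (algebraMap k (IsLocalRing.ResidueField P.O)) := by
  intro a
  obtain ⟨x, rfl⟩ := IsLocalRing.residue_surjective a
  obtain ⟨c, hc⟩ := exists_const_near hK P ((mem_O P).mp x.2)
  refine ⟨c, ?_⟩
  rw [algebraMap_res, eq_comm, ← sub_eq_zero, ← map_sub, residue_eq_zero_iff]
  exact hc

theorem evalP_eq_zero_iff (P : Place k K) {z : K} (hz : P.1 z ≤ 1) : evalP P z = 0 ↔ P.1 z < 1 := by
  rw [evalP, dif_pos hz, residue_eq_zero_iff]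

theorem evalP_smul_sum (P : Place k K) {ι : Type*} [Fintype ι] (g : ι → k) {z : ι → K} (hz : ∀ i, P.1 (z i) ≤ 1) :
    evalP P (∑ i, g i • z i) = ∑ i, algebraMap k (IsLocalRing.ResidueField P.O) (g i) * evalP P (z i) := by
  have hterm : ∀ i, P.1 (g i • z i) ≤ 1 := fun i => by
    rw [Algebra.smul_def, map_mul]; exact mul_le_one' (P.2.1 _) (hz i)
  rw [evalP, dif_pos (P.1.map_sum_le fun i _ => hterm i)]
  have : (⟨∑ i, g i • z i, (mem_O P).mpr (P.1.map_sum_le fun i _ => hterm i)⟩ : P.O) =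
      ∑ i, (⟨algebraMap k K (g i), (mem_O P).mpr (P.2.1 _)⟩ * ⟨z i, (mem_O P).mpr (hz i)⟩ : P.O) :=
    Subtype.ext (by simp [Algebra.smul_def])
  rw [show IsLocalRing.residue P.O ⟨∑ i, g i • z i, _⟩ = IsLocalRing.residue P.O _ from congrArg _ this, map_sum]
  refine Finset.sum_congr rfl fun i _ => ?_
  rw [map_mul, evalP, dif_pos (hz i)]; rfl

section

variable (hK : IsFunctionField k K) (P : Place k K) {t : K} (ht : P.1 t = exp (-1 : ℤ))
  {H : K →ₐ[k] PowerSeries K} (hH : IsHasseFamily t H) {n : ℕ} {φ : Fin (n + 1) → K}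
  (hnorm : ∀ i, P.1 (φ i) ≤ 1)

include hK hnorm in
theorem val_le_of_mem_span {f : K} (hf : f ∈ span k (Set.range φ)) : P.1 f ≤ 1 := by
  obtain ⟨g, rfl⟩ := (mem_span_range_iff_exists_fun k).mp hf
  exact P.1.map_sum_le fun i _ => by rw [Algebra.smul_def, map_mul]; exact mul_le_one' (P.2.1 _) (hnorm i)

include hK ht hH hnorm in
/-- Column `j + 1` is a jump at `P` iff `j > 0` is the order at `P` of an element of the span. -/
theorem isJump_hcolAt_iff (j : ℕ) :
    IsJump (IsLocalRing.ResidueField P.O) (hcolAt P H φ) (j + 1) ↔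
      0 < j ∧ ∃ f ∈ span k (Set.range φ), P.1 f = exp (-(j : ℤ)) := by
  have hd : ∀ i l, P.1 (hasseD H i (φ l)) ≤ 1 := fun i l => val_hasseD_le hK P ht hH (hnorm l) i
  have hsum : ∀ (g : Fin (n + 1) → k) (i : ℕ), evalP P (hasseD H i (∑ l, g l • φ l)) =
      ∑ l, algebraMap k (IsLocalRing.ResidueField P.O) (g l) * hcolAt P H φ (i + 1) l := fun g i => by
    rw [show hasseD H i (∑ l, g l • φ l) = ∑ l, g l • hasseD H i (φ l) by
      simp only [hasseD_apply, map_sum, map_smul, PowerSeries.coeff_smul], evalP_smul_sum P g (hd i)]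
    rfl
  have h01 : hcolAt P H φ 0 = hcolAt P H φ 1 := funext fun l => by simp [hcolAt, hH.2]
  have hval : ∀ g : Fin (n + 1) → k, P.1 (∑ l, g l • φ l) ≤ 1 := fun g =>
    val_le_of_mem_span hK P hnorm (sum_mem fun l _ => smul_mem _ _ (subset_span ⟨l, rfl⟩))
  constructor
  · intro hjump
    have hj0 : 0 < j := Nat.pos_of_ne_zero fun h => by
      subst h
      exact hjump (subset_span ⟨0, by simp, h01⟩)
    refine ⟨hj0, ?_⟩
    obtain ⟨ℓ, hℓ, hℓ'⟩ := Submodule.exists_dual_map_eq_bot_of_notMem hjump inferInstance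
    let a : Fin (n + 1) → IsLocalRing.ResidueField P.O := fun l => ℓ (Pi.single l 1)
    choose g hg using fun l => residue_surjective_const hK P (a l)
    have hℓg : ∀ i, evalP P (hasseD H i (∑ l, g l • φ l)) = ℓ (hcolAt P H φ (i + 1)) := fun i => by
      rw [hsum]
      conv_rhs => rw [pi_eq_sum_univ' (hcolAt P H φ (i + 1)), map_sum]
      refine Finset.sum_congr rfl fun l _ => ?_
      rw [map_smul, hg, smul_eq_mul, mul_comm]
    refine ⟨∑ l, g l • φ l, sum_mem fun l _ => smul_mem _ (g l) (subset_span ⟨l, rfl⟩), le_antisymm ?_ (not_lt.mp fun hlt => ?_)⟩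
    · refine (val_hasseD_lt_iff hK P ht hH (hval g) j).mpr fun i hi => ?_
      rw [← evalP_eq_zero_iff P (val_hasseD_le hK P ht hH (hval g) i), hℓg]
      have : ℓ (hcolAt P H φ (i + 1)) ∈ (span _ (hcolAt P H φ '' Set.Iio (j + 1))).map ℓ :=
        ⟨_, subset_span ⟨i + 1, by rw [Set.mem_Iio]; omega, rfl⟩, rfl⟩
      rw [hℓ'] at this
      exact this
    · have hle : P.1 (∑ l, g l • φ l) ≤ exp (-((j + 1 : ℕ) : ℤ)) := by
        rcases eq_or_ne (∑ l, g l • φ l) 0 with h | h
        · rw [h, map_zero]; exact zero_le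
        · rw [val_eq_exp_neg_ord P h, exp_lt_exp] at hlt
          rw [val_le_exp_iff P h]; omega
      refine hℓ ?_
      rw [← hℓg, evalP_eq_zero_iff P (val_hasseD_le hK P ht hH (hval g) j)]
      exact (val_hasseD_lt_iff hK P ht hH (hval g) (j + 1)).mp hle j (by omega)
  · rintro ⟨hj0, f, hf, hfv⟩ hmem
    obtain ⟨g, rfl⟩ := (mem_span_range_iff_exists_fun k).mp hf
    let ℓ : (Fin (n + 1) → IsLocalRing.ResidueField P.O) →ₗ[IsLocalRing.ResidueField P.O] IsLocalRing.ResidueField P.O :=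
      ∑ l, (algebraMap k (IsLocalRing.ResidueField P.O) (g l)) • LinearMap.proj l
    have hℓ : ∀ i, ℓ (hcolAt P H φ (i + 1)) = evalP P (hasseD H i (∑ l, g l • φ l)) := fun i => by
      rw [hsum]; simp [ℓ]
    have hlow : ∀ i < j, ℓ (hcolAt P H φ (i + 1)) = 0 := fun i hi => by
      rw [hℓ, evalP_eq_zero_iff P (val_hasseD_le hK P ht hH (hval g) i)]
      exact (val_hasseD_lt_iff hK P ht hH (hval g) j).mp hfv.le i hi
    have hker : span _ (hcolAt P H φ '' Set.Iio (j + 1)) ≤ LinearMap.ker ℓ := by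
      rw [span_le]
      rintro _ ⟨i, hi, rfl⟩
      rw [Set.mem_Iio] at hi
      match i with
      | 0 => rw [SetLike.mem_coe, LinearMap.mem_ker, h01]; exact hlow 0 hj0
      | i + 1 => rw [SetLike.mem_coe, LinearMap.mem_ker]; exact hlow i (by omega)
    have h0 : ℓ (hcolAt P H φ (j + 1)) = 0 := hker hmem
    rw [hℓ, evalP_eq_zero_iff P (val_hasseD_le hK P ht hH (hval g) j)] at h0
    have := (val_hasseD_lt_iff hK P ht hH (hval g) (j + 1)).mpr fun i hi => by
      rcases Nat.lt_or_ge i j with h | h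
      · exact (val_hasseD_lt_iff hK P ht hH (hval g) j).mp hfv.le i h
      · rw [show i = j by omega]; exact h0
    rw [hfv, exp_le_exp] at this
    omega

include hK ht hH hnorm in
/-- Orders at a place exist. -/
theorem exists_ordersAt (hφ : LinearIndependent k φ) (heff : (1 : K) ∈ span k (Set.range φ)) :
    ∃ J : Fin n → ℕ, IsOrders (IsLocalRing.ResidueField P.O) (hcolAt P H φ) J := by
  have hd : ∀ i l, P.1 (hasseD H i (φ l)) ≤ 1 := fun i l => val_hasseD_le hK P ht hH (hnorm l) i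
  have h0 : hcolAt P H φ 0 ≠ 0 := fun h => by
    obtain ⟨g, hg⟩ := (mem_span_range_iff_exists_fun k).mp heff
    have := evalP_smul_sum P g hnorm
    rw [hg] at this
    have hz : ∀ l, evalP P (φ l) = 0 := fun l => congrFun h l
    simp only [hz, mul_zero, Finset.sum_const_zero] at this
    rw [evalP_eq_zero_iff P (le_of_eq (map_one _)), map_one] at this
    exact lt_irrefl _ this
  have hfull : span (IsLocalRing.ResidueField P.O) (Set.range (hcolAt P H φ)) = ⊤ := by
    by_contra hne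
    obtain ⟨ℓ, hℓ0, hℓ⟩ := exists_le_ker_of_lt_top _ (lt_top_iff_ne_top.mpr hne)
    choose g hg using fun l => residue_surjective_const hK P (ℓ (Pi.single l 1))
    have hf : ∀ i, P.1 (hasseD H i (∑ l, g l • φ l)) < 1 := fun i => by
      rw [← evalP_eq_zero_iff P (val_hasseD_le hK P ht hH (val_le_of_mem_span hK P hnorm
        (sum_mem fun l _ => smul_mem _ _ (subset_span ⟨l, rfl⟩))) i)]
      rw [show hasseD H i (∑ l, g l • φ l) = ∑ l, g l • hasseD H i (φ l) by
        simp only [hasseD_apply, map_sum, map_smul, PowerSeries.coeff_smul], evalP_smul_sum P g (hd i)]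
      have : ℓ (hcolAt P H φ (i + 1)) = 0 := hℓ (subset_span ⟨i + 1, rfl⟩)
      rw [pi_eq_sum_univ' (hcolAt P H φ (i + 1)), map_sum] at this
      rw [← this]
      refine Finset.sum_congr rfl fun l _ => ?_
      rw [map_smul, hg, smul_eq_mul, mul_comm]; rfl
    have hzero : ∑ l, g l • φ l = 0 := by
      by_contra hne'
      have h1 := val_le_of_mem_span hK P hnorm (sum_mem (t := Finset.univ) fun l _ =>
        smul_mem _ (g l) (subset_span ⟨l, rfl⟩))
      have := hf (P.ord (∑ l, g l • φ l)).toNat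
      rw [exists_val_hasseD_eq_one hK P ht hH hne' h1] at this
      exact lt_irrefl _ this
    refine hℓ0 (LinearMap.pi_ext' fun l => LinearMap.ext_ring ?_)
    have := Fintype.linearIndependent_iff.mp hφ g hzero l
    simp only [LinearMap.coe_comp, Function.comp_apply, LinearMap.single_apply, LinearMap.zero_comp,
      LinearMap.zero_apply]
    rw [← hg l, this, map_zero]
  obtain ⟨J, hJ, -⟩ := exists_isOrders h0 hfull
  exact ⟨J, hJ⟩

include hK ht hH hnorm in
theorem exists_adapted (hφ : LinearIndependent k φ) (heff : (1 : K) ∈ span k (Set.range φ)) {J : Fin n → ℕ}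
    (hJ : IsOrders (IsLocalRing.ResidueField P.O) (hcolAt P H φ) J) :
    (∀ l, 0 < J l) ∧
    (∃ ψ : Fin (n + 1) → K, ψ 0 = 1 ∧ span k (Set.range ψ) = span k (Set.range φ) ∧ LinearIndependent k ψ ∧
      ∀ l : Fin n, P.1 (ψ l.succ) = exp (-(J l : ℤ)) ∧ P.1 (ψ l.succ / t ^ J l - 1) < 1) ∧
    ∀ j : ℕ, (j = 0 ∨ j ∈ Set.range J) ↔ ∃ f ∈ span k (Set.range φ), P.1 f = exp (-(j : ℤ)) := by
  have ht0 : t ≠ 0 := fun h => exp_ne_zero (by rw [← ht, h, map_zero])
  have hex : ∀ l, 0 < J l ∧ ∃ f ∈ span k (Set.range φ), P.1 f = exp (-(J l : ℤ)) := fun l =>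
    (isJump_hcolAt_iff hK P ht hH hnorm (J l)).mp ((hJ.2 _).mp ⟨l, rfl⟩)
  choose hpos f hf hfv using hex
  have hu : ∀ l, P.1 (f l / t ^ J l) = 1 := fun l => by
    rw [map_div₀, map_pow, ht, hfv, ← exp_nsmul, ← exp_sub]; simp
  choose c hc using fun l => exists_const_near hK P (hu l).le
  have hc0 : ∀ l, c l ≠ 0 := fun l h => by
    have := hc l
    rw [h, map_zero, sub_zero, hu] at this
    exact lt_irrefl _ this
  let ψ : Fin (n + 1) → K := Fin.cases 1 fun l => (c l)⁻¹ • f l
  have hv : ∀ l : Fin n, P.1 (ψ l.succ) = exp (-(J l : ℤ)) := fun l => by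
    simp only [ψ, Fin.cases_succ, Algebra.smul_def, map_mul, val_algebraMap P (inv_ne_zero (hc0 l)), hfv, one_mul]
  have hlead : ∀ l : Fin n, P.1 (ψ l.succ / t ^ J l - 1) < 1 := fun l => by
    have hcK : algebraMap k K (c l) ≠ 0 := (map_ne_zero _).mpr (hc0 l)
    have e : ψ l.succ / t ^ J l - 1 = algebraMap k K (c l)⁻¹ * (f l / t ^ J l - algebraMap k K (c l)) := by
      simp only [ψ, Fin.cases_succ, Algebra.smul_def, map_inv₀]
      field_simp
    rw [e, map_mul, val_algebraMap P (inv_ne_zero (hc0 l)), one_mul]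
    exact hc l
  have hψv : ∀ i, P.1 (ψ i) = exp (-(Fin.cases (motive := fun _ => ℤ) 0 (fun l => (J l : ℤ)) i)) := fun i => by
    induction i using Fin.cases with
    | zero => simp [ψ]
    | succ l => simpa using hv l
  have hli : LinearIndependent k ψ := by
    rw [Fintype.linearIndependent_iff]
    intro g hg
    by_contra hne
    push Not at hne
    obtain ⟨i₀, hi₀⟩ := hne
    obtain ⟨i, hi, hmin⟩ := Finset.exists_min_image (Finset.univ.filter fun i => g i ≠ 0) id
      ⟨i₀, by simp [hi₀]⟩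
    rw [Finset.mem_filter] at hi
    rw [← Finset.add_sum_erase _ _ (Finset.mem_univ i)] at hg
    have hlt : P.1 (∑ l ∈ Finset.univ.erase i, g l • ψ l) < P.1 (g i • ψ i) := by
      refine P.1.map_sum_lt (by simp [Algebra.smul_def, val_algebraMap P hi.2, hψv]) fun l hl => ?_
      rcases eq_or_ne (g l) 0 with h | h
      · rw [h, zero_smul, map_zero, Algebra.smul_def, map_mul, val_algebraMap P hi.2, hψv, one_mul]; exact exp_pos
      · rw [Algebra.smul_def, Algebra.smul_def, map_mul, map_mul, val_algebraMap P hi.2, val_algebraMap P h,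
          one_mul, one_mul, hψv, hψv, exp_lt_exp, neg_lt_neg_iff]
        have hlt' : i < l := lt_of_le_of_ne (hmin l (Finset.mem_filter.mpr ⟨Finset.mem_univ _, h⟩))
          (Ne.symm (Finset.mem_erase.mp hl).1)
        induction l using Fin.cases with
        | zero => exact absurd hlt' (by simp)
        | succ l =>
          induction i using Fin.cases with
          | zero => simpa using hpos l
          | succ i => simpa using hJ.1 (Fin.succ_lt_succ_iff.mp hlt')
    have := Valuation.map_add_eq_of_lt_left P.1 hlt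
    rw [hg, map_zero] at this
    rw [← this] at hlt
    exact not_lt_zero hlt
  have hspan : span k (Set.range ψ) = span k (Set.range φ) := by
    have hle : span k (Set.range ψ) ≤ span k (Set.range φ) := span_le.mpr (by
      rintro _ ⟨i, rfl⟩
      induction i using Fin.cases with
      | zero => exact heff
      | succ l => exact smul_mem _ _ (hf l))
    have : FiniteDimensional k (span k (Set.range φ)) := FiniteDimensional.span_of_finite k (Set.finite_range φ)
    refine Submodule.eq_of_le_of_finrank_le hle ?_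
    rw [finrank_span_eq_card hli, finrank_span_eq_card hφ]
  refine ⟨hpos, ⟨ψ, rfl, hspan, hli, fun l => ⟨hv l, hlead l⟩⟩, fun j => ?_⟩
  constructor
  · rintro (rfl | ⟨l, rfl⟩)
    · exact ⟨1, heff, by simp⟩
    · exact ⟨f l, hf l, hfv l⟩
  · intro h
    rcases Nat.eq_zero_or_pos j with hj | hj
    · exact Or.inl hj
    · exact Or.inr ((hJ.2 j).mpr ((isJump_hcolAt_iff hK P ht hH hnorm j).mpr ⟨hj, h⟩))

end

/-- A fixed point preserves the valuation ring and the orders from below. -/
theorem val_tau_le (hK : IsFunctionField k K) (τ : K →ₐ[k] K) (P : Place k K) (hP : IsFixedPt τ P) {z : K}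
    (hz : P.1 z ≤ 1) : P.1 (τ z) ≤ 1 := by
  obtain ⟨c, hc⟩ := exists_const_near hK P hz
  rw [show τ z = τ (z - algebraMap k K c) + algebraMap k K c by rw [map_sub, τ.commutes, sub_add_cancel]]
  exact P.1.map_add_le (hP _ hc).le (P.2.1 c)

theorem val_tau_pow_le (hK : IsFunctionField k K) (τ : K →ₐ[k] K) (P : Place k K) (hP : IsFixedPt τ P) {t : K}
    (ht : P.1 t = exp (-1 : ℤ)) {z : K} {j : ℕ} (hz : P.1 z ≤ exp (-(j : ℤ))) (m : ℕ)
    (hm : P.1 (τ t) ≤ exp (-(m : ℤ))) : P.1 (τ z) ≤ exp (-((m * j : ℕ) : ℤ)) := by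
  have ht0 : t ≠ 0 := fun h => exp_ne_zero (by rw [← ht, h, map_zero])
  rw [show z = t ^ j * (z / t ^ j) by rw [mul_div_cancel₀ _ (pow_ne_zero _ ht0)], map_mul, map_mul, map_pow, map_pow]
  have h1 : P.1 (z / t ^ j) ≤ 1 := by
    rw [map_div₀, map_pow, ht, ← exp_nsmul]
    exact div_le_one_of_le₀ (hz.trans_eq (by simp)) zero_le
  refine (mul_le_mul' (pow_le_pow_left₀ zero_le hm j) (val_tau_le hK τ P hP h1)).trans_eq ?_
  rw [mul_one, ← exp_nsmul]; congr 1; push_cast; simp; ring

/-- Clearing the first row of a matrix with top-left entry `1`. -/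
theorem det_clear_first_row {R : Type*} [Field R] {n : ℕ} (M : Matrix (Fin (n + 1)) (Fin (n + 1)) R) (h : M 0 0 = 1) :
    M.det = (Matrix.of fun r l : Fin n => M r.succ l.succ - M 0 l.succ * M r.succ 0).det := by
  let M' : Matrix (Fin (n + 1)) (Fin (n + 1)) R := Matrix.of fun i =>
    Fin.cases (M i 0) fun l => M i l.succ - M 0 l.succ * M i 0
  have h1 : M'.det = M.det := by
    rw [det_triangular (M := M) (M' := M') (a := fun _ => 1) fun l => ?_]
    · simp
    · induction l using Fin.cases with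
      | zero =>
        have : (fun i => M' i 0) - (1 : R) • (fun i => M i 0) = 0 := by ext i; simp [M']
        rw [this]; exact zero_mem _
      | succ l =>
        have : (fun i => M' i l.succ) - (1 : R) • (fun i => M i l.succ) = (-M 0 l.succ) • fun i => M i 0 := by
          ext i; simp [M']
        rw [this]
        exact smul_mem _ _ (subset_span ⟨0, Fin.succ_pos l, rfl⟩)
  rw [← h1, Matrix.det_succ_row_zero, Finset.sum_eq_single 0]
  · simp only [Fin.val_zero, pow_zero, one_mul, M', Matrix.of_apply, Fin.cases_zero, h]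
    congr 1
  · intro l _ hl
    obtain ⟨l', rfl⟩ := Fin.exists_succ_eq.mpr hl
    simp [M', h]
  · simp

theorem val_det_scaled (P : Place k K) {t : K} (ht : P.1 t = exp (-1 : ℤ)) {n : ℕ} (S : Matrix (Fin n) (Fin n) K)
    (J I : Fin n → ℕ) (hS : ∀ r l, P.1 (S r l) ≤ exp (-((J r : ℤ) - I l))) :
    P.1 S.det ≤ exp (-(∑ l, ((J l : ℤ) - I l))) ∧
    ∀ B : Matrix (Fin n) (Fin n) k, (∀ r l, P.1 (S r l - algebraMap k K (B r l) * t ^ ((J r : ℤ) - I l)) <
        exp (-((J r : ℤ) - I l))) → (P.1 S.det = exp (-(∑ l, ((J l : ℤ) - I l))) ↔ B.det ≠ 0) := by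
  have ht0 : t ≠ 0 := fun h => exp_ne_zero (by rw [← ht, h, map_zero])
  let N : Matrix (Fin n) (Fin n) K := fun r l => S r l * t ^ (-((J r : ℤ) - I l))
  have htv : ∀ m : ℤ, P.1 (t ^ m) = exp (-m) := fun m => by rw [map_zpow₀, ht, ← exp_zsmul]; simp
  have hN : ∀ r l, P.1 (N r l) ≤ 1 := fun r l => by
    rw [map_mul, htv, neg_neg]
    refine (mul_le_mul' (hS r l) le_rfl).trans_eq ?_
    rw [← exp_add, neg_add_cancel, exp_zero]
  have hSN : S = Matrix.diagonal (fun r => t ^ (J r : ℤ)) * N * Matrix.diagonal (fun l => t ^ (-(I l : ℤ))) := by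
    ext r l
    rw [Matrix.mul_diagonal, Matrix.diagonal_mul]
    calc S r l = S r l * t ^ ((J r : ℤ) + -((J r : ℤ) - I l) + -(I l : ℤ)) := by
          rw [show (J r : ℤ) + -((J r : ℤ) - I l) + -(I l : ℤ) = 0 by ring, zpow_zero, mul_one]
      _ = _ := by rw [zpow_add₀ ht0, zpow_add₀ ht0]; simp only [N]; ring
  have hdet : P.1 S.det = exp (-(∑ l, ((J l : ℤ) - I l))) * P.1 N.det := by
    have hprod : ∀ (e : Fin n → ℤ) (T : Finset (Fin n)), P.1 (∏ l ∈ T, t ^ e l) = exp (-∑ l ∈ T, e l) := fun e T => by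
      induction T using Finset.induction with
      | empty => simp
      | insert a T ha ih => rw [Finset.prod_insert ha, map_mul, ih, htv, Finset.sum_insert ha, ← exp_add]; congr 1; ring
    rw [hSN, Matrix.det_mul, Matrix.det_mul, Matrix.det_diagonal, Matrix.det_diagonal, map_mul, map_mul, hprod, hprod,
      mul_right_comm, ← exp_add, Finset.sum_sub_distrib, Finset.sum_neg_distrib]
    congr 2; ring
  let NO : Matrix (Fin n) (Fin n) P.O := fun r l => ⟨N r l, (mem_O P).mpr (hN r l)⟩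
  have hNdet : N.det = ((NO.det : P.O) : K) := (RingHom.map_det P.O.subtype NO).symm
  have hNle : P.1 N.det ≤ 1 := by rw [hNdet]; exact (mem_O P).mp NO.det.2
  refine ⟨by rw [hdet]; exact (mul_le_mul' le_rfl hNle).trans_eq (mul_one _), fun B hB => ?_⟩
  have hres : NO.map (IsLocalRing.residue P.O) = B.map (algebraMap k _) := by
    ext r l
    rw [Matrix.map_apply, Matrix.map_apply, algebraMap_res, ← sub_eq_zero, ← map_sub, residue_eq_zero_iff]
    change P.1 (N r l - algebraMap k K (B r l)) < 1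
    rw [show N r l - algebraMap k K (B r l) =
      (S r l - algebraMap k K (B r l) * t ^ ((J r : ℤ) - I l)) * t ^ (-((J r : ℤ) - I l)) by
        rw [sub_mul, mul_assoc, ← zpow_add₀ ht0, add_neg_cancel, zpow_zero, mul_one], map_mul, htv, neg_neg]
    refine (mul_lt_mul_of_pos_right (hB r l) exp_pos).trans_eq ?_
    rw [← exp_add, neg_add_cancel, exp_zero]
  rw [hdet, mul_eq_left₀ exp_ne_zero]
  have hiff : IsLocalRing.residue P.O NO.det = 0 ↔ B.det = 0 := by
    rw [RingHom.map_det, RingHom.mapMatrix_apply, hres, ← RingHom.mapMatrix_apply, ← RingHom.map_det,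
      map_eq_zero]
  rw [residue_eq_zero_iff, ← hNdet] at hiff
  rw [ne_eq, ← hiff]
  exact ⟨fun h hlt => absurd h hlt.ne, fun h => le_antisymm hNle (not_lt.mp h)⟩

/-- The order at a fixed point of a Wronskian of an adapted tuple. -/
theorem val_wrMat_adapted (hK : IsFunctionField k K) (τ : K →ₐ[k] K) (P : Place k K) (hP : IsFixedPt τ P) {t : K}
    (ht : P.1 t = exp (-1 : ℤ)) {H : K →ₐ[k] PowerSeries K} (hH : IsHasseFamily t H) {n : ℕ}
    {ψ : Fin (n + 1) → K} {J : Fin n → ℕ} (h0 : ψ 0 = 1) (hJ0 : ∀ l, 0 < J l)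
    (hψ : ∀ l : Fin n, P.1 (ψ l.succ) = exp (-(J l : ℤ)) ∧ P.1 (ψ l.succ / t ^ J l - 1) < 1) (I : Fin n → ℕ) :
    P.1 (wrMat τ H ψ I).det ≤ exp (-(∑ l, ((J l : ℤ) - I l))) ∧
    (((∀ l, 0 < I l) ∨ IsStrongFixedPt τ P) →
      (P.1 (wrMat τ H ψ I).det = exp (-(∑ l, ((J l : ℤ) - I l))) ↔ (binomMat k J I).det ≠ 0)) := by
  have := isSeparable_of_hasse hK hH
  have ht0 : t ≠ 0 := fun h => exp_ne_zero (by rw [← ht, h, map_zero])
  have h00 : wrMat τ H ψ I 0 0 = 1 := by simp [wrMat, h0]
  rw [det_clear_first_row _ h00]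
  set S : Matrix (Fin n) (Fin n) K :=
    Matrix.of fun r l : Fin n => wrMat τ H ψ I r.succ l.succ - wrMat τ H ψ I 0 l.succ * wrMat τ H ψ I r.succ 0
  have hS : ∀ r l, S r l = hasseD H (I l) (ψ r.succ) - (if I l = 0 then τ (ψ r.succ) else 0) := fun r l => by
    simp only [S, Matrix.of_apply, wrMat, Fin.cases_zero, Fin.cases_succ, h0]
    congr 1
    have : hasseD H (I l) (1 : K) = if I l = 0 then 1 else 0 := by
      rw [hasseD_apply, map_one, PowerSeries.coeff_one]
    rw [this]; split_ifs <;> simp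
  obtain ⟨φ, hφ, hφt, hps⟩ := exists_expansion hK P ht
  have hψle : ∀ r : Fin n, P.1 (ψ r.succ) ≤ 1 := fun r => by
    rw [(hψ r).1, ← exp_zero, exp_le_exp]; omega
  -- the Hasse derivatives of `ψ` to leading order
  have hcoeff : ∀ (r : Fin n) (i : ℕ) (m : ℤ), m + i < J r → (φ (hasseD H i (ψ r.succ))).coeff m = 0 := fun r i m hm => by
    obtain ⟨g, hg⟩ := hps _ (hψle r)
    rw [expansion_hasseD hH φ hφt g hg, LaurentSeries.hasseDeriv_coeff,
      (LaurentSeries.valuation_le_iff_coeff_lt_eq_zero k).mp (((hφ.1 _).trans (hψ r).1).le) (m + i) hm, smul_zero]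
  have hDle : ∀ r i, P.1 (hasseD H i (ψ r.succ)) ≤ exp (-((J r : ℤ) - i)) := fun r i => by
    rw [← hφ.1]
    exact (LaurentSeries.valuation_le_iff_coeff_lt_eq_zero k).mpr fun m hm => hcoeff r i m (by omega)
  have hlead : ∀ r i, P.1 (hasseD H i (ψ r.succ) - algebraMap k K ((J r).choose i : k) * t ^ ((J r : ℤ) - i)) <
      exp (-((J r : ℤ) - i)) := fun r i => by
    have hle : P.1 (hasseD H i (ψ r.succ) - algebraMap k K ((J r).choose i : k) * t ^ ((J r : ℤ) - i)) ≤
        exp (-(((J r : ℤ) - i) + 1)) := by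
      rw [← hφ.1]
      refine (LaurentSeries.valuation_le_iff_coeff_lt_eq_zero k).mpr fun m hm => ?_
      rw [map_sub, map_mul, φ.commutes, algebraMap_eq_C, map_zpow₀, hφt, HahnSeries.coeff_sub,
        HahnSeries.C_mul_eq_smul, HahnSeries.coeff_smul, smul_eq_mul]
      have hpow : (HahnSeries.single (1 : ℤ) (1 : k)) ^ ((J r : ℤ) - i) = HahnSeries.single ((J r : ℤ) - i) 1 := by
        exact (RatFunc.single_zpow _).symm
      rw [hpow]
      rcases eq_or_lt_of_le (show m ≤ (J r : ℤ) - i by omega) with rfl | hlt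
      · obtain ⟨g, hg⟩ := hps _ (hψle r)
        rw [expansion_hasseD hH φ hφt g hg, LaurentSeries.hasseDeriv_coeff, sub_add_cancel, Ring.choose_natCast,
          HahnSeries.coeff_single_same, mul_one]
        have h1 : (φ (ψ r.succ)).coeff (J r) = 1 := by
          have hl : P.1 (ψ r.succ - t ^ J r) ≤ exp (-((J r : ℤ) + 1)) := by
            rw [show ψ r.succ - t ^ J r = t ^ J r * (ψ r.succ / t ^ J r - 1) by
              rw [mul_sub, mul_div_cancel₀ _ (pow_ne_zero _ ht0), mul_one], map_mul, map_pow, ht, ← exp_nsmul]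
            refine (mul_le_mul' le_rfl (?_ : P.1 (ψ r.succ / t ^ J r - 1) ≤ exp (-1 : ℤ))).trans_eq ?_
            · rcases eq_or_ne (ψ r.succ / t ^ J r - 1) 0 with h | h
              · rw [h, map_zero]; exact zero_le
              · have h2 := (val_lt_one_iff P h).mp (hψ r).2
                rw [val_le_exp_iff P h]; omega
            · rw [← exp_add]; congr 1; simp; ring
          rw [← hφ.1, map_sub, map_pow, hφt, HahnSeries.single_pow, one_pow] at hl
          have := (LaurentSeries.valuation_le_iff_coeff_lt_eq_zero k).mp hl (J r) (by omega)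
          rw [HahnSeries.coeff_sub, sub_eq_zero] at this
          rw [this]; simp
        rw [h1, zsmul_eq_mul, mul_one, Int.cast_natCast, sub_self]
      · rw [hcoeff r i m (by omega), HahnSeries.coeff_single_of_ne (by omega), mul_zero, sub_zero]
    exact hle.trans_lt (exp_lt_exp.mpr (by omega))
  have hτle : ∀ r, P.1 (τ (ψ r.succ)) ≤ exp (-((1 * J r : ℕ) : ℤ)) := fun r =>
    val_tau_pow_le hK τ P hP ht (hψ r).1.le 1 (by
      have h1 : P.1 (τ t) < 1 := hP t (by rw [ht, ← exp_zero, exp_lt_exp]; omega)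
      rcases eq_or_ne (τ t) 0 with h | h
      · rw [h, map_zero]; exact zero_le
      · have := (val_lt_one_iff P h).mp h1
        rw [val_le_exp_iff P h]; omega)
  have hSle : ∀ r l, P.1 (S r l) ≤ exp (-((J r : ℤ) - I l)) := fun r l => by
    rw [hS]
    refine P.1.map_sub_le (hDle r (I l)) ?_
    split_ifs with h
    · refine (hτle r).trans (exp_le_exp.mpr ?_)
      rw [h]; push_cast; omega
    · rw [map_zero]; exact zero_le
  obtain ⟨hle, hiff⟩ := val_det_scaled P ht S J I hSle
  refine ⟨hle, fun hcase => hiff (binomMat k J I) fun r l => ?_⟩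
  rw [hS, binomMat, Matrix.of_apply]
  split_ifs with h
  · rcases hcase with hI | hstrong
    · exact absurd h (hI l).ne'
    · have h2 : P.1 (τ (ψ r.succ)) ≤ exp (-((2 * J r : ℕ) : ℤ)) :=
        val_tau_pow_le hK τ P hP ht (hψ r).1.le 2 (hstrong t (by rw [ht, ← exp_zero, exp_lt_exp]; omega))
      rw [sub_right_comm]
      refine (P.1.map_sub _ _).trans_lt (max_lt (hlead r (I l)) (h2.trans_lt (exp_lt_exp.mpr ?_)))
      have := hJ0 r
      rw [h]; push_cast; omega
  · rw [sub_zero]; exact hlead r (I l)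

/-- The order at a fixed point of a Wronskian of a normalised tuple. -/
theorem val_wrMat_le_and_iff (hK : IsFunctionField k K) (τ : K →ₐ[k] K) (P : Place k K) (hP : IsFixedPt τ P) {t : K}
    (ht : P.1 t = exp (-1 : ℤ)) {H : K →ₐ[k] PowerSeries K} (hH : IsHasseFamily t H) {n : ℕ} {φ : Fin (n + 1) → K}
    (hφ : LinearIndependent k φ) (heff : (1 : K) ∈ span k (Set.range φ)) (hnorm : ∀ i, P.1 (φ i) ≤ 1)
    {J : Fin n → ℕ} (hJ : IsOrders (IsLocalRing.ResidueField P.O) (hcolAt P H φ) J) (I : Fin n → ℕ) :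
    P.1 (wrMat τ H φ I).det ≤ exp (-(∑ l, ((J l : ℤ) - I l))) ∧
    (((∀ l, 0 < I l) ∨ IsStrongFixedPt τ P) →
      (P.1 (wrMat τ H φ I).det = exp (-(∑ l, ((J l : ℤ) - I l))) ↔ (binomMat k J I).det ≠ 0)) := by
  obtain ⟨hpos, ⟨ψ, hψ0, hspan, hψli, hψ⟩, -⟩ := exists_adapted hK P ht hH hnorm hφ heff hJ
  have hmem : ∀ i, φ i ∈ span k (Set.range ψ) := fun i => hspan ▸ subset_span ⟨i, rfl⟩
  choose A hA using fun i => (mem_span_range_iff_exists_fun k).mp (hmem i)
  have hAdet : (Matrix.of A).det ≠ 0 := by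
    intro h0
    obtain ⟨v, hv, hvA⟩ := Matrix.exists_vecMul_eq_zero_iff.mpr h0
    refine hv (funext fun i => Fintype.linearIndependent_iff.mp hφ v ?_ i)
    simp only [← hA, Finset.smul_sum, smul_smul]
    rw [Finset.sum_comm]
    refine Finset.sum_eq_zero fun l _ => ?_
    rw [← Finset.sum_smul, show ∑ x, v x * A x l = 0 from congrFun hvA l, zero_smul]
  have hm : wrMat τ H φ I = (Matrix.of A).map (algebraMap k K) * wrMat τ H ψ I := by
    ext i c
    rw [Matrix.mul_apply]
    induction c using Fin.cases with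
    | zero => simp [wrMat, ← hA, map_sum, map_smul, Algebra.smul_def]
    | succ l =>
      simp only [wrMat, Matrix.of_apply, Fin.cases_succ, ← hA i, hasseD_apply, map_sum, map_smul, PowerSeries.coeff_smul]
      exact Finset.sum_congr rfl fun _ _ => Algebra.smul_def _ _
  have hdet : P.1 (wrMat τ H φ I).det = P.1 (wrMat τ H ψ I).det := by
    rw [hm, Matrix.det_mul, ← RingHom.mapMatrix_apply, ← RingHom.map_det, map_mul, val_algebraMap P hAdet, one_mul]
  rw [hdet]
  exact val_wrMat_adapted hK τ P hP ht hH hψ0 hpos hψ I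

end Groth.Agent.FF
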