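import Groth.Agent.FF.Series
import Groth.Prelude.Def_W4bk4goldsch45
import Mathlib.RingTheory.Finiteness.Nakayama

/-! Nonsingularity of a projective map from separation of points and tangents. -/

namespace Groth.Agent.FF

open WithZero FunFld Module
open scoped Classical

variable {k K : Type*} [Field k] [Field K] [Algebra k K]

/-- Functions regular outside the support of a divisor. -/
def affineRing (D : Divisor k K) : Subalgebra k K where
  carrier := {z | ∀ Q : Place k K, D Q = 0 → Q.1 z ≤ 1}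
  mul_mem' {a b} ha hb Q hQ := by rw [map_mul]; exact mul_le_one' (ha Q hQ) (hb Q hQ)
  add_mem' {a b} ha hb Q hQ := (Q.1.map_add a b).trans (max_le (ha Q hQ) (hb Q hQ))
  algebraMap_mem' c Q _ := Q.2.1 c

theorem mem_affineRing {D : Divisor k K} {z : K} :
    z ∈ affineRing D ↔ ∀ Q : Place k K, D Q = 0 → Q.1 z ≤ 1 := Iff.rfl

theorem exists_unit_mult (hK : IsFunctionField k K) {D : Divisor k K} (hD : 0 < D.deg)
    {P : Place k K} (hPD : D P = 0) {z : K} (hz : P.1 z ≤ 1) :
    ∃ c ∈ affineRing D, P.1 c = 1 ∧ c * z ∈ affineRing D := by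
  obtain ⟨Pinf, hinf⟩ : ∃ Q, D Q ≠ 0 := by
    by_contra hc; push Not at hc
    rw [show D = 0 from Finsupp.ext hc, deg_zero] at hD; omega
  have hfin : {Q : Place k K | 1 < Q.1 z}.Finite := (finite_support_ord hK z).subset fun Q hQ => by
    rcases eq_or_ne z 0 with rfl | hz0
    · simp at hQ
    · intro h0
      replace h0 : Q.ord z = 0 := h0
      simp only [Set.mem_ofPred_eq] at hQ
      rw [val_eq_exp_neg_ord Q hz0, h0] at hQ
      simp at hQ
  have hPinf : P ≠ Pinf := fun e => hinf (e ▸ hPD)
  obtain ⟨c, h1, h2⟩ := strong_approximation' hK Pinf ((insert P hfin.toFinset).erase Pinf) (by simp)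
    (fun Q => if Q = P then 1 else 0) (fun Q => if Q = P then -1 else -(poles (k := k) z Q))
  have hP : P.1 c = 1 := by
    have := h1 P (by simp [hPinf])
    simp only [if_true] at this
    rw [show c = 1 + (c - 1) by ring, Valuation.map_add_eq_of_lt_left _ ?_, map_one]
    rw [map_one]; exact lt_of_le_of_lt this (by rw [← exp_zero, exp_lt_exp]; omega)
  have hsmall : ∀ Q, Q ≠ P → Q ≠ Pinf → 1 < Q.1 z → Q.1 c ≤ exp (-(poles (k := k) z Q)) := fun Q hQP hQi hQ => by
    have := h1 Q (Finset.mem_erase.mpr ⟨hQi, Finset.mem_insert_of_mem (hfin.mem_toFinset.mpr hQ)⟩)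
    simpa [hQP] using this
  have hc : ∀ Q, Q ≠ Pinf → Q.1 c ≤ 1 := fun Q hQi => by
    rcases eq_or_ne Q P with rfl | hQP
    · exact hP.le
    by_cases hQ : 1 < Q.1 z
    · exact (hsmall Q hQP hQi hQ).trans (by
        rw [← exp_zero, exp_le_exp]; have := poles_nonneg (k := k) z Q; simp at this; omega)
    · exact h2 Q hQi fun hS => by simp [hQP, hQ] at hS
  refine ⟨c, fun Q hQ => hc Q (fun e => hinf (e ▸ hQ)), hP, fun Q hQ => ?_⟩
  have hQi : Q ≠ Pinf := fun e => hinf (e ▸ hQ)
  rw [map_mul]
  rcases eq_or_ne Q P with rfl | hQP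
  · exact mul_le_one' hP.le hz
  by_cases hQz : 1 < Q.1 z
  · refine (mul_le_mul' (hsmall Q hQP hQi hQz) (val_le_exp_poles hK z Q)).trans_eq ?_
    rw [← exp_add, neg_add_cancel, exp_zero]
  · exact mul_le_one' (hc Q hQi) (not_lt.mp hQz)

variable [IsAlgClosed k]

/-- Separation of places and tangents makes a projective map nonsingular at `P`. -/
theorem isNonsingularAt_of_separates (hK : IsFunctionField k K) {ι : Type*} [Fintype ι] (φ : ι → K)
    (D : Divisor k K) (hb : IsBpf (Submodule.span k (Set.range φ)) D) (P : Place k K)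
    (hsep : ∀ Q, Q ≠ P → ∃ s ∈ Submodule.span k (Set.range φ), P.1 s < exp (D P) ∧ IsExact D Q s)
    (htan : ∃ s ∈ Submodule.span k (Set.range φ), P.1 s = exp (D P - 1)) :
    IsNonsingularAt φ P := by
  set V := Submodule.span k (Set.range φ) with hV
  obtain ⟨j, hj⟩ : ∃ j, IsExact D P (φ j) := by
    by_contra hc; push Not at hc
    obtain ⟨s, hs, he⟩ := hb.exists_exact P
    have hle : V ≤ L (D - Finsupp.single P 1) := Submodule.span_le.mpr (by
      rintro _ ⟨i, rfl⟩ Q
      have hi := hb.le (Submodule.subset_span ⟨i, rfl⟩ : φ i ∈ V)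
      rcases eq_or_ne Q P with rfl | hQ
      · rw [Finsupp.sub_apply, Finsupp.single_eq_same]
        by_contra hn; exact hc i (exact_of_not_le hi hn)
      · simpa [Finsupp.single_eq_of_ne hQ] using hi Q)
    exact not_le_of_exact he (by simpa using hle hs P)
  set u := φ j with hu
  have hu0 : u ≠ 0 := hj.ne_zero
  set D' := D + div k u with hD'
  have hD'v : ∀ Q, Q.1 u = exp (D Q - D' Q) := fun Q => by
    rw [val_eq_exp_neg_ord Q hu0, hD', Finsupp.add_apply, div_apply hK]; congr 1; ring
  have hjV : u ∈ V := Submodule.subset_span ⟨j, rfl⟩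
  have hD'0 : ∀ Q, 0 ≤ D' Q := fun Q => by
    have := hb.le hjV Q; rw [hD'v, exp_le_exp] at this; omega
  have hratio : ∀ (n : ℕ) {v : K}, v ∈ L (n • D) → v / u ^ n ∈ affineRing D' := fun n v hv Q hQ => by
    have h1 := hv Q
    rw [Finsupp.smul_apply] at h1
    rw [map_div₀, map_pow, hD'v, hQ, sub_zero, ← exp_nsmul, div_le_one₀ exp_pos]; exact h1
  obtain ⟨s, hs, hsv⟩ := htan
  have hs0 : s ≠ 0 := fun e => by rw [e, map_zero] at hsv; exact exp_ne_zero hsv.symm
  have hd : 0 < D.deg := by
    by_contra hc; push Not at hc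
    have hz : D' = 0 := (eq_of_le_of_deg_le hK (D := 0) (E := D') (fun Q => by simpa using hD'0 Q)
      (by rw [deg_zero, hD', deg_add, deg_div_eq_zero hK]; simpa using hc)).symm
    have hmem : u⁻¹ * s ∈ L (0 : Divisor k K) := fun Q => by
      have h1 := hb.le hs Q
      rw [map_mul, map_inv₀, hD'v, hz, inv_mul_le_iff₀ exp_pos]; simpa using h1
    rw [L_zero_eq hK, Submodule.mem_span_singleton] at hmem
    obtain ⟨c, hc'⟩ := hmem
    rcases eq_or_ne c 0 with rfl | hc0
    · rw [zero_smul] at hc'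
      exact hs0 ((mul_eq_zero.mp hc'.symm).resolve_left (inv_ne_zero hu0))
    · have := congrArg P.1 hc'
      rw [Algebra.smul_def, mul_one, val_algebraMap P hc0, map_mul, map_inv₀, hj, hsv,
        ← exp_neg, ← exp_add, ← exp_zero, exp_inj] at this
      omega
  have hd' : 0 < D'.deg := by rw [hD', deg_add, deg_div_eq_zero hK]; simpa using hd
  have hPD' : D' P = 0 := by
    have h1 := hD'v P
    rw [show P.1 u = exp (D P) from hj, exp_inj] at h1; omega
  -- the algebra of ratios
  set A := Algebra.adjoin k (Set.range fun i => φ i / u) with hA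
  have hVA : ∀ v ∈ V, v / u ∈ A := fun v hv => by
    induction hv using Submodule.span_induction with
    | mem x hx => obtain ⟨i, rfl⟩ := hx; exact Algebra.subset_adjoin ⟨i, rfl⟩
    | zero => simp
    | add x y _ _ hx hy => rw [add_div]; exact A.add_mem hx hy
    | smul c x _ hx => rw [smul_div_assoc]; exact A.smul_mem hx c
  have hpowA : ∀ (n : ℕ), ∀ v ∈ V ^ n, v / u ^ n ∈ A := fun n => by
    induction n with
    | zero =>
      intro v hv
      rw [pow_zero, Submodule.mem_one] at hv
      obtain ⟨c, rfl⟩ := hv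
      simp
    | succ n ih =>
      intro v hv
      rw [pow_succ] at hv
      induction hv using Submodule.mul_induction_on' with
      | mem_mul_mem a ha b hb' => rw [pow_succ, mul_div_mul_comm]; exact A.mul_mem (ih a ha) (hVA b hb')
      | add a _ b _ ha hb' => rw [add_div]; exact A.add_mem ha hb'
  have hAB : A ≤ affineRing D' := Algebra.adjoin_le (by
    rintro _ ⟨i, rfl⟩
    simpa using hratio 1 (v := φ i) (by simpa using hb.le (Submodule.subset_span ⟨i, rfl⟩ : φ i ∈ V)))
  set B := affineRing D' with hB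
  -- module finiteness
  let n₀ : ℕ := 2 * genus k K + 1
  have hn₀ : ∀ n, n₀ ≤ n → 2 * (genus k K : ℤ) - 1 ≤ (n : ℤ) * D.deg - D.deg := fun n hn => by
    have : (n : ℤ) - 1 ≤ ((n : ℤ) - 1) * D.deg := le_mul_of_one_le_right (by omega) hd
    have hn' : (2 * (genus k K : ℤ) + 1) ≤ n := by simp only [n₀] at hn; omega
    nlinarith
  have := finiteDimensional_L hK (n₀ • D)
  obtain ⟨G, hG⟩ : ∃ G : Finset K, Submodule.span k (G : Set K) = L (n₀ • D) :=
    (Submodule.fg_iff_finiteDimensional _).mpr this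
  let M : Submodule A K := Submodule.span A (insert 1 ((fun g => g / u ^ n₀) '' (G : Set K)))
  have hMfg : M.FG := Submodule.fg_span (((G.finite_toSet).image _).insert 1)
  have hMB : ∀ m ∈ M, m ∈ B := fun m hm => by
    induction hm using Submodule.span_induction with
    | mem x hx =>
      rcases hx with rfl | ⟨g, hg, rfl⟩
      · exact B.one_mem
      · exact hratio n₀ (hG ▸ Submodule.subset_span hg)
    | zero => exact B.zero_mem
    | add x y _ _ hx hy => exact B.add_mem hx hy
    | smul a x _ hx => exact B.mul_mem (hAB a.2) hx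
  have hGM : ∀ b ∈ L (n₀ • D), b / u ^ n₀ ∈ M := fun b hbL => by
    rw [← hG] at hbL
    induction hbL using Submodule.span_induction with
    | mem x hx => exact Submodule.subset_span (Set.mem_insert_of_mem _ ⟨x, hx, rfl⟩)
    | zero => simp
    | add x y _ _ hx hy => rw [add_div]; exact M.add_mem hx hy
    | smul c x _ hx => rw [smul_div_assoc, ← algebraMap_smul A c]; exact M.smul_mem _ hx
  have hBM : ∀ z ∈ B, z ∈ M := fun z hz => by
    let e : ℕ := (poles (k := k) z).support.sup fun Q => (poles (k := k) z Q).toNat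
    have hzL : z * u ^ (n₀ + e) ∈ L ((n₀ + e) • D) := fun Q => by
      rw [map_mul, map_pow, hD'v, ← exp_nsmul, Finsupp.smul_apply]
      rcases eq_or_ne (D' Q) 0 with h0 | h0
      · rw [h0, sub_zero]; exact mul_le_of_le_one_left' (hz Q h0)
      · refine (mul_le_mul' (val_le_exp_poles hK z Q) le_rfl).trans ?_
        rw [← exp_add, exp_le_exp]
        simp only [nsmul_eq_mul]
        have h1 : (poles (k := k) z Q).toNat ≤ e := by
          by_cases hQ : Q ∈ (poles (k := k) z).support
          · exact Finset.le_sup (f := fun Q => (poles (k := k) z Q).toNat) hQ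
          · simp [Finsupp.notMem_support_iff.mp hQ]
        have h2 := hD'0 Q
        have h3 : (1 : ℤ) ≤ D' Q := by omega
        push_cast
        nlinarith [Int.self_le_toNat (poles (k := k) z Q)]
    have h1 := hb.L_nsmul_le hK hd.le n₀ hn₀ e hzL
    have h2 : ∀ w ∈ V ^ e * L (n₀ • D), w / u ^ (e + n₀) ∈ M := fun w hw => by
      induction hw using Submodule.mul_induction_on' with
      | mem_mul_mem a ha b hb' =>
        rw [pow_add, mul_div_mul_comm]
        exact M.smul_mem ⟨_, hpowA e a ha⟩ (hGM b hb')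
      | add a _ b _ ha hb' => rw [add_div]; exact M.add_mem ha hb'
    have h3 := h2 _ h1
    rwa [add_comm e, mul_div_assoc, div_self (pow_ne_zero _ hu0), mul_one] at h3
  -- the maximal ideal at `P`
  let I : Ideal A :=
    { carrier := {a | P.1 (a : K) < 1}
      add_mem' := fun {a b} ha hb' => (P.1.map_add _ _).trans_lt (max_lt ha hb')
      zero_mem' := by simp
      smul_mem' := fun c a ha => by
        change P.1 ((c : K) * (a : K)) < 1
        rw [map_mul]
        exact lt_of_le_of_lt (mul_le_of_le_one_left' (hAB c.2 P hPD')) ha }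
  let J : Ideal B := Ideal.span {b | (b : K) ∈ A ∧ P.1 (b : K) < 1}
  have hJI : ∀ b ∈ J, (b : K) ∈ I • M := fun b hbJ => by
    rw [show J = Submodule.span B {b : B | (b : K) ∈ A ∧ P.1 (b : K) < 1} from rfl] at hbJ
    induction hbJ using Submodule.closure_induction with
    | zero => exact (I • M).zero_mem
    | add x y _ _ hx hy => exact (I • M).add_mem hx hy
    | smul_mem c x hx =>
      have := Submodule.smul_mem_smul (r := (⟨x, hx.1⟩ : A)) (show _ ∈ I from hx.2) (hBM c c.2)
      change (c : K) * (x : K) ∈ I • M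
      rw [mul_comm]; exact this
  have hsA : s / u ∈ A := hVA s hs
  have htv : P.1 (s / u) = exp (-1 : ℤ) := by
    rw [map_div₀, hsv, show P.1 u = exp (D P) from hj, ← exp_sub]; congr 1; ring
  let t : B := ⟨s / u, hAB hsA⟩
  have ht1 : P.1 (t : K) < 1 := by
    rw [show (t : K) = s / u from rfl, htv, ← exp_zero, exp_lt_exp]; omega
  have htJ : t ∈ J := Ideal.subset_span ⟨hsA, ht1⟩
  have hJ : ∀ z : B, P.1 (z : K) < 1 → z ∈ J := by
    intro z hz
    let C : Ideal B :=
      { carrier := {c | c * z ∈ J}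
        add_mem' := fun {a b} ha hb' => by
          change (a + b) * z ∈ J; rw [add_mul]; exact J.add_mem ha hb'
        zero_mem' := by simp
        smul_mem' := fun c a ha => by
          change c * a * z ∈ J; rw [mul_assoc]; exact J.mul_mem_left c ha }
    suffices hC : C = ⊤ by
      have h1 : (1 : B) * z ∈ J := (Ideal.eq_top_iff_one C).mp hC
      rwa [one_mul] at h1
    by_contra hC
    obtain ⟨m, hm, hCm⟩ := C.exists_le_maximal hC
    have htm : t ∈ m := hCm (J.mul_mem_right z htJ)
    obtain ⟨O, hBO, hmO⟩ := Ideal.image_subset_nonunits_valuationSubring (A := B.toSubring) m hm.ne_top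
    have ht0 : (t : K) ≠ 0 := fun e => by
      rw [show s / u = (t : K) from rfl, e, map_zero] at htv; exact exp_ne_zero htv.symm
    have hne : O ≠ ⊤ := fun e => by
      subst e
      obtain ⟨h, hh⟩ := ValuationSubring.mem_nonunits_iff_exists_mem_maximalIdeal.mp (hmO ⟨t, htm, rfl⟩)
      rw [IsLocalRing.mem_maximalIdeal, mem_nonunits_iff, isUnit_iff_exists_inv] at hh
      exact hh ⟨⟨(t : K)⁻¹, trivial⟩, Subtype.ext (mul_inv_cancel₀ ht0)⟩
    obtain ⟨Q, rfl⟩ := exists_place_of_valuationSubring hK O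
      (fun c => hBO (B.algebraMap_mem c)) hne
    have hQm : ∀ c ∈ m, Q.1 (c : K) < 1 := fun c hc => by
      obtain ⟨h, hh⟩ := ValuationSubring.mem_nonunits_iff_exists_mem_maximalIdeal.mp (hmO ⟨c, hc, rfl⟩)
      exact (residue_eq_zero_iff Q (x := ⟨_, h⟩)).mp ((IsLocalRing.residue_eq_zero_iff _).mpr hh)
    rcases eq_or_ne Q P with rfl | hQP
    · -- a multiplier which is a unit at `P`
      have hw : Q.1 ((z : K) / (t : K)) ≤ 1 := by
        rw [map_div₀, show (t : K) = s / u from rfl, htv, div_le_one₀ exp_pos]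
        rcases eq_or_ne (z : K) 0 with h0 | h0
        · simp [h0]
        · rw [val_eq_exp_neg_ord Q h0, ← exp_zero, exp_lt_exp] at hz
          rw [val_eq_exp_neg_ord Q h0, exp_le_exp]; omega
      obtain ⟨c, hc, hc1, hcw⟩ := exists_unit_mult hK hd' hPD' hw
      have : (⟨c, hc⟩ : B) * z ∈ J := by
        have e : (⟨c, hc⟩ : B) * z = ⟨_, hcw⟩ * t := Subtype.ext (by
          change c * (z : K) = c * ((z : K) / (t : K)) * (t : K)
          field_simp)
        rw [e]; exact J.mul_mem_left _ htJ
      exact absurd hc1 (hQm ⟨c, hc⟩ (hCm this)).ne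
    · obtain ⟨s', hs', hlt, hex⟩ := hsep Q hQP
      have huQ : IsExact D Q u := by
        refine le_antisymm (hb.le hjV Q) ?_
        obtain ⟨s'', hs'', he''⟩ := hb.exists_exact Q
        have h1 : Q.1 (s'' / u) ≤ 1 := hBO (hAB (hVA s'' hs''))
        rw [map_div₀, div_le_one₀ (zero_lt_iff.mpr ((map_ne_zero _).mpr hu0))] at h1
        exact he'' ▸ h1
      have hP1 : P.1 (s' / u) < 1 := by
        rw [map_div₀, show P.1 u = exp (D P) from hj, div_lt_one₀ exp_pos]; exact hlt
      have hJm : (⟨s' / u, hAB (hVA s' hs')⟩ : B) ∈ m :=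
        hCm (J.mul_mem_right z (Ideal.subset_span ⟨hVA s' hs', hP1⟩))
      have := hQm _ hJm
      change Q.1 (s' / u) < 1 at this
      rw [map_div₀, hex, huQ, div_self exp_ne_zero] at this
      exact lt_irrefl _ this
  -- Nakayama
  let q := Submodule.mkQ (1 : Submodule A K)
  obtain ⟨r, hr1, hr⟩ := Submodule.exists_sub_one_mem_and_smul_eq_zero_of_fg_of_le_smul I (M.map q)
    (hMfg.map q) (by
      rintro _ ⟨z, hz, rfl⟩
      obtain ⟨c, hc⟩ := exists_const_near hK P (hMB z hz P hPD')
      have hmem : z - algebraMap k K c ∈ I • M :=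
        hJI ⟨_, B.sub_mem (hMB z hz) (B.algebraMap_mem c)⟩ (hJ _ hc)
      have e : q z = q (z - algebraMap k K c) := by
        refine (Submodule.Quotient.eq _).mpr ?_
        rw [sub_sub_cancel]
        exact Submodule.mem_one.mpr ⟨⟨_, A.algebraMap_mem c⟩, rfl⟩
      rw [e, ← Submodule.map_smul'']
      exact Submodule.mem_map_of_mem hmem)
  have hrP : P.1 (r : K) = 1 := by
    have h1 : P.1 ((r : K) - 1) < 1 := hr1
    rw [show (r : K) = 1 + ((r : K) - 1) by ring, Valuation.map_add_eq_of_lt_left _ (by rwa [map_one]),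
      map_one]
  have hrA : ∀ z ∈ B, (r : K) * z ∈ A := fun z hz => by
    have h1 : r • q z = 0 := hr _ ⟨z, hBM z hz, rfl⟩
    rw [← map_smul, Submodule.mkQ_apply, Submodule.Quotient.mk_eq_zero, Submodule.mem_one] at h1
    obtain ⟨a, ha⟩ := h1
    rw [show (r : K) * z = r • z from rfl, ← ha]
    exact a.2
  intro z hz
  obtain ⟨c, hc, hc1, hcz⟩ := exists_unit_mult hK hd' hPD' hz
  refine ⟨j, hu0, fun i => ?_, (r : K) * (c * z), hrA _ hcz, (r : K) * c, hrA _ hc,
    by rw [map_mul, hrP, hc1, one_mul], by ring⟩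
  rw [show P.1 (φ j) = exp (D P) from hj]
  exact hb.le (Submodule.subset_span ⟨i, rfl⟩ : φ i ∈ V) P

end Groth.Agent.FF
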