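import Groth.Agent.FF.LinSys
import Mathlib.Algebra.Module.Submodule.Union
import Mathlib.Algebra.Algebra.Operations
import Mathlib.Algebra.Order.Group.Nat

/-! Base point free systems and their powers; the base point free pencil trick. -/

namespace Groth.Agent.FF

open WithZero FunFld Module
open scoped Classical

variable {k K : Type*} [Field k] [Field K] [Algebra k K]

/-- `s` has exact order `-D(P)` at `P`. -/
def IsExact (D : Divisor k K) (P : Place k K) (s : K) : Prop := P.1 s = exp (D P)

theorem IsExact.ne_zero {D : Divisor k K} {P : Place k K} {s : K} (h : IsExact D P s) : s ≠ 0 := by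
  rintro rfl; rw [IsExact, map_zero] at h; exact exp_ne_zero h.symm

theorem IsExact.mul {D E : Divisor k K} {P : Place k K} {s t : K} (hs : IsExact D P s)
    (ht : IsExact E P t) : IsExact (D + E) P (s * t) := by
  rw [IsExact, map_mul, hs, ht, Finsupp.add_apply, exp_add]

theorem IsExact.pow {D : Divisor k K} {P : Place k K} {s : K} (hs : IsExact D P s) (n : ℕ) :
    IsExact (n • D) P (s ^ n) := by
  induction n with
  | zero => simp [IsExact]
  | succ n ih => rw [pow_succ, succ_nsmul]; exact ih.mul hs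

/-- `V ⊆ L(D)` has no base point. -/
structure IsBpf (V : Submodule k K) (D : Divisor k K) : Prop where
  le : V ≤ L D
  exists_exact : ∀ P : Place k K, ∃ s ∈ V, IsExact D P s

theorem mul_mem_L {D E : Divisor k K} {a b : K} (ha : a ∈ L D) (hb : b ∈ L E) : a * b ∈ L (D + E) :=
  fun P => by rw [map_mul, Finsupp.add_apply, exp_add]; exact mul_le_mul' (ha P) (hb P)

theorem pow_le_L {V : Submodule k K} {D : Divisor k K} (hV : V ≤ L D) (n : ℕ) : V ^ n ≤ L (n • D) := by
  induction n with
  | zero =>
    rw [pow_zero, zero_nsmul, Submodule.one_eq_span, Submodule.span_singleton_le_iff_mem]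
    intro P; simp
  | succ n ih =>
    rw [pow_succ, Submodule.mul_le, succ_nsmul]
    exact fun a ha b hb => mul_mem_L (ih ha) (hV hb)

theorem IsBpf.pow {V : Submodule k K} {D : Divisor k K} (h : IsBpf V D) (n : ℕ) :
    IsBpf (V ^ n) (n • D) where
  le := pow_le_L h.le n
  exists_exact P := by
    obtain ⟨s, hs, he⟩ := h.exists_exact P
    exact ⟨s ^ n, Submodule.pow_mem_pow V hs n, he.pow n⟩

theorem exact_of_not_le {D : Divisor k K} {P : Place k K} {s : K} (hs : s ∈ L D)
    (h : ¬ P.1 s ≤ exp (D P - 1)) : IsExact D P s := by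
  refine le_antisymm (hs P) ?_
  rcases eq_or_ne s 0 with rfl | h0
  · simp at h
  · rw [val_eq_exp_neg_ord P h0, exp_le_exp] at h ⊢; omega

theorem not_le_of_exact {D : Divisor k K} {P : Place k K} {s : K} (h : IsExact D P s) :
    ¬ P.1 s ≤ exp (D P - 1) := by rw [h, exp_le_exp]; omega

/-- A member exact at finitely many given places (infinite constant field). -/
theorem IsBpf.exists_exact_finset [Infinite k] {V : Submodule k K} {D : Divisor k K} (h : IsBpf V D)
    (hne : V ≠ ⊥) (S : Finset (Place k K)) : ∃ s ∈ V, s ≠ 0 ∧ ∀ P ∈ S, IsExact D P s := by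
  obtain ⟨P₀, hP₀⟩ | hS := (em (∃ P : Place k K, True))
  swap
  · obtain rfl : S = ∅ := Finset.eq_empty_of_forall_notMem fun P _ => hS ⟨P, trivial⟩
    by_cases hV : V = ⊥
    · subst hV
      -- a base point free system on an empty set of places may still be zero
      exact absurd rfl hne
    · obtain ⟨s, hs, h0⟩ := Submodule.exists_mem_ne_zero_of_ne_bot hV
      exact ⟨s, hs, h0, by simp⟩
  · let p : {P // P ∈ insert P₀ S} → Submodule k V :=
      fun P => (L (D - Finsupp.single P.1 1)).comap V.subtype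
    have hp : ∀ P, p P ≠ ⊤ := fun P e => by
      obtain ⟨s, hs, he⟩ := h.exists_exact P.1
      have : (⟨s, hs⟩ : V) ∈ p P := e ▸ Submodule.mem_top
      refine not_le_of_exact he ?_
      simpa using this P.1
    obtain ⟨⟨s, hs⟩, hx⟩ := Submodule.exists_forall_notMem_of_forall_ne_top p hp
    have hex : ∀ P ∈ insert P₀ S, IsExact D P s := fun P hP => by
      refine exact_of_not_le (h.le hs) fun hle => hx ⟨P, hP⟩ fun Q => ?_
      rcases eq_or_ne Q P with rfl | hQ
      · simpa using hle
      · simpa [Finsupp.single_eq_of_ne hQ] using h.le hs Q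
    exact ⟨s, hs, (hex P₀ (Finset.mem_insert_self _ _)).ne_zero,
      fun P hP => hex P (Finset.mem_insert_of_mem hP)⟩

/-- Two members without common zero. -/
theorem IsBpf.exists_pair [Infinite k] (hK : IsFunctionField k K) {V : Submodule k K} {D : Divisor k K}
    (h : IsBpf V D) : ∃ a ∈ V, ∃ a' ∈ V, a ≠ 0 ∧ a' ≠ 0 ∧ ∀ P, IsExact D P a ∨ IsExact D P a' := by
  have hne : V ≠ ⊥ := by
    obtain ⟨P⟩ := nonempty_place hK
    obtain ⟨s, hs, he⟩ := h.exists_exact P
    exact fun e => he.ne_zero ((Submodule.mem_bot k).mp (e ▸ hs))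
  obtain ⟨a, ha, ha0, -⟩ := h.exists_exact_finset hne ∅
  obtain ⟨a', ha', ha'0, hex⟩ := h.exists_exact_finset hne (D + div k a).support
  refine ⟨a, ha, a', ha', ha0, ha'0, fun P => ?_⟩
  by_cases hP : P ∈ (D + div k a).support
  · exact Or.inr (hex P hP)
  · rw [Finsupp.notMem_support_iff, Finsupp.add_apply, div_apply hK] at hP
    left
    rw [IsExact, val_eq_exp_neg_ord P ha0]
    congr 1; omega

/-- The base point free pencil trick. -/
theorem pencil (hK : IsFunctionField k K) {G E : Divisor k K} {a a' : K} (ha : a ∈ L G) (ha' : a' ∈ L G)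
    (ha0 : a ≠ 0) (ha'0 : a' ≠ 0) (hex : ∀ P, IsExact G P a ∨ IsExact G P a')
    (hE : 2 * (genus k K : ℤ) - 1 ≤ E.deg - G.deg) (hG : 0 ≤ G.deg) :
    ∀ x ∈ L (E + G), ∃ y ∈ L E, ∃ z ∈ L E, a * y + a' * z = x := by
  have := finiteDimensional_L hK E
  have := finiteDimensional_L hK (E + G)
  have := finiteDimensional_L hK (E - G)
  let f : (L E × L E) →ₗ[k] L (E + G) :=
    ((LinearMap.mulLeft k a).restrict (p := L E) (q := L (E + G))
      fun x hx => by rw [add_comm E]; exact mul_mem_L ha hx).coprod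
    ((LinearMap.mulLeft k a').restrict (p := L E) (q := L (E + G))
      fun x hx => by rw [add_comm E]; exact mul_mem_L ha' hx)
  have hker : finrank k (LinearMap.ker f) ≤ ell (E - G) := by
    have hmem : ∀ p : LinearMap.ker f, (p.1.1 : K) / a' ∈ L (E - G) := fun p P => by
      have hsum : a * (p.1.1 : K) + a' * (p.1.2 : K) = 0 := congrArg Subtype.val p.2
      rw [map_div₀, div_le_iff₀ (zero_lt_iff.mpr ((map_ne_zero _).mpr ha'0))]
      rcases hex P with he | he
      · have hv : P.1 a * P.1 (p.1.1 : K) = P.1 a' * P.1 (p.1.2 : K) := by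
          rw [← map_mul, ← map_mul, eq_neg_of_add_eq_zero_left hsum, Valuation.map_neg]
        rw [he] at hv
        have h2 := p.1.2.2 P
        have h3 : exp (G P) * P.1 (p.1.1 : K) ≤ exp (G P) * (exp ((E - G) P) * P.1 a') := by
          rw [hv, ← mul_assoc, Finsupp.sub_apply, ← exp_add, add_sub_cancel, mul_comm (exp (E P))]
          exact mul_le_mul' le_rfl h2
        exact le_of_mul_le_mul_left h3 exp_pos
      · rw [he, Finsupp.sub_apply, ← exp_add, sub_add_cancel]; exact p.1.1.2 P
    let ψ : LinearMap.ker f →ₗ[k] L (E - G) :=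
      { toFun := fun p => ⟨(p.1.1 : K) / a', hmem p⟩
        map_add' := fun p q => Subtype.ext (by simp [add_div])
        map_smul' := fun c p => Subtype.ext (by simp [Algebra.smul_def, mul_div_assoc]) }
    refine LinearMap.finrank_le_finrank_of_injective (f := ψ) ((injective_iff_map_eq_zero _).mpr fun p hp => ?_)
    have hx : (p.1.1 : K) = 0 := by
      have := congrArg Subtype.val hp
      simpa [ψ, ha'0] using this
    have hsum : a * (p.1.1 : K) + a' * (p.1.2 : K) = 0 := congrArg Subtype.val p.2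
    rw [hx, mul_zero, zero_add, mul_eq_zero] at hsum
    exact Subtype.ext (Prod.ext (Subtype.ext hx) (Subtype.ext (hsum.resolve_left ha'0)))
  have h1 := f.finrank_range_add_finrank_ker
  rw [finrank_prod] at h1
  have e1 := ell_eq_of_deg_large hK (D := E) (by omega)
  have e2 := ell_eq_of_deg_large hK (D := E - G) (by rw [deg_sub]; omega)
  have e3 := ell_eq_of_deg_large hK (D := E + G) (by rw [deg_add]; omega)
  rw [deg_sub] at e2; rw [deg_add] at e3
  change finrank k ↥(LinearMap.range f) + finrank k ↥(LinearMap.ker f) = ell E + ell E at h1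
  have hsurj : Function.Surjective f := by
    rw [← LinearMap.range_eq_top]
    refine Submodule.eq_top_of_finrank_eq (le_antisymm (Submodule.finrank_le _) ?_)
    change ell (E + G) ≤ _
    omega
  intro x hx
  obtain ⟨⟨y, z⟩, hyz⟩ := hsurj ⟨x, hx⟩
  exact ⟨y, y.2, z, z.2, congrArg Subtype.val hyz⟩

/-- Large multiples of `D` are spanned by products. -/
theorem IsBpf.L_nsmul_le [Infinite k] (hK : IsFunctionField k K) {V : Submodule k K} {D : Divisor k K}
    (h : IsBpf V D) (hD : 0 ≤ D.deg) (n₀ : ℕ)
    (hn₀ : ∀ n, n₀ ≤ n → 2 * (genus k K : ℤ) - 1 ≤ (n : ℤ) * D.deg - D.deg) (j : ℕ) :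
    L ((n₀ + j) • D) ≤ V ^ j * L (n₀ • D) := by
  induction j with
  | zero => rw [pow_zero, one_mul, add_zero]
  | succ j ih =>
    obtain ⟨a, ha, a', ha', ha0, ha'0, hex⟩ := h.exists_pair hK
    intro x hx
    rw [← add_assoc, succ_nsmul] at hx
    obtain ⟨y, hy, z, hz, rfl⟩ := pencil hK (h.le ha) (h.le ha') ha0 ha'0 hex
      (E := (n₀ + j) • D) (by rw [← natCast_zsmul, deg_zsmul]; exact hn₀ _ (by omega)) hD x hx
    rw [pow_succ', mul_assoc]
    exact add_mem (Submodule.mul_mem_mul ha (ih hy)) (Submodule.mul_mem_mul ha' (ih hz))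

end Groth.Agent.FF
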