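import Groth.Agent.FF.PlaneKer
import Groth.Agent.FF.Series
import Groth.Agent.FF.Embedding
import Groth.Agent.FF.LinSys
import Groth.Agent.FF.RiemannRoch
import Groth.Prelude.Def_W4bk4goldsch45
import Mathlib.Algebra.MvPolynomial.NoZeroDivisors

/-! Plane models `(1 : x : y)` of function fields over algebraically closed constant fields: degree,
genus bound, and nonsingularity. -/

open FunFld WithZero Module
open scoped Pointwise IntermediateField

namespace Groth.Agent.FF

variable {k K : Type*} [Field k] [Field K] [Algebra k K]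

/-- The linear series spanned by `1, x, y`. -/
def planeV (k : Type*) {K : Type*} [Field k] [Field K] [Algebra k K] (x y : K) : Submodule k K :=
  Submodule.span k (Set.range ![(1 : K), x, y])

theorem mapDiv_plane_apply (hK : IsFunctionField k K) (x y : K) (P : Place k K) :
    mapDiv k ![(1 : K), x, y] P = max 0 (max (-P.ord x) (-P.ord y)) := by
  have h1 : ∀ Q : Place k K, Q.ord (1 : K) = 0 := fun Q => by simp [Place.ord]
  have hval : ∀ Q : Place k K, -Finset.univ.inf' Finset.univ_nonempty (fun i => Q.ord (![(1 : K), x, y] i)) =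
      max 0 (max (-Q.ord x) (-Q.ord y)) := fun Q => by
    have e := Finset.inf'_le (f := fun i => Q.ord (![(1 : K), x, y] i)) (Finset.mem_univ (0 : Fin 3))
    have ex := Finset.inf'_le (f := fun i => Q.ord (![(1 : K), x, y] i)) (Finset.mem_univ (1 : Fin 3))
    have ey := Finset.inf'_le (f := fun i => Q.ord (![(1 : K), x, y] i)) (Finset.mem_univ (2 : Fin 3))
    simp only [Matrix.cons_val, h1] at e ex ey
    have hge : min 0 (min (Q.ord x) (Q.ord y)) ≤
        Finset.univ.inf' Finset.univ_nonempty (fun i => Q.ord (![(1 : K), x, y] i)) := by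
      refine Finset.le_inf' _ _ fun i _ => ?_
      fin_cases i <;> simp [h1]
    omega
  have hfin : (Function.support fun Q : Place k K =>
      -Finset.univ.inf' Finset.univ_nonempty (fun i => Q.ord (![(1 : K), x, y] i))).Finite := by
    refine ((poles (k := k) x).support.finite_toSet.union (poles (k := k) y).support.finite_toSet).subset ?_
    intro Q hQ
    simp only [Function.mem_support, hval] at hQ
    simp only [Set.mem_union, Finset.mem_coe, Finsupp.mem_support_iff, poles_apply hK]
    omega
  rw [mapDiv, dif_pos hfin]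
  exact hval P

theorem mapDiv_plane_nonneg (hK : IsFunctionField k K) (x y : K) : 0 ≤ mapDiv k ![(1 : K), x, y] := fun P => by
  rw [mapDiv_plane_apply hK]; exact le_max_left _ _

theorem one_mem_planeV (x y : K) : (1 : K) ∈ planeV k x y := Submodule.subset_span ⟨0, rfl⟩
theorem fst_mem_planeV (x y : K) : x ∈ planeV k x y := Submodule.subset_span ⟨1, rfl⟩
theorem snd_mem_planeV (x y : K) : y ∈ planeV k x y := Submodule.subset_span ⟨2, rfl⟩

theorem isBpf_plane (hK : IsFunctionField k K) (x y : K) :
    IsBpf (planeV k x y) (mapDiv k ![(1 : K), x, y]) where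
  le := by
    rw [planeV, Submodule.span_le]
    rintro _ ⟨i, rfl⟩ P
    rw [mapDiv_plane_apply hK]
    fin_cases i
    · show P.1 (1 : K) ≤ _
      rw [map_one]; exact le_of_eq_of_le exp_zero.symm (exp_le_exp.mpr (le_max_left _ _))
    · show P.1 x ≤ _
      rcases eq_or_ne x 0 with h | h
      · rw [h, map_zero]; exact zero_le'
      · rw [val_eq_exp_neg_ord P h, exp_le_exp]; omega
    · show P.1 y ≤ _
      rcases eq_or_ne y 0 with h | h
      · rw [h, map_zero]; exact zero_le'
      · rw [val_eq_exp_neg_ord P h, exp_le_exp]; omega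
  exists_exact P := by
    have hz : P.ord (0 : K) = 0 := by simp [Place.ord]
    rcases (max_cases 0 (max (-P.ord x) (-P.ord y))) with ⟨he, -⟩ | ⟨he, hpos⟩
    · exact ⟨1, one_mem_planeV x y, by rw [IsExact, mapDiv_plane_apply hK, he]; simp⟩
    · rcases max_cases (-P.ord x) (-P.ord y) with ⟨he', -⟩ | ⟨he', -⟩
      · exact ⟨x, fst_mem_planeV x y, by
          rw [IsExact, mapDiv_plane_apply hK, he, he', val_eq_exp_neg_ord P (fun h => by
            subst h; rw [hz] at *; omega)]⟩
      · exact ⟨y, snd_mem_planeV x y, by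
          rw [IsExact, mapDiv_plane_apply hK, he, he', val_eq_exp_neg_ord P (fun h => by
            subst h; rw [hz] at *; omega)]⟩

open MvPolynomial in
theorem planeV_pow (x y : K) (n : ℕ) :
    planeV k x y ^ n = (restrictTotalDegree (Fin 2) k n).map (aeval ![x, y]).toLinearMap := by
  refine le_antisymm ?_ ?_
  · induction n with
    | zero =>
      rw [pow_zero, Submodule.one_eq_span, Submodule.span_singleton_le_iff_mem]
      exact ⟨1, by simp [mem_restrictTotalDegree], by simp⟩
    | succ n ih =>
      rw [pow_succ]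
      refine Submodule.mul_le.mpr fun a ha b hb => ?_
      obtain ⟨p, hp, rfl⟩ := ih ha
      have hb' : b ∈ (restrictTotalDegree (Fin 2) k 1).map (aeval ![x, y]).toLinearMap := by
        refine Submodule.span_le.mpr ?_ hb
        rintro _ ⟨i, rfl⟩
        fin_cases i
        · exact ⟨1, by simp [mem_restrictTotalDegree], by simp⟩
        · exact ⟨X 0, by simp [mem_restrictTotalDegree], by simp⟩
        · exact ⟨X 1, by simp [mem_restrictTotalDegree], by simp⟩
      obtain ⟨q, hq, rfl⟩ := hb'
      refine ⟨p * q, ?_, by simp⟩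
      simp only [SetLike.mem_coe, mem_restrictTotalDegree] at hp hq ⊢
      exact (totalDegree_mul p q).trans (by omega)
  · rw [Submodule.map_le_iff_le_comap]
    intro p hp
    rw [mem_restrictTotalDegree] at hp
    rw [Submodule.mem_comap, AlgHom.toLinearMap_apply, p.as_sum, map_sum]
    refine Submodule.sum_mem _ fun d hd => ?_
    have h1 : d 0 + d 1 ≤ n := by
      have h := (le_totalDegree hd).trans hp
      rwa [Finsupp.sum_fintype d (fun _ e => e) (fun _ => rfl), Fin.sum_univ_two] at h
    rw [aeval_monomial, Finsupp.prod_fintype _ _ (fun _ => pow_zero _), Fin.prod_univ_two,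
      ← Algebra.smul_def]
    refine Submodule.smul_mem _ _ ?_
    obtain ⟨r, rfl⟩ := Nat.exists_eq_add_of_le h1
    have := Submodule.mul_mem_mul (Submodule.mul_mem_mul (Submodule.pow_mem_pow _ (fst_mem_planeV (k := k) x y) (d 0))
      (Submodule.pow_mem_pow _ (snd_mem_planeV (k := k) x y) (d 1)))
      (Submodule.pow_mem_pow _ (one_mem_planeV (k := k) x y) r)
    simpa [← pow_add] using this

variable [IsAlgClosed k]

open MvPolynomial in
/-- `dim Vⁿ` in terms of the degree of the relation. -/
theorem finrank_planeV_pow (x y : K) {f : MvPolynomial (Fin 2) k}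
    (hker : RingHom.ker (aeval ![x, y] : MvPolynomial (Fin 2) k →ₐ[k] K) = Ideal.span {f})
    (hf0 : f ≠ 0) (m : ℕ) :
    finrank k ↥(planeV k x y ^ (m + f.totalDegree)) + polyCount k m = polyCount k (m + f.totalDegree) := by
  set n := m + f.totalDegree
  let g : restrictTotalDegree (Fin 2) k n →ₗ[k] K := (aeval ![x, y]).toLinearMap.comp (Submodule.subtype _)
  have hr : LinearMap.range g = planeV k x y ^ n := by
    rw [planeV_pow, LinearMap.range_comp, Submodule.range_subtype]
  have hmem : ∀ p : restrictTotalDegree (Fin 2) k m, f * p.1 ∈ restrictTotalDegree (Fin 2) k n := fun p => by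
    have := (mem_restrictTotalDegree _ _ _).mp p.2
    rw [mem_restrictTotalDegree]
    exact (totalDegree_mul _ _).trans (by omega)
  let μ : restrictTotalDegree (Fin 2) k m →ₗ[k] restrictTotalDegree (Fin 2) k n :=
    ((LinearMap.mulLeft k f).comp (Submodule.subtype _)).codRestrict _ hmem
  have hμ : Function.Injective μ := fun p q h => Subtype.ext (mul_left_cancel₀ hf0 (congrArg Subtype.val h))
  have hk : LinearMap.ker g = LinearMap.range μ := by
    ext p
    constructor
    · intro hp
      have : p.1 ∈ Ideal.span {f} := hker ▸ (hp : aeval ![x, y] p.1 = 0)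
      obtain ⟨q, hq⟩ := Ideal.mem_span_singleton'.mp this
      refine ⟨⟨q, ?_⟩, Subtype.ext (by rw [← hq, mul_comm]; rfl)⟩
      rw [mem_restrictTotalDegree]
      rcases eq_or_ne q 0 with h0 | h0
      · simp [h0]
      · have hn := (mem_restrictTotalDegree _ _ _).mp p.2
        rw [← hq, totalDegree_mul_of_isDomain h0 hf0] at hn
        omega
    · rintro ⟨q, rfl⟩
      show aeval ![x, y] (f * q.1) = 0
      rw [map_mul, show aeval ![x, y] f = 0 from (RingHom.mem_ker).mp (hker ▸ Ideal.mem_span_singleton_self f),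
        zero_mul]
  have h := g.finrank_range_add_finrank_ker
  rw [hr, hk, LinearMap.finrank_range_of_inj hμ] at h
  exact h

end Groth.Agent.FF

namespace Groth.Agent.FF

variable {k K : Type*} [Field k] [IsAlgClosed k] [Field K] [Algebra k K]

theorem exists_not_range_of_adjoin (hK : IsFunctionField k K) {x y : K}
    (hxy : IntermediateField.adjoin k ({x, y} : Set K) = ⊤) :
    x ∉ Set.range (algebraMap k K) ∨ y ∉ Set.range (algebraMap k K) := by
  by_contra hc
  push Not at hc
  obtain ⟨t, ht⟩ := exists_transcendental hK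
  have hbot : IntermediateField.adjoin k ({x, y} : Set K) = ⊥ := by
    rw [IntermediateField.adjoin_eq_bot_iff]
    rintro z (rfl | rfl)
    · exact IntermediateField.mem_bot.mpr hc.1
    · exact IntermediateField.mem_bot.mpr hc.2
  have : t ∈ (⊥ : IntermediateField k K) := by rw [← hbot, hxy]; trivial
  obtain ⟨c, rfl⟩ := IntermediateField.mem_bot.mp this
  exact ht (isAlgebraic_algebraMap c)

theorem deg_mapDiv_plane_pos (hK : IsFunctionField k K) {x y : K}
    (hxy : IntermediateField.adjoin k ({x, y} : Set K) = ⊤) :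
    0 < (mapDiv k ![(1 : K), x, y]).deg := by
  suffices h : ∀ z : K, z ∉ Set.range (algebraMap k K) →
      poles (k := k) z ≤ mapDiv k ![(1 : K), x, y] → 0 < (mapDiv k ![(1 : K), x, y]).deg by
    rcases exists_not_range_of_adjoin hK hxy with h' | h'
    · exact h x h' fun P => by rw [poles_apply hK, mapDiv_plane_apply hK]; omega
    · exact h y h' fun P => by rw [poles_apply hK, mapDiv_plane_apply hK]; omega
  intro z hz hle
  have ht := transcendental_of_not_mem hK hz
  have := deg_mono hle
  rw [deg_poles hK ht] at this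
  have := finiteDimensional_adjoin hK ht
  have : 0 < finrank k⟮z⟯ K := finrank_pos
  omega

theorem exists_poles_eq_plane (hK : IsFunctionField k K) {x y : K}
    (hxy : IntermediateField.adjoin k ({x, y} : Set K) = ⊤) :
    ∃ a ∈ planeV k x y, Transcendental k a ∧ poles (k := k) a = mapDiv k ![(1 : K), x, y] := by
  set D := mapDiv k ![(1 : K), x, y] with hD
  have hne : planeV k x y ≠ ⊥ := fun h =>
    one_ne_zero ((Submodule.mem_bot k).mp (h ▸ one_mem_planeV (k := k) x y))
  obtain ⟨a, ha, ha0, hex⟩ := (isBpf_plane hK x y).exists_exact_finset hne D.support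
  have hp : poles (k := k) a = D := Finsupp.ext fun P => by
    rw [poles_apply hK]
    have hv := val_eq_exp_neg_ord P ha0
    by_cases hP : P ∈ D.support
    · have := hex P hP
      rw [IsExact, hv] at this
      have := exp_injective this
      have : 0 ≤ D P := mapDiv_plane_nonneg hK x y P
      simp only [hD] at *
      omega
    · rw [Finsupp.notMem_support_iff] at hP
      have := (isBpf_plane hK x y).le ha P
      rw [hv, exp_le_exp, ← hD, hP] at this
      rw [hP]; omega
  refine ⟨a, ha, transcendental_of_not_mem hK fun hm => ?_, hp⟩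
  have hpos := deg_mapDiv_plane_pos hK hxy
  rw [← hD, ← hp] at hpos
  have : poles (k := k) a = 0 := Finsupp.ext fun P => by
    obtain ⟨c, rfl⟩ := hm
    rw [poles_apply hK, ord_algebraMap]; rfl
  rw [this, deg_zero] at hpos
  omega

theorem linearIndependent_pow_adjoin {a : K} (hat : Transcendental k a) :
    LinearIndependent k fun m : ℕ =>
      (⟨a, IntermediateField.mem_adjoin_simple_self k a⟩ : k⟮a⟯) ^ m := by
  set a' : k⟮a⟯ := ⟨a, IntermediateField.mem_adjoin_simple_self k a⟩
  have hinj : Function.Injective (Polynomial.aeval a' : Polynomial k →ₐ[k] k⟮a⟯) := fun p q h =>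
    transcendental_iff_injective.mp hat (by
      have := congrArg k⟮a⟯.val h
      rwa [← Polynomial.aeval_algHom_apply, ← Polynomial.aeval_algHom_apply] at this)
  have h2 := (Polynomial.basisMonomials k).linearIndependent.map' (Polynomial.aeval a').toLinearMap
    (LinearMap.ker_eq_bot.mpr hinj)
  have h3 : (fun m : ℕ => a' ^ m) =
      ⇑(Polynomial.aeval a').toLinearMap ∘ ⇑(Polynomial.basisMonomials k) := funext fun m => by simp
  rw [h3]
  exact h2

theorem adjoin_eq_top_tower (F : IntermediateField k K) {S : Set K}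
    (h : IntermediateField.adjoin k S = ⊤) : IntermediateField.adjoin F S = ⊤ := by
  rw [← IntermediateField.restrictScalars_eq_top_iff (K := k), IntermediateField.restrictScalars_adjoin_eq_sup, h,
    sup_top_eq]

/-- `dim Vⁿ` grows at least like `n · deg`. -/
theorem planeV_pow_lower (hK : IsFunctionField k K) {x y : K}
    (hxy : IntermediateField.adjoin k ({x, y} : Set K) = ⊤) :
    ∃ c : ℕ, ∀ j : ℕ, ((j + 1 : ℕ) : ℤ) * (mapDiv k ![(1 : K), x, y]).deg ≤
      finrank k ↥(planeV k x y ^ (j + c)) := by
  classical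
  obtain ⟨a, ha, hat, hp⟩ := exists_poles_eq_plane hK hxy
  have hfd := finiteDimensional_adjoin hK hat
  have hdeg : ((mapDiv k ![(1 : K), x, y]).deg) = finrank k⟮a⟯ K := by rw [← hp, deg_poles hK hat]
  have htop : Submodule.span k⟮a⟯ (Submonoid.closure ({x, y} : Set K) : Set K) = ⊤ := by
    rw [← Algebra.adjoin_eq_span, ← IntermediateField.adjoin_toSubalgebra_of_isAlgebraic
      (fun z _ => Algebra.IsAlgebraic.isAlgebraic z)]
    have : IntermediateField.adjoin k⟮a⟯ ({x, y} : Set K) = ⊤ := adjoin_eq_top_tower k⟮a⟯ hxy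
    rw [this]; simp
  obtain ⟨b, hb, hbspan, hbli⟩ := exists_linearIndependent k⟮a⟯ (Submonoid.closure ({x, y} : Set K) : Set K)
  rw [htop] at hbspan
  let B := Basis.mk hbli (by rw [Subtype.range_coe, hbspan])
  have hfin : Finite b := Module.Finite.finite_basis B
  have := Fintype.ofFinite b
  have hcard : Fintype.card b = finrank k⟮a⟯ K := (finrank_eq_card_basis B).symm
  have hlev : ∀ z ∈ Submonoid.closure ({x, y} : Set K), ∃ i, z ∈ planeV k x y ^ i := fun z hz => by
    induction hz using Submonoid.closure_induction with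
    | mem z hz =>
      refine ⟨1, ?_⟩
      rw [pow_one]
      rcases hz with rfl | rfl
      · exact fst_mem_planeV _ _
      · exact snd_mem_planeV _ _
    | one => exact ⟨0, by rw [pow_zero]; exact Submodule.one_le.mp le_rfl⟩
    | mul z w _ _ hz hw =>
      obtain ⟨i, hi⟩ := hz; obtain ⟨j, hj⟩ := hw
      exact ⟨i + j, by rw [pow_add]; exact Submodule.mul_mem_mul hi hj⟩
  choose lev hlev' using fun l : b => hlev l.1 (hb l.2)
  refine ⟨Finset.univ.sup lev, fun j => ?_⟩
  have hle : ∀ i, i ≤ Finset.univ.sup lev + j → planeV k x y ^ i ≤ planeV k x y ^ (j + Finset.univ.sup lev) := fun i hi z hz => by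
    obtain ⟨r, hr⟩ := Nat.exists_eq_add_of_le hi
    have := Submodule.mul_mem_mul hz (Submodule.pow_mem_pow _ (one_mem_planeV (k := k) x y) r)
    rw [one_pow, mul_one, ← pow_add] at this
    rwa [show j + Finset.univ.sup lev = i + r by omega]
  have hliP := (linearIndependent_pow_adjoin hat).comp (fun m : Fin (j + 1) => (m : ℕ)) Fin.val_injective
  have hli := linearIndependent_smul hliP hbli
  have hmem : Submodule.span k (Set.range fun p : Fin (j + 1) × b =>
      (⟨a, IntermediateField.mem_adjoin_simple_self k a⟩ : k⟮a⟯) ^ (p.1 : ℕ) • (p.2 : K)) ≤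
      planeV k x y ^ (j + Finset.univ.sup lev) := by
    rw [Submodule.span_le]
    rintro _ ⟨⟨m, l⟩, rfl⟩
    refine hle ((m : ℕ) + lev l) (by have := m.2; have := Finset.le_sup (f := lev) (Finset.mem_univ l); omega) ?_
    rw [pow_add]
    exact Submodule.mul_mem_mul (Submodule.pow_mem_pow _ ha _) (hlev' l)
  have := finiteDimensional_L hK ((j + Finset.univ.sup lev) • mapDiv k ![(1 : K), x, y])
  have := Submodule.finiteDimensional_of_le (pow_le_L (isBpf_plane hK x y).le (j + Finset.univ.sup lev))
  have h2 := Submodule.finrank_mono hmem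
  have hli' : LinearIndependent k fun p : Fin (j + 1) × b =>
      (⟨a, IntermediateField.mem_adjoin_simple_self k a⟩ : k⟮a⟯) ^ (p.1 : ℕ) • (p.2 : K) := hli
  rw [finrank_span_eq_card hli', Fintype.card_prod, Fintype.card_fin, hcard] at h2
  rw [hdeg]; exact_mod_cast h2

theorem exists_relation (hK : IsFunctionField k K) {x y : K}
    (hxy : IntermediateField.adjoin k ({x, y} : Set K) = ⊤) :
    ∃ f : MvPolynomial (Fin 2) k, Irreducible f ∧ MvPolynomial.aeval ![x, y] f = 0 := by
  refine exists_irreducible_of_ker_ne_bot x y fun hbot => ?_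
  set D := mapDiv k ![(1 : K), x, y]
  have hd := deg_mapDiv_plane_pos hK hxy
  set n := 2 * D.deg.toNat + 2 * genus k K + 2 with hn
  have := finiteDimensional_L hK (n • D)
  have hle : finrank k ↥(planeV k x y ^ n) ≤ ell (n • D) := Submodule.finrank_mono (pow_le_L (isBpf_plane hK x y).le n)
  have hnd : (n • D).deg = n * D.deg := by rw [← natCast_zsmul, deg_zsmul]
  have he := ell_eq_of_deg_large hK (D := n • D) (by rw [hnd]; push_cast [hn]; nlinarith [Int.toNat_of_nonneg hd.le])
  rw [planeV_pow] at hle
  have hinj : Function.Injective ⇑(MvPolynomial.aeval ![x, y] : MvPolynomial (Fin 2) k →ₐ[k] K) :=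
    (RingHom.injective_iff_ker_eq_bot _).mpr hbot
  rw [LinearEquiv.finrank_eq (Submodule.equivMapOfInjective _
    (show Function.Injective (MvPolynomial.aeval ![x, y] : MvPolynomial (Fin 2) k →ₐ[k] K).toLinearMap from
      hinj) _).symm] at hle
  have h2 := two_mul_polyCount (k := k) n
  have hd' := Int.toNat_of_nonneg hd.le
  rw [← polyCount] at hle
  rw [hnd] at he
  have hz : (2 : ℤ) * polyCount k n = (n + 1) * (n + 2) := by exact_mod_cast h2
  have hle' : (polyCount k n : ℤ) ≤ ell (n • D) := by exact_mod_cast hle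
  have hn' : (n : ℤ) = 2 * D.deg + 2 * genus k K + 2 := by rw [hn]; push_cast; rw [hd']
  nlinarith

/-- The basic numerical facts about a plane model. -/
theorem plane_degree (hK : IsFunctionField k K) {x y : K}
    (hxy : IntermediateField.adjoin k ({x, y} : Set K) = ⊤) {f : MvPolynomial (Fin 2) k}
    (hf : Irreducible f) (hfxy : MvPolynomial.aeval ![x, y] f = 0) :
    (mapDiv k ![(1 : K), x, y]).deg = f.totalDegree ∧
      2 * (genus k K : ℤ) ≤ ((f.totalDegree : ℤ) - 1) * ((f.totalDegree : ℤ) - 2) ∧
      ∀ m : ℕ, 2 * genus k K ≤ m →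
        2 * ((finrank k ↥(planeV k x y ^ (m + f.totalDegree)) : ℤ) -
          ell ((m + f.totalDegree) • mapDiv k ![(1 : K), x, y])) =
            2 * (genus k K : ℤ) - ((f.totalDegree : ℤ) - 1) * ((f.totalDegree : ℤ) - 2) := by
  set D := mapDiv k ![(1 : K), x, y] with hD
  set e := f.totalDegree
  have hker := ker_eq_span x y (exists_not_range_of_adjoin hK hxy) hf hfxy
  have hd : 0 < D.deg := deg_mapDiv_plane_pos hK hxy
  have hV : ∀ m : ℕ, 2 * (finrank k ↥(planeV k x y ^ (m + e)) : ℤ) = e * (2 * m + e + 3) := fun m => by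
    have h := finrank_planeV_pow x y hker hf.ne_zero m
    have h1 : (2 : ℤ) * polyCount k (m + e) = ((m + e : ℕ) + 1) * ((m + e : ℕ) + 2) := by
      exact_mod_cast two_mul_polyCount (k := k) (m + e)
    have h2 : (2 : ℤ) * polyCount k m = (m + 1) * (m + 2) := by exact_mod_cast two_mul_polyCount (k := k) m
    have h3 : (finrank k ↥(planeV k x y ^ (m + e)) : ℤ) + polyCount k m = polyCount k (m + e) := by exact_mod_cast h
    push_cast at h1
    linarith [mul_comm (e : ℤ) m]
  have hL : ∀ m : ℕ, 2 * genus k K ≤ m → (ell ((m + e) • D) : ℤ) = (m + e) * D.deg + 1 - genus k K := fun m hm => by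
    have hnd : ((m + e) • D).deg = ((m + e : ℕ) : ℤ) * D.deg := by rw [← natCast_zsmul, deg_zsmul]
    have := ell_eq_of_deg_large hK (D := (m + e) • D) (by rw [hnd]; push_cast; nlinarith)
    rw [this, hnd]; push_cast; ring
  have hup : ∀ m : ℕ, finrank k ↥(planeV k x y ^ (m + e)) ≤ ell ((m + e) • D) := fun m => by
    have := finiteDimensional_L hK ((m + e) • D)
    exact Submodule.finrank_mono (pow_le_L (isBpf_plane hK x y).le _)
  obtain ⟨c, hlow'⟩ := planeV_pow_lower hK hxy
  have hlow : ∀ j : ℕ, ((j + 1 : ℕ) : ℤ) * D.deg ≤ finrank k ↥(planeV k x y ^ (j + c)) := hlow'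
  have hde : D.deg = e := by
    refine le_antisymm (not_lt.mp fun h => ?_) (not_lt.mp fun h => ?_)
    · set j := c * D.deg.toNat + c + e * e + 2 * e with hj
      have h1 := hlow (j + e)
      have h2 := hV (j + c)
      rw [show j + c + e = j + e + c by omega] at h2
      push_cast at h1 h2
      have hj' : (j : ℤ) = c * D.deg + c + e * e + 2 * e := by rw [hj]; push_cast; rw [Int.toNat_of_nonneg hd.le]
      have hde : (e : ℤ) + 1 ≤ D.deg := h
      nlinarith [mul_le_mul_of_nonneg_left hde (show (0 : ℤ) ≤ (j : ℤ) + e + 1 by positivity),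
        mul_le_mul_of_nonneg_left hde (show (0 : ℤ) ≤ (c : ℤ) by positivity)]
    · set m := 2 * genus k K + e * e + 2 with hm
      have h1 : (finrank k ↥(planeV k x y ^ (m + e)) : ℤ) ≤ ell ((m + e) • D) := by exact_mod_cast hup m
      rw [hL m (by omega)] at h1
      have h2 := hV m
      have hm' : (m : ℤ) = 2 * genus k K + e * e + 2 := by rw [hm]; push_cast; ring
      have hde : D.deg + 1 ≤ (e : ℤ) := h
      nlinarith [mul_le_mul_of_nonneg_left hde (show (0 : ℤ) ≤ (m : ℤ) + e by positivity)]
  have hid : ∀ m : ℕ, 2 * genus k K ≤ m → 2 * ((finrank k ↥(planeV k x y ^ (m + e)) : ℤ) - ell ((m + e) • D)) =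
      2 * (genus k K : ℤ) - ((e : ℤ) - 1) * ((e : ℤ) - 2) := fun m hm => by
    rw [mul_sub, hV m, hL m hm, hde]; ring
  refine ⟨hde, ?_, hid⟩
  have h1 : (finrank k ↥(planeV k x y ^ (2 * genus k K + e)) : ℤ) ≤ ell ((2 * genus k K + e) • D) := by
    exact_mod_cast hup _
  have h2 := hid (2 * genus k K) le_rfl
  linarith

end Groth.Agent.FF
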