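import Groth.Agent.FF.CanonicalGaps

/-! Automorphisms and their fixed places. -/

namespace Groth.Agent.FF

open FunFld LocRes WithZero Submodule Module
open scoped Classical

variable {k K : Type*} [Field k] [Field K] [Algebra k K]

/-- The place `P ∘ σ`. -/
noncomputable def pullPlace (σ : K ≃ₐ[k] K) (P : Place k K) : Place k K :=
  ⟨P.1.comap (σ : K →+* K), fun c => by simpa using P.2.1 c, fun a => by
    obtain ⟨x, hx⟩ := P.2.2 a
    exact ⟨σ.symm x, by simpa using hx⟩⟩

theorem pullPlace_apply (σ : K ≃ₐ[k] K) (P : Place k K) (x : K) : (pullPlace σ P).1 x = P.1 (σ x) := rfl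

theorem pullPlace_injective (σ : K ≃ₐ[k] K) : Function.Injective (pullPlace σ) := fun P Q h =>
  Subtype.ext (Valuation.ext fun x => by
    have := congrArg (fun R : Place k K => R.1 (σ.symm x)) h
    simpa [pullPlace_apply] using this)

theorem pullPlace_comp (σ τ : K ≃ₐ[k] K) (P : Place k K) :
    pullPlace τ (pullPlace σ P) = pullPlace (τ.trans σ) P := rfl

variable [IsAlgClosed k] (hK : IsFunctionField k K)

include hK in
theorem pullPlace_eq_iff (σ : K ≃ₐ[k] K) (P : Place k K) :
    pullPlace σ P = P ↔ IsFixedPt (σ : K →ₐ[k] K) P := by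
  constructor
  · intro h z hz
    have := congrArg (fun R : Place k K => R.1 z) h
    simp only [pullPlace_apply] at this
    change P.1 (σ z) < 1
    rwa [this]
  · intro h
    exact (eq_of_le fun x hx => val_tau_le hK (σ : K →ₐ[k] K) P h hx).symm

include hK in
/-- If every place is fixed, the automorphism is the identity. -/
theorem exists_not_fixed {σ : K ≃ₐ[k] K} (hσ : σ ≠ AlgEquiv.refl) : ∃ P : Place k K, pullPlace σ P ≠ P := by
  by_contra hall
  push Not at hall
  refine hσ (AlgEquiv.ext fun x => by_contra fun hx => ?_)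
  have hxt : Transcendental k x := transcendental_of_not_mem hK fun ⟨c, hc⟩ => hx (by
    rw [← hc]; exact σ.commutes c)
  have hd : σ x - x ≠ 0 := sub_ne_zero.mpr hx
  choose P hP using fun c : k => exists_val_lt_one hK (z := x - algebraMap k K c) (fun h => hxt (by
    simpa using h.add (isAlgebraic_algebraMap c)))
  have hinj : Function.Injective P := fun c d h => by
    by_contra hne
    have h1 := hP c
    have h2 := hP d
    rw [h] at h1
    have h3 := (P d).1.map_sub (x - algebraMap k K c) (x - algebraMap k K d)
    rw [show x - algebraMap k K c - (x - algebraMap k K d) = algebraMap k K (d - c) by rw [map_sub]; ring,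
      val_algebraMap _ (sub_ne_zero.mpr (Ne.symm hne))] at h3
    exact absurd (h3.trans_lt (max_lt h1 h2)) (lt_irrefl _)
  refine (Set.infinite_range_of_injective hinj) ((finite_support_ord hK (σ x - x)).subset ?_)
  rintro _ ⟨c, rfl⟩
  have h1 := hP c
  have h2 := ((pullPlace_eq_iff hK σ (P c)).mp (hall _)) _ h1
  have h3 : (P c).1 (σ x - x) < 1 := by
    rw [show σ x - x = (σ : K →ₐ[k] K) (x - algebraMap k K c) - (x - algebraMap k K c) by simp]
    exact ((P c).1.map_sub _ _).trans_lt (max_lt h2 h1)
  rw [Function.mem_support]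
  exact ((val_lt_one_iff _ hd).mp h3).ne'

include hK in
/-- An automorphism with more than `2g + 2` fixed places is the identity. -/
theorem eq_refl_of_many_fixed (σ : K ≃ₐ[k] K) (S : Finset (Place k K)) (hS : ∀ Q ∈ S, pullPlace σ Q = Q)
    (hcard : 2 * genus k K + 2 < S.card) : σ = AlgEquiv.refl := by
  by_contra hσ
  obtain ⟨P, hP⟩ := exists_not_fixed hK hσ
  obtain ⟨C, hC⟩ := exists_isCanonical hK
  let D : Divisor k K := Finsupp.single P ((genus k K : ℤ) + 1)
  have h2 : 2 ≤ ell D := by
    have := riemann_roch' hK hC D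
    rw [deg_single, deg_eq_one hK, Nat.cast_one, mul_one] at this
    omega
  obtain ⟨f, hf, hfc⟩ : ∃ f ∈ L D, f ∉ Set.range (algebraMap k K) := by
    by_contra hc
    push Not at hc
    have hle : L D ≤ span k {(1 : K)} := fun x hx => by
      obtain ⟨c, rfl⟩ := hc x hx
      exact mem_span_singleton.mpr ⟨c, by rw [Algebra.smul_def, mul_one]⟩
    have := (Submodule.finrank_mono hle).trans (finrank_span_singleton (K := k) one_ne_zero).le
    simp only [ell] at h2
    omega
  have hfD : ∀ Q, Q.1 f ≤ exp (if Q = P then (genus k K : ℤ) + 1 else 0) := fun Q => by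
    have := hf Q
    simp only [D, Finsupp.single_apply] at this
    split_ifs with h
    · rwa [if_pos h.symm] at this
    · rwa [if_neg (Ne.symm h)] at this
  have hPf : 1 < P.1 f := by
    by_contra hle
    rw [not_lt] at hle
    have : f ∈ L (0 : Divisor k K) := fun Q => by
      rcases eq_or_ne Q P with rfl | h
      · simpa using hle
      · simpa [h] using hfD Q
    rw [L_zero_eq hK, mem_span_singleton] at this
    obtain ⟨c, rfl⟩ := this
    exact hfc ⟨c, by rw [Algebra.smul_def, mul_one]⟩
  by_cases heq : σ f = f
  · refine hP (by_contra fun hne => ?_)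
    have h1 := hfD (pullPlace σ P)
    rw [if_neg hne, exp_zero, pullPlace_apply, heq] at h1
    exact absurd hPf (not_lt.mpr h1)
  · have hh : σ f - f ≠ 0 := sub_ne_zero.mpr heq
    let E : Divisor k K := D + Finsupp.single (pullPlace σ.symm P) ((genus k K : ℤ) + 1) - ∑ Q ∈ S, Finsupp.single Q (1 : ℤ)
    have hpull : ∀ Q, pullPlace σ Q = P → Q = pullPlace σ.symm P := fun Q h => by
      rw [← h]
      exact Subtype.ext (Valuation.ext fun x => by simp [pullPlace_apply])
    have hsum : ∀ Q, (∑ R ∈ S, Finsupp.single R (1 : ℤ)) Q = if Q ∈ S then 1 else 0 := fun Q => by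
      simp [Finsupp.finsetSum_apply, Finsupp.single_apply]
    have hmem : σ f - f ∈ L E := fun Q => by
      have hfQ := hfD Q
      have hσQ : Q.1 (σ f) ≤ exp (if pullPlace σ Q = P then (genus k K : ℤ) + 1 else 0) := hfD (pullPlace σ Q)
      simp only [E, D, Finsupp.sub_apply, Finsupp.add_apply, hsum, Finsupp.single_apply]
      by_cases hQS : Q ∈ S
      · have hQP : Q ≠ P := fun h => hP (h ▸ hS Q hQS)
        have hQ' : pullPlace σ.symm P ≠ Q := fun h => hQP (by
          rw [← hS Q hQS, ← h]
          exact Subtype.ext (Valuation.ext fun x => by simp [pullPlace_apply]))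
        rw [if_neg hQP, exp_zero] at hfQ
        obtain ⟨c, hc⟩ := exists_const_near hK Q hfQ
        have h2 := (pullPlace_eq_iff hK σ Q).mp (hS Q hQS) _ hc
        have h3 : Q.1 (σ f - f) < 1 := by
          rw [show σ f - f = (σ : K →ₐ[k] K) (f - algebraMap k K c) - (f - algebraMap k K c) by simp]
          exact (Q.1.map_sub _ _).trans_lt (max_lt h2 hc)
        rw [if_pos hQS, if_neg (Ne.symm hQP), if_neg hQ', add_zero, zero_sub]
        rw [val_le_exp_iff Q hh]
        have := (val_lt_one_iff Q hh).mp h3
        omega
      · rw [if_neg hQS, sub_zero]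
        refine (Q.1.map_sub _ _).trans (max_le (hσQ.trans (exp_le_exp.mpr ?_)) (hfQ.trans (exp_le_exp.mpr ?_)))
        · by_cases h : pullPlace σ Q = P
          · rw [if_pos h, if_pos (hpull Q h).symm]; split_ifs <;> omega
          · rw [if_neg h]; split_ifs <;> omega
        · by_cases h : Q = P
          · rw [if_pos h, if_pos h.symm]; split_ifs <;> omega
          · rw [if_neg h]; split_ifs <;> omega
    have hneg : E.deg < 0 := by
      have hs : (∑ R ∈ S, Finsupp.single R (1 : ℤ) : Divisor k K).deg = S.card := by
        clear_value E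
        clear hmem hsum hcard hS E
        induction S using Finset.induction with
        | empty => simp
        | insert a s ha ih => rw [Finset.sum_insert ha, deg_add, deg_single, deg_eq_one hK, ih, Finset.card_insert_of_notMem ha]; push_cast; ring
      simp only [E, D, deg_sub, deg_add, deg_single, deg_eq_one hK, hs]
      omega
    rw [L_eq_bot_of_deg_neg hK hneg] at hmem
    exact hh hmem

end Groth.Agent.FF
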