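import Mathlib.LinearAlgebra.FiniteDimensional.Lemmas
import Mathlib.LinearAlgebra.Basis.Prod
import Mathlib.LinearAlgebra.Projection
import Mathlib.Algebra.BigOperators.Group.Finset.Basic

/-! Bases adapted to a finite decreasing filtration. -/

namespace Groth.Agent.FF

open Module

variable {k : Type*} [Field k] {M : Type*} [AddCommGroup M] [Module k M]

/-- A basis of `W` adapted to a decreasing chain `W = F 0 ⊇ F 1 ⊇ … ⊇ F N`. -/
theorem exists_filtration_basis (N : ℕ) : ∀ (F : ℕ → Submodule k M), (∀ n, F (n + 1) ≤ F n) →
    FiniteDimensional k (F 0) →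
    ∃ (ι : Type) (_ : Fintype ι) (b : ι → M) (m : ι → ℕ),
      LinearIndependent k b ∧ Submodule.span k (Set.range b) = F 0 ∧ Fintype.card ι = finrank k (F 0) ∧
      (∀ i, m i ≤ N ∧ b i ∈ F (m i)) ∧
      (∑ i, m i = ∑ n ∈ Finset.range N, finrank k (F (n + 1))) ∧
      ((∀ n < N, finrank k (F n) ≤ finrank k (F (n + 1)) + 1) → finrank k (F N) ≤ 1 →
        Function.Injective m ∧ ∀ i, m i < N → b i ∉ F (m i + 1)) := by
  induction N with
  | zero =>
    intro F _ hfin
    let B := Module.finBasis k (F 0)
    refine ⟨Fin (finrank k (F 0)), inferInstance, fun i => (B i : M), fun _ => 0,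
      B.linearIndependent.map' (F 0).subtype (F 0).ker_subtype, ?_, Fintype.card_fin _,
      fun i => ⟨le_rfl, (B i).2⟩, by simp, fun _ h1 => ⟨?_, fun i hi => absurd hi (lt_irrefl _)⟩⟩
    · rw [show (fun i => (B i : M)) = (F 0).subtype ∘ B from rfl, Set.range_comp,
        Submodule.span_image, B.span_eq, Submodule.map_top, Submodule.range_subtype]
    · intro i j _
      apply Fin.ext
      have hi := i.2; have hj := j.2
      omega
  | succ N ih =>
    intro F hF hfin
    have hfin1 : FiniteDimensional k (F 1) := Submodule.finiteDimensional_of_le (hF 0)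
    obtain ⟨ι, hι, b, m, hli, hsp, hcard, hmem, hsum, hinj⟩ := ih (fun n => F (n + 1))
      (fun n => hF (n + 1)) hfin1
    -- a complement of `F 1` in `F 0`
    obtain ⟨C, hC⟩ := Submodule.exists_isCompl ((F 1).comap (F 0).subtype)
    let c := Module.finBasis k C
    have hdisj : Disjoint (F 1) (C.map (F 0).subtype) := by
      rw [Submodule.disjoint_def]
      rintro x hx ⟨y, hy, rfl⟩
      have := Submodule.disjoint_def.mp hC.disjoint y hx hy
      rw [this, map_zero]
    have hsup : F 1 ⊔ C.map (F 0).subtype = F 0 := by
      have := congrArg (Submodule.map (F 0).subtype) hC.sup_eq_top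
      rw [Submodule.map_sup, Submodule.map_comap_subtype, inf_eq_right.mpr (hF 0), Submodule.map_top,
        Submodule.range_subtype] at this
      exact this
    let b' : ι ⊕ Fin (finrank k C) → M := Sum.elim b fun i => ((c i : F 0) : M)
    have hcli : LinearIndependent k (fun i => ((c i : F 0) : M)) :=
      (c.linearIndependent.map' C.subtype C.ker_subtype).map' (F 0).subtype (F 0).ker_subtype
    have hcsp : Submodule.span k (Set.range fun i => ((c i : F 0) : M)) = C.map (F 0).subtype := by
      rw [show (fun i => ((c i : F 0) : M)) = (F 0).subtype ∘ (C.subtype ∘ c) from rfl,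
        Set.range_comp, Submodule.span_image, Set.range_comp, Submodule.span_image, c.span_eq,
        Submodule.map_top, Submodule.range_subtype]
    refine ⟨ι ⊕ Fin (finrank k C), inferInstance, b', Sum.elim (fun i => m i + 1) (fun _ => 0),
      hli.sum_type hcli (by rw [hsp, hcsp]; exact hdisj),
      by rw [Set.Sum.elim_range, Submodule.span_union, hsp, hcsp, hsup], ?_, ?_, ?_, ?_⟩
    · rw [Fintype.card_sum, hcard, Fintype.card_fin, ← Submodule.finrank_add_eq_of_isCompl hC,
        (Submodule.comapSubtypeEquivOfLe (hF 0)).finrank_eq]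
    · rintro (i | i)
      · exact ⟨Nat.succ_le_succ (hmem i).1, (hmem i).2⟩
      · exact ⟨Nat.zero_le _, (c i : F 0).2⟩
    · simp only [Fintype.sum_sum_type, Sum.elim_inl, Sum.elim_inr, Finset.sum_const_zero, add_zero,
        Finset.sum_add_distrib, hsum, Finset.sum_const, Finset.card_univ, hcard, smul_eq_mul, mul_one]
      exact (Finset.sum_range_succ' (fun n => finrank k (F (n + 1))) N).symm
    · intro hstep hlast
      obtain ⟨hminj, hnot⟩ := hinj (fun n hn => hstep (n + 1) (Nat.succ_lt_succ hn)) hlast
      have hC1 : finrank k C ≤ 1 := by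
        have h1 := Submodule.finrank_add_eq_of_isCompl hC
        rw [(Submodule.comapSubtypeEquivOfLe (hF 0)).finrank_eq] at h1
        have := hstep 0 (Nat.succ_pos _)
        omega
      refine ⟨?_, ?_⟩
      · rintro (i | i) (j | j) h <;> simp at h
        · rw [hminj h]
        · have := i.2; have := j.2; congr 1; apply Fin.ext; omega
      · rintro (i | i) hi
        · exact hnot i (by simp at hi; omega)
        · intro h
          have h0 : ((c i : F 0) : M) = 0 :=
            Submodule.disjoint_def.mp hdisj _ h ⟨(c i : F 0), (c i).2, rfl⟩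
          exact c.ne_zero i (Subtype.ext (Subtype.ext h0))

end Groth.Agent.FF
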