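import Groth.Prelude.Def_LocRes
import Mathlib

/-! The Taylor homomorphism `f(X) ↦ f(X + T)` on Laurent series. -/

namespace Groth.Agent.FF

open PowerSeries

variable {F : Type*} [Field F]

/-- The coefficientwise Taylor expansion of a power series. -/
noncomputable def tps (f : F⟦X⟧) : (F⟦X⟧)⟦X⟧ :=
  PowerSeries.mk fun n => PowerSeries.mk fun m => ((m + n).choose n : F) * coeff (m + n) f

theorem tps_coe (p : Polynomial F) :
    tps (p : F⟦X⟧) = ((Polynomial.taylor (Polynomial.X) (p.map Polynomial.C)).map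
      (Polynomial.coeToPowerSeries.ringHom : Polynomial F →+* F⟦X⟧) : (F⟦X⟧)⟦X⟧) := by
  ext n m
  rw [tps, coeff_mk, coeff_mk, Polynomial.coeff_coe, Polynomial.coeff_coe, Polynomial.coeff_map,
    Polynomial.taylor_coeff, Polynomial.coeToPowerSeries.ringHom_apply, Polynomial.coeff_coe]
  have h1 : Polynomial.hasseDeriv n (p.map Polynomial.C) = (Polynomial.hasseDeriv n p).map Polynomial.C := by
    ext j : 1
    simp [Polynomial.hasseDeriv_coeff]
  rw [h1, Polynomial.eval_map, Polynomial.eval₂_C_X, Polynomial.hasseDeriv_coeff]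

theorem coeff_tps_congr {f g : F⟦X⟧} {N : ℕ} (h : ∀ j ≤ N, coeff j f = coeff j g) {n m : ℕ} (hnm : m + n ≤ N) :
    coeff m (coeff n (tps f)) = coeff m (coeff n (tps g)) := by
  rw [tps, tps, coeff_mk, coeff_mk, coeff_mk, coeff_mk, h _ hnm]

theorem tps_mul (f g : F⟦X⟧) : tps (f * g) = tps f * tps g := by
  ext n m
  let N := m + n + 1
  have hf : ∀ j ≤ m + n, coeff j f = coeff j (trunc N f : F⟦X⟧) := fun j hj => by
    rw [Polynomial.coeff_coe, coeff_trunc, if_pos (Nat.lt_succ_of_le hj)]
  have hg : ∀ j ≤ m + n, coeff j g = coeff j (trunc N g : F⟦X⟧) := fun j hj => by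
    rw [Polynomial.coeff_coe, coeff_trunc, if_pos (Nat.lt_succ_of_le hj)]
  have hfg : ∀ j ≤ m + n, coeff j (f * g) = coeff j ((trunc N f * trunc N g : Polynomial F) : F⟦X⟧) := fun j hj => by
    rw [Polynomial.coe_mul, coeff_mul, coeff_mul]
    refine Finset.sum_congr rfl fun ab hab => ?_
    have := Finset.HasAntidiagonal.mem_antidiagonal.mp hab
    rw [hf _ (by omega), hg _ (by omega)]
  rw [coeff_tps_congr hfg le_rfl, tps_coe, Polynomial.map_mul, Polynomial.taylor_mul, Polynomial.map_mul,
    Polynomial.coe_mul, ← tps_coe, ← tps_coe, coeff_mul, coeff_mul, map_sum, map_sum]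
  refine Finset.sum_congr rfl fun ab hab => ?_
  rw [coeff_mul, coeff_mul]
  refine Finset.sum_congr rfl fun cd hcd => ?_
  have h1 := Finset.HasAntidiagonal.mem_antidiagonal.mp hab
  have h2 := Finset.HasAntidiagonal.mem_antidiagonal.mp hcd
  rw [← coeff_tps_congr hf (by omega), ← coeff_tps_congr hg (by omega)]

theorem constantCoeff_tps (f : F⟦X⟧) : constantCoeff (tps f) = f := by
  ext m
  simp [← coeff_zero_eq_constantCoeff_apply, tps]

noncomputable def tpsHom : F⟦X⟧ →+* (F⟦X⟧)⟦X⟧ where
  toFun := tps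
  map_one' := by
    rw [← Polynomial.coe_one, tps_coe]; simp
  map_mul' := tps_mul
  map_zero' := by ext n m; simp [tps]
  map_add' f g := by ext n m; simp [tps, mul_add]

/-- The Taylor homomorphism on power series, with values in Laurent coefficients. -/
noncomputable def taylorPS : F⟦X⟧ →+* PowerSeries (LaurentSeries F) :=
  (PowerSeries.map (HahnSeries.ofPowerSeries ℤ F)).comp tpsHom

theorem coeff_taylorPS (f : F⟦X⟧) (n : ℕ) :
    coeff n (taylorPS f) = LaurentSeries.hasseDeriv F n (f : LaurentSeries F) := by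
  rw [taylorPS, RingHom.comp_apply, coeff_map]
  ext m
  change ((coeff n (tps f) : F⟦X⟧) : LaurentSeries F).coeff m = _
  rw [PowerSeries.coeff_coe, LaurentSeries.hasseDeriv_coeff, PowerSeries.coeff_coe]
  rcases lt_or_ge m 0 with hm | hm
  · rw [if_pos hm]
    by_cases h : m + n < 0
    · rw [if_pos h, smul_zero]
    · rw [if_neg h]
      lift m + n to ℕ using not_lt.mp h with j hj
      rw [Ring.choose_natCast, Nat.choose_eq_zero_of_lt (by omega)]
      simp
  · lift m to ℕ using hm
    rw [if_neg (by omega), if_neg (by omega), ← Nat.cast_add, Ring.choose_natCast, Int.natAbs_natCast,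
      Int.natAbs_natCast, tps, coeff_mk, coeff_mk, zsmul_eq_mul, Int.cast_natCast]

theorem constantCoeff_taylorPS (f : F⟦X⟧) : constantCoeff (taylorPS f) = (f : LaurentSeries F) := by
  rw [← coeff_zero_eq_constantCoeff_apply, coeff_taylorPS, LaurentSeries.hasseDeriv_zero]
  rfl

theorem isUnit_taylorPS (f : nonZeroDivisors F⟦X⟧) : IsUnit (taylorPS (f : F⟦X⟧)) := by
  rw [PowerSeries.isUnit_iff_constantCoeff, constantCoeff_taylorPS]
  exact ((map_ne_zero_iff _ HahnSeries.ofPowerSeries_injective).mpr (nonZeroDivisors.ne_zero f.2)).isUnit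

/-- `f(X) ↦ f(X + T)` on Laurent series. -/
noncomputable def taylorL : LaurentSeries F →+* PowerSeries (LaurentSeries F) :=
  IsLocalization.lift (M := nonZeroDivisors F⟦X⟧) (S := LaurentSeries F) (g := taylorPS) isUnit_taylorPS

theorem taylorL_coe (f : F⟦X⟧) : taylorL (f : LaurentSeries F) = taylorPS f :=
  IsLocalization.lift_eq isUnit_taylorPS f

theorem constantCoeff_taylorL (f : LaurentSeries F) : constantCoeff (taylorL f) = f := by
  have : (constantCoeff.comp (taylorL (F := F))) = RingHom.id _ :=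
    IsLocalization.ringHom_ext (nonZeroDivisors F⟦X⟧) (RingHom.ext fun g => by
      simp only [RingHom.comp_apply, RingHom.id_apply]
      exact (congrArg constantCoeff (taylorL_coe g)).trans (constantCoeff_taylorPS g))
  exact RingHom.congr_fun this f

end Groth.Agent.FF
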