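import Groth.Agent.FF.Hasse
import Groth.Agent.FF.Taylor
import Groth.Agent.FF.LinSys

/-! Expansions at rational places and their compatibility with Hasse derivatives. -/

namespace Groth.Agent.FF

open FunFld IntermediateField LocRes WithZero
open scoped Classical

variable {k K : Type*} [Field k] [Field K] [Algebra k K]

/-- The Hasse derivative with respect to a local parameter is computed coefficientwise in an expansion. -/
theorem expansion_hasseD {F : Type*} [Field F] [Algebra k F] {t : K} [Algebra.IsSeparable k⟮t⟯ K]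
    {H : K →ₐ[k] PowerSeries K} (hH : IsHasseFamily t H) (φ : K →ₐ[k] LaurentSeries F)
    (ht : φ t = HahnSeries.single 1 1) {x : K} (f : PowerSeries F) (hx : φ x = (f : LaurentSeries F)) (n : ℕ) :
    φ (hasseD H n x) = LaurentSeries.hasseDeriv F n (φ x) := by
  let A : K →ₐ[k] PowerSeries (LaurentSeries F) :=
    { (taylorL (F := F)).comp (φ : K →+* LaurentSeries F) with
      commutes' := fun c => by
        change taylorL (φ (algebraMap k K c)) = _
        rw [map_algebraMap, PowerSeries.algebraMap_apply]
        rw [← HahnSeries.ofPowerSeries_C, taylorL_coe]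
        ext j : 1
        rw [coeff_taylorPS, PowerSeries.coeff_C]
        rcases eq_or_ne j 0 with rfl | hj
        · rw [if_pos rfl, LaurentSeries.hasseDeriv_zero, HahnSeries.algebraMap_apply',
            PowerSeries.algebraMap_apply, LinearMap.id_apply]
        · rw [if_neg hj, HahnSeries.ofPowerSeries_C, HahnSeries.C_apply, LaurentSeries.hasseDeriv_single,
            show ((0 : ℤ)) = ((0 : ℕ) : ℤ) from rfl, Ring.choose_natCast, Nat.choose_eq_zero_of_lt (Nat.pos_of_ne_zero hj)]
          simp }
  let B : K →ₐ[k] PowerSeries (LaurentSeries F) :=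
    { (PowerSeries.map (φ : K →+* LaurentSeries F)).comp (H : K →+* PowerSeries K) with
      commutes' := fun c => by
        change PowerSeries.map (φ : K →+* LaurentSeries F) (H (algebraMap k K c)) = _
        rw [H.commutes, PowerSeries.algebraMap_apply, PowerSeries.map_C, PowerSeries.algebraMap_apply]
        exact congrArg _ (φ.commutes c) }
  have : IsLocalHom (PowerSeries.constantCoeff : PowerSeries (LaurentSeries F) →+* LaurentSeries F) :=
    ⟨fun a ha => PowerSeries.isUnit_iff_constantCoeff.mpr ha⟩
  have hAB : A = B := by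
    refine hom_ext_of_separable (t := t) (PowerSeries.constantCoeff : PowerSeries (LaurentSeries F) →+* LaurentSeries F)
      A B (fun z => ?_) ?_
    · change PowerSeries.constantCoeff (taylorL (φ z)) = PowerSeries.constantCoeff (PowerSeries.map _ (H z))
      rw [constantCoeff_taylorL, ← PowerSeries.coeff_zero_eq_constantCoeff_apply, PowerSeries.coeff_map,
        PowerSeries.coeff_zero_eq_constantCoeff_apply, hH.2]
      rfl
    · change taylorL (φ t) = PowerSeries.map _ (H t)
      rw [ht, hH.1, map_add, PowerSeries.map_C, PowerSeries.map_X, ← HahnSeries.ofPowerSeries_X, taylorL_coe,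
        show φ.toRingHom t = φ t from rfl, ht, ← HahnSeries.ofPowerSeries_X]
      ext j : 1
      rw [coeff_taylorPS, map_add, PowerSeries.coeff_C, PowerSeries.coeff_X, HahnSeries.ofPowerSeries_X,
        LaurentSeries.hasseDeriv_single, show ((1 : ℤ)) = ((1 : ℕ) : ℤ) from rfl, Ring.choose_natCast]
      match j with
      | 0 => simp
      | 1 => simp
      | j + 2 => simp [Nat.choose_eq_zero_of_lt (show 1 < j + 2 by omega)]
  have h1 := congrArg (PowerSeries.coeff n) (AlgHom.congr_fun hAB x)
  change PowerSeries.coeff n (taylorL (φ x)) = PowerSeries.coeff n (PowerSeries.map _ (H x)) at h1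
  rw [PowerSeries.coeff_map, hx, taylorL_coe, coeff_taylorPS] at h1
  rw [hx, hasseD_apply]
  exact h1.symm

section Rational

variable [IsAlgClosed k]

theorem exists_digit (hK : IsFunctionField k K) (P : Place k K) {t : K} (ht : P.1 t = exp (-1 : ℤ)) {f : K}
    (hf : P.1 f ≤ 1) (n : ℕ) :
    ∃ p : Polynomial k, p.degree < n ∧ P.1 (f - Polynomial.aeval t p) ≤ exp (-(n : ℤ)) := by
  induction n with
  | zero => exact ⟨0, by simp, by simpa using hf⟩
  | succ n ih =>
    obtain ⟨p, hp, hv⟩ := ih
    have ht0 : t ≠ 0 := fun h => exp_ne_zero (by rw [← ht, h, map_zero])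
    have hg : P.1 ((f - Polynomial.aeval t p) / t ^ n) ≤ 1 := by
      rw [map_div₀, map_pow, ht, ← exp_nsmul]
      refine div_le_one_of_le₀ (hv.trans_eq ?_) zero_le
      congr 1; simp
    obtain ⟨c, hc⟩ := exists_const_near hK P hg
    refine ⟨p + Polynomial.monomial n c, ?_, ?_⟩
    · refine (Polynomial.degree_add_le _ _).trans_lt (max_lt (hp.trans_le ?_) ((Polynomial.degree_monomial_le n c).trans_lt ?_))
      · exact_mod_cast Nat.le_succ n
      · exact_mod_cast Nat.lt_succ_self n
    · have hc' : P.1 ((f - Polynomial.aeval t p) / t ^ n - algebraMap k K c) ≤ exp (-1 : ℤ) := by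
        rcases eq_or_ne ((f - Polynomial.aeval t p) / t ^ n - algebraMap k K c) 0 with h0 | h0
        · rw [h0, map_zero]; exact zero_le
        · rw [val_lt_one_iff P h0] at hc
          rw [val_le_exp_iff P h0]; omega
      have : f - Polynomial.aeval t (p + Polynomial.monomial n c) =
          t ^ n * ((f - Polynomial.aeval t p) / t ^ n - algebraMap k K c) := by
        rw [map_add, Polynomial.aeval_monomial, mul_sub, mul_div_cancel₀ _ (pow_ne_zero n ht0)]
        ring
      rw [this, map_mul, map_pow, ht, ← exp_nsmul]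
      refine (mul_le_mul' le_rfl hc').trans_eq ?_
      rw [← exp_add]; congr 1; push_cast; simp; ring

theorem digit_unique (P : Place k K) {t : K} (ht : P.1 t = exp (-1 : ℤ)) {p : Polynomial k} {n : ℕ}
    (hv : P.1 (Polynomial.aeval t p) ≤ exp (-(n : ℤ))) : ∀ j < n, p.coeff j = 0 := by
  intro j
  induction j using Nat.strong_induction_on with
  | _ j ih =>
    intro hj
    by_contra hc
    have hp : p ≠ 0 := fun h => hc (by simp [h])
    have ht0 : P.1 (t - algebraMap k K 0) = exp (-1 : ℤ) := by simp [ht]
    rw [val_aeval_finite ht0 hp, exp_le_exp] at hv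
    have h1 : p.rootMultiplicity 0 ≤ j := by
      by_contra hlt
      have hd : Polynomial.X ^ (j + 1) ∣ p := by
        have := (Polynomial.le_rootMultiplicity_iff hp).mp (show j + 1 ≤ p.rootMultiplicity 0 by omega)
        simpa using this
      exact hc ((Polynomial.X_pow_dvd_iff.mp hd) j (by omega))
    omega

/-- The expansion of the valuation ring of a rational place. -/
theorem exists_expansion (hK : IsFunctionField k K) (P : Place k K) {t : K} (ht : P.1 t = exp (-1 : ℤ)) :
    ∃ φ : K →ₐ[k] LaurentSeries k, IsExpansionAt P.1 φ ∧ φ t = HahnSeries.single 1 1 ∧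
      ∀ x, P.1 x ≤ 1 → ∃ f : PowerSeries k, φ x = (f : LaurentSeries k) := by
  have ht0 : t ≠ 0 := fun h => exp_ne_zero (by rw [← ht, h, map_zero])
  have hfun : ∀ f : P.O, ∀ n : ℕ, ∃ p : Polynomial k, p.degree < n ∧
      P.1 ((f : K) - Polynomial.aeval t p) ≤ exp (-(n : ℤ)) := fun f n =>
    exists_digit hK P ht ((mem_O P).mp f.2) n
  choose dig hdeg hdig using hfun
  let ser : P.O → PowerSeries k := fun f => PowerSeries.mk fun n => (dig f (n + 1)).coeff n
  have hser : ∀ (f : P.O) (q : Polynomial k) (n : ℕ), P.1 ((f : K) - Polynomial.aeval t q) ≤ exp (-(n : ℤ)) →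
      ∀ j < n, PowerSeries.coeff j (ser f) = q.coeff j := by
    intro f q n hq j hj
    have h1 : P.1 (Polynomial.aeval t (dig f (j + 1) - q)) ≤ exp (-((j + 1 : ℕ) : ℤ)) := by
      rw [map_sub, show Polynomial.aeval t (dig f (j + 1)) - Polynomial.aeval t q =
        ((f : K) - Polynomial.aeval t q) - ((f : K) - Polynomial.aeval t (dig f (j + 1))) by ring]
      refine P.1.map_sub_le (hq.trans (exp_le_exp.mpr (by omega))) (hdig f _)
    have := digit_unique P ht h1 j (Nat.lt_succ_self j)
    rw [Polynomial.coeff_sub, sub_eq_zero] at this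
    simpa [ser] using this
  have htle : ∀ q : Polynomial k, P.1 (Polynomial.aeval t q) ≤ 1 := fun q =>
    val_aeval_le (by rw [ht, ← exp_zero, exp_le_exp]; omega) q
  have hcl : ∀ (f g : P.O) (n : ℕ), ∃ a b : Polynomial k,
      P.1 ((f : K) - Polynomial.aeval t a) ≤ exp (-(n : ℤ)) ∧ P.1 ((g : K) - Polynomial.aeval t b) ≤ exp (-(n : ℤ)) :=
    fun f g n => ⟨dig f n, dig g n, hdig f n, hdig g n⟩
  have hadd : ∀ f g : P.O, ser (f + g) = ser f + ser g := fun f g => by
    ext j
    obtain ⟨a, b, ha, hb⟩ := hcl f g (j + 1)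
    rw [map_add, hser f a _ ha j (by omega), hser g b _ hb j (by omega),
      hser (f + g) (a + b) (j + 1) (by
        rw [Subring.coe_add, map_add, add_sub_add_comm]; exact P.1.map_add_le ha hb) j (by omega),
      Polynomial.coeff_add]
  have hmul : ∀ f g : P.O, ser (f * g) = ser f * ser g := fun f g => by
    ext j
    obtain ⟨a, b, ha, hb⟩ := hcl f g (j + 1)
    rw [hser (f * g) (a * b) (j + 1) (by
      rw [Subring.coe_mul, map_mul, show (f : K) * g - Polynomial.aeval t a * Polynomial.aeval t b =
        ((f : K) - Polynomial.aeval t a) * g + Polynomial.aeval t a * ((g : K) - Polynomial.aeval t b) by ring]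
      refine P.1.map_add_le ?_ ?_
      · rw [map_mul]; exact (mul_le_mul' ha ((mem_O P).mp g.2)).trans_eq (mul_one _)
      · rw [map_mul]; exact (mul_le_mul' (htle a) hb).trans_eq (one_mul _)) j (by omega),
      Polynomial.coeff_mul, PowerSeries.coeff_mul]
    refine Finset.sum_congr rfl fun ab hab => ?_
    have := Finset.HasAntidiagonal.mem_antidiagonal.mp hab
    rw [hser f a _ ha _ (by omega), hser g b _ hb _ (by omega)]
  have hpoly : ∀ (q : Polynomial k) (hq : Polynomial.aeval t q ∈ P.O), ser ⟨_, hq⟩ = (q : PowerSeries k) := fun q hq => by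
    ext j
    rw [hser ⟨_, hq⟩ q (j + 1) (by simp) j (by omega), Polynomial.coeff_coe]
  let σ : P.O →+* PowerSeries k :=
    { toFun := ser
      map_one' := by
        have h1 := hpoly 1 (by simp)
        rw [show (1 : P.O) = ⟨_, (by simp : Polynomial.aeval t (1 : Polynomial k) ∈ P.O)⟩ from Subtype.ext (by simp), h1]
        exact Polynomial.coe_one
      map_mul' := hmul
      map_zero' := by
        have h0 := hpoly 0 (by simp)
        rw [show (0 : P.O) = ⟨_, (by simp : Polynomial.aeval t (0 : Polynomial k) ∈ P.O)⟩ from Subtype.ext (by simp), h0]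
        exact Polynomial.coe_zero
      map_add' := hadd }
  have hinj : Function.Injective σ := by
    rw [injective_iff_map_eq_zero]
    intro f hf
    by_contra hne
    have hne' : (f : K) ≠ 0 := fun h => hne (Subtype.ext h)
    have h0 : ∀ j, PowerSeries.coeff j (ser f) = 0 := fun j => by
      rw [show ser f = 0 from hf, map_zero]
    let N := (P.ord (f : K)).toNat + 1
    have h1 : dig f N = 0 := Polynomial.ext fun j => by
      rw [Polynomial.coeff_zero]
      rcases lt_or_ge j N with hj | hj
      · rw [← hser f (dig f N) N (hdig f N) j hj, h0]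
      · exact Polynomial.coeff_eq_zero_of_degree_lt ((hdeg f N).trans_le (by exact_mod_cast hj))
    have h2 := hdig f N
    rw [h1, map_zero, sub_zero, val_le_exp_iff P hne'] at h2
    omega
  have hj : Function.Injective ((HahnSeries.ofPowerSeries ℤ k).comp σ) :=
    HahnSeries.ofPowerSeries_injective.comp hinj
  let ψ : K →+* LaurentSeries k := IsFractionRing.lift (A := P.O) (K := K) hj
  have hψ : ∀ f : P.O, ψ f = (ser f : LaurentSeries k) := fun f =>
    IsFractionRing.lift_algebraMap (A := P.O) (K := K) hj f
  have hψp : ∀ q : Polynomial k, ψ (Polynomial.aeval t q) = ((q : PowerSeries k) : LaurentSeries k) := fun q => by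
    rw [← hpoly q ((mem_O P).mpr (htle q))]
    exact hψ ⟨_, _⟩
  let φ : K →ₐ[k] LaurentSeries k :=
    { ψ with
      commutes' := fun c => by
        have := hψp (Polynomial.C c)
        rw [Polynomial.aeval_C, Polynomial.coe_C] at this
        rw [HahnSeries.algebraMap_apply', PowerSeries.algebraMap_apply]
        exact this }
  have hps : ∀ x, ∀ hx : P.1 x ≤ 1, φ x = (ser ⟨x, (mem_O P).mpr hx⟩ : LaurentSeries k) := fun x hx =>
    hψ ⟨x, (mem_O P).mpr hx⟩
  have hφt : φ t = HahnSeries.single 1 1 := by
    have := hψp Polynomial.X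
    rw [Polynomial.aeval_X, Polynomial.coe_X, HahnSeries.ofPowerSeries_X] at this
    exact this
  have hle : ∀ x, P.1 x ≤ 1 → Valued.v (φ x) ≤ 1 := fun x hx => by
    rw [hps x hx]
    have h0 : Valued.v (ser ⟨x, (mem_O P).mpr hx⟩ : LaurentSeries k) ≤ exp (-(0 : ℤ)) :=
      LaurentSeries.valuation_le_iff_coeff_lt_eq_zero k |>.mpr fun n hn => by rw [PowerSeries.coeff_coe, if_pos hn]
    simpa using h0
  refine ⟨φ, ⟨fun f => ?_, fun a => ⟨algebraMap k K a, P.2.1 a, ?_⟩, t, ht⟩, hφt, fun x hx => ⟨_, hps x hx⟩⟩
  · rcases eq_or_ne f 0 with rfl | hf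
    · simp
    let u := f / t ^ P.ord f
    have hu : P.1 u = 1 := by
      simp only [u, map_div₀, map_zpow₀, ht, ← exp_zsmul, val_eq_exp_neg_ord P hf]
      rw [← exp_sub]; simp
    have hvu : Valued.v (φ u) = 1 := by
      refine le_antisymm (hle u hu.le) ?_
      have h2 := hle u⁻¹ (by rw [map_inv₀, hu, inv_one])
      rw [map_inv₀, map_inv₀] at h2
      have hne : Valued.v (φ u) ≠ 0 := by
        rw [map_ne_zero, map_ne_zero]
        intro h0; rw [h0, map_zero] at hu; exact zero_ne_one hu
      exact (inv_le_one₀ (zero_lt_iff.mpr hne)).mp h2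
    have hfu : f = t ^ P.ord f * u := by
      simp only [u]; rw [mul_div_cancel₀ _ (zpow_ne_zero _ ht0)]
    conv_lhs => rw [hfu, map_mul, map_mul, hvu, mul_one, map_zpow₀, map_zpow₀, hφt]
    conv_rhs => rw [hfu, map_mul, hu, mul_one, map_zpow₀, ht]
    rw [show (HahnSeries.single (1 : ℤ)) (1 : k) = HahnSeries.single 1 1 from rfl, LaurentSeries.valuation_single_zpow]
  · rw [φ.commutes, algebraMap_eq_C]
    simp [HahnSeries.C_apply]

/-- Hasse derivatives at a local parameter preserve the valuation ring. -/
theorem val_hasseD_le (hK : IsFunctionField k K) (P : Place k K) {t : K} (ht : P.1 t = exp (-1 : ℤ))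
    {H : K →ₐ[k] PowerSeries K} (hH : IsHasseFamily t H) {x : K} (hx : P.1 x ≤ 1) (n : ℕ) :
    P.1 (hasseD H n x) ≤ 1 := by
  have := isSeparable_of_hasse hK hH
  obtain ⟨φ, hφ, hφt, hps⟩ := exists_expansion hK P ht
  obtain ⟨f, hf⟩ := hps x hx
  rw [← hφ.1, expansion_hasseD hH φ hφt f hf n, hf, ← exp_zero, ← neg_zero]
  refine LaurentSeries.valuation_le_iff_coeff_lt_eq_zero k |>.mpr fun m hm => ?_
  rw [LaurentSeries.hasseDeriv_coeff]
  by_cases h : m + n < 0
  · rw [PowerSeries.coeff_coe, if_pos h, smul_zero]
  · lift m + n to ℕ using not_lt.mp h with j hj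
    rw [Ring.choose_natCast, Nat.choose_eq_zero_of_lt (by omega), Nat.cast_zero, zero_smul]

/-- A local parameter at a place is a separating variable. -/
theorem exists_hasse_uniformizer (hK : IsFunctionField k K) (P : Place k K) {t : K} (ht : P.1 t = exp (-1 : ℤ)) :
    ∃ H : K →ₐ[k] PowerSeries K, IsHasseFamily t H := by
  obtain ⟨φ, hφ, hφt, -⟩ := exists_expansion hK P ht
  obtain ⟨x, hx, hfin, hsep⟩ := exists_separating hK
  obtain ⟨Hx, hHx⟩ := exists_hasse (t := x) hx
  have htr : Transcendental k t := transcendental_of_not_mem hK fun ⟨c, hc⟩ => by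
    have h1 := P.2.1 c
    rcases eq_or_ne c 0 with rfl | hc0
    · rw [map_zero] at hc; rw [← hc, map_zero] at ht; exact exp_ne_zero ht.symm
    · rw [← hc, val_algebraMap P hc0, ← exp_zero, exp_inj] at ht; omega
  have hne : hasseD Hx 1 t ≠ 0 := fun h0 => by
    let := φ.toRingHom.toAlgebra
    have : IsScalarTower k K (LaurentSeries k) := isScalarTower_exp φ
    have he : dExp φ = (LinearMap.toSpanSingleton K _ (dExp φ x)).compDer (hasseDer hHx) := by
      refine derivation_ext_separable (x := x) _ _ ?_
      change dExp φ x = hasseD Hx 1 x • dExp φ x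
      rw [hasseD_one_self hHx, one_smul]
    have h1 := Derivation.congr_fun he t
    change D k (φ t) = hasseD Hx 1 t • dExp φ x at h1
    rw [h0, zero_smul, hφt] at h1
    have := congrArg (fun f : LaurentSeries k => f.coeff 0) h1
    simp at this
  have : Algebra.IsSeparable k⟮t⟯ K := by
    have := finiteDimensional_adjoin hK htr
    rw [← Algebra.FormallyUnramified.iff_isSeparable]
    let d : Derivation k K (KaehlerDifferential k⟮t⟯ K) := (KaehlerDifferential.D k⟮t⟯ K).restrictScalars k
    have hd : ∀ z, d z = hasseD Hx 1 z • d x := by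
      have he : d = (LinearMap.toSpanSingleton K _ (d x)).compDer (hasseDer hHx) := by
        refine derivation_ext_separable (x := x) _ _ ?_
        change d x = hasseD Hx 1 x • d x
        rw [hasseD_one_self hHx, one_smul]
      exact fun z => Derivation.congr_fun he z
    have h0 : d x = 0 := by
      have := hd t
      rw [show d t = 0 from (KaehlerDifferential.D k⟮t⟯ K).map_algebraMap (AdjoinSimple.gen k t)] at this
      exact (smul_eq_zero.mp this.symm).resolve_left hne
    refine ⟨subsingleton_of_forall_eq 0 fun w => ?_⟩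
    have htop : (⊤ : Submodule K (KaehlerDifferential k⟮t⟯ K)) ≤ ⊥ := by
      rw [← KaehlerDifferential.span_range_derivation, Submodule.span_le]
      rintro _ ⟨z, rfl⟩
      change d z = 0
      rw [hd z, h0, smul_zero]
    exact htop trivial
  have := finiteDimensional_adjoin hK htr
  exact exists_hasse htr

/-- The order of `u ds` read through any expansion at `P` is `ord_P (u · D_t s)`. -/
theorem vDiff_eq (hK : IsFunctionField k K) (P : Place k K) {t : K} (ht : P.1 t = exp (-1 : ℤ))
    {H : K →ₐ[k] PowerSeries K} (hH : IsHasseFamily t H) (φ : K →ₐ[k] LaurentSeries k)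
    (hφ : IsExpansionAt P.1 φ) (u s : K) : vDiff φ u s = P.1 (u * hasseD H 1 s) := by
  have := isSeparable_of_hasse hK hH
  let := φ.toRingHom.toAlgebra
  have : IsScalarTower k K (LaurentSeries k) := isScalarTower_exp φ
  have he : dExp φ = (LinearMap.toSpanSingleton K _ (dExp φ t)).compDer (hasseDer hH) := by
    refine derivation_ext_separable (x := t) _ _ ?_
    change dExp φ t = hasseD H 1 t • dExp φ t
    rw [hasseD_one_self hH, one_smul]
  have hs : D k (φ s) = φ (hasseD H 1 s) * D k (φ t) := Derivation.congr_fun he s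
  have hDt : Valued.v (D k (φ t)) = 1 := by
    have hv := hφ.1 t
    rw [ht] at hv
    have h0 := (LaurentSeries.valuation_le_iff_coeff_lt_eq_zero k).mp hv.le
    have h1 : (φ t).coeff 1 ≠ 0 := fun h => by
      have : Valued.v (φ t) ≤ exp (-(2 : ℤ)) := (LaurentSeries.valuation_le_iff_coeff_lt_eq_zero k).mpr fun n hn => by
        rcases eq_or_lt_of_le (show n ≤ 1 by omega) with rfl | hn'
        · exact h
        · exact h0 n hn'
      rw [hv, exp_le_exp] at this; omega
    have hle : Valued.v (D k (φ t)) ≤ exp (-(0 : ℤ)) := (LaurentSeries.valuation_le_iff_coeff_lt_eq_zero k).mpr fun n hn => by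
      rw [D_coeff, h0 (n + 1) (by omega), smul_zero]
    rw [neg_zero, exp_zero] at hle
    refine le_antisymm hle (not_lt.mp fun hlt => ?_)
    have : Valued.v (D k (φ t)) ≤ exp (-(1 : ℤ)) := by
      rcases eq_or_ne (Valued.v (D k (φ t))) 0 with h | h
      · rw [h]; exact zero_le
      · rw [← exp_log h, ← exp_zero, exp_lt_exp] at hlt
        rw [← exp_log h, exp_le_exp]; omega
    have := (LaurentSeries.valuation_le_iff_coeff_lt_eq_zero k).mp this 0 (by omega)
    rw [D_coeff, zero_add, one_smul] at this
    exact h1 this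
  rw [vDiff, hs, ← mul_assoc, ← map_mul, map_mul, hDt, mul_one, hφ.1]

end Rational

end Groth.Agent.FF
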