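import Groth.Agent.FF.LocRing
import Groth.Agent.FF.PlaneKer
import Groth.Agent.FF.Expansion
import Mathlib.Algebra.MvPolynomial.PDeriv

/-! The adjoint order of a plane model at a place, by successive quadratic transformations. -/

namespace Groth.Agent.FF

open FunFld WithZero MvPolynomial
open scoped Classical

variable {k K : Type*} [Field k] [Field K] [Algebra k K] {P : Place k K}

/-- Membership in the local ring of the affine plane point below `P`. -/
def LocZ (P : Place k K) (u v z : K) : Prop :=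
  ∃ a ∈ Algebra.adjoin k ({u, v} : Set K), ∃ b ∈ Algebra.adjoin k ({u, v} : Set K), P.1 b = 1 ∧ z * b = a

/-- The local ring of the affine plane point is the valuation ring. -/
def LocFull (P : Place k K) (u v : K) : Prop := ∀ z, P.1 z ≤ 1 → LocZ P u v z

theorem chain_rule {R : Type*} [CommRing R] [Algebra k R] (d : Derivation k R R) (a b : R)
    (g : MvPolynomial (Fin 2) k) :
    d (aeval ![a, b] g) = aeval ![a, b] (pderiv 0 g) * d a + aeval ![a, b] (pderiv 1 g) * d b := by
  induction g using MvPolynomial.induction_on with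
  | C c => simp
  | add p q hp hq => simp only [map_add, hp, hq]; ring
  | mul_X p i hp =>
    fin_cases i <;> simp [hp, pderiv_mul, pderiv_X_self, pderiv_X_of_ne] <;> ring

theorem exists_split (A : MvPolynomial (Fin 2) k) :
    ∃ A1 A2, A = C (constantCoeff A) + X 0 * A1 + X 1 * A2 := by
  induction A using MvPolynomial.induction_on with
  | C c => exact ⟨0, 0, by simp⟩
  | add p q hp hq =>
    obtain ⟨a, b, h⟩ := hp
    obtain ⟨c, d, h'⟩ := hq
    refine ⟨a + c, b + d, ?_⟩
    conv_lhs => rw [h, h']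
    simp only [map_add]; ring
  | mul_X p i _ =>
    fin_cases i
    · exact ⟨p, 0, by simp [mul_comm]⟩
    · exact ⟨0, p, by simp [mul_comm]⟩

theorem const_pderiv_zero (A A1 A2 : MvPolynomial (Fin 2) k) (c : k) (h : A = C c + X 0 * A1 + X 1 * A2) :
    constantCoeff (pderiv 0 A) = constantCoeff A1 ∧ constantCoeff (pderiv 1 A) = constantCoeff A2 := by
  subst h
  constructor <;> simp [pderiv_mul]

/-- A polynomial vanishing to order two at the origin. -/
theorem exists_split_two {g : MvPolynomial (Fin 2) k} (h0 : constantCoeff g = 0)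
    (hx : constantCoeff (pderiv 0 g) = 0) (hy : constantCoeff (pderiv 1 g) = 0) :
    ∃ A B B' D, g = X 0 * X 0 * A + X 0 * X 1 * B + X 0 * X 1 * B' + X 1 * X 1 * D := by
  obtain ⟨g1, g2, hg⟩ := exists_split g
  obtain ⟨e1, e2⟩ := const_pderiv_zero g g1 g2 _ hg
  obtain ⟨A, B, hA⟩ := exists_split g1
  obtain ⟨B', D, hD⟩ := exists_split g2
  refine ⟨A, B, B', D, ?_⟩
  rw [← e1, hx, C_0, zero_add] at hA
  rw [← e2, hy, C_0, zero_add] at hD
  rw [h0, C_0, zero_add, hA, hD] at hg
  conv_lhs => rw [hg]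
  ring

theorem aeval_swap {R : Type*} [CommRing R] [Algebra k R] (a b : R) (g : MvPolynomial (Fin 2) k) :
    aeval ![b, a] (aeval ![(X 1 : MvPolynomial (Fin 2) k), X 0] g) = aeval ![a, b] g := by
  rw [← AlgHom.comp_apply, comp_aeval]
  congr 2
  ext i; fin_cases i <;> simp

theorem pderiv_swap (g : MvPolynomial (Fin 2) k) :
    pderiv 0 (aeval ![(X 1 : MvPolynomial (Fin 2) k), X 0] g) = aeval ![X 1, X 0] (pderiv 1 g) ∧
      pderiv 1 (aeval ![(X 1 : MvPolynomial (Fin 2) k), X 0] g) = aeval ![X 1, X 0] (pderiv 0 g) := by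
  constructor <;> rw [chain_rule] <;> simp [pderiv_X_self, pderiv_X_of_ne]

theorem constantCoeff_swap (G : MvPolynomial (Fin 2) k) :
    constantCoeff (aeval ![(X 1 : MvPolynomial (Fin 2) k), X 0] G) = constantCoeff G := by
  obtain ⟨A1, A2, e⟩ := exists_split G
  conv_lhs => rw [e]
  simp

theorem aeval_mem_adjoin (u v : K) (A : MvPolynomial (Fin 2) k) :
    aeval ![u, v] A ∈ Algebra.adjoin k ({u, v} : Set K) := by
  induction A using MvPolynomial.induction_on with
  | C c => simp
  | add p q hp hq => rw [map_add]; exact add_mem hp hq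
  | mul_X p i hp =>
    rw [map_mul, aeval_X]
    refine mul_mem hp (Algebra.subset_adjoin ?_)
    fin_cases i <;> simp

theorem exists_eq_aeval {u v z : K} (hz : z ∈ Algebra.adjoin k ({u, v} : Set K)) :
    ∃ A : MvPolynomial (Fin 2) k, z = aeval ![u, v] A := by
  induction hz using Algebra.adjoin_induction with
  | mem w hw =>
    rcases hw with rfl | rfl
    · exact ⟨X 0, by simp⟩
    · exact ⟨X 1, by simp⟩
  | algebraMap c => exact ⟨C c, by simp⟩
  | add a b _ _ ha hb =>
    obtain ⟨A, rfl⟩ := ha; obtain ⟨B, rfl⟩ := hb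
    exact ⟨A + B, by simp⟩
  | mul a b _ _ ha hb =>
    obtain ⟨A, rfl⟩ := ha; obtain ⟨B, rfl⟩ := hb
    exact ⟨A * B, by simp⟩

theorem val_aeval2_le {u v : K} (hu : P.1 u ≤ 1) (hv : P.1 v ≤ 1) (A : MvPolynomial (Fin 2) k) :
    P.1 (aeval ![u, v] A) ≤ 1 := by
  have : Algebra.adjoin k ({u, v} : Set K) ≤ valSub P := Algebra.adjoin_le (by
    rintro w (rfl | rfl)
    · exact hu
    · exact hv)
  exact this (aeval_mem_adjoin u v A)

theorem val_aeval_sub_lt {u v : K} (hu : P.1 u < 1) (hv : P.1 v < 1) (A : MvPolynomial (Fin 2) k) :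
    P.1 (aeval ![u, v] A - algebraMap k K (constantCoeff A)) < 1 := by
  obtain ⟨A1, A2, h⟩ := exists_split A
  have e : aeval ![u, v] A - algebraMap k K (constantCoeff A) = u * aeval ![u, v] A1 + v * aeval ![u, v] A2 := by
    conv_lhs => rw [h]
    simp; ring
  rw [e]
  refine P.1.map_add_lt ?_ ?_ <;> rw [map_mul]
  · exact (mul_le_of_le_one_right' (val_aeval2_le hu.le hv.le A1)).trans_lt hu
  · exact (mul_le_of_le_one_right' (val_aeval2_le hu.le hv.le A2)).trans_lt hv

theorem val_aeval_eq_one {u v : K} (hu : P.1 u < 1) (hv : P.1 v < 1) {A : MvPolynomial (Fin 2) k}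
    (h : constantCoeff A ≠ 0) : P.1 (aeval ![u, v] A) = 1 :=
  val_eq_one_of_const (val_aeval_sub_lt hu hv A) h

theorem constantCoeff_eq_zero_of_aeval {u v : K} (hu : P.1 u < 1) (hv : P.1 v < 1) {A : MvPolynomial (Fin 2) k}
    (h : aeval ![u, v] A = 0) : constantCoeff A = 0 := by
  by_contra hc
  have := val_aeval_eq_one hu hv hc
  rw [h, map_zero] at this
  exact zero_ne_one this

/-- An affine plane point with a relation. -/
structure PtCfg (P : Place k K) (u v : K) (g : MvPolynomial (Fin 2) k) : Prop where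
  gen : IntermediateField.adjoin k ({u, v} : Set K) = ⊤
  hu : P.1 u < 1
  hv : P.1 v < 1
  rel : aeval ![u, v] g = 0

/-- The relevant data at one stage. -/
structure AdjCfg (P : Place k K) (δ : Derivation k K K) (u v : K) (g : MvPolynomial (Fin 2) k) (l : K) : Prop
    extends PtCfg P u v g where
  ne : l ≠ 0
  hy : aeval ![u, v] (pderiv 1 g) = l * δ u
  hx : aeval ![u, v] (pderiv 0 g) = -(l * δ v)

namespace PtCfg

variable [IsAlgClosed k] {u v : K} {g : MvPolynomial (Fin 2) k}

theorem ne_zero (h : PtCfg P u v g) : u ≠ 0 ∨ v ≠ 0 := by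
  by_contra hc
  push Not at hc
  obtain ⟨t, -, ht⟩ := exists_uniformizer P
  have hbot : IntermediateField.adjoin k ({u, v} : Set K) = ⊥ := by
    rw [IntermediateField.adjoin_eq_bot_iff]
    rintro w (rfl | rfl) <;> simp [hc.1, hc.2]
  have hmem : t ∈ (⊥ : IntermediateField k K) := by rw [← hbot, h.gen]; trivial
  obtain ⟨c, hc'⟩ := IntermediateField.mem_bot.mp hmem
  rcases eq_or_ne c 0 with rfl | hc0
  · rw [map_zero] at hc'; rw [← hc', map_zero] at ht; exact exp_ne_zero ht.symm
  · rw [← hc', val_algebraMap P hc0, ← exp_zero, exp_inj] at ht; omega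

theorem swap (h : PtCfg P u v g) : PtCfg P v u (aeval ![X 1, X 0] g) where
  gen := by rw [Set.pair_comm]; exact h.gen
  hu := h.hv
  hv := h.hu
  rel := by rw [aeval_swap]; exact h.rel

theorem locZ_of_pow (h : PtCfg P u v g) (hy : constantCoeff (pderiv 1 g) ≠ 0) :
    u ≠ 0 ∧ ∀ z : K, z ≠ 0 → z ∈ Algebra.adjoin k ({u, v} : Set K) →
      ∃ n : ℕ, ∃ a ∈ Algebra.adjoin k ({u, v} : Set K), ∃ b ∈ Algebra.adjoin k ({u, v} : Set K),
        P.1 a = 1 ∧ P.1 b = 1 ∧ z * b = u ^ n * a := by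
  obtain ⟨g1, g2, hg⟩ := exists_split g
  obtain ⟨-, e2⟩ := const_pderiv_zero g g1 g2 _ hg
  rw [e2] at hy
  have h0 := constantCoeff_eq_zero_of_aeval h.hu h.hv h.rel
  have hrel : u * aeval ![u, v] g1 + v * aeval ![u, v] g2 = 0 := by
    have := h.rel
    rw [hg, h0] at this
    simpa using this
  have hb1 := val_aeval_eq_one h.hu h.hv hy
  have hb0 : aeval ![u, v] g2 ≠ 0 := fun e => by rw [e, map_zero] at hb1; exact zero_ne_one hb1
  have hu0 : u ≠ 0 := by
    intro e
    have hv0 : v = 0 := by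
      rw [show u * aeval ![u, v] g1 = 0 by rw [e, zero_mul], zero_add] at hrel
      exact (mul_eq_zero.mp hrel).resolve_right hb0
    obtain ⟨t, -, ht⟩ := exists_uniformizer P
    have hmem : t ∈ (⊥ : IntermediateField k K) := by
      have hbot : IntermediateField.adjoin k ({u, v} : Set K) = ⊥ := by
        rw [IntermediateField.adjoin_eq_bot_iff]
        rintro w (rfl | rfl) <;> simp [e, hv0]
      rw [← hbot, h.gen]; trivial
    obtain ⟨c, hc⟩ := IntermediateField.mem_bot.mp hmem
    rcases eq_or_ne c 0 with rfl | hc0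
    · rw [map_zero] at hc; rw [← hc, map_zero] at ht; exact exp_ne_zero ht.symm
    · rw [← hc, val_algebraMap P hc0, ← exp_zero, exp_inj] at ht; omega
  refine ⟨hu0, ?_⟩
  suffices ∀ N : ℕ, ∀ A : MvPolynomial (Fin 2) k, exp (-(N : ℤ)) ≤ P.1 (aeval ![u, v] A) →
      ∃ n : ℕ, ∃ a ∈ Algebra.adjoin k ({u, v} : Set K), ∃ b ∈ Algebra.adjoin k ({u, v} : Set K),
        P.1 a = 1 ∧ P.1 b = 1 ∧ aeval ![u, v] A * b = u ^ n * a by
    intro z hz0 hz
    obtain ⟨A, rfl⟩ := exists_eq_aeval hz
    refine this (P.ord (aeval ![u, v] A)).toNat A ?_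
    rw [val_eq_exp_neg_ord P hz0, exp_le_exp]
    omega
  intro N
  induction N with
  | zero =>
    intro A hA
    rw [Nat.cast_zero, neg_zero, exp_zero] at hA
    exact ⟨0, _, aeval_mem_adjoin u v A, 1, one_mem _, le_antisymm (val_aeval2_le h.hu.le h.hv.le A) hA,
      map_one _, by simp⟩
  | succ N ih =>
    intro A hA
    by_cases hc : constantCoeff A = 0
    · obtain ⟨A1, A2, hAe⟩ := exists_split A
      have e : aeval ![u, v] A * aeval ![u, v] g2 = u * aeval ![u, v] (A1 * g2 - g1 * A2) := by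
        conv_lhs => rw [hAe, hc]
        simp only [map_add, map_sub, map_mul, aeval_X, aeval_C, map_zero, Matrix.cons_val_zero,
          Matrix.cons_val_one, zero_add]
        linear_combination (aeval ![u, v] A2) * hrel
      have hle : exp (-(N : ℤ)) ≤ P.1 (aeval ![u, v] (A1 * g2 - g1 * A2)) := by
        have hv' := congrArg P.1 e
        rw [map_mul, map_mul, hb1, mul_one] at hv'
        have hu1 : P.1 u ≤ exp (-1 : ℤ) := val_le_of_lt_one P h.hu
        have h3 := hA.trans (hv'.le.trans (mul_le_mul' hu1 le_rfl))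
        rw [Nat.cast_succ, neg_add, add_comm, exp_add] at h3
        exact le_of_mul_le_mul_left h3 exp_pos
      obtain ⟨n, a, ha, b, hb, ha1, hb1', hab⟩ := ih _ hle
      refine ⟨n + 1, a, ha, aeval ![u, v] g2 * b, mul_mem (aeval_mem_adjoin u v g2) hb, ha1,
        by rw [map_mul, hb1, hb1', one_mul], ?_⟩
      rw [← mul_assoc, e, mul_assoc, hab, pow_succ']; ring
    · exact ⟨0, _, aeval_mem_adjoin u v A, 1, one_mem _, val_aeval_eq_one h.hu h.hv hc, map_one _, by simp⟩

/-- A point with nonzero gradient: the first coordinate is a parameter and the local ring is full. -/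
theorem nonsingular_case (h : PtCfg P u v g) (hy : constantCoeff (pderiv 1 g) ≠ 0) :
    P.1 u = exp (-1 : ℤ) ∧ LocFull P u v := by
  obtain ⟨hu0, hpow⟩ := h.locZ_of_pow hy
  have key : ∀ z : K, z ≠ 0 → ∃ m : ℤ, P.1 z = P.1 u ^ m ∧ (0 ≤ m → LocZ P u v z) := by
    intro z hz
    have hzmem : z ∈ IntermediateField.adjoin k ({u, v} : Set K) := h.gen ▸ trivial
    obtain ⟨r, hr, s, hs, rfl⟩ := IntermediateField.mem_adjoin_iff_div.mp hzmem
    have hr0 : r ≠ 0 := fun e => hz (by rw [e, zero_div])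
    have hs0 : s ≠ 0 := fun e => hz (by rw [e, div_zero])
    obtain ⟨n, a, ha, b, hb, ha1, hb1, hab⟩ := hpow r hr0 hr
    obtain ⟨m, a', ha', b', hb', ha1', hb1', hab'⟩ := hpow s hs0 hs
    refine ⟨(n : ℤ) - m, ?_, fun hnm => ?_⟩
    · have e1 := congrArg P.1 hab
      have e2 := congrArg P.1 hab'
      rw [map_mul, map_mul, map_pow, hb1, ha1, mul_one, mul_one] at e1
      rw [map_mul, map_mul, map_pow, hb1', ha1', mul_one, mul_one] at e2
      rw [map_div₀, e1, e2, zpow_sub₀ ((map_ne_zero P.1).mpr hu0), zpow_natCast, zpow_natCast]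
    · obtain ⟨j, rfl⟩ : ∃ j, n = m + j := ⟨n - m, by omega⟩
      refine ⟨u ^ j * a * b', mul_mem (mul_mem (pow_mem (Algebra.subset_adjoin (show u ∈ ({u, v} : Set K) from Or.inl rfl)) _) ha) hb',
        b * a', mul_mem hb ha', by rw [map_mul, hb1, ha1', one_mul], ?_⟩
      rw [div_mul_eq_mul_div, div_eq_iff hs0]
      have hum : u ^ m ≠ 0 := pow_ne_zero _ hu0
      refine mul_left_cancel₀ hum ?_
      rw [show u ^ m * (r * (b * a')) = (r * b) * (u ^ m * a') by ring, hab, ← hab', pow_add]; ring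
  have hu1 : P.1 u = exp (-1 : ℤ) := by
    obtain ⟨t, ht0, ht⟩ := exists_uniformizer P
    obtain ⟨m, hm, -⟩ := key t ht0
    rw [ht, val_eq_exp_neg_ord P hu0, ← exp_zsmul, exp_inj, smul_eq_mul] at hm
    have hpos : 0 < P.ord u := (val_lt_one_iff P hu0).mp h.hu
    have : P.ord u = 1 := Int.eq_one_of_mul_eq_one_left hpos.le (show m * P.ord u = 1 by linarith)
    rw [val_eq_exp_neg_ord P hu0, this]
  refine ⟨hu1, fun z hz => ?_⟩
  rcases eq_or_ne z 0 with rfl | hz0
  · exact ⟨0, zero_mem _, 1, one_mem _, map_one _, zero_mul _⟩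
  obtain ⟨m, hm, hl⟩ := key z hz0
  refine hl (not_lt.mp fun hneg => ?_)
  rw [hm, hu1, ← exp_zsmul, ← exp_zero, exp_le_exp, smul_eq_mul] at hz
  linarith

theorem locFull_of_gradient (h : PtCfg P u v g)
    (hns : ¬ (constantCoeff (pderiv 0 g) = 0 ∧ constantCoeff (pderiv 1 g) = 0)) : LocFull P u v := by
  by_cases hy : constantCoeff (pderiv 1 g) = 0
  · have hx : constantCoeff (pderiv 1 (aeval ![(X 1 : MvPolynomial (Fin 2) k), X 0] g)) ≠ 0 := by
      intro e
      refine hns ⟨?_, hy⟩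
      rwa [(pderiv_swap g).2, constantCoeff_swap] at e
    obtain ⟨-, h2⟩ := h.swap.nonsingular_case hx
    intro z hz
    have := h2 z hz
    rwa [LocZ, Set.pair_comm] at this
  · exact (h.nonsingular_case hy).2

/-- At a singular point the local ring is not the valuation ring. -/
theorem not_locFull (h : PtCfg P u v g) (hker : ∀ G : MvPolynomial (Fin 2) k, aeval ![u, v] G = 0 → g ∣ G)
    (hs : constantCoeff (pderiv 0 g) = 0 ∧ constantCoeff (pderiv 1 g) = 0) : ¬ LocFull P u v := by
  intro hfull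
  have hcase : ∀ (a b : K) (G' : MvPolynomial (Fin 2) k), (∀ G, aeval ![a, b] G = 0 → G' ∣ G) →
      P.1 a < 1 → P.1 b < 1 → aeval ![a, b] G' = 0 → constantCoeff (pderiv 1 G') = 0 →
      LocFull P a b → a ≠ 0 → P.1 b ≤ P.1 a → False := by
    intro a b G' hk ha hb hG' hG1 hf ha0 hle
    have hw : P.1 (b / a) ≤ 1 := by
      rw [map_div₀, div_le_one₀ (zero_lt_iff.mpr ((map_ne_zero P.1).mpr ha0))]; exact hle
    obtain ⟨c, hc, d, hd, hd1, he⟩ := hf _ hw
    obtain ⟨A, rfl⟩ := exists_eq_aeval hc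
    obtain ⟨B, rfl⟩ := exists_eq_aeval hd
    have hz : aeval ![a, b] (X 1 * B - X 0 * A) = 0 := by
      simp only [map_sub, map_mul, aeval_X, Matrix.cons_val_zero, Matrix.cons_val_one]
      rw [← he]; field_simp; ring
    obtain ⟨H, hH⟩ := hk _ hz
    have h1 := congrArg (fun G => constantCoeff (pderiv 1 G)) hH
    simp [pderiv_mul, hG1, constantCoeff_eq_zero_of_aeval ha hb hG'] at h1
    have := val_aeval_sub_lt ha hb B
    rw [h1, map_zero, sub_zero] at this
    exact this.ne hd1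
  have hfs : LocFull P v u := fun z hz => by
    have := hfull z hz
    rwa [LocZ, Set.pair_comm] at this
  have hks : ∀ G, aeval ![v, u] G = 0 → aeval ![(X 1 : MvPolynomial (Fin 2) k), X 0] g ∣ G := fun G hG => by
    obtain ⟨H, hH⟩ := hker (aeval ![(X 1 : MvPolynomial (Fin 2) k), X 0] G) (by rw [aeval_swap]; exact hG)
    refine ⟨aeval ![(X 1 : MvPolynomial (Fin 2) k), X 0] H, ?_⟩
    rw [← map_mul, ← hH, aeval_swap, show ![(X 0 : MvPolynomial (Fin 2) k), X 1] = X from
      _root_.funext (Fin.forall_fin_two.mpr ⟨rfl, rfl⟩), aeval_X_left, AlgHom.id_apply]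
  have hsw : constantCoeff (pderiv 1 (aeval ![(X 1 : MvPolynomial (Fin 2) k), X 0] g)) = 0 := by
    rw [(pderiv_swap g).2, constantCoeff_swap, hs.1]
  by_cases hu0 : u = 0
  · refine hcase v u _ hks h.hv h.hu h.swap.rel hsw hfs (fun hv0 => h.ne_zero.elim (fun e => e hu0) (fun e => e hv0)) (by rw [hu0, map_zero]; exact zero_le)
  by_cases hle : P.1 v ≤ P.1 u
  · exact hcase u v g hker h.hu h.hv h.rel hs.2 hfull hu0 hle
  · exact hcase v u _ hks h.hv h.hu h.swap.rel hsw hfs
      (fun e => hle (by rw [e, map_zero]; exact zero_le)) (le_of_not_ge hle)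
end PtCfg

namespace AdjCfg

variable [IsAlgClosed k]

variable {δ : Derivation k K K} {u v l : K} {g : MvPolynomial (Fin 2) k}

theorem swap (h : AdjCfg P δ u v g l) : AdjCfg P δ v u (aeval ![X 1, X 0] g) (-l) where
  ne := neg_ne_zero.mpr h.ne
  gen := by rw [Set.pair_comm]; exact h.gen
  hu := h.hv
  hv := h.hu
  rel := by rw [aeval_swap]; exact h.rel
  hy := by rw [(pderiv_swap g).2, aeval_swap, h.hx]; ring
  hx := by rw [(pderiv_swap g).1, aeval_swap, h.hy]; ring

theorem nonsingular_case (h : AdjCfg P δ u v g l) (hy : constantCoeff (pderiv 1 g) ≠ 0)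
    (hδ : ∀ w, P.1 w = exp (-1 : ℤ) → P.1 (δ w) = 1) : P.1 l = 1 ∧ LocFull P u v := by
  obtain ⟨hu1, hfull⟩ := h.toPtCfg.nonsingular_case hy
  refine ⟨?_, hfull⟩
  have e := congrArg P.1 h.hy
  rw [val_aeval_eq_one h.hu h.hv hy, map_mul, hδ u hu1, mul_one] at e
  exact e.symm

theorem nonsingular (h : AdjCfg P δ u v g l)
    (hns : ¬ (constantCoeff (pderiv 0 g) = 0 ∧ constantCoeff (pderiv 1 g) = 0))
    (hδ : ∀ w, P.1 w = exp (-1 : ℤ) → P.1 (δ w) = 1) : P.1 l = 1 ∧ LocFull P u v := by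
  by_cases hy : constantCoeff (pderiv 1 g) = 0
  · have hx : constantCoeff (pderiv 1 (aeval ![(X 1 : MvPolynomial (Fin 2) k), X 0] g)) ≠ 0 := by
      intro e
      refine hns ⟨?_, hy⟩
      rwa [(pderiv_swap g).2, constantCoeff_swap] at e
    obtain ⟨h1, h2⟩ := h.swap.nonsingular_case hx hδ
    rw [P.1.map_neg] at h1
    refine ⟨h1, fun z hz => ?_⟩
    have := h2 z hz
    rwa [LocZ, Set.pair_comm] at this
  · exact h.nonsingular_case hy hδ

/-- The quadratic transformation at a singular point. -/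
theorem blowUp [IsAlgClosed k] (hK : IsFunctionField k K) (h : AdjCfg P δ u v g l)
    (hsing : constantCoeff (pderiv 0 g) = 0 ∧ constantCoeff (pderiv 1 g) = 0) (hu0 : u ≠ 0)
    (hle : P.1 v ≤ P.1 u) :
    ∃ c : k, ∃ g1, AdjCfg P δ u (v / u - algebraMap k K c) g1 (l / u) ∧
      P.1 (δ v) ≤ max (P.1 (δ u)) (P.1 (δ (v / u - algebraMap k K c))) := by
  have hw : P.1 (v / u) ≤ 1 := by
    rw [map_div₀, div_le_one₀ (zero_lt_iff.mpr ((map_ne_zero P.1).mpr hu0))]; exact hle
  obtain ⟨c, hc⟩ := exists_const_near hK P hw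
  set v1 := v / u - algebraMap k K c with hv1
  have hv_eq : v = u * (v1 + algebraMap k K c) := by rw [hv1, sub_add_cancel, mul_div_cancel₀ _ hu0]
  obtain ⟨A, B, B', D, hg⟩ := exists_split_two (constantCoeff_eq_zero_of_aeval h.hu h.hv h.rel) hsing.1 hsing.2
  let σ : MvPolynomial (Fin 2) k →ₐ[k] MvPolynomial (Fin 2) k := aeval ![X 0, X 0 * (X 1 + C c)]
  set g1 := σ A + (X 1 + C c) * σ B + (X 1 + C c) * σ B' + (X 1 + C c) * (X 1 + C c) * σ D with hg1
  have hσg : σ g = X 0 * X 0 * g1 := by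
    conv_lhs => rw [hg]
    simp only [σ, hg1, map_add, map_mul, aeval_X, Matrix.cons_val_zero, Matrix.cons_val_one]
    ring
  have hev : ∀ G, aeval ![u, v1] (σ G) = aeval ![u, v] G := fun G => by
    simp only [σ]
    rw [← AlgHom.comp_apply, comp_aeval]
    congr 2
    ext i; fin_cases i <;> simp [hv_eq]
  have hu2 : u * u ≠ 0 := mul_ne_zero hu0 hu0
  have hrel1 : aeval ![u, v1] g1 = 0 := by
    have := hev g
    rw [hσg, h.rel] at this
    simpa [hu0] using this
  have hdv : δ v = δ u * (v1 + algebraMap k K c) + u * δ v1 := by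
    conv_lhs => rw [hv_eq]
    rw [δ.leibniz, map_add, Derivation.map_algebraMap]; simp; ring
  have e1 : aeval ![u, v1] (pderiv 1 g1) = l / u * δ u := by
    have := congrArg (fun G => aeval ![u, v1] (pderiv 1 G)) hσg
    simp only [σ] at this
    rw [chain_rule] at this
    simp only [pderiv_mul, pderiv_X_self, pderiv_X_of_ne (show (0 : Fin 2) ≠ 1 by decide), map_add, pderiv_C, map_mul,
      map_zero, mul_zero, zero_mul, zero_add, add_zero, map_one, aeval_X, Matrix.cons_val_zero, mul_one] at this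
    rw [show aeval ![u, v1] (aeval ![X 0, X 0 * (X 1 + C c)] (pderiv 1 g)) = aeval ![u, v] (pderiv 1 g) from hev _,
      h.hy] at this
    rw [div_mul_eq_mul_div, eq_div_iff hu0]
    exact mul_right_cancel₀ hu0 (by linear_combination (-1 : K) * this)
  have e0 : aeval ![u, v1] (pderiv 0 g1) = -(l / u * δ v1) := by
    have := congrArg (fun G => aeval ![u, v1] (pderiv 0 G)) hσg
    simp only [σ] at this
    rw [chain_rule] at this
    simp only [pderiv_mul, pderiv_X_self, pderiv_X_of_ne (show (1 : Fin 2) ≠ 0 by decide), map_add, pderiv_C, map_mul,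
      map_zero, mul_zero, zero_mul, zero_add, add_zero, map_one, aeval_X, aeval_C, Matrix.cons_val_zero,
      Matrix.cons_val_one, mul_one, one_mul] at this
    rw [show aeval ![u, v1] (aeval ![X 0, X 0 * (X 1 + C c)] (pderiv 0 g)) = aeval ![u, v] (pderiv 0 g) from hev _,
      show aeval ![u, v1] (aeval ![X 0, X 0 * (X 1 + C c)] (pderiv 1 g)) = aeval ![u, v] (pderiv 1 g) from hev _,
      h.hx, h.hy, hdv, hrel1] at this
    rw [div_mul_eq_mul_div, ← neg_div, eq_div_iff hu0]
    exact mul_right_cancel₀ hu0 (by linear_combination (-1 : K) * this)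
  refine ⟨c, g1, ⟨⟨?_, h.hu, hc, hrel1⟩, div_ne_zero h.ne hu0, e1, e0⟩, ?_⟩
  · rw [eq_top_iff, ← h.gen, IntermediateField.adjoin_le_iff]
    rintro z (rfl | rfl)
    · exact IntermediateField.subset_adjoin _ _ (Or.inl rfl)
    · have hm : u * (v1 + algebraMap k K c) ∈ IntermediateField.adjoin k ({u, v1} : Set K) :=
        mul_mem (IntermediateField.subset_adjoin k _ (show u ∈ ({u, v1} : Set K) from Or.inl rfl))
          (add_mem (IntermediateField.subset_adjoin k _ (show v1 ∈ ({u, v1} : Set K) from Or.inr rfl))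
            (IntermediateField.algebraMap_mem _ c))
      rwa [← hv_eq] at hm
  · rw [hdv]
    refine (P.1.map_add _ _).trans (max_le_max ?_ ?_) <;> rw [map_mul]
    · exact mul_le_of_le_one_right' (P.1.map_add_le hc.le (P.2.1 c))
    · exact mul_le_of_le_one_left' h.hu.le

theorem val_le_bound (h : AdjCfg P δ u v g l) {M : WithZero (Multiplicative ℤ)} (hM : M ≤ max (P.1 (δ u)) (P.1 (δ v))) :
    P.1 l * M ≤ 1 := by
  have h1 : P.1 l * P.1 (δ u) ≤ 1 := by
    rw [← map_mul, ← h.hy]; exact val_aeval2_le h.hu.le h.hv.le _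
  have h2 : P.1 l * P.1 (δ v) ≤ 1 := by
    rw [← map_mul, ← P.1.map_neg, ← h.hx]; exact val_aeval2_le h.hu.le h.hv.le _
  rcases le_max_iff.mp hM with h' | h'
  · exact (mul_le_mul' le_rfl h').trans h1
  · exact (mul_le_mul' le_rfl h').trans h2

end AdjCfg

/-- The iteration: the adjoint order is nonnegative, and positive at a singular point. -/
theorem adjoint_iter [IsAlgClosed k] (hK : IsFunctionField k K) {δ : Derivation k K K}
    (hδ : ∀ w, P.1 w = exp (-1 : ℤ) → P.1 (δ w) = 1) {M : WithZero (Multiplicative ℤ)} (hM : M ≠ 0) (n : ℕ) :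
    ∀ (u v l : K) (g : MvPolynomial (Fin 2) k), AdjCfg P δ u v g l → M ≤ max (P.1 (δ u)) (P.1 (δ v)) →
      P.1 l ≤ max 1 (M⁻¹ * exp (-(n : ℤ))) ∧
        (0 < n → (constantCoeff (pderiv 0 g) = 0 ∧ constantCoeff (pderiv 1 g) = 0) →
          P.1 l ≤ exp (-1 : ℤ) * max 1 (M⁻¹ * exp (-((n - 1 : ℕ) : ℤ)))) := by
  induction n with
  | zero =>
    intro u v l g h hb
    refine ⟨le_max_of_le_right ?_, fun h0 => absurd h0 (lt_irrefl 0)⟩
    rw [Nat.cast_zero, neg_zero, exp_zero, mul_one]
    exact (le_mul_inv_iff₀ (zero_lt_iff.mpr hM)).mpr (h.val_le_bound hb) |>.trans (one_mul _).le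
  | succ n ih =>
    intro u v l g h hb
    have main : (constantCoeff (pderiv 0 g) = 0 ∧ constantCoeff (pderiv 1 g) = 0) →
        P.1 l ≤ exp (-1 : ℤ) * max 1 (M⁻¹ * exp (-(n : ℤ))) := by
      intro hs
      have step : ∀ (u v l : K) (g : MvPolynomial (Fin 2) k), AdjCfg P δ u v g l →
          M ≤ max (P.1 (δ u)) (P.1 (δ v)) → (constantCoeff (pderiv 0 g) = 0 ∧ constantCoeff (pderiv 1 g) = 0) →
          u ≠ 0 → P.1 v ≤ P.1 u → P.1 l ≤ exp (-1 : ℤ) * max 1 (M⁻¹ * exp (-(n : ℤ))) := by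
        intro u v l g h hb hs hu0 hle
        obtain ⟨c, g1, h1, hd⟩ := h.blowUp hK hs hu0 hle
        have h2 := (ih _ _ _ _ h1 (hb.trans (max_le (le_max_left _ _) hd))).1
        have e : P.1 l = P.1 u * P.1 (l / u) := by rw [← map_mul, mul_div_cancel₀ _ hu0]
        rw [e]
        exact mul_le_mul' (val_le_of_lt_one P h.hu) h2
      have hswap : constantCoeff (pderiv 0 (aeval ![(X 1 : MvPolynomial (Fin 2) k), X 0] g)) = 0 ∧
          constantCoeff (pderiv 1 (aeval ![(X 1 : MvPolynomial (Fin 2) k), X 0] g)) = 0 := by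
        rw [(pderiv_swap g).1, (pderiv_swap g).2, constantCoeff_swap, constantCoeff_swap]
        exact ⟨hs.2, hs.1⟩
      by_cases hu0 : u = 0
      · have hv0 : v ≠ 0 := fun hv0 => by
          have := h.hy
          rw [hu0, map_zero δ, mul_zero] at this
          obtain ⟨t, -, ht⟩ := exists_uniformizer P
          have hbot : IntermediateField.adjoin k ({u, v} : Set K) = ⊥ := by
            rw [IntermediateField.adjoin_eq_bot_iff]
            rintro w (rfl | rfl) <;> simp [hu0, hv0]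
          have hmem : t ∈ (⊥ : IntermediateField k K) := by rw [← hbot, h.gen]; trivial
          obtain ⟨c, hc⟩ := IntermediateField.mem_bot.mp hmem
          rcases eq_or_ne c 0 with rfl | hc0
          · rw [map_zero] at hc; rw [← hc, map_zero] at ht; exact exp_ne_zero ht.symm
          · rw [← hc, val_algebraMap P hc0, ← exp_zero, exp_inj] at ht; omega
        rw [← P.1.map_neg]
        exact step v u (-l) _ h.swap (by rwa [max_comm]) hswap hv0 (by rw [hu0, map_zero]; exact zero_le)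
      by_cases hle : P.1 v ≤ P.1 u
      · exact step u v l g h hb hs hu0 hle
      · rw [← P.1.map_neg]
        refine step v u (-l) _ h.swap (by rwa [max_comm]) hswap (fun e => hle ?_) (le_of_not_ge hle)
        rw [e, map_zero]; exact zero_le
    refine ⟨?_, fun _ hs => main hs⟩
    by_cases hs : constantCoeff (pderiv 0 g) = 0 ∧ constantCoeff (pderiv 1 g) = 0
    · refine (main hs).trans ?_
      rcases max_cases (1 : WithZero (Multiplicative ℤ)) (M⁻¹ * exp (-(n : ℤ))) with ⟨e, -⟩ | ⟨e, -⟩ <;> rw [e]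
      · rw [mul_one]
        exact le_max_of_le_left (by rw [← exp_zero, exp_le_exp]; norm_num)
      · refine le_max_of_le_right ?_
        rw [← mul_assoc, mul_comm (exp (-1 : ℤ)), mul_assoc, ← exp_add]
        exact mul_le_mul' le_rfl (exp_le_exp.mpr (by push_cast; linarith))
    · exact le_max_of_le_left (h.nonsingular hs hδ).1.le

/-- The local theorem: `ord l ≥ 0`, with equality exactly when the local ring is the valuation ring. -/
theorem adjoint_local [IsAlgClosed k] (hK : IsFunctionField k K) {δ : Derivation k K K}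
    (hδ : ∀ w, P.1 w = exp (-1 : ℤ) → P.1 (δ w) = 1) {u v l : K} {g : MvPolynomial (Fin 2) k}
    (h : AdjCfg P δ u v g l) (hne : δ u ≠ 0 ∨ δ v ≠ 0)
    (hker : ∀ G : MvPolynomial (Fin 2) k, aeval ![u, v] G = 0 → g ∣ G) :
    P.1 l ≤ 1 ∧ (P.1 l = 1 ↔ LocFull P u v) := by
  set M := max (P.1 (δ u)) (P.1 (δ v)) with hMdef
  have hM : M ≠ 0 := by
    rcases hne with hn | hn
    · exact ((zero_lt_iff.mpr ((map_ne_zero P.1).mpr hn)).trans_le (le_max_left _ _)).ne'
    · exact ((zero_lt_iff.mpr ((map_ne_zero P.1).mpr hn)).trans_le (le_max_right _ _)).ne'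
  set N := (-WithZero.log M).toNat with hN
  have hsmall : ∀ j : ℕ, N ≤ j → max 1 (M⁻¹ * exp (-(j : ℤ))) = 1 := fun j hj => max_eq_left (by
    rw [← exp_log hM, ← exp_neg, ← exp_add, ← exp_zero, exp_le_exp]; omega)
  have hall := adjoint_iter hK hδ hM (N + 1) u v l g h le_rfl
  refine ⟨hall.1.trans (hsmall (N + 1) (by omega)).le, ?_⟩
  by_cases hs : constantCoeff (pderiv 0 g) = 0 ∧ constantCoeff (pderiv 1 g) = 0
  · have hlt : P.1 l < 1 := by
      have := hall.2 (Nat.succ_pos _) hs
      rw [Nat.add_sub_cancel, hsmall N le_rfl, mul_one] at this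
      exact this.trans_lt (by rw [← exp_zero, exp_lt_exp]; norm_num)
    exact iff_of_false hlt.ne (h.toPtCfg.not_locFull hker hs)
  · obtain ⟨h1, h2⟩ := h.nonsingular hs hδ
    exact iff_of_true h1 h2

end Groth.Agent.FF
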