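import Groth.Agent.FF.Adjoint
import Groth.Agent.FF.PlaneModel

/-! The adjoint divisor of a plane model: affine and infinite charts. -/

namespace Groth.Agent.FF

open FunFld WithZero MvPolynomial
open scoped Classical

variable {k K : Type*} [Field k] [IsAlgClosed k] [Field K] [Algebra k K] {P : Place k K}

theorem isNonsingularAt_iff_locFull {ι : Type*} {φ : ι → K} {j : ι} (hj : IsMax φ P j) {u v : K}
    (h : ratioAlg k φ j = Algebra.adjoin k ({u, v} : Set K)) : IsNonsingularAt φ P ↔ LocFull P u v := by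
  constructor
  · intro hn z hz
    obtain ⟨a, ha, b, hb, hb1, he⟩ := exists_rep (hn z hz) hj
    exact ⟨a, h ▸ ha, b, h ▸ hb, hb1, he⟩
  · intro hl z hz
    obtain ⟨a, ha, b, hb, hb1, he⟩ := hl z hz
    exact inLocRing_of_max hj (h.symm ▸ ha) (h.symm ▸ hb) hb1 he

/-- The affine chart. -/
theorem adjoint_affine (hK : IsFunctionField k K) {δ : Derivation k K K}
    (hδ : ∀ w, P.1 w = exp (-1 : ℤ) → P.1 (δ w) = 1) {u v l : K} {F : MvPolynomial (Fin 2) k}
    (hu : P.1 u ≤ 1) (hv : P.1 v ≤ 1) (hgen : IntermediateField.adjoin k ({u, v} : Set K) = ⊤)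
    (hrel : aeval ![u, v] F = 0) (hker : ∀ G, aeval ![u, v] G = 0 → F ∣ G)
    (hl : l ≠ 0) (hy : aeval ![u, v] (pderiv 1 F) = l * δ u) (hx : aeval ![u, v] (pderiv 0 F) = -(l * δ v))
    (hne : δ u ≠ 0 ∨ δ v ≠ 0) :
    P.1 l ≤ 1 ∧ (P.1 l = 1 ↔ LocFull P u v) := by
  obtain ⟨a, ha⟩ := exists_const_near hK P hu
  obtain ⟨b, hb⟩ := exists_const_near hK P hv
  set u' := u - algebraMap k K a with hu'
  set v' := v - algebraMap k K b with hv'
  let σ : MvPolynomial (Fin 2) k →ₐ[k] MvPolynomial (Fin 2) k := aeval ![X 0 + C a, X 1 + C b]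
  let τ : MvPolynomial (Fin 2) k →ₐ[k] MvPolynomial (Fin 2) k := aeval ![X 0 - C a, X 1 - C b]
  have hev : ∀ G, aeval ![u', v'] (σ G) = aeval ![u, v] G := fun G => by
    simp only [σ]
    rw [← AlgHom.comp_apply, comp_aeval]
    congr 2
    ext i; fin_cases i <;> simp [hu', hv']
  have hevτ : ∀ G, aeval ![u, v] (τ G) = aeval ![u', v'] G := fun G => by
    simp only [τ]
    rw [← AlgHom.comp_apply, comp_aeval]
    congr 2
    ext i; fin_cases i <;> simp [hu', hv']
  have hστ : ∀ G, σ (τ G) = G := fun G => by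
    have : σ.comp τ = AlgHom.id k _ := algHom_ext fun i => by fin_cases i <;> simp [σ, τ]
    exact AlgHom.congr_fun this G
  have hdu : δ u' = δ u := by simp [hu']
  have hdv : δ v' = δ v := by simp [hv']
  have hset : Algebra.adjoin k ({u', v'} : Set K) = Algebra.adjoin k ({u, v} : Set K) := by
    refine le_antisymm (Algebra.adjoin_le ?_) (Algebra.adjoin_le ?_)
    · rintro z (rfl | rfl)
      · exact sub_mem (Algebra.subset_adjoin (show u ∈ ({u, v} : Set K) from Or.inl rfl)) (Subalgebra.algebraMap_mem _ a)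
      · exact sub_mem (Algebra.subset_adjoin (show v ∈ ({u, v} : Set K) from Or.inr rfl)) (Subalgebra.algebraMap_mem _ b)
    · rintro z (hz | hz) <;> subst hz
      · exact (show u' + algebraMap k K a = z from sub_add_cancel _ _) ▸ add_mem
          (Algebra.subset_adjoin (show u' ∈ ({u', v'} : Set K) from Or.inl rfl)) (Subalgebra.algebraMap_mem _ a)
      · exact (show v' + algebraMap k K b = z from sub_add_cancel _ _) ▸ add_mem
          (Algebra.subset_adjoin (show v' ∈ ({u', v'} : Set K) from Or.inr rfl)) (Subalgebra.algebraMap_mem _ b)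
  have h : AdjCfg P δ u' v' (σ F) l :=
    { ne := hl
      gen := by
        rw [eq_top_iff, ← hgen, IntermediateField.adjoin_le_iff]
        intro z hz
        have hz' : z ∈ Algebra.adjoin k ({u', v'} : Set K) := hset ▸ Algebra.subset_adjoin hz
        exact IntermediateField.algebra_adjoin_le_adjoin k _ hz'
      hu := ha
      hv := hb
      rel := by rw [hev]; exact hrel
      hy := by
        simp only [σ]
        rw [chain_rule]
        simp only [map_add, pderiv_X_self, pderiv_X_of_ne (show (0 : Fin 2) ≠ 1 by decide), pderiv_C, map_mul,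
          map_zero, mul_zero, add_zero, zero_add, mul_one, map_one]
        rw [show aeval ![u', v'] (aeval ![X 0 + C a, X 1 + C b] (pderiv 1 F)) = _ from hev _, hy, hdu]
      hx := by
        simp only [σ]
        rw [chain_rule]
        simp only [map_add, pderiv_X_self, pderiv_X_of_ne (show (1 : Fin 2) ≠ 0 by decide), pderiv_C, map_mul,
          map_zero, mul_zero, add_zero, zero_add, mul_one, map_one]
        rw [show aeval ![u', v'] (aeval ![X 0 + C a, X 1 + C b] (pderiv 0 F)) = _ from hev _, hx, hdv] }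
  have hk' : ∀ G, aeval ![u', v'] G = 0 → σ F ∣ G := fun G hG => by
    obtain ⟨H, hH⟩ := hker (τ G) (by rw [hevτ]; exact hG)
    exact ⟨σ H, by rw [← map_mul, ← hH, hστ]⟩
  obtain ⟨h1, h2⟩ := adjoint_local hK hδ h (by rwa [hdu, hdv]) hk'
  refine ⟨h1, h2.trans ?_⟩
  simp only [LocFull, LocZ, hset]

/-- The polynomial of the chart at infinity where `x` has the largest pole. -/
noncomputable def chartPoly (f : MvPolynomial (Fin 2) k) : MvPolynomial (Fin 2) k :=
  ∑ d ∈ f.support, C (coeff d f) * X 0 ^ (f.totalDegree - d 0 - d 1) * X 1 ^ (d 1)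

theorem support_deg_le {f : MvPolynomial (Fin 2) k} {d : Fin 2 →₀ ℕ} (hd : d ∈ f.support) :
    d 0 + d 1 ≤ f.totalDegree := by
  have := le_totalDegree hd
  rwa [Finsupp.sum_fintype _ _ (fun _ => rfl), Fin.sum_univ_two] at this

theorem totalDegree_chartPoly_le (f : MvPolynomial (Fin 2) k) :
    (chartPoly f).totalDegree ≤ f.totalDegree := by
  refine (totalDegree_finsetSum _ _).trans (Finset.sup_le fun d hd => ?_)
  refine (totalDegree_mul _ _).trans ((add_le_add (totalDegree_mul _ _) le_rfl).trans ?_)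
  rw [totalDegree_C, totalDegree_X_pow, totalDegree_X_pow]
  have := support_deg_le hd
  omega

theorem eval_eq_sum2 (f : MvPolynomial (Fin 2) k) (a b : K) :
    aeval ![a, b] f = ∑ d ∈ f.support, algebraMap k K (coeff d f) * a ^ (d 0) * b ^ (d 1) := by
  conv_lhs => rw [as_sum f]
  rw [map_sum]
  refine Finset.sum_congr rfl fun d _ => ?_
  rw [aeval_monomial, Finsupp.prod_fintype _ _ (fun _ => pow_zero _), Fin.prod_univ_two]
  simp [mul_assoc]

theorem chart_identities (f : MvPolynomial (Fin 2) k) {x y u v : K} (hux : u * x = 1) (hv : v = y * u) :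
    aeval ![u, v] (chartPoly f) = u ^ f.totalDegree * aeval ![x, y] f ∧
    u * aeval ![u, v] (pderiv 1 (chartPoly f)) = u ^ f.totalDegree * aeval ![x, y] (pderiv 1 f) ∧
    u * aeval ![u, v] (pderiv 0 (chartPoly f)) = u ^ f.totalDegree *
      ((f.totalDegree : K) * aeval ![x, y] f - x * aeval ![x, y] (pderiv 0 f) - y * aeval ![x, y] (pderiv 1 f)) := by
  have hsum : ∀ i, aeval ![x, y] (pderiv i f) = ∑ d ∈ f.support,
      algebraMap k K (coeff d f) * ((d i : K) * (x ^ ((d - Finsupp.single i 1 : Fin 2 →₀ ℕ) 0) * y ^ ((d - Finsupp.single i 1 : Fin 2 →₀ ℕ) 1))) := by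
    intro i
    conv_lhs => rw [as_sum f]
    rw [map_sum, map_sum]
    refine Finset.sum_congr rfl fun d _ => ?_
    rw [pderiv_monomial, aeval_monomial, Finsupp.prod_fintype _ _ (fun _ => pow_zero _), Fin.prod_univ_two]
    simp [mul_assoc]
  have hsplit : ∀ d : Fin 2 →₀ ℕ, d ∈ f.support → ∃ m, f.totalDegree - d 0 - d 1 = m ∧
      u ^ f.totalDegree * x ^ (d 0) = u ^ m * u ^ (d 1) := by
    intro d hd
    refine ⟨_, rfl, ?_⟩
    have h := support_deg_le hd
    conv_lhs => rw [show f.totalDegree = (f.totalDegree - d 0 - d 1) + d 1 + d 0 by omega]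
    rw [pow_add, pow_add, mul_assoc, ← mul_pow, hux, one_pow, mul_one]
  refine ⟨?_, ?_, ?_⟩
  · rw [eval_eq_sum2 f x y, chartPoly, map_sum, Finset.mul_sum]
    refine Finset.sum_congr rfl fun d hd => ?_
    obtain ⟨m, hm, he⟩ := hsplit d hd
    simp only [map_mul, map_pow, aeval_C, aeval_X, Matrix.cons_val_zero, Matrix.cons_val_one, hm, hv, mul_pow]
    linear_combination (-(algebraMap k K (coeff d f) * y ^ d 1)) * he
  · rw [hsum, chartPoly, map_sum, map_sum, Finset.mul_sum, Finset.mul_sum]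
    refine Finset.sum_congr rfl fun d hd => ?_
    obtain ⟨m, hm, he⟩ := hsplit d hd
    simp only [hm, pderiv_mul, pderiv_C, pderiv_pow, pderiv_X_self, pderiv_X_of_ne (show (0 : Fin 2) ≠ 1 by decide),
      map_mul, map_add, map_zero, map_pow, aeval_C, aeval_X, map_natCast, map_one, Matrix.cons_val_zero,
      Matrix.cons_val_one, mul_zero, zero_mul, add_zero, zero_add, mul_one]
    simp only [Finsupp.tsub_apply, Finsupp.single_eq_same, Finsupp.single_eq_of_ne (show (0 : Fin 2) ≠ 1 by decide), tsub_zero]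
    rcases Nat.eq_zero_or_pos (d 1) with h1 | h1
    · simp [h1]
    · obtain ⟨j, hj⟩ : ∃ j, d 1 = j + 1 := ⟨d 1 - 1, by omega⟩
      rw [hj] at he ⊢
      simp only [Nat.add_sub_cancel, hv, mul_pow, pow_succ u j] at he ⊢
      linear_combination (-(algebraMap k K (coeff d f) * ((j + 1 : ℕ) : K) * y ^ j)) * he
  · rw [hsum, hsum, eval_eq_sum2 f x y, chartPoly, map_sum, map_sum, Finset.mul_sum, Finset.mul_sum,
      Finset.mul_sum, Finset.mul_sum, ← Finset.sum_sub_distrib, ← Finset.sum_sub_distrib, Finset.mul_sum]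
    refine Finset.sum_congr rfl fun d hd => ?_
    obtain ⟨m, hm, he⟩ := hsplit d hd
    simp only [hm, pderiv_mul, pderiv_C, pderiv_pow, pderiv_X_self, pderiv_X_of_ne (show (1 : Fin 2) ≠ 0 by decide),
      map_mul, map_add, map_zero, map_pow, aeval_C, aeval_X, map_natCast, map_one, Matrix.cons_val_zero,
      Matrix.cons_val_one, mul_zero, zero_mul, add_zero, zero_add, mul_one]
    simp only [Finsupp.tsub_apply, Finsupp.single_eq_same, Finsupp.single_eq_of_ne (show (1 : Fin 2) ≠ 0 by decide),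
      Finsupp.single_eq_of_ne (show (0 : Fin 2) ≠ 1 by decide), tsub_zero]
    have hx0 : ∀ i : ℕ, x * ((i : K) * (x ^ (i - 1) * y ^ d 1)) = (i : K) * (x ^ i * y ^ d 1) := fun i => by
      cases i with
      | zero => simp
      | succ i => rw [Nat.add_sub_cancel, pow_succ]; ring
    have hy0 : ∀ i : ℕ, y * ((i : K) * (x ^ d 0 * y ^ (i - 1))) = (i : K) * (x ^ d 0 * y ^ i) := fun i => by
      cases i with
      | zero => simp
      | succ i => rw [Nat.add_sub_cancel, pow_succ]; ring
    have hu0 : ∀ i : ℕ, u * ((i : K) * u ^ (i - 1)) = (i : K) * u ^ i := fun i => by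
      cases i with
      | zero => simp
      | succ i => rw [Nat.add_sub_cancel, pow_succ]; ring
    have hE : (m : K) + d 0 + d 1 = f.totalDegree := by
      have h := support_deg_le hd
      rw [← Nat.cast_add, ← Nat.cast_add, show m + d 0 + d 1 = f.totalDegree by omega]
    rw [hv, mul_pow]
    linear_combination (algebraMap k K (coeff d f) * y ^ d 1 * u ^ d 1) * hu0 m +
      (u ^ f.totalDegree * algebraMap k K (coeff d f)) * hx0 (d 0) +
      (u ^ f.totalDegree * algebraMap k K (coeff d f)) * hy0 (d 1) +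
      (u ^ f.totalDegree * x ^ d 0 * y ^ d 1 * algebraMap k K (coeff d f)) * hE -
      ((m : K) * algebraMap k K (coeff d f) * y ^ d 1) * he

theorem mapDiv_chart (hK : IsFunctionField k K) {x y : K} (hx0 : x ≠ 0) :
    mapDiv k ![(1 : K), x⁻¹, y * x⁻¹] = mapDiv k ![(1 : K), x, y] + div k x := by
  refine Finsupp.ext fun Q => ?_
  rw [Finsupp.add_apply, mapDiv_plane_apply hK, mapDiv_plane_apply hK, div_apply hK]
  have h1 : Q.ord x⁻¹ = -Q.ord x := by
    refine ord_eq_of_val Q ?_
    rw [map_inv₀, val_eq_exp_neg_ord Q hx0, ← exp_neg]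
  rcases eq_or_ne y 0 with rfl | hy
  · have h0 : Q.ord (0 : K) = 0 := by simp [Place.ord]
    rw [zero_mul, h0, h1]; omega
  · rw [ord_mul Q hy (inv_ne_zero hx0), h1]; omega

/-- The chart at infinity where `x` has the largest pole. -/
theorem adjoint_infinite (hK : IsFunctionField k K) {δ : Derivation k K K}
    (hδ : ∀ w, P.1 w = exp (-1 : ℤ) → P.1 (δ w) = 1) {x y l : K} {f : MvPolynomial (Fin 2) k}
    (h1 : 1 < P.1 x) (hle : P.1 y ≤ P.1 x) (hgen : IntermediateField.adjoin k ({x, y} : Set K) = ⊤)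
    (hf : Irreducible f) (hrel : aeval ![x, y] f = 0)
    (hl : l ≠ 0) (hy : aeval ![x, y] (pderiv 1 f) = l * δ x) (hx : aeval ![x, y] (pderiv 0 f) = -(l * δ y))
    (hne : δ x ≠ 0 ∨ δ y ≠ 0) :
    P.1 (l * x⁻¹ ^ ((f.totalDegree : ℤ) - 3)) ≤ 1 ∧
      (P.1 (l * x⁻¹ ^ ((f.totalDegree : ℤ) - 3)) = 1 ↔ IsNonsingularAt ![(1 : K), x, y] P) := by
  have hx0 : x ≠ 0 := fun e => by rw [e, map_zero] at h1; exact not_lt.mpr zero_le h1
  set u := x⁻¹ with hu
  set v := y * x⁻¹ with hv
  have hux : u * x = 1 := inv_mul_cancel₀ hx0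
  have hu0 : u ≠ 0 := inv_ne_zero hx0
  obtain ⟨e1, e2, e3⟩ := chart_identities f hux hv
  have hgen' : IntermediateField.adjoin k ({u, v} : Set K) = ⊤ := by
    rw [eq_top_iff, ← hgen, IntermediateField.adjoin_le_iff]
    have hum : u ∈ IntermediateField.adjoin k ({u, v} : Set K) := IntermediateField.subset_adjoin k _ (Or.inl rfl)
    have hvm : v ∈ IntermediateField.adjoin k ({u, v} : Set K) := IntermediateField.subset_adjoin k _ (Or.inr rfl)
    rintro z (rfl | rfl)
    · simpa [hu] using inv_mem hum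
    · have := mul_mem hvm (inv_mem hum)
      rwa [hv, hu, inv_inv, mul_assoc, inv_mul_cancel₀ hx0, mul_one] at this
  have hdu : δ u = -(u ^ 2 * δ x) := by rw [hu, Derivation.leibniz_inv, neg_smul, smul_eq_mul]
  have hdv : δ v = u * δ y - y * u ^ 2 * δ x := by
    rw [show v = y * u from hv, δ.leibniz, hdu]; simp; ring
  set L := -(l * u ^ ((f.totalDegree : ℤ) - 3)) with hL
  have hL0 : L ≠ 0 := neg_ne_zero.mpr (mul_ne_zero hl (zpow_ne_zero _ hu0))
  have hpow : u ^ ((f.totalDegree : ℤ) - 3) * u ^ 3 = u ^ f.totalDegree := by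
    rw [← zpow_natCast u 3, ← zpow_add₀ hu0, ← zpow_natCast u f.totalDegree]; congr 1; push_cast; ring
  have hFy : aeval ![u, v] (pderiv 1 (chartPoly f)) = L * δ u := by
    refine mul_left_cancel₀ hu0 ?_
    rw [e2, hy, hdu, hL, ← hpow]; ring
  have hFx : aeval ![u, v] (pderiv 0 (chartPoly f)) = -(L * δ v) := by
    refine mul_left_cancel₀ hu0 ?_
    rw [e3, hrel, hx, hy, hdv, hL, ← hpow]
    linear_combination (l * u ^ ((f.totalDegree : ℤ) - 3) * u ^ 2 * δ y) * hux
  have hne' : δ u ≠ 0 ∨ δ v ≠ 0 := by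
    by_cases hc : δ x = 0
    · refine Or.inr ?_
      rw [hdv, hc, mul_zero, sub_zero]
      exact mul_ne_zero hu0 (hne.resolve_left (fun h => h hc))
    · exact Or.inl (by rw [hdu]; exact neg_ne_zero.mpr (mul_ne_zero (pow_ne_zero _ hu0) hc))
  have hrel' : aeval ![u, v] (chartPoly f) = 0 := by rw [e1, hrel, mul_zero]
  have hker : ∀ G, aeval ![u, v] G = 0 → chartPoly f ∣ G := by
    obtain ⟨F', hF', hF'r⟩ := exists_relation hK hgen'
    have hk := ker_eq_span u v (exists_not_range_of_adjoin hK hgen') hF' hF'r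
    have hdiv : ∀ G, aeval ![u, v] G = 0 → F' ∣ G := fun G hG =>
      Ideal.mem_span_singleton.mp (hk ▸ (RingHom.mem_ker.mpr hG : G ∈ RingHom.ker _))
    obtain ⟨H, hH⟩ := hdiv _ hrel'
    have hF0 : chartPoly f ≠ 0 := fun e => by
      rcases hne' with hd | hd
      · exact mul_ne_zero hL0 hd (by rw [← hFy, e, map_zero, map_zero])
      · exact mul_ne_zero hL0 hd (by rw [← neg_eq_zero, ← hFx, e, map_zero, map_zero])
    have hH0 : H ≠ 0 := fun e => hF0 (by rw [hH, e, mul_zero])
    have hdeg : F'.totalDegree = f.totalDegree := by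
      have a1 := (plane_degree hK hgen' hF' hF'r).1
      have a2 := (plane_degree hK hgen hf hrel).1
      rw [show mapDiv k ![(1 : K), u, v] = _ from mapDiv_chart hK hx0, deg_add, deg_div_eq_zero hK, add_zero, a2] at a1
      exact_mod_cast a1.symm
    have hle' := totalDegree_chartPoly_le f
    rw [hH, totalDegree_mul_of_isDomain hF'.ne_zero hH0, hdeg] at hle'
    obtain ⟨c, hc⟩ : ∃ c, H = C c := ⟨_, totalDegree_eq_zero_iff_eq_C.mp (by omega)⟩
    have hc0 : c ≠ 0 := fun e => hH0 (by rw [hc, e, map_zero])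
    intro G hG
    obtain ⟨J, hJ⟩ := hdiv G hG
    refine ⟨C c⁻¹ * J, ?_⟩
    rw [hH, hc, hJ, mul_assoc, ← mul_assoc (C c), ← map_mul, mul_inv_cancel₀ hc0, map_one, one_mul]
  have hu1 : P.1 u ≤ 1 := by rw [hu, map_inv₀]; exact inv_le_one_of_one_le₀ h1.le
  have hv1 : P.1 v ≤ 1 := by
    rw [hv, map_mul, map_inv₀, ← div_eq_mul_inv, div_le_one₀ (zero_lt_one.trans h1)]; exact hle
  obtain ⟨r1, r2⟩ := adjoint_affine hK hδ hu1 hv1 hgen' hrel' hker hL0 hFy hFx hne'
  rw [hL, P.1.map_neg] at r1 r2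
  refine ⟨r1, r2.trans (isNonsingularAt_iff_locFull (j := (1 : Fin 3)) ⟨by simpa using hx0, fun i => ?_⟩ ?_).symm⟩
  · fin_cases i <;> simp [h1.le, hle]
  · refine le_antisymm (Algebra.adjoin_le ?_) (Algebra.adjoin_le ?_)
    · rintro z ⟨i, rfl⟩
      fin_cases i
      · simpa [hu] using Algebra.subset_adjoin (R := k) (show u ∈ ({u, v} : Set K) from Or.inl rfl)
      · simp [hx0]
      · simpa [hv, div_eq_mul_inv] using Algebra.subset_adjoin (R := k) (show v ∈ ({u, v} : Set K) from Or.inr rfl)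
    · rintro z (rfl | rfl)
      · exact Algebra.subset_adjoin ⟨0, by simp [hu]⟩
      · exact Algebra.subset_adjoin ⟨2, by simp [hv, div_eq_mul_inv]⟩

end Groth.Agent.FF
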