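import Groth.Agent.FF.Finite
import Mathlib.RingTheory.Valuation.LocalSubring
import Mathlib.RingTheory.DedekindDomain.AdicValuation
import Mathlib.RingTheory.DiscreteValuationRing.Basic
import Mathlib.Algebra.BigOperators.Field
import Mathlib.RingTheory.Valuation.Discrete.IsDiscreteValuationRing

/-! Places of a function field: elementary properties, existence, approximation. -/

namespace Groth.Agent.FF

open WithZero FunFld IntermediateField
open scoped Classical

variable {k K : Type*} [Field k] [Field K] [Algebra k K] (P Q : Place k K)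

theorem val_algebraMap {c : k} (hc : c ≠ 0) : P.1 (algebraMap k K c) = 1 := by
  refine le_antisymm (P.2.1 c) ?_
  have h := P.2.1 c⁻¹
  rw [map_inv₀, map_inv₀, inv_le_one₀] at h
  · exact h
  · exact zero_lt_iff.mpr ((map_ne_zero P.1).mpr ((map_ne_zero _).mpr hc))

theorem val_eq_exp_neg_ord {x : K} (hx : x ≠ 0) : P.1 x = exp (-(P.ord x)) := by
  rw [Place.ord, neg_neg, exp_log ((map_ne_zero P.1).mpr hx)]

theorem val_le_exp_iff {x : K} (hx : x ≠ 0) {n : ℤ} : P.1 x ≤ exp n ↔ 0 ≤ n + P.ord x := by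
  rw [val_eq_exp_neg_ord P hx, exp_le_exp]; omega

theorem val_le_one_iff {x : K} (hx : x ≠ 0) : P.1 x ≤ 1 ↔ 0 ≤ P.ord x := by
  simpa using val_le_exp_iff P hx (n := 0)

theorem val_lt_one_iff {x : K} (hx : x ≠ 0) : P.1 x < 1 ↔ 0 < P.ord x := by
  rw [val_eq_exp_neg_ord P hx]
  conv_lhs => arg 2; rw [← exp_zero]
  rw [exp_lt_exp]; omega

@[simp] theorem ord_zero : P.ord (0 : K) = 0 := by simp [Place.ord]

theorem ord_eq_of_val {x : K} {n : ℤ} (h : P.1 x = exp (-n)) : P.ord x = n := by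
  simp [Place.ord, h]

@[simp] theorem ord_one : P.ord (1 : K) = 0 := by simp [Place.ord]

theorem ord_mul {x y : K} (hx : x ≠ 0) (hy : y ≠ 0) : P.ord (x * y) = P.ord x + P.ord y := by
  simp only [Place.ord, map_mul, log_mul ((map_ne_zero P.1).mpr hx) ((map_ne_zero P.1).mpr hy)]
  ring

@[simp] theorem ord_inv (x : K) : P.ord x⁻¹ = -P.ord x := by
  simp [Place.ord, map_inv₀, log_inv]

@[simp] theorem ord_algebraMap (c : k) : P.ord (algebraMap k K c) = 0 := by
  rcases eq_or_ne c 0 with rfl | hc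
  · simp [Place.ord]
  · simp [Place.ord, val_algebraMap P hc]

theorem exists_uniformizer : ∃ t : K, t ≠ 0 ∧ P.1 t = exp (-1 : ℤ) := by
  obtain ⟨t, ht⟩ := P.2.2 (exp (-1 : ℤ))
  exact ⟨t, fun h => exp_ne_zero (by rw [← ht, h, map_zero]), ht⟩

theorem mem_O {x : K} : x ∈ P.O ↔ P.1 x ≤ 1 := Valuation.mem_valuationSubring_iff _ _

theorem residue_eq_zero_iff {x : P.O} : IsLocalRing.residue P.O x = 0 ↔ P.1 (x : K) < 1 := by
  rw [IsLocalRing.residue_eq_zero_iff, IsLocalRing.mem_maximalIdeal, mem_nonunits_iff]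
  exact Valuation.Integer.not_isUnit_iff_valuation_lt_one (v := P.1) (x := x)

variable {P Q} in
/-- A place is determined by its valuation ring, and valuation rings of places are incomparable. -/
theorem eq_of_le (h : ∀ x, P.1 x ≤ 1 → Q.1 x ≤ 1) : P = Q := by
  have hone : ∀ u, P.1 u = 1 → Q.1 u = 1 := fun u hu => by
    have h1 := h u hu.le
    have h2 := h u⁻¹ (by rw [map_inv₀, hu, inv_one])
    refine le_antisymm h1 ?_
    have hu0 : u ≠ 0 := fun e => one_ne_zero (α := WithZero (Multiplicative ℤ))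
      (by rw [← hu, e, map_zero])
    rwa [map_inv₀, inv_le_one₀ (zero_lt_iff.mpr ((map_ne_zero _).mpr hu0))] at h2
  obtain ⟨t, ht0, ht⟩ := exists_uniformizer P
  have key : ∀ x, x ≠ 0 → Q.1 x = Q.1 t ^ (P.ord x) := fun x hx => by
    have := hone (x / t ^ P.ord x) (by
      rw [map_div₀, map_zpow₀, ht, ← exp_zsmul, smul_eq_mul, val_eq_exp_neg_ord P hx, div_eq_one_iff_eq exp_ne_zero]
      congr 1; ring)
    rwa [map_div₀, map_zpow₀, div_eq_one_iff_eq (zpow_ne_zero _ ((map_ne_zero _).mpr ht0))] at this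
  obtain ⟨s, hs0, hs⟩ := exists_uniformizer Q
  have hm : Q.1 t = exp (-1 : ℤ) := by
    have h1 : 0 ≤ Q.ord t := (val_le_one_iff Q ht0).mp (h t (by rw [ht, ← exp_zero, exp_le_exp]; omega))
    have h2 := key s hs0
    rw [hs, val_eq_exp_neg_ord Q ht0, ← exp_zsmul, exp_inj, smul_eq_mul] at h2
    rw [val_eq_exp_neg_ord Q ht0, exp_inj]
    have : P.ord s * Q.ord t = 1 := by linarith
    rcases Int.mul_eq_one_iff_eq_one_or_neg_one.mp this with ⟨_, h3⟩ | ⟨_, h3⟩
    · omega
    · omega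
  apply Subtype.ext
  apply Valuation.ext
  intro x
  rcases eq_or_ne x 0 with rfl | hx
  · simp
  · rw [key x hx, hm, val_eq_exp_neg_ord P hx, ← exp_zsmul, smul_eq_mul]
    congr 1; ring

theorem exists_val_gt_one (h : P ≠ Q) : ∃ b, P.1 b < 1 ∧ 1 < Q.1 b := by
  obtain ⟨a, ha, ha'⟩ : ∃ a, P.1 a ≤ 1 ∧ 1 < Q.1 a := by
    by_contra hc; push Not at hc; exact h (eq_of_le hc)
  obtain ⟨b, hb, hb'⟩ : ∃ b, Q.1 b ≤ 1 ∧ 1 < P.1 b := by
    by_contra hc; push Not at hc; exact h.symm (eq_of_le hc)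
  refine ⟨a / b, ?_, ?_⟩
  · rw [map_div₀, div_lt_one₀ (zero_lt_one.trans hb')]; exact ha.trans_lt hb'
  · have hb0 : 0 < Q.1 b := zero_lt_iff.mpr ((map_ne_zero _).mpr fun e => by simp [e] at hb')
    rw [map_div₀, one_lt_div₀ hb0]; exact hb.trans_lt ha'

theorem pow_le_exp_neg {a : WithZero (Multiplicative ℤ)} (ha : a < 1) (r : ℕ) :
    a ^ r ≤ exp (-(r : ℤ)) := by
  rcases eq_or_ne a 0 with rfl | h
  · rcases r with _ | r
    · simp
    · simp
  · rw [← exp_log h, ← exp_nsmul, exp_le_exp, nsmul_eq_mul]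
    have : a.log < 0 := by rwa [log_lt_iff_lt_exp h, exp_zero]
    nlinarith [Int.natCast_nonneg r]

theorem exists_pow_mul_lt_one {a : WithZero (Multiplicative ℤ)} (ha : a < 1)
    (b : WithZero (Multiplicative ℤ)) : ∃ r₀, ∀ r, r₀ ≤ r → a ^ r * b < 1 := by
  rcases eq_or_ne b 0 with rfl | hb
  · exact ⟨0, fun r _ => by simp⟩
  · refine ⟨(b.log).toNat + 1, fun r hr => (mul_le_mul_left (pow_le_exp_neg ha r) b).trans_lt ?_⟩
    rw [← exp_log hb, ← exp_add, ← exp_zero, exp_lt_exp]; omega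

theorem exists_dominant (S : Finset (Place k K)) (hP : P ∉ S) :
    ∃ y, 1 < P.1 y ∧ ∀ R ∈ S, R.1 y < 1 := by
  induction S using Finset.induction with
  | empty =>
    obtain ⟨t, -, ht⟩ := exists_uniformizer P
    exact ⟨t⁻¹, by rw [map_inv₀, ht, ← exp_neg, ← exp_zero, exp_lt_exp]; omega, by simp⟩
  | @insert Q S hQ ih =>
    rw [Finset.mem_insert, not_or] at hP
    obtain ⟨y, hy, hyS⟩ := ih hP.2
    obtain ⟨z, hzQ, hzP⟩ := exists_val_gt_one Q P (fun e => hP.1 e.symm)
    have hev : ∃ r : ℕ, r ≠ 0 ∧ ∀ R ∈ S, R.1 y ^ r * R.1 z < 1 := by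
      choose f hf using fun R : {R // R ∈ S} => exists_pow_mul_lt_one (hyS R.1 R.2) (R.1.1 z)
      exact ⟨Finset.univ.sup f + 1, by omega, fun R hR =>
        hf ⟨R, hR⟩ _ (le_trans (Finset.le_sup (f := f) (Finset.mem_univ _)) (by omega))⟩
    obtain ⟨r, hr, hrS⟩ := hev
    rcases le_or_gt (Q.1 y) 1 with hQy | hQy
    · refine ⟨y ^ r * z, ?_, ?_⟩
      · rw [map_mul, map_pow]
        exact lt_of_lt_of_le hzP (le_mul_of_one_le_left' (one_le_pow₀ hy.le))
      · intro R hR
        rw [map_mul, map_pow]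
        rcases Finset.mem_insert.mp hR with rfl | hR
        · exact lt_of_le_of_lt (mul_le_of_le_one_left' (pow_le_one₀ zero_le hQy)) hzQ
        · exact hrS R hR
    · have hval : ∀ R : Place k K, 1 < R.1 y → R.1 (y ^ r / (1 + y ^ r)) = 1 := fun R hR => by
        have : R.1 (1 + y ^ r) = R.1 (y ^ r) := Valuation.map_add_eq_of_lt_right _
          (by rw [map_one, map_pow]; exact one_lt_pow₀ hR hr)
        rw [map_div₀, this, div_self]
        rw [map_pow]; exact pow_ne_zero _ (ne_of_gt (zero_lt_one.trans hR))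
      refine ⟨y ^ r / (1 + y ^ r) * z, ?_, ?_⟩
      · rw [map_mul, hval P hy, one_mul]; exact hzP
      · intro R hR
        rcases Finset.mem_insert.mp hR with rfl | hR
        · rw [map_mul, hval R hQy, one_mul]; exact hzQ
        · have : R.1 (1 + y ^ r) = 1 := by
            rw [Valuation.map_add_eq_of_lt_left _
              (by rw [map_one, map_pow]; exact pow_lt_one₀ zero_le (hyS R hR) hr), map_one]
          rw [map_mul, map_div₀, this, div_one, map_pow]; exact hrS R hR

theorem exists_near_indicator (S : Finset (Place k K)) (hP : P ∉ S) (r : ℕ) :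
    ∃ e, P.1 (e - 1) ≤ exp (-(r : ℤ)) ∧ ∀ R ∈ S, R.1 e ≤ exp (-(r : ℤ)) := by
  obtain ⟨y, hy, hyS⟩ := exists_dominant P S hP
  have h1 : P.1 (1 + y ^ (r + 1)) = P.1 y ^ (r + 1) := by
    rw [Valuation.map_add_eq_of_lt_right _
      (by rw [map_one, map_pow]; exact one_lt_pow₀ hy (by omega)), map_pow]
  have h1' : 1 + y ^ (r + 1) ≠ 0 := fun e => by
    rw [e, map_zero] at h1
    exact pow_ne_zero _ (ne_of_gt (zero_lt_one.trans hy)) h1.symm
  refine ⟨y ^ (r + 1) / (1 + y ^ (r + 1)), ?_, fun R hR => ?_⟩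
  · rw [show y ^ (r + 1) / (1 + y ^ (r + 1)) - 1 = -(1 + y ^ (r + 1))⁻¹ by field_simp; ring,
      Valuation.map_neg, map_inv₀, h1, ← inv_pow]
    exact (pow_le_exp_neg (inv_lt_one_of_one_lt₀ hy) _).trans (exp_le_exp.mpr (by push_cast; omega))
  · have : R.1 (1 + y ^ (r + 1)) = 1 := by
      rw [Valuation.map_add_eq_of_lt_left _
        (by rw [map_one, map_pow]; exact pow_lt_one₀ zero_le (hyS R hR) (by omega)), map_one]
    rw [map_div₀, this, div_one, map_pow]
    exact (pow_le_exp_neg (hyS R hR) _).trans (exp_le_exp.mpr (by push_cast; omega))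

/-- Weak approximation at finitely many places. -/
theorem exists_approx (S : Finset (Place k K)) (x : Place k K → K) (n : Place k K → ℤ) :
    ∃ y, ∀ R ∈ S, R.1 (y - x R) ≤ exp (n R) := by
  let N : ℕ := (S ×ˢ S).sup fun RQ => ((RQ.1.1 (x RQ.2)).log - n RQ.1).toNat
  choose e he he' using fun R : Place k K =>
    exists_near_indicator R (S.erase R) (Finset.notMem_erase R S) N
  refine ⟨∑ R ∈ S, x R * e R, fun R hR => ?_⟩
  rw [← Finset.add_sum_erase S _ hR, show x R * e R + ∑ x_1 ∈ S.erase R, x x_1 * e x_1 - x R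
      = x R * (e R - 1) + ∑ x_1 ∈ S.erase R, x x_1 * e x_1 by ring]
  have key : ∀ Q ∈ S, ∀ b : K, R.1 b ≤ exp (-(N : ℤ)) → R.1 (x Q * b) ≤ exp (n R) := by
    intro Q hQ b hb
    rcases eq_or_ne (x Q) 0 with h0 | h0
    · simp [h0]
    · have hN := Finset.le_sup (f := fun RQ => ((RQ.1.1 (x RQ.2)).log - n RQ.1).toNat)
        (Finset.mk_mem_product hR hQ)
      rw [map_mul]
      refine (mul_le_mul' (le_of_eq (exp_log ((map_ne_zero R.1).mpr h0)).symm) hb).trans ?_
      rw [← exp_add, exp_le_exp]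
      change ((R.1 (x Q)).log - n R).toNat ≤ N at hN
      omega
  refine R.1.map_add_le (key R hR _ (he R)) (R.1.map_sum_le fun Q hQ => ?_)
  obtain ⟨hQR, hQS⟩ := Finset.mem_erase.mp hQ
  exact key Q hQS _ (he' Q R (Finset.mem_erase.mpr ⟨hQR.symm, hR⟩))

variable {P Q}

/-- A valuation ring of a function field containing the constants, other than the whole field, is
the valuation ring of a place. -/
theorem exists_place_of_valuationSubring (hK : IsFunctionField k K) (O : ValuationSubring K)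
    (hk : ∀ c, algebraMap k K c ∈ O) (hne : O ≠ ⊤) : ∃ P : Place k K, P.O = O := by
  have mi : ∀ {a : K} (h1 : a ∈ O), a⁻¹ ∈ O → a ≠ 0 → IsUnit (⟨a, h1⟩ : O) := fun {a} h1 h2 h0 =>
    isUnit_iff_exists_inv.mpr ⟨⟨a⁻¹, h2⟩, Subtype.ext (mul_inv_cancel₀ h0)⟩
  have chain : ∀ z : K, z ∈ O → z⁻¹ ∉ O → ∀ (n : ℕ) (x : Fin n → K),
      (∀ i, x i ≠ 0 ∧ x i ∈ O ∧ z / x i ∈ O ∧ x i / z ∉ O) →
      (∀ i j, i < j → x i / x j ∈ O ∧ x j / x i ∉ O) → n ≤ Module.finrank k⟮z⟯ K := by
    intro z hz hzi n x hx hlt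
    have hz0 : z ≠ 0 := fun e => hzi (by rw [e, inv_zero]; exact O.zero_mem)
    have hztr : Transcendental k z := transcendental_of_not_mem hK fun ⟨c, hc⟩ => hzi (by
      rw [← hc, ← map_inv₀]; exact hk _)
    have := finiteDimensional_adjoin hK hztr
    let S : Submodule k K :=
      { carrier := {a | a ∈ O}
        add_mem' := fun {a b} ha hb => O.add_mem a b ha hb
        zero_mem' := O.zero_mem
        smul_mem' := fun c a ha => by
          change c • a ∈ O
          rw [Algebra.smul_def]; exact O.mul_mem _ _ (hk c) ha }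
    have li := linearIndependent_adjoin_of_mod hztr S (fun s hs => O.mul_mem _ _ hz hs) x
      (fun i => (hx i).2.1) fun t c ⟨s, hs, hsum⟩ i hi => by
        by_contra hci
        have hne' : (t.filter fun j => c j ≠ 0).Nonempty := ⟨i, Finset.mem_filter.mpr ⟨hi, hci⟩⟩
        let j := (t.filter fun j => c j ≠ 0).max' hne'
        obtain ⟨hjt, hcj⟩ : j ∈ t ∧ c j ≠ 0 := Finset.mem_filter.mp (Finset.max'_mem _ hne')
        have hxj0 := (hx j).1
        have heq : algebraMap k K (c j) + ∑ l ∈ t.erase j, c l • (x l / x j) = z / x j * s := by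
          rw [← Finset.add_sum_erase t _ hjt] at hsum
          have e : ∀ l, c l • (x l / x j) = c l • x l / x j := fun l => by
            rw [Algebra.smul_def, Algebra.smul_def, mul_div_assoc]
          rw [Finset.sum_congr rfl fun l _ => e l, ← Finset.sum_div]
          rw [Algebra.smul_def] at hsum
          field_simp
          linear_combination hsum
        have hsmall : ∀ l ∈ t.erase j, ∃ h : c l • (x l / x j) ∈ O,
            (⟨_, h⟩ : O) ∈ IsLocalRing.maximalIdeal O := fun l hl => by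
          obtain ⟨hlj, hlt'⟩ := Finset.mem_erase.mp hl
          rcases eq_or_ne (c l) 0 with hc0 | hc0
          · refine ⟨by rw [hc0, zero_smul]; exact O.zero_mem, ?_⟩
            simp only [hc0, zero_smul]
            exact Ideal.zero_mem _
          · have hl_le : l ≤ j := Finset.le_max' _ _ (Finset.mem_filter.mpr ⟨hlt', hc0⟩)
            obtain ⟨h1, h2⟩ := hlt l j (lt_of_le_of_ne hl_le hlj)
            refine ⟨by rw [Algebra.smul_def]; exact O.mul_mem _ _ (hk _) h1, ?_⟩
            rw [IsLocalRing.mem_maximalIdeal, mem_nonunits_iff, isUnit_iff_exists_inv]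
            rintro ⟨b, hb⟩
            apply h2
            have hb' : c l • (x l / x j) * (b : K) = 1 := congrArg Subtype.val hb
            rw [Algebra.smul_def, mul_comm (algebraMap k K (c l)), mul_assoc] at hb'
            rw [← inv_div, inv_eq_of_mul_eq_one_right hb']
            exact O.mul_mem _ _ (hk _) b.2
        choose hm hmax using hsmall
        let w : O := ∑ l ∈ (t.erase j).attach, ⟨_, hm l.1 l.2⟩
        have hw : (w : K) = ∑ l ∈ t.erase j, c l • (x l / x j) := by
          rw [← Finset.sum_attach (t.erase j)]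
          exact map_sum O.subtype _ _
        have hwm : w ∈ IsLocalRing.maximalIdeal O := Ideal.sum_mem _ fun l _ => hmax l.1 l.2
        have hu : IsUnit (⟨_, hk (c j)⟩ + w : O) := by
          by_contra hnu
          have h1 : (⟨_, hk (c j)⟩ : O) ∈ IsLocalRing.maximalIdeal O := by
            have := Ideal.sub_mem _ ((IsLocalRing.mem_maximalIdeal _).mpr hnu) hwm
            simpa using this
          exact (IsLocalRing.mem_maximalIdeal _).mp h1 (mi (hk (c j))
            (by rw [← map_inv₀]; exact hk _) ((map_ne_zero _).mpr hcj))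
        obtain ⟨b, hb⟩ := isUnit_iff_exists_inv.mp hu
        have hb' : (algebraMap k K (c j) + (w : K)) * (b : K) = 1 := congrArg Subtype.val hb
        rw [hw, heq, mul_assoc] at hb'
        refine (hx j).2.2.2 ?_
        rw [← inv_div, inv_eq_of_mul_eq_one_right hb']
        exact O.mul_mem _ _ hs b.2
    simpa using li.fintype_card_le_finrank
  obtain ⟨z, hzne, hz, hzi⟩ : ∃ z : K, z ≠ 0 ∧ z ∈ O ∧ z⁻¹ ∉ O := by
    obtain ⟨x, hx⟩ : ∃ x, x ∉ O := by
      by_contra hc; push Not at hc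
      exact hne (SetLike.ext fun x => iff_of_true (hc x) trivial)
    refine ⟨x⁻¹, inv_ne_zero fun e => hx (e ▸ O.zero_mem), (O.mem_or_inv_mem x).resolve_left hx, ?_⟩
    rwa [inv_inv]
  -- a generator of the maximal ideal
  obtain ⟨t, ht, hti, hgen⟩ : ∃ t : K, t ∈ O ∧ t⁻¹ ∉ O ∧ ∀ a, a ∈ O → a⁻¹ ∉ O → a / t ∈ O := by
    by_contra hc
    push Not at hc
    choose g hg hgi hgt using fun a : {a : K // a ∈ O ∧ a⁻¹ ∉ O} => hc a.1 a.2.1 a.2.2
    let seq : ℕ → {a : K // a ∈ O ∧ a⁻¹ ∉ O} :=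
      fun n => Nat.rec ⟨z, hz, hzi⟩ (fun _ a => ⟨g a, hg a, hgi a⟩) n
    have hseq0 : ∀ i, (seq i).1 ≠ 0 := fun i e => (seq i).2.2 (by rw [e, inv_zero]; exact O.zero_mem)
    have hdiv : ∀ i j, i < j → (seq i).1 / (seq j).1 ∈ O ∧ (seq j).1 / (seq i).1 ∉ O := by
      intro i j hij
      induction hij with
      | refl =>
        have h : (seq (i + 1)).1 / (seq i).1 ∉ O := hgt (seq i)
        refine ⟨?_, h⟩
        have := (O.mem_or_inv_mem ((seq (i + 1)).1 / (seq i).1)).resolve_left h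
        rwa [inv_div] at this
      | @step m _ ih =>
        have h : (seq (m + 1)).1 / (seq m).1 ∉ O := hgt (seq m)
        have h' := (O.mem_or_inv_mem ((seq (m + 1)).1 / (seq m).1)).resolve_left h
        rw [inv_div] at h'
        refine ⟨?_, fun hbad => h ?_⟩
        · rw [← div_mul_div_cancel₀ (hseq0 m)]; exact O.mul_mem _ _ ih.1 h'
        · have := O.mul_mem _ _ hbad ih.1
          rwa [div_mul_div_cancel₀ (hseq0 i)] at this
    have := chain z hz hzi (Module.finrank k⟮z⟯ K + 1) (fun i => (seq (i.1 + 1)).1)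
      (fun i => ⟨hseq0 (i.1 + 1), (seq (i.1 + 1)).2.1, hdiv 0 (i.1 + 1) (Nat.succ_pos _)⟩)
      (fun i j hij => hdiv (i.1 + 1) (j.1 + 1) (by simp only [Fin.lt_def] at hij; omega))
    omega
  have ht0 : t ≠ 0 := fun e => hti (by rw [e, inv_zero]; exact O.zero_mem)
  have hpow : ∀ a : K, a ∈ O → a ≠ 0 → ∃ m, a / t ^ m ∈ O ∧ (a / t ^ m)⁻¹ ∈ O := by
    intro a ha ha0
    by_contra hc; push Not at hc
    have hall : ∀ m, a / t ^ m ∈ O := fun m => by
      induction m with
      | zero => simpa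
      | succ m ih => rw [pow_succ, ← div_div]; exact hgen _ ih (hc m ih)
    have hai : a⁻¹ ∉ O := by simpa using hc 0 (hall 0)
    have htpow : ∀ d, 0 < d → (t ^ d)⁻¹ ∉ O := fun d hd hbad => hti (by
      have := O.mul_mem _ _ (pow_mem ht (d - 1) : t ^ (d - 1) ∈ O) hbad
      rwa [show d = d - 1 + 1 by omega, Nat.add_sub_cancel, pow_succ, mul_inv,
        ← mul_assoc, mul_inv_cancel₀ (pow_ne_zero _ ht0), one_mul] at this)
    let N := Module.finrank k⟮a⟯ K + 1
    have hquot : ∀ e f : ℕ, e ≤ f → t ^ f / t ^ e = t ^ (f - e) := fun e f hef =>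
      (eq_div_iff (pow_ne_zero _ ht0)).mpr (by rw [← pow_add, Nat.sub_add_cancel hef]) |>.symm
    have := chain a ha hai N (fun i => t ^ (N - i.1))
      (fun i => ⟨pow_ne_zero _ ht0, pow_mem ht _, hall _, fun hbad => htpow 1 one_pos (by
        rw [pow_one]
        have hb := O.mul_mem _ _ hbad (hall (N - i.1 + 1))
        rwa [show t ^ (N - i.1) / a * (a / t ^ (N - i.1 + 1)) = t⁻¹ by
          rw [pow_succ]; field_simp] at hb)⟩)
      (fun i j hij => by
        have hij' : i.1 < j.1 := hij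
        refine ⟨?_, fun hbad => htpow ((N - i.1) - (N - j.1)) (by omega) ?_⟩
        · rw [hquot _ _ (by omega)]; exact pow_mem ht _
        · rwa [← inv_div, hquot _ _ (by omega)] at hbad)
    simp only [N] at this
    omega
  have hDVR : IsDiscreteValuationRing O := by
    refine IsDiscreteValuationRing.ofHasUnitMulPowIrreducibleFactorization
      ⟨⟨t, ht⟩, ⟨?_, ?_⟩, ?_⟩
    · intro hu
      obtain ⟨b, hb⟩ := isUnit_iff_exists_inv.mp hu
      have hb' : t * (b : K) = 1 := congrArg Subtype.val hb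
      exact hti (inv_eq_of_mul_eq_one_right hb' ▸ b.2)
    · rintro ⟨a, ha⟩ ⟨b, hb⟩ hab
      have hab' : t = a * b := congrArg Subtype.val hab
      by_contra hu; push Not at hu
      have ha0 : a ≠ 0 := fun e => ht0 (by rw [hab', e, zero_mul])
      have hb0 : b ≠ 0 := fun e => ht0 (by rw [hab', e, mul_zero])
      have hai : a⁻¹ ∉ O := fun h => hu.1 (mi ha h ha0)
      have hbi : b⁻¹ ∉ O := fun h => hu.2 (mi hb h hb0)
      have h1 := O.mul_mem _ _ (hgen a ha hai) (hgen b hb hbi)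
      exact hti (by rwa [show a / t * (b / t) = t⁻¹ by rw [hab']; field_simp] at h1)
    · rintro ⟨a, ha⟩ ha0
      obtain ⟨m, h1, h2⟩ := hpow a ha fun e => ha0 (Subtype.ext e)
      refine ⟨m, ?_⟩
      have hu := mi h1 h2 (div_ne_zero (fun e => ha0 (Subtype.ext e)) (pow_ne_zero _ ht0))
      refine ⟨hu.unit, Subtype.ext ?_⟩
      change t ^ m * (a / t ^ m) = a
      field_simp
  let v := (IsDiscreteValuationRing.maximalIdeal O).valuation K
  have hvle : ∀ a : K, a ∈ O → v a ≤ 1 := fun a ha =>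
    IsDedekindDomain.HeightOneSpectrum.valuation_le_one _ (⟨a, ha⟩ : O)
  refine ⟨⟨v, fun c => hvle _ (hk c), IsDedekindDomain.HeightOneSpectrum.valuation_surjective _ _⟩, ?_⟩
  ext x
  change x ∈ v.valuationSubring ↔ x ∈ O
  rw [Valuation.mem_valuationSubring_iff]
  refine ⟨fun hx => ?_, hvle x⟩
  by_contra hxO
  have hx' := (O.mem_or_inv_mem x).resolve_left hxO
  have hx0 : x ≠ 0 := fun e => hxO (e ▸ O.zero_mem)
  have : v x⁻¹ < 1 := (IsDedekindDomain.HeightOneSpectrum.valuation_lt_one_iff_mem _ (⟨x⁻¹, hx'⟩ : O)).mpr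
    (show (⟨x⁻¹, hx'⟩ : O) ∈ IsLocalRing.maximalIdeal O by
      rw [IsLocalRing.mem_maximalIdeal, mem_nonunits_iff, isUnit_iff_exists_inv]
      rintro ⟨b, hb⟩
      have hb' : x⁻¹ * (b : K) = 1 := congrArg Subtype.val hb
      exact hxO (by rw [← inv_inv x, inv_eq_of_mul_eq_one_right hb']; exact b.2))
  rw [map_inv₀, inv_lt_one₀ (zero_lt_iff.mpr ((map_ne_zero _).mpr hx0))] at this
  exact not_lt.mpr hx this

/-- A transcendental element has a zero. -/
theorem exists_val_lt_one (hK : IsFunctionField k K) {z : K} (hz : Transcendental k z) :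
    ∃ P : Place k K, P.1 z < 1 := by
  let A : Subring K := (Algebra.adjoin k ({z} : Set K)).toSubring
  let I : Ideal A := Ideal.span {⟨z, Algebra.self_mem_adjoin_singleton k z⟩}
  have hI : I ≠ ⊤ := by
    rw [Ne, Ideal.span_singleton_eq_top, isUnit_iff_exists_inv]
    rintro ⟨⟨b, hb⟩, hzb⟩
    obtain ⟨p, rfl⟩ : ∃ p : Polynomial k, Polynomial.aeval z p = b := by
      simpa [A, Algebra.adjoin_singleton_eq_range_aeval] using
        (Algebra.adjoin_singleton_eq_range_aeval k z ▸ hb : b ∈ (Polynomial.aeval z).range)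
    have h1 : Polynomial.X * p = 1 := by
      apply transcendental_iff_injective.mp hz
      have := congrArg Subtype.val hzb
      simpa using this
    simpa using congrArg (Polynomial.coeff · 0) h1
  obtain ⟨B, hAB, hIB⟩ := Ideal.image_subset_nonunits_valuationSubring I hI
  have hzB : z ∈ B.nonunits := hIB ⟨_, Ideal.mem_span_singleton_self _, rfl⟩
  have hne : B ≠ ⊤ := fun e => by
    subst e
    obtain ⟨h, hh⟩ := ValuationSubring.mem_nonunits_iff_exists_mem_maximalIdeal.mp hzB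
    rw [IsLocalRing.mem_maximalIdeal, mem_nonunits_iff, isUnit_iff_exists_inv] at hh
    exact hh ⟨⟨z⁻¹, trivial⟩, Subtype.ext (mul_inv_cancel₀ (fun e : z = 0 => hz (e ▸ isAlgebraic_zero)))⟩
  obtain ⟨P, hP⟩ := exists_place_of_valuationSubring hK B
    (fun c => hAB (Subalgebra.algebraMap_mem (Algebra.adjoin k ({z} : Set K)) c)) hne
  refine ⟨P, ?_⟩
  rw [← hP] at hzB
  obtain ⟨h, hh⟩ := ValuationSubring.mem_nonunits_iff_exists_mem_maximalIdeal.mp hzB
  exact (residue_eq_zero_iff P (x := ⟨z, h⟩)).mp ((IsLocalRing.residue_eq_zero_iff _).mpr hh)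

end Groth.Agent.FF
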