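import Groth.Agent.FF.Orders

/-! Ranks of matrices of binomial coefficients. -/

namespace Groth.Agent.FF

open FunFld Submodule Module Polynomial
open scoped Classical

variable {k : Type*} [Field k] {n : ℕ}

theorem binomMat_self_det_ne_zero {J : Fin n → ℕ} (hJ : StrictMono J) : (binomMat k J J).det ≠ 0 := by
  rw [Matrix.det_of_isLowerTriangular]
  · simp [binomMat]
  · intro i j hij
    simp [binomMat, Nat.choose_eq_zero_of_lt (hJ (show i < j from hij))]

/-- A strictly increasing column selection with non-singular binomial matrix, below the differences `J l - J 0`. -/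
theorem exists_binom_selection (J : Fin n → ℕ) (hJ : StrictMono J) (hn : 0 < n) :
    ∃ I : Fin n → ℕ, StrictMono I ∧ (∀ l, I l + J ⟨0, hn⟩ ≤ J l) ∧ (binomMat k J I).det ≠ 0 := by
  let w : ℕ → Fin n → k := fun i r => ((J r).choose i : k)
  have hrank : ∀ l : Fin n, (l : ℕ) + 1 ≤ finrank k (span k (w '' Set.Iio (J l - J ⟨0, hn⟩ + 1))) := fun l => by
    let B := J l - J ⟨0, hn⟩
    let emb : Fin ((l : ℕ) + 1) → Fin n := fun a => ⟨a, by have := a.2; have := l.2; omega⟩
    let π : (Fin n → k) →ₗ[k] (Fin ((l : ℕ) + 1) → k) := LinearMap.funLeft k k emb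
    have htop : (span k (w '' Set.Iio (B + 1))).map π = ⊤ := by
      by_contra hne
      obtain ⟨ℓ, hℓ0, hℓ⟩ := exists_le_ker_of_lt_top _ (lt_top_iff_ne_top.mpr hne)
      let c : Fin ((l : ℕ) + 1) → k := fun a => ℓ (Pi.single a 1)
      have h0 : ∀ a, J ⟨0, hn⟩ ≤ J (emb a) := fun a => hJ.monotone (Nat.zero_le _)
      have hB : ∀ a, J (emb a) - J ⟨0, hn⟩ ≤ B := fun a =>
        Nat.sub_le_sub_right (hJ.monotone (show emb a ≤ l from Nat.lt_succ_iff.mp a.2)) _
      let Q : k[X] := ∑ a, C (c a) * (1 + X) ^ (J (emb a) - J ⟨0, hn⟩)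
      have hcoef : ∀ i ≤ B, ((1 + X) ^ J ⟨0, hn⟩ * Q).coeff i = 0 := fun i hi => by
        have e : (1 + X) ^ J ⟨0, hn⟩ * Q = ∑ a, C (c a) * (1 + X) ^ J (emb a) := by
          rw [Finset.mul_sum]
          refine Finset.sum_congr rfl fun a _ => ?_
          rw [mul_left_comm, ← pow_add, Nat.add_sub_cancel' (h0 a)]
        rw [e, finsetSum_coeff]
        have h1 : ℓ (π (w i)) = 0 := hℓ ⟨w i, subset_span ⟨i, Nat.lt_succ_of_le hi, rfl⟩, rfl⟩
        rw [pi_eq_sum_univ' (π (w i)), map_sum] at h1
        rw [← h1]
        refine Finset.sum_congr rfl fun a _ => ?_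
        rw [coeff_C_mul, coeff_one_add_X_pow, map_smul, smul_eq_mul, mul_comm]
        rfl
      have hdvd : X ^ (B + 1) ∣ Q := by
        have h2 : X ^ (B + 1) ∣ (1 + X) ^ J ⟨0, hn⟩ * Q := X_pow_dvd_iff.mpr fun i hi => hcoef i (by omega)
        refine (IsCoprime.pow ?_).dvd_of_dvd_mul_left h2
        exact ⟨-1, 1, by ring⟩
      have hQ : Q = 0 := by
        refine eq_zero_of_dvd_of_natDegree_lt hdvd ?_
        rw [natDegree_X_pow]
        refine Nat.lt_succ_of_le (natDegree_sum_le_of_forall_le _ _ fun a _ => ?_)
        refine (natDegree_C_mul_le _ _).trans (natDegree_pow_le.trans ?_)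
        rw [add_comm (1 : k[X]), ← C_1, natDegree_X_add_C, mul_one]
        exact hB a
      have hc : ∀ a, c a = 0 := fun a => by
        have h2 := congrArg (fun p : k[X] => (p.comp (X - C 1)).coeff (J (emb a) - J ⟨0, hn⟩)) hQ
        simp only [Q, Polynomial.sum_comp, mul_comp, C_comp, pow_comp, add_comp, one_comp, X_comp, C_1,
          add_sub_cancel, zero_comp, coeff_zero, finsetSum_coeff, coeff_C_mul, coeff_X_pow, mul_ite, mul_one,
          mul_zero] at h2
        rw [Finset.sum_eq_single a (fun b _ hb => if_neg fun h => hb ?_) (by simp), if_pos rfl] at h2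
        · exact h2
        · have := hJ.injective (show J (emb b) = J (emb a) by have := h0 a; have := h0 b; omega)
          exact Fin.ext (Fin.mk.inj_iff.mp this)
      refine hℓ0 (LinearMap.pi_ext' fun a => LinearMap.ext_ring ?_)
      simpa using hc a
    have := Submodule.finrank_map_le π (span k (w '' Set.Iio (B + 1)))
    rw [htop, finrank_top, finrank_fin_fun] at this
    exact this
  -- the jumps of the columns
  let T : Set ℕ := {i | IsJump k w i}
  have hli := linearIndependent_jumps (R := k) w
  have hfin : Finite T := hli.finite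
  have : Fintype T := Fintype.ofFinite _
  let S : Finset ℕ := T.toFinset
  have hcardle : ∀ m, finrank k (span k (w '' Set.Iio m)) ≤ (S.filter (· < m)).card := fun m => by
    rw [span_jumps, show {i | i < m ∧ IsJump k w i} = ((S.filter (· < m) : Finset ℕ) : Set ℕ) by
      ext i; simp [S, T, and_comm]]
    rw [← Finset.coe_image]
    exact (finrank_span_finset_le_card _).trans Finset.card_image_le
  have hS : S.card ≤ n := by
    have h2 := hli.fintype_card_le_finrank
    rw [finrank_fin_fun] at h2
    rw [Set.toFinset_card]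
    exact h2
  have hcard : S.card = n := le_antisymm hS (by
    have := (hrank ⟨n - 1, by omega⟩).trans ((hcardle _).trans (Finset.card_filter_le _ _))
    simp only at this
    omega)
  let e := S.orderEmbOfFin hcard
  refine ⟨e, e.strictMono, fun l => ?_, ?_⟩
  · by_contra hlt
    push Not at hlt
    have hsub : (S.filter (· < J l - J ⟨0, hn⟩ + 1)) ⊆ (Finset.Iio l).image e := fun i hi => by
      obtain ⟨hiS, hilt⟩ := Finset.mem_filter.mp hi
      have hi' : i ∈ Set.range e := by rw [Finset.range_orderEmbOfFin]; exact hiS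
      obtain ⟨a, rfl⟩ := hi'
      refine Finset.mem_image.mpr ⟨a, Finset.mem_Iio.mpr (by_contra fun hge => ?_), rfl⟩
      have := e.monotone (not_lt.mp hge)
      have : J ⟨0, hn⟩ ≤ J l := hJ.monotone (Nat.zero_le _)
      omega
    have := ((hrank l).trans (hcardle _)).trans ((Finset.card_le_card hsub).trans Finset.card_image_le)
    simp at this
  · have hmem : ∀ a, IsJump k w (e a) := fun a => by
      have : e a ∈ S := S.orderEmbOfFin_mem hcard a
      simpa [S, T] using this
    have hcols : LinearIndependent k (fun a => w (e a)) :=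
      hli.comp (fun a => (⟨e a, hmem a⟩ : T)) fun a b h => e.injective (by simpa using h)
    rw [← isUnit_iff_ne_zero, ← Matrix.isUnit_iff_isUnit_det, ← Matrix.linearIndependent_cols_iff_isUnit]
    exact hcols

/-- Binomial matrices of standard index sequences. -/
theorem binomMat_standard_det_ne_zero {J : Fin n → ℕ} (hJ : StrictMono J) (e : ℕ) (he : e ≤ 1)
    (hpos : e = 1 → ∀ l, 0 < J l) (hchar : ringChar k = 0 ∨ ∀ l, J l < ringChar k) :
    (binomMat k J (fun l : Fin n => (l : ℕ) + e)).det ≠ 0 := by
  intro h0
  obtain ⟨c, hc, hMc⟩ := Matrix.exists_mulVec_eq_zero_iff.mpr h0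
  have hcast : Set.InjOn (Nat.cast : ℕ → k) (insert 0 (Set.range J)) := by
    intro a ha b hb hab
    rcases hchar with h | h
    · haveI : CharP k 0 := ringChar.eq_iff.mp h
      have : CharZero k := CharP.charP_to_charZero k
      exact Nat.cast_injective hab
    · have hn0 : ∀ x ∈ insert 0 (Set.range J), x < ringChar k ∨ x = 0 := fun x hx => by
        rcases Set.mem_insert_iff.mp hx with rfl | ⟨l, rfl⟩
        · exact Or.inr rfl
        · exact Or.inl (h l)
      rcases isEmpty_or_nonempty (Fin n) with hemp | ⟨⟨l⟩⟩
      · exact absurd (_root_.funext fun i => (hemp.false i).elim) hc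
      · have hp : 0 < ringChar k := lt_of_le_of_lt (Nat.zero_le _) (h l)
        have hlt : ∀ x ∈ insert 0 (Set.range J), x < ringChar k := fun x hx =>
          (hn0 x hx).elim id fun e => e ▸ hp
        exact CharP.natCast_injOn_Iio k (ringChar k) (hlt a ha) (hlt b hb) hab
  have hfac : ∀ l : Fin n, ((((l : ℕ) + e).factorial : ℕ) : k) ≠ 0 := fun l => by
    rcases hchar with h | h
    · haveI : CharP k 0 := ringChar.eq_iff.mp h
      have : CharZero k := CharP.charP_to_charZero k
      exact_mod_cast Nat.factorial_ne_zero _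
    · have hp : ringChar k ≠ 0 := by have := h l; omega
      have hprime : (ringChar k).Prime := (CharP.char_is_prime_or_zero k (ringChar k)).resolve_right hp
      rw [ne_eq, CharP.cast_eq_zero_iff k (ringChar k), Nat.Prime.dvd_factorial hprime, not_le]
      refine lt_of_le_of_lt ?_ (h l)
      rcases Nat.eq_zero_or_pos e with rfl | he'
      · have : ∀ m : ℕ, ∀ hm : m < n, m ≤ J ⟨m, hm⟩ := fun m => by
          induction m with
          | zero => intro hm; omega
          | succ m ih =>
            intro hm
            have h1 := ih (by omega)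
            have h2 := hJ (show (⟨m, by omega⟩ : Fin n) < ⟨m + 1, hm⟩ from Nat.lt_succ_self m)
            omega
        simpa using this l.1 l.2
      · have he1 : e = 1 := by omega
        have : ∀ m : ℕ, ∀ hm : m < n, m + 1 ≤ J ⟨m, hm⟩ := fun m => by
          induction m with
          | zero => intro hm; have := hpos he1 ⟨0, hm⟩; omega
          | succ m ih =>
            intro hm
            have h1 := ih (by omega)
            have h2 := hJ (show (⟨m, by omega⟩ : Fin n) < ⟨m + 1, hm⟩ from Nat.lt_succ_self m)
            omega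
        subst he1; exact this l.1 l.2
  let p : k[X] := ∑ l : Fin n, C (c l / (((l : ℕ) + e).factorial : k)) * descPochhammer k ((l : ℕ) + e)
  have hp : ∀ m : ℕ, p.eval (m : k) = ∑ l : Fin n, c l * (m.choose ((l : ℕ) + e) : k) := fun m => by
    simp only [p, eval_finsetSum, eval_mul, eval_C, descPochhammer_eval_eq_descFactorial]
    refine Finset.sum_congr rfl fun l _ => ?_
    rw [Nat.descFactorial_eq_factorial_mul_choose, Nat.cast_mul, ← mul_assoc, div_mul_cancel₀ _ (hfac l)]
  have hroot : ∀ r, p.eval (J r : k) = 0 := fun r => by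
    rw [hp, ← show (binomMat k J (fun l : Fin n => (l : ℕ) + e)).mulVec c r = 0 from congrFun hMc r]
    simp [Matrix.mulVec, dotProduct, binomMat, mul_comm]
  have hp0 : p = 0 := by
    by_contra hne
    have hdeg : p.natDegree + 1 ≤ n + e := by
      have : p.natDegree ≤ n + e - 1 := natDegree_sum_le_of_forall_le _ _ fun l _ =>
        (natDegree_C_mul_le _ _).trans (le_of_eq_of_le (descPochhammer_natDegree _ _) (by omega))
      rcases Nat.eq_zero_or_pos n with rfl | hn
      · exact absurd (_root_.funext fun (i : Fin 0) => i.elim0) hc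
      · omega
    let R : Finset k := (Finset.univ.image fun r => (J r : k)) ∪ (if e = 1 then {0} else ∅)
    have hR : R.card = n + e := by
      have h1 : (Finset.univ.image fun r => (J r : k)).card = n := by
        rw [Finset.card_image_of_injective _ fun a b h => hJ.injective
          (hcast (Set.mem_insert_of_mem _ ⟨a, rfl⟩) (Set.mem_insert_of_mem _ ⟨b, rfl⟩) h), Finset.card_univ,
          Fintype.card_fin]
      rcases Nat.eq_zero_or_pos e with he0 | he1
      · simp [R, he0, h1]
      · have he1 : e = 1 := by omega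
        simp only [R, he1, if_true]
        rw [Finset.card_union_of_disjoint, h1, Finset.card_singleton]
        simp only [Finset.disjoint_singleton_right, Finset.mem_image, not_exists, not_and]
        intro r _ hr
        have := hcast (Set.mem_insert_of_mem _ ⟨r, rfl⟩) (Set.mem_insert 0 _) (hr.trans Nat.cast_zero.symm)
        exact (hpos he1 r).ne' this
    have hsub : R.val ⊆ p.roots := fun x hx => by
      rw [mem_roots hne, IsRoot.def]
      rcases Finset.mem_union.mp (Finset.mem_val.mp hx) with h | h
      · obtain ⟨r, -, rfl⟩ := Finset.mem_image.mp h; exact hroot r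
      · split_ifs at h with he1
        · rw [Finset.mem_singleton] at h
          have h0' := hp 0
          rw [Nat.cast_zero] at h0'
          rw [h, h0']
          exact Finset.sum_eq_zero fun l _ => by rw [Nat.choose_eq_zero_of_lt (by omega), Nat.cast_zero, mul_zero]
        · simp at h
    have := (Multiset.card_le_card (Multiset.le_iff_subset R.nodup |>.mpr hsub)).trans (card_roots' p)
    rw [Finset.card_val, hR] at this
    omega
  apply hc
  funext l
  by_contra hl
  obtain ⟨l₀, hl₀, hmax⟩ := Finset.exists_max_image (Finset.univ.filter fun l => c l ≠ 0) id ⟨l, by simp at hl ⊢; exact hl⟩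
  have h1 := congrArg (fun q : k[X] => q.coeff ((l₀ : ℕ) + e)) hp0
  simp only [p, finsetSum_coeff, coeff_C_mul, coeff_zero] at h1
  rw [Finset.sum_eq_single l₀ (fun b _ hb => ?_) (by simp)] at h1
  · have hmon := monic_descPochhammer k ((l₀ : ℕ) + e)
    rw [show (descPochhammer k ((l₀ : ℕ) + e)).coeff ((l₀ : ℕ) + e) = 1 by
      conv_lhs => arg 2; rw [← descPochhammer_natDegree k ((l₀ : ℕ) + e)]
      exact hmon, mul_one, div_eq_zero_iff] at h1
    exact (Finset.mem_filter.mp hl₀).2 (h1.resolve_right (hfac l₀))
  · by_cases hcb : c b = 0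
    · simp [hcb]
    · have hlt : b < l₀ := lt_of_le_of_ne (hmax b (by simp [hcb])) hb
      rw [coeff_eq_zero_of_natDegree_lt (p := descPochhammer k _) (by
        rw [descPochhammer_natDegree]; exact Nat.add_lt_add_right hlt e), mul_zero]

end Groth.Agent.FF
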