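import Groth.Agent.FF.RiemannRoch
import Mathlib.Algebra.CharP.Lemmas
import Mathlib.Algebra.CharP.Algebra
import Mathlib.FieldTheory.Finite.Basic

/-! Bombieri's upper bound for the places on which an automorphism acts as Frobenius. -/

open FunFld WithZero Module
open scoped Classical

namespace Groth.Agent.FF

variable {k E : Type*} [Field k] [Field E] [Algebra k E]

/-- The image of a place under a `k`-automorphism. -/
def mapPlace (σ : E ≃ₐ[k] E) (Q : Place k E) : Place k E :=
  ⟨Q.1.comap ((σ.symm : E ≃ₐ[k] E) : E →+* E), fun c => by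
    change Q.1 (σ.symm (algebraMap k E c)) ≤ 1
    rw [AlgEquiv.commutes]
    exact Q.2.1 c, fun r => by
    obtain ⟨y, hy⟩ := Q.2.2 r
    exact ⟨σ y, by change Q.1 (σ.symm (σ y)) = r; rw [AlgEquiv.symm_apply_apply]; exact hy⟩⟩

theorem mapPlace_apply (σ : E ≃ₐ[k] E) (Q : Place k E) (x : E) : (mapPlace σ Q).1 (σ x) = Q.1 x := by
  change Q.1 (σ.symm (σ x)) = _; rw [AlgEquiv.symm_apply_apply]

theorem deg_mapPlace (σ : E ≃ₐ[k] E) (Q : Place k E) : (mapPlace σ Q).deg = Q.deg := by
  let e : Q.O ≃+* (mapPlace σ Q).O :=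
    { toFun := fun a => ⟨σ a.1, (mem_O _).mpr (by rw [mapPlace_apply]; exact (mem_O Q).mp a.2)⟩
      invFun := fun a => ⟨σ.symm a.1, (mem_O Q).mpr ((mem_O (mapPlace σ Q)).mp a.2)⟩
      left_inv := fun a => Subtype.ext (σ.symm_apply_apply a.1)
      right_inv := fun a => Subtype.ext (σ.apply_symm_apply a.1)
      map_mul' := fun a b => Subtype.ext (map_mul σ a.1 b.1)
      map_add' := fun a b => Subtype.ext (map_add σ a.1 b.1) }
  let g : IsLocalRing.ResidueField Q.O ≃ₐ[k] IsLocalRing.ResidueField (mapPlace σ Q).O :=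
    AlgEquiv.ofRingEquiv (f := IsLocalRing.ResidueField.mapEquiv e) fun c => by
      change IsLocalRing.residue (mapPlace σ Q).O (e _) = IsLocalRing.residue (mapPlace σ Q).O _
      exact congrArg _ (Subtype.ext (σ.commutes c))
  exact g.toLinearEquiv.finrank_eq.symm

/-- The places at which `σ` is congruent to the `q`-th power. -/
def FrobAt (q : ℕ) (σ : E → E) (Q : Place k E) : Prop :=
  ∀ z, Q.1 z ≤ 1 → Q.1 (z ^ q - σ z) < 1

theorem deg_finset_sum {ι : Type*} (s : Finset ι) (D : ι → Divisor k E) :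
    (∑ i ∈ s, D i).deg = ∑ i ∈ s, (D i).deg := by
  induction s using Finset.induction with
  | empty => simp
  | insert a s ha ih => rw [Finset.sum_insert ha, Finset.sum_insert ha, deg_add, ih]

/-- Functions with prescribed pole orders at a rational place, as many as `ℓ(mP)`. -/
theorem exists_poleFun (hE : IsFunctionField k E) {P : Place k E} (hP : P.deg = 1) (m : ℕ) :
    ∃ (T : Finset ℕ) (u : ℕ → E), (∀ i ∈ T, i ≤ m ∧ u i ∈ L (Finsupp.single P (m : ℤ)) ∧ P.1 (u i) = exp (i : ℤ)) ∧
      ell (Finsupp.single P (m : ℤ)) ≤ T.card := by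
  induction m with
  | zero =>
    refine ⟨{0}, fun _ => 1, fun i hi => ?_, ?_⟩
    · rw [Finset.mem_singleton] at hi
      subst hi
      refine ⟨le_rfl, ?_, by simp⟩
      rw [Nat.cast_zero, Finsupp.single_zero, L_zero_eq hE]
      exact Submodule.mem_span_singleton_self _
    · rw [Nat.cast_zero, Finsupp.single_zero, (finrank_L_zero hE).2]; simp
  | succ m ih =>
    obtain ⟨T, u, hT, hcard⟩ := ih
    have hle : Finsupp.single P (m : ℤ) ≤ Finsupp.single P ((m + 1 : ℕ) : ℤ) := fun Q => by
      simp only [Finsupp.single_apply]; split_ifs <;> omega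
    by_cases hnew : ∃ f ∈ L (Finsupp.single P ((m + 1 : ℕ) : ℤ)), P.1 f = exp ((m + 1 : ℕ) : ℤ)
    · obtain ⟨f, hf, hfv⟩ := hnew
      have hnm : m + 1 ∉ T := fun h => by have := (hT _ h).1; omega
      refine ⟨insert (m + 1) T, Function.update u (m + 1) f, fun i hi => ?_, ?_⟩
      · rcases Finset.mem_insert.mp hi with rfl | hi
        · exact ⟨le_rfl, by rw [Function.update_self]; exact hf, by rw [Function.update_self]; exact hfv⟩
        · obtain ⟨h1, h2, h3⟩ := hT i hi
          rw [Function.update_of_ne (by omega)]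
          exact ⟨by omega, L_mono hle h2, h3⟩
      · have h := ell_mono hE hle
        rw [deg_single, deg_single, hP] at h
        rw [Finset.card_insert_of_notMem hnm]
        omega
    · refine ⟨T, u, fun i hi => ⟨by have := (hT i hi).1; omega, L_mono hle (hT i hi).2.1, (hT i hi).2.2⟩, le_trans ?_ hcard⟩
      have hsub : L (Finsupp.single P ((m + 1 : ℕ) : ℤ)) ≤ L (Finsupp.single P (m : ℤ)) := fun f hf Q => by
        rcases eq_or_ne Q P with rfl | hQ
        · rw [Finsupp.single_eq_same]
          rcases eq_or_ne f 0 with rfl | hf0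
          · simp
          · have h1 := hf Q
            rw [Finsupp.single_eq_same, val_eq_exp_neg_ord Q hf0, exp_le_exp] at h1
            have h2 : Q.1 f ≠ exp ((m + 1 : ℕ) : ℤ) := fun e => hnew ⟨f, hf, e⟩
            rw [val_eq_exp_neg_ord Q hf0, ne_eq, exp_inj] at h2
            rw [val_eq_exp_neg_ord Q hf0, exp_le_exp]
            omega
        · simpa [Finsupp.single_eq_of_ne hQ] using hf Q
      have := finiteDimensional_L hE (Finsupp.single P (m : ℤ))
      exact Submodule.finrank_mono hsub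

/-- Bombieri's bound. -/
theorem bombieri [Finite k] (hE : IsFunctionField k E) (σ : E ≃ₐ[k] E) {P : Place k E} (hP : P.deg = 1)
    {p a : ℕ} [hp : Fact p.Prime] [CharP E p] (hq : Nat.card k = p ^ a * p ^ a)
    (hbig : (genus k E + 1) ^ 2 < p ^ a) (S : Finset (Place k E)) (hS : ∀ Q ∈ S, FrobAt (Nat.card k) σ Q) :
    ∑ Q ∈ S, Q.deg ≤ Nat.card k + (2 * genus k E + 1) * p ^ a := by
  set g := genus k E
  set r := p ^ a with hr
  set m := r - 1 with hm
  set n := 2 * g + r with hn
  have hr1 : 1 ≤ r := Nat.one_le_pow _ _ hp.out.pos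
  obtain ⟨T, u, hu, hTcard⟩ := exists_poleFun hE hP m
  let V := L (Finsupp.single P (n : ℤ))
  have hVfd : FiniteDimensional k V := finiteDimensional_L hE _
  let P' := mapPlace σ P
  set D : Divisor k E := Finsupp.single P ((r * m : ℕ) : ℤ) + Finsupp.single P' (n : ℤ)
  have hDfd : FiniteDimensional k (L D) := finiteDimensional_L hE D
  have hudeg : ∀ i : T, ∀ Q : Place k E, Q.1 (u i ^ r) ≤ exp (Finsupp.single P ((r * m : ℕ) : ℤ) Q) := fun i Q => by
    refine ((map_pow Q.1 _ r).trans_le (pow_le_pow_left' ((hu i i.2).2.1 Q) r)).trans ?_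
    rw [← exp_nsmul, exp_le_exp, nsmul_eq_mul]
    simp only [Finsupp.single_apply]
    split_ifs <;> simp
  have hσV : ∀ (z : V) (Q : Place k E), Q.1 (σ z) ≤ exp (Finsupp.single P' (n : ℤ) Q) := fun z Q => by
    have h := z.2 (mapPlace σ.symm Q)
    have h2 : (mapPlace σ.symm Q).1 (z : E) = Q.1 (σ z) := rfl
    rw [h2] at h
    refine h.trans_eq ?_
    congr 1
    simp only [Finsupp.single_apply]
    refine if_congr ⟨fun e => ?_, fun e => ?_⟩ rfl rfl
    · refine Subtype.ext (Valuation.ext fun x => ?_)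
      change P.1 (σ.symm x) = Q.1 x
      rw [e]; change Q.1 (σ (σ.symm x)) = _; rw [AlgEquiv.apply_symm_apply]
    · refine Subtype.ext (Valuation.ext fun x => ?_)
      change P.1 x = Q.1 (σ x)
      rw [← e]; exact (mapPlace_apply σ P x).symm
  let B : (T → V) →ₗ[k] L D :=
    { toFun := fun z => ⟨∑ i : T, u i ^ r * σ (z i), Submodule.sum_mem _ fun (i : T) _ Q => by
        rw [map_mul, Finsupp.add_apply, exp_add]; exact mul_le_mul' (hudeg i Q) (hσV (z i) Q)⟩
      map_add' := fun z w => Subtype.ext (by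
        simp only [Pi.add_apply, Submodule.coe_add, map_add, mul_add, Finset.sum_add_distrib])
      map_smul' := fun c z => Subtype.ext (by
        simp only [Pi.smul_apply, SetLike.val_smul, map_smul, RingHom.id_apply, Finset.smul_sum, mul_smul_comm]) }
  have hdim : finrank k (L D) < finrank k (T → V) := by
    have hD : D.deg = ((r * m + n : ℕ) : ℤ) := by
      rw [deg_add, deg_single, deg_single, deg_mapPlace, hP]; push_cast; ring
    have h1 := ell_eq_of_deg_large hE (D := D) (by rw [hD]; push_cast; nlinarith [hn])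
    rw [hD] at h1
    have h2 := defect_le_genus hE (Finsupp.single P (n : ℤ))
    have h3 := defect_le_genus hE (Finsupp.single P (m : ℤ))
    simp only [defect, deg_single, hP] at h2 h3
    rw [Module.finrank_pi_fintype]
    simp only [Finset.sum_const, Finset.card_univ, Fintype.card_coe, smul_eq_mul]
    have h4 : (m : ℤ) + 1 - g ≤ T.card := by
      have : (ell (Finsupp.single P (m : ℤ)) : ℤ) ≤ T.card := by exact_mod_cast hTcard
      push_cast at h3; linarith
    have h5 : (n : ℤ) + 1 - g ≤ finrank k V := by push_cast at h2; change _ ≤ (ell _ : ℤ); linarith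
    have hb : ((g : ℤ) + 1) ^ 2 < r := by exact_mod_cast hbig
    have hmz : (m : ℤ) = r - 1 := by omega
    have hnz : (n : ℤ) = 2 * g + r := by omega
    have hg0 : (0 : ℤ) ≤ g := Nat.cast_nonneg _
    have h6 : 0 ≤ (m : ℤ) + 1 - g := by nlinarith
    have h7 : 0 ≤ (n : ℤ) + 1 - g := by nlinarith
    have h8 := mul_le_mul h4 h5 h7 (by linarith)
    have h9 : (ell D : ℤ) < T.card * finrank k V := by
      refine lt_of_lt_of_le ?_ h8
      push_cast at h1
      rw [hmz] at h1 ⊢
      rw [hnz] at h1 ⊢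
      nlinarith
    exact_mod_cast h9
  obtain ⟨z, hz, hz0⟩ := Submodule.exists_mem_ne_zero_of_ne_bot (LinearMap.ker_ne_bot_of_finrank_lt (f := B) hdim)
  set x := ∑ i : T, u i * (z i : E) ^ r with hx
  -- `x` is nonzero
  have hx0 : x ≠ 0 := by
    let Z := Finset.univ.filter fun i : T => z i ≠ 0
    have hZ : Z.Nonempty := by
      obtain ⟨i, hi⟩ := Function.ne_iff.mp hz0
      exact ⟨i, by simpa [Z] using hi⟩
    have hval : ∀ i ∈ Z, P.1 (u i * (z i : E) ^ r) = exp (((i : ℕ) : ℤ) - r * P.ord (z i : E)) := fun i hi => by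
      have hne : (z i : E) ≠ 0 := fun e => (Finset.mem_filter.mp hi).2 (Subtype.ext e)
      rw [map_mul, map_pow, (hu i i.2).2.2, val_eq_exp_neg_ord P hne, ← exp_nsmul, ← exp_add, nsmul_eq_mul]
      congr 1; ring
    obtain ⟨j, hj, hjmax⟩ := Finset.exists_max_image Z (fun i => ((i : ℕ) : ℤ) - r * P.ord (z i : E)) hZ
    have hsum : x = ∑ i ∈ Z, u i * (z i : E) ^ r := by
      rw [hx]; refine (Finset.sum_subset (Finset.filter_subset _ _) fun i _ hi => ?_).symm
      have : z i = 0 := by simpa using hi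
      rw [this]; simp [zero_pow (by omega : r ≠ 0)]
    intro h0
    have := Valuation.map_sum_eq_of_lt P.1 (f := fun i : T => u i * (z i : E) ^ r) hj fun i hi => by
      obtain ⟨hiZ, hij⟩ := Finset.mem_sdiff.mp hi
      rw [hval i hiZ, hval j hj, exp_lt_exp]
      refine lt_of_le_of_ne (hjmax i hiZ) fun e => hij ?_
      rw [Finset.mem_singleton]
      refine Subtype.ext ?_
      have hi' := (hu i i.2).1
      have hj' := (hu j j.2).1
      have h1 : ((i : ℕ) : ℤ) % r = ((j : ℕ) : ℤ) % r := by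
        have := congrArg (· % (r : ℤ)) e
        simpa [Int.sub_mul_emod_self_left] using this
      rw [Int.emod_eq_of_lt (by positivity) (by omega), Int.emod_eq_of_lt (by positivity) (by omega)] at h1
      omega
    rw [← hsum, h0, map_zero, hval j hj] at this
    exact exp_ne_zero this.symm
  set S' := S.erase P
  set D' : Divisor k E := Finsupp.single P ((m + r * n : ℕ) : ℤ) - ∑ Q ∈ S', Finsupp.single Q 1
  have hDQ : ∀ Q, D' Q = Finsupp.single P ((m + r * n : ℕ) : ℤ) Q - if Q ∈ S' then 1 else 0 := fun Q => by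
    simp only [D', Finsupp.sub_apply, Finsupp.finsetSum_apply, Finsupp.single_apply, Finset.sum_ite_eq']
  have hxmem : x ∈ L D' := by
    intro Q
    rw [hDQ]
    split_ifs with hQ
    · obtain ⟨hQP, hQS⟩ := Finset.mem_erase.mp hQ
      have hreg : ∀ {l : ℕ} {f : E}, f ∈ L (Finsupp.single P (l : ℤ)) → Q.1 f ≤ 1 := fun {l f} hf => by
        have := hf Q
        rwa [Finsupp.single_eq_of_ne hQP, exp_zero] at this
      have hkey : Q.1 (x ^ r) < 1 := by
        have h0 : ∑ i : T, u i ^ r * σ (z i : E) = 0 := congrArg Subtype.val hz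
        rw [hx, sum_pow_char_pow, ← sub_zero (Finset.sum _ _), ← h0, ← Finset.sum_sub_distrib]
        refine Valuation.map_sum_lt _ one_ne_zero fun i _ => ?_
        rw [mul_pow, ← pow_mul, ← hr, ← hq, ← mul_sub, map_mul, map_pow]
        exact (mul_le_of_le_one_left' (pow_le_one' (hreg (hu i i.2).2.1) r)).trans_lt (hS Q hQS _ (hreg (z i).2))
      rw [map_pow] at hkey
      rw [Finsupp.single_eq_of_ne hQP, zero_sub]
      have h1 : Q.1 x < 1 := by
        by_contra hc
        exact absurd (one_le_pow_of_one_le' (not_lt.mp hc) r) (not_le.mpr hkey)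
      rw [val_lt_one_iff Q hx0] at h1
      rw [val_eq_exp_neg_ord Q hx0, exp_le_exp]
      omega
    · rw [sub_zero, hx]
      refine Valuation.map_sum_le _ fun i _ => ?_
      rw [map_mul, map_pow]
      refine (mul_le_mul' ((hu i i.2).2.1 Q) (pow_le_pow_left' ((z i).2 Q) r)).trans ?_
      rw [← exp_nsmul, ← exp_add, exp_le_exp, nsmul_eq_mul]
      simp only [Finsupp.single_apply]
      split_ifs <;> simp
  have hdeg : 0 ≤ D'.deg := by
    by_contra hc
    exact absurd (ell_eq_zero_of_deg_neg hE (not_le.mp hc)) (ell_pos_of_mem hE hx0 hxmem).ne'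
  have hdeg' : D'.deg = ((m + r * n : ℕ) : ℤ) - (∑ Q ∈ S', Q.deg : ℕ) := by
    rw [deg_sub, deg_single, hP, deg_finset_sum]
    simp
  have h1 : ∑ Q ∈ S', Q.deg ≤ m + r * n := by omega
  have h2 : ∑ Q ∈ S, Q.deg ≤ ∑ Q ∈ S', Q.deg + 1 := by
    rw [← hP]
    by_cases hPS : P ∈ S
    · rw [← Finset.sum_erase_add _ _ hPS]
    · rw [show S' = S from Finset.erase_eq_of_notMem hPS]; omega
  have h3 : m + r * n + 1 = r * r + (2 * g + 1) * r := by
    rw [hn, mul_add, add_right_comm m, show m + 1 = r by omega]; ring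
  rw [hq]
  omega

end Groth.Agent.FF
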