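import Groth.Agent.FF.Chain

/-! Pole numbers and gaps at a place. -/

namespace Groth.Agent.FF

open WithZero FunFld Module
open scoped Classical

variable {k K : Type*} [Field k] [Field K] [Algebra k K] [IsAlgClosed k]

theorem ell_single_step (hK : IsFunctionField k K) (P : Place k K) (m : ℤ) :
    ell (Finsupp.single P (m - 1)) ≤ ell (Finsupp.single P m) ∧
      ell (Finsupp.single P m) ≤ ell (Finsupp.single P (m - 1)) + 1 := by
  have h := ell_mono hK (D := Finsupp.single P (m - 1)) (E := Finsupp.single P m) (fun Q => by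
    simp only [Finsupp.single_apply]; split_ifs <;> omega)
  rw [deg_single, deg_single, deg_eq_one hK] at h
  push_cast at h
  omega

/-- `m` is a pole number at `P`: some function has a pole of exact order `m` at `P` and no other. -/
def IsPoleNum (P : Place k K) (m : ℕ) : Prop :=
  L (Finsupp.single P (m : ℤ)) ≠ L (Finsupp.single P ((m : ℤ) - 1))

theorem isPoleNum_iff_exists {P : Place k K} {m : ℕ} :
    IsPoleNum P m ↔ ∃ f, f ∈ L (Finsupp.single P (m : ℤ)) ∧ P.1 f = exp (m : ℤ) := by
  have hle : L (Finsupp.single P ((m : ℤ) - 1)) ≤ L (Finsupp.single P (m : ℤ)) := L_mono fun Q => by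
    simp only [Finsupp.single_apply]; split_ifs <;> omega
  refine ⟨fun h => ?_, fun ⟨f, hf, hv⟩ e => ?_⟩
  · obtain ⟨f, hf, hnf⟩ := Set.exists_of_ssubset (show (L (Finsupp.single P ((m : ℤ) - 1)) : Set K) ⊂
      L (Finsupp.single P (m : ℤ)) from lt_of_le_of_ne hle (fun e => h (SetLike.coe_injective e).symm))
    refine ⟨f, hf, ?_⟩
    have h1 : P.1 f ≤ exp (m : ℤ) := by simpa using hf P
    refine le_antisymm h1 ?_
    by_contra hlt; push Not at hlt
    apply hnf
    intro Q
    rcases eq_or_ne Q P with rfl | hQ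
    · rw [Finsupp.single_eq_same]
      rcases eq_or_ne f 0 with rfl | hf0
      · simp
      · rw [val_eq_exp_neg_ord Q hf0, exp_lt_exp] at hlt
        rw [val_eq_exp_neg_ord Q hf0, exp_le_exp]; omega
    · simpa [Finsupp.single_eq_of_ne hQ] using hf Q
  · rw [e] at hf
    have := hf P
    rw [hv, Finsupp.single_eq_same, exp_le_exp] at this; omega

theorem IsPoleNum.add {P : Place k K} {a b : ℕ} (ha : IsPoleNum P a) (hb : IsPoleNum P b) :
    IsPoleNum P (a + b) := by
  obtain ⟨f, hf, hfv⟩ := isPoleNum_iff_exists.mp ha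
  obtain ⟨g, hg, hgv⟩ := isPoleNum_iff_exists.mp hb
  refine isPoleNum_iff_exists.mpr ⟨f * g, fun Q => ?_, by rw [map_mul, hfv, hgv, ← exp_add]; push_cast; rfl⟩
  rw [map_mul, Nat.cast_add, Finsupp.single_add, Finsupp.add_apply, exp_add]
  exact mul_le_mul' (hf Q) (hg Q)

theorem ell_single_succ (hK : IsFunctionField k K) (P : Place k K) (m : ℕ) :
    ell (Finsupp.single P ((m + 1 : ℕ) : ℤ)) =
      ell (Finsupp.single P (m : ℤ)) + if IsPoleNum P (m + 1) then 1 else 0 := by
  have h := ell_single_step hK P ((m + 1 : ℕ) : ℤ)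
  rw [show ((m + 1 : ℕ) : ℤ) - 1 = (m : ℤ) by push_cast; ring] at h
  split_ifs with hp
  · have := finiteDimensional_L hK (Finsupp.single P ((m + 1 : ℕ) : ℤ))
    have hlt : L (Finsupp.single P (m : ℤ)) < L (Finsupp.single P ((m + 1 : ℕ) : ℤ)) := by
      refine lt_of_le_of_ne (L_mono fun Q => ?_) ?_
      · simp only [Finsupp.single_apply]; split_ifs <;> omega
      · intro e; apply hp; rw [← e]; congr 2; push_cast; ring
    have := Submodule.finrank_lt_finrank_of_lt hlt
    simp only [ell] at h ⊢; omega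
  · rw [IsPoleNum, not_not, show ((m + 1 : ℕ) : ℤ) - 1 = (m : ℤ) by push_cast; ring] at hp
    rw [add_zero, ell, hp]; rfl

theorem ell_single_eq (hK : IsFunctionField k K) (P : Place k K) (n : ℕ) :
    ell (Finsupp.single P (n : ℤ)) + ((Finset.Icc 1 n).filter fun m => ¬ IsPoleNum P m).card = n + 1 := by
  induction n with
  | zero => simp [(finrank_L_zero hK).2]
  | succ n ih =>
    rw [ell_single_succ hK, show Finset.Icc 1 (n + 1) = insert (n + 1) (Finset.Icc 1 n) by ext m; simp; omega,
      Finset.filter_insert]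
    split_ifs with hp
    · omega
    · rw [Finset.card_insert_of_notMem (by simp)]; omega

theorem card_poleNum_le_card_gap (P : Place k K) {n G : ℕ} (hG : n < G) (hgap : ¬ IsPoleNum P G)
    (hmid : ∀ m, n < m → m < G → IsPoleNum P m) :
    ((Finset.Icc 1 n).filter fun m => IsPoleNum P m).card ≤
      ((Finset.Icc 1 n).filter fun m => ¬ IsPoleNum P m).card := by
  refine Finset.card_le_card_of_injOn (fun m => G - m) (fun m hm => ?_) (fun a ha b hb e => ?_)
  · simp only [Finset.coe_filter, Finset.mem_Icc, Set.mem_ofPred_eq] at hm ⊢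
    have hnp : ¬ IsPoleNum P (G - m) := fun hc => hgap (by
      have := hm.2.add hc; rwa [Nat.add_sub_cancel' (by omega)] at this)
    refine ⟨⟨by omega, ?_⟩, hnp⟩
    by_contra hc
    exact hnp (hmid _ (by omega) (by omega))
  · simp only [Finset.coe_filter, Finset.mem_Icc, Set.mem_ofPred_eq] at ha hb
    simp only at e; omega

theorem clifford_single (hK : IsFunctionField k K) (P : Place k K) (n : ℕ)
    (hn : (n : ℤ) ≤ 2 * (genus k K : ℤ)) : 2 * ell (Finsupp.single P (n : ℤ)) ≤ n + 2 := by
  by_cases h : ∀ m, n < m → IsPoleNum P m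
  · -- all gaps are at most `n`
    let N := max n (2 * genus k K)
    have hgrow : ∀ j, ell (Finsupp.single P ((n + j : ℕ) : ℤ)) = ell (Finsupp.single P (n : ℤ)) + j := fun j => by
      induction j with
      | zero => rfl
      | succ j ih =>
        rw [← add_assoc, ell_single_succ hK, if_pos (h _ (by omega)), ih]; omega
    have h1 := hgrow (N - n)
    rw [Nat.add_sub_cancel' (le_max_left _ _)] at h1
    have h2 := ell_eq_of_deg_large hK (D := Finsupp.single P (N : ℤ)) (by
      rw [deg_single, deg_eq_one hK]; push_cast [N]; omega)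
    rw [deg_single, deg_eq_one hK, h1] at h2
    push_cast [Nat.cast_sub (le_max_left n (2 * genus k K)), N] at h2
    omega
  · push Not at h
    obtain ⟨G, ⟨hG, hgap⟩, hmin⟩ : ∃ G, (n < G ∧ ¬ IsPoleNum P G) ∧
        ∀ m, (n < m ∧ ¬ IsPoleNum P m) → G ≤ m :=
      ⟨Nat.find h, Nat.find_spec h, fun m hm => Nat.find_min' h hm⟩
    have h1 := card_poleNum_le_card_gap P hG hgap fun m h1 h2 => by
      by_contra hc; have := hmin m ⟨h1, hc⟩; omega
    have h2 := ell_single_eq hK P n
    have h3 := Finset.card_filter_add_card_filter_not (s := Finset.Icc 1 n) (fun m => IsPoleNum P m)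
    rw [Nat.card_Icc] at h3
    omega

end Groth.Agent.FF
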