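import Groth.Agent.FF.WeierstrassPts
import Groth.Agent.FF.RiemannRoch
import Groth.Agent.FF.Gaps
import Groth.Agent.FF.Rational

/-! Orders of the canonical map and gaps; the first order at a nonsingular point. -/

namespace Groth.Agent.FF

open FunFld LocRes WithZero Submodule Module
open scoped Classical

variable {k K : Type*} [Field k] [Field K] [Algebra k K] [IsAlgClosed k]

/-- A normalised canonical series has no coefficient at the place. -/
theorem canonical_coeff_zero (hK : IsFunctionField k K) {C : Divisor k K} (hC : IsCanonical k K C)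
    (P : Place k K) (h1 : (1 : K) ∈ L C) (hnorm : ∀ f ∈ L C, P.1 f ≤ 1) : C P = 0 := by
  have hg : (ell C : ℤ) = genus k K := by exact_mod_cast (ell_canonical hK hC).1
  have hgpos : 0 < ell C := ell_pos_of_mem hK one_ne_zero h1
  have hP1 := deg_eq_one hK P
  have h0 : 0 ≤ C P := by
    have := h1 P
    rwa [map_one, ← exp_zero, exp_le_exp] at this
  by_contra hne
  have hsub : L C ≤ L (C - Finsupp.single P (1 : ℤ)) := fun f hf Q => by
    rw [Finsupp.sub_apply, Finsupp.single_apply]
    split_ifs with h
    · subst h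
      exact (hnorm f hf).trans (exp_zero (M := ℤ) ▸ exp_le_exp.mpr (by omega))
    · simpa using hf Q
  have := finiteDimensional_L hK (C - Finsupp.single P (1 : ℤ))
  have h2 := Submodule.finrank_mono hsub
  have h3 := riemann_roch' hK hC (Finsupp.single P (1 : ℤ))
  rw [deg_single, hP1] at h3
  have h4 : ell (Finsupp.single P (1 : ℤ)) ≤ 1 := by
    by_contra h
    have := genus_le_zero_of_two_le hK hP1 (not_le.mp h)
    omega
  simp only [ell] at h2 h3 h4 hg hgpos
  push_cast at h3
  omega

/-- Vanishing orders in a normalised canonical series are shifted gaps. -/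
theorem exists_mem_L_val_iff (hK : IsFunctionField k K) {C : Divisor k K} (hC : IsCanonical k K C)
    (P : Place k K) (h1 : (1 : K) ∈ L C) (hnorm : ∀ f ∈ L C, P.1 f ≤ 1) (j : ℕ) :
    (∃ f ∈ L C, P.1 f = exp (-(j : ℤ))) ↔
      L (Finsupp.single P ((j : ℤ) + 1)) = L (Finsupp.single P (j : ℤ)) := by
  have hg : (ell C : ℤ) = genus k K := by exact_mod_cast (ell_canonical hK hC).1
  have hdeg := (ell_canonical hK hC).2
  have hgpos : 0 < ell C := ell_pos_of_mem hK one_ne_zero h1
  have hP1 := deg_eq_one hK P
  have hCP : C P = 0 := canonical_coeff_zero hK hC P h1 hnorm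
  let D : ℕ → Divisor k K := fun i => C - Finsupp.single P (i : ℤ)
  have hstep : (∃ f ∈ L C, P.1 f = exp (-(j : ℤ))) ↔ L (D (j + 1)) ≠ L (D j) := by
    constructor
    · rintro ⟨f, hf, hv⟩ he
      have hmem : f ∈ L (D j) := fun Q => by
        simp only [D, Finsupp.sub_apply, Finsupp.single_apply]
        split_ifs with h
        · subst h; rw [hv, exp_le_exp]; omega
        · simpa using hf Q
      rw [← he] at hmem
      have := hmem P
      rw [hv, exp_le_exp] at this
      simp [D, hCP] at this
    · intro hne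
      obtain ⟨f, hf, hnf⟩ : ∃ f ∈ L (D j), f ∉ L (D (j + 1)) := by
        by_contra h
        push Not at h
        refine hne (le_antisymm (L_mono fun Q => ?_) h)
        simp only [D, Finsupp.sub_apply, Finsupp.single_apply]
        split_ifs <;> omega
      have hf0 : f ≠ 0 := fun h => hnf (h ▸ zero_mem _)
      refine ⟨f, fun Q => ?_, ?_⟩
      · refine (hf Q).trans (exp_le_exp.mpr ?_)
        simp only [D, Finsupp.sub_apply, Finsupp.single_apply]
        split_ifs <;> omega
      · have h2 := hf P
        simp only [D, Finsupp.sub_apply, Finsupp.single_eq_same, hCP, zero_sub] at h2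
        refine le_antisymm h2 (not_lt.mp fun hlt => hnf fun Q => ?_)
        simp only [D, Finsupp.sub_apply, Finsupp.single_apply]
        split_ifs with h
        · subst h
          rw [val_eq_exp_neg_ord P hf0, exp_lt_exp] at hlt
          rw [val_le_exp_iff P hf0, hCP]; omega
        · have := hf Q
          simp only [D, Finsupp.sub_apply, Finsupp.single_apply, if_neg h, sub_zero] at this
          simpa using this
  have hle1 : L (D (j + 1)) ≤ L (D j) := L_mono fun Q => by
    simp only [D, Finsupp.sub_apply, Finsupp.single_apply]; split_ifs <;> omega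
  have hle2 : L (Finsupp.single P (j : ℤ)) ≤ L (Finsupp.single P ((j : ℤ) + 1)) := L_mono fun Q => by
    simp only [Finsupp.single_apply]; split_ifs <;> omega
  have hrr : ∀ i : ℕ, (ell (Finsupp.single P (i : ℤ)) : ℤ) = i + 1 - genus k K + ell (D i) := fun i => by
    rw [riemann_roch' hK hC (Finsupp.single P (i : ℤ)), deg_single, hP1, Nat.cast_one, mul_one]
  have e1 := hrr j
  have e2 := hrr (j + 1)
  push_cast at e2
  have := finiteDimensional_L hK (D j)
  have := finiteDimensional_L hK (Finsupp.single P ((j : ℤ) + 1))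
  have hs := ell_single_step hK P ((j : ℤ) + 1)
  rw [add_sub_cancel_right] at hs
  rw [hstep]
  constructor
  · intro hne
    refine (Submodule.eq_of_le_of_finrank_le hle2 ?_).symm
    have := Submodule.finrank_lt_finrank_of_lt (lt_of_le_of_ne hle1 hne)
    simp only [ell] at hs e1 e2
    omega
  · intro he hne
    have := congrArg (fun V : Submodule k K => finrank k V) hne
    have := congrArg (fun V : Submodule k K => finrank k V) he
    simp only [ell] at *
    omega

theorem canonical_twist (hK : IsFunctionField k K) {C : Divisor k K} (hC : IsCanonical k K C) {ι : Type*}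
    {φ : ι → K} (hspan : span k (Set.range φ) = L C) {y : K} (hy : y ≠ 0) :
    IsCanonical k K (C - div k y) ∧ span k (Set.range (y • φ)) = L (C - div k y) := by
  have hC' : IsCanonical k K (C - div k y) := isCanonical_of_ell_deg hK
    (by rw [← (ell_canonical hK hC).1, sub_eq_add_neg, ← div_inv hK, ell_add_div hK C (inv_ne_zero hy)])
    (by rw [← (ell_canonical hK hC).2, deg_sub, deg_div_eq_zero hK, sub_zero])
  have hspan' : span k (Set.range (y • φ)) = L (C - div k y) := by
    have h1 : span k (Set.range (y • φ)) = (L C).map (LinearMap.mulLeft k y) := by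
      rw [← hspan, Submodule.map_span, ← Set.range_comp]; rfl
    rw [h1]
    ext f
    constructor
    · rintro ⟨g, hg, rfl⟩ Q
      have := hg Q
      rw [LinearMap.mulLeft_apply, map_mul, val_eq_exp_neg_ord Q hy, Finsupp.sub_apply, div_apply hK,
        sub_eq_add_neg, add_comm, exp_add]
      exact mul_le_mul' le_rfl this
    · intro hf
      refine ⟨y⁻¹ * f, fun Q => ?_, by simp [hy]⟩
      have := hf Q
      rw [Finsupp.sub_apply, div_apply hK] at this
      rw [map_mul, map_inv₀, val_eq_exp_neg_ord Q hy, ← exp_neg, neg_neg,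
        show C Q = Q.ord y + (C Q - Q.ord y) by ring, exp_add]
      exact mul_le_mul' le_rfl this
  exact ⟨hC', hspan'⟩

theorem canonical_orders_iff_gap (hK : IsFunctionField k K) {C : Divisor k K} (hC : IsCanonical k K C) {n : ℕ}
    {φ : Fin (n + 1) → K} (hspan : span k (Set.range φ) = L C) (P : Place k K) {y : K} (hy : y ≠ 0)
    (heff : (1 : K) ∈ span k (Set.range (y • φ))) (hnorm : ∀ i, P.1 (y * φ i) ≤ 1)
    {t : K} (ht : P.1 t = exp (-1 : ℤ)) {Ht : K →ₐ[k] PowerSeries K} (hHt : IsHasseFamily t Ht) {j : ℕ} (hj : 1 ≤ j) :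
    IsJump (IsLocalRing.ResidueField P.O) (hcolAt P Ht (y • φ)) (j + 1) ↔
      L (Finsupp.single P ((j : ℤ) + 1)) = L (Finsupp.single P (j : ℤ)) := by
  obtain ⟨hC', hspan'⟩ := canonical_twist hK hC hspan hy
  have hnorm' : ∀ i, P.1 ((y • φ) i) ≤ 1 := hnorm
  rw [isJump_hcolAt_iff hK P ht hHt hnorm' j, hspan']
  refine (and_iff_right hj).trans (exists_mem_L_val_iff hK hC' P (hspan' ▸ heff) (fun f hf => ?_) j)
  exact val_le_of_mem_span hK P hnorm' (hspan'.symm ▸ hf)

/-- At a nonsingular point the first order is one. -/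
theorem first_order_eq_one (hK : IsFunctionField k K) (P : Place k K) {n : ℕ} (hn : 0 < n) {φ : Fin (n + 1) → K}
    (hφ : LinearIndependent k φ) (heff : (1 : K) ∈ span k (Set.range φ)) (hnorm : ∀ i, P.1 (φ i) ≤ 1)
    (hns : IsNonsingularAt φ P) {t : K} (ht : P.1 t = exp (-1 : ℤ)) {Ht : K →ₐ[k] PowerSeries K}
    (hHt : IsHasseFamily t Ht) {J' : Fin n → ℕ} (hJ' : IsOrders (IsLocalRing.ResidueField P.O) (hcolAt P Ht φ) J') :
    J' ⟨0, hn⟩ = 1 := by
  obtain ⟨hpos, ⟨ψ, hψ0, hspan, -, hψ⟩, -⟩ := exists_adapted hK P ht hHt hnorm hφ heff hJ'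
  by_contra hne
  have h2 : ∀ l, 2 ≤ J' l := fun l => by
    have := hJ'.1.monotone (show (⟨0, hn⟩ : Fin n) ≤ l from Nat.zero_le _)
    have := hpos ⟨0, hn⟩
    omega
  let Q : K → Prop := fun z => ∃ c : k, P.1 (z - algebraMap k K c) ≤ exp (-2 : ℤ)
  have hQle : ∀ z, Q z → P.1 z ≤ 1 := fun z ⟨c, hc⟩ => by
    rw [← sub_add_cancel z (algebraMap k K c)]
    exact P.1.map_add_le (hc.trans (exp_zero (M := ℤ) ▸ exp_le_exp.mpr (by norm_num))) (P.2.1 c)
  have hQadd : ∀ z w, Q z → Q w → Q (z + w) := fun z w ⟨c, hc⟩ ⟨d, hd⟩ => ⟨c + d, by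
    rw [map_add, add_sub_add_comm]; exact P.1.map_add_le hc hd⟩
  have hQmul : ∀ z w, Q z → Q w → Q (z * w) := fun z w ⟨c, hc⟩ hw => by
    obtain ⟨d, hd⟩ := id hw
    refine ⟨c * d, ?_⟩
    rw [map_mul, show z * w - algebraMap k K c * algebraMap k K d =
      (z - algebraMap k K c) * w + algebraMap k K c * (w - algebraMap k K d) by ring]
    refine P.1.map_add_le ?_ ?_
    · rw [map_mul]; exact (mul_le_mul' hc (hQle w hw)).trans (mul_one _).le
    · rw [map_mul]; exact (mul_le_mul' (P.2.1 c) hd).trans (one_mul _).le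
  have hQc : ∀ c : k, Q (algebraMap k K c) := fun c => ⟨c, by rw [sub_self, map_zero]; exact zero_le⟩
  have hQspan : ∀ f ∈ span k (Set.range φ), Q f := fun f hf => by
    rw [← hspan] at hf
    induction hf using span_induction with
    | mem x hx =>
      obtain ⟨i, rfl⟩ := hx
      induction i using Fin.cases with
      | zero => rw [hψ0]; simpa using hQc 1
      | succ l => exact ⟨0, by rw [map_zero, sub_zero, (hψ l).1, exp_le_exp]; have := h2 l; omega⟩
    | zero => simpa using hQc 0
    | add x y _ _ hx hy => exact hQadd x y hx hy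
    | smul c x _ hx => rw [Algebra.smul_def]; exact hQmul _ _ (hQc c) hx
  have ht1 : P.1 t ≤ 1 := by rw [ht, ← exp_zero, exp_le_exp]; norm_num
  obtain ⟨j, hj0, hjmax, u, hu, w, hw, hw1, htw⟩ := hns t ht1
  have hvj : P.1 (φ j) = 1 := by
    refine le_antisymm (hnorm j) ?_
    have : ∀ f ∈ span k (Set.range φ), P.1 f ≤ P.1 (φ j) := fun f hf => by
      induction hf using span_induction with
      | mem x hx => obtain ⟨i, rfl⟩ := hx; exact hjmax i
      | zero => rw [map_zero]; exact zero_le
      | add x y _ _ hx hy => exact P.1.map_add_le hx hy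
      | smul c x _ hx =>
        rw [Algebra.smul_def, map_mul]
        exact le_trans (mul_le_of_le_one_left zero_le (P.2.1 c)) hx
    simpa using this 1 heff
  have hQinv : Q (φ j)⁻¹ := by
    obtain ⟨c, hc⟩ := hQspan (φ j) (subset_span ⟨j, rfl⟩)
    have hc0 : c ≠ 0 := fun h => by
      rw [h, map_zero, sub_zero, hvj, ← exp_zero, exp_le_exp] at hc
      norm_num at hc
    refine ⟨c⁻¹, ?_⟩
    rw [map_inv₀, show (φ j)⁻¹ - (algebraMap k K c)⁻¹ =
        -(φ j - algebraMap k K c) / (φ j * algebraMap k K c) by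
      field_simp [(map_ne_zero (algebraMap k K)).mpr hc0]; ring, map_div₀, Valuation.map_neg, map_mul, hvj,
      val_algebraMap P hc0, one_mul, div_one]
    exact hc
  have hQadj : ∀ z ∈ Algebra.adjoin k (Set.range fun i => φ i / φ j), Q z := fun z hz => by
    induction hz using Algebra.adjoin_induction with
    | mem x hx =>
      obtain ⟨i, rfl⟩ := hx
      simp only [div_eq_mul_inv]
      exact hQmul _ _ (hQspan _ (subset_span ⟨i, rfl⟩)) hQinv
    | algebraMap r => exact hQc r
    | add x y _ _ hx hy => exact hQadd x y hx hy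
    | mul x y _ _ hx hy => exact hQmul x y hx hy
  obtain ⟨c, hc⟩ := hQadj u hu
  have hvu : P.1 u = exp (-1 : ℤ) := by rw [← htw, map_mul, ht, hw1, mul_one]
  rcases eq_or_ne c 0 with rfl | hc0
  · rw [map_zero, sub_zero, hvu, exp_le_exp] at hc
    norm_num at hc
  · have : P.1 (algebraMap k K c) ≤ exp (-1 : ℤ) := by
      rw [show algebraMap k K c = u - (u - algebraMap k K c) by ring]
      exact (P.1.map_sub _ _).trans (max_le hvu.le (hc.trans (exp_le_exp.mpr (by norm_num))))
    rw [val_algebraMap P hc0, ← exp_zero, exp_le_exp] at this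
    norm_num at this

end Groth.Agent.FF
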