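import Groth.Agent.FF.Embedding
import Groth.Agent.FF.LinSys
import Groth.Agent.FF.RiemannRoch

/-! Embeddings by complete linear systems (algebraically closed constants). -/

open FunFld WithZero Module

namespace Groth.Agent.FF

variable {k K : Type*} [Field k] [IsAlgClosed k] [Field K] [Algebra k K]

theorem ell_sub_single_bounds (hK : IsFunctionField k K) (D : Divisor k K) (P : Place k K) :
    ell (D - Finsupp.single P 1) ≤ ell D ∧ ell D ≤ ell (D - Finsupp.single P 1) + 1 := by
  have h := ell_mono hK (D := D - Finsupp.single P 1) (E := D) (sub_le_self D (Finsupp.single_nonneg.mpr zero_le_one))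
  rw [deg_sub, deg_single, deg_eq_one hK] at h
  omega

theorem mem_L_sub_single {D : Divisor k K} {P : Place k K} {s : K} :
    s ∈ L (D - Finsupp.single P 1) ↔ s ∈ L D ∧ P.1 s ≤ exp (D P - 1) := by
  constructor
  · intro h
    refine ⟨L_mono (sub_le_self D (Finsupp.single_nonneg.mpr zero_le_one)) h, ?_⟩
    simpa using h P
  · rintro ⟨h1, h2⟩ Q
    by_cases hQ : Q = P
    · subst hQ; simpa using h2
    · simpa [Finsupp.single_eq_of_ne hQ] using h1 Q

theorem exists_not_mem_sub_single (hK : IsFunctionField k K) {E : Divisor k K} {P : Place k K}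
    (h : ell (E - Finsupp.single P 1) < ell E) :
    ∃ s ∈ L E, s ∉ L (E - Finsupp.single P 1) := by
  by_contra hc
  push Not at hc
  have := finiteDimensional_L hK (E - Finsupp.single P 1)
  have := Submodule.finrank_mono (s := L E) (t := L (E - Finsupp.single P 1)) hc
  unfold ell at h; omega

theorem isNonsingularAt_of_ell (hK : IsFunctionField k K) {ι : Type*} [Fintype ι] (φ : ι → K)
    (D : Divisor k K) (hspan : Submodule.span k (Set.range φ) = L D)
    (h : ∀ P Q : Place k K, ell (D - Finsupp.single P 1 - Finsupp.single Q 1) + 2 = ell D)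
    (P : Place k K) : IsNonsingularAt φ P := by
  have h1 : ∀ R, ell (D - Finsupp.single R 1) + 1 = ell D := fun R => by
    have := ell_sub_single_bounds hK D R
    have := ell_sub_single_bounds hK (D - Finsupp.single R 1) R
    have := h R R
    omega
  have hex : ∀ R, ∃ s ∈ L D, IsExact D R s := fun R => by
    have := h1 R
    obtain ⟨s, hs, hs'⟩ := exists_not_mem_sub_single hK (E := D) (P := R) (by omega)
    exact ⟨s, hs, exact_of_not_le hs fun hle => hs' (mem_L_sub_single.mpr ⟨hs, hle⟩)⟩
  refine isNonsingularAt_of_separates hK φ D ⟨hspan.le, fun R => hspan ▸ hex R⟩ P ?_ ?_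
  · intro Q hQP
    have := h P Q; have := h1 P
    obtain ⟨s, hs, hs'⟩ := exists_not_mem_sub_single hK (E := D - Finsupp.single P 1) (P := Q) (by omega)
    obtain ⟨hsD, hsP⟩ := mem_L_sub_single.mp hs
    refine ⟨s, hspan ▸ hsD, hsP.trans_lt (exp_lt_exp.mpr (by omega)), exact_of_not_le hsD fun hle =>
      hs' (mem_L_sub_single.mpr ⟨hs, ?_⟩)⟩
    simpa [Finsupp.single_eq_of_ne hQP] using hle
  · have := h P P; have := h1 P
    obtain ⟨s, hs, hs'⟩ := exists_not_mem_sub_single hK (E := D - Finsupp.single P 1) (P := P) (by omega)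
    obtain ⟨hsD, hsP⟩ := mem_L_sub_single.mp hs
    refine ⟨s, hspan ▸ hsD, le_antisymm hsP (not_lt.mp fun hlt => hs' (mem_L_sub_single.mpr ⟨hs, ?_⟩))⟩
    have h0 : s ≠ 0 := fun e => hs' (e ▸ Submodule.zero_mem _)
    rw [Finsupp.sub_apply, Finsupp.single_eq_same]
    rw [val_eq_exp_neg_ord P h0] at hlt ⊢
    rw [exp_lt_exp] at hlt
    rw [exp_le_exp]; omega

end Groth.Agent.FF

namespace Groth.Agent.FF

variable {k K : Type*} [Field k] [IsAlgClosed k] [Field K] [Algebra k K]

theorem ell_two_points_of_no_double_cover (hK : IsFunctionField k K)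
    (h2 : ∀ x : K, Transcendental k x →
      2 < Module.finrank (IntermediateField.adjoin k ({x} : Set K)) K) (P Q : Place k K) :
    ell (Finsupp.single P (1 : ℤ) + Finsupp.single Q 1 : Divisor k K) = 1 := by
  set E : Divisor k K := Finsupp.single P (1 : ℤ) + Finsupp.single Q 1 with hE
  have hE0 : 0 ≤ E := add_nonneg (Finsupp.single_nonneg.mpr zero_le_one) (Finsupp.single_nonneg.mpr zero_le_one)
  have h1 := ell_mono hK hE0
  rw [(finrank_L_zero hK).2] at h1
  by_contra hne
  have := finiteDimensional_L hK E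
  obtain ⟨x, hxE, hx0⟩ : ∃ x ∈ L E, x ∉ L (0 : Divisor k K) := by
    by_contra hc
    push Not at hc
    have := (finrank_L_zero hK).1
    have := Submodule.finrank_mono (s := L E) (t := L (0 : Divisor k K)) hc
    rw [← ell, ← ell, (finrank_L_zero hK).2] at this
    omega
  have hxt : Transcendental k x := transcendental_of_not_mem hK fun hm => hx0 (by
    rw [L_zero_eq hK]; obtain ⟨c, rfl⟩ := hm
    rw [Submodule.mem_span_singleton]; exact ⟨c, (Algebra.algebraMap_eq_smul_one c).symm⟩)
  have hle : poles x ≤ E := fun R => by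
    rw [poles_apply hK]
    have hR := hxE R
    have hEn := hE0 R
    rcases le_or_gt 0 (R.ord x) with h | h
    · simpa [h] using hEn
    · rw [val_eq_exp_neg_ord R (by rintro rfl; exact hx0 (Submodule.zero_mem _)), exp_le_exp] at hR
      omega
  have := deg_mono hle
  rw [deg_poles hK hxt, hE, deg_add, deg_single, deg_single, deg_eq_one hK, deg_eq_one hK] at this
  have := h2 x hxt
  push_cast at *
  omega

end Groth.Agent.FF
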