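import Groth.Agent.FF.LinSys
import Groth.Agent.FF.Embed2

/-! Linear equivalence of divisors, points of low genus and inclusion–exclusion for sub-systems. -/

namespace Groth.Agent.FF

open FunFld WithZero Module
open scoped Classical

variable {k K : Type*} [Field k] [Field K] [Algebra k K]

/-- Linear equivalence. -/
def LinEq (D E : Divisor k K) : Prop := ∃ x : K, x ≠ 0 ∧ E = D + div k x

theorem LinEq.deg_eq (hK : IsFunctionField k K) {D E : Divisor k K} (h : LinEq D E) : E.deg = D.deg := by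
  obtain ⟨x, -, rfl⟩ := h
  rw [deg_add, deg_div_eq_zero hK, add_zero]

theorem LinEq.ell_eq (hK : IsFunctionField k K) {D E : Divisor k K} (h : LinEq D E) : ell E = ell D := by
  obtain ⟨x, hx, rfl⟩ := h
  exact ell_add_div hK D hx

theorem LinEq.symm (hK : IsFunctionField k K) {D E : Divisor k K} (h : LinEq D E) : LinEq E D := by
  obtain ⟨x, hx, rfl⟩ := h
  exact ⟨x⁻¹, inv_ne_zero hx, by rw [div_inv hK, add_neg_cancel_right]⟩

theorem LinEq.trans (hK : IsFunctionField k K) {D E F : Divisor k K} (h : LinEq D E) (h' : LinEq E F) :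
    LinEq D F := by
  obtain ⟨x, hx, rfl⟩ := h
  obtain ⟨y, hy, rfl⟩ := h'
  exact ⟨x * y, mul_ne_zero hx hy, by rw [div_mul hK hx hy]; abel⟩

theorem LinEq.add_right {D E : Divisor k K} (h : LinEq D E) (F : Divisor k K) : LinEq (D + F) (E + F) := by
  obtain ⟨x, hx, rfl⟩ := h
  exact ⟨x, hx, by abel⟩

theorem LinEq.sub_right {D E : Divisor k K} (h : LinEq D E) (F : Divisor k K) : LinEq (D - F) (E - F) := by
  simpa [sub_eq_add_neg] using h.add_right (-F)

theorem linEq_of_eq_zero_sub {D E : Divisor k K} (h : LinEq (D - E) 0) : LinEq D E := by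
  simpa using h.add_right E

theorem linEq_zero_of_ell_pos (hK : IsFunctionField k K) {D : Divisor k K} (hd : D.deg = 0) (h : 0 < ell D) :
    LinEq D 0 := by
  obtain ⟨x, hx0, hx⟩ := exists_div_of_ell_pos_deg_zero hK hd h
  exact ⟨x, hx0, hx.symm⟩

theorem exists_effective (hK : IsFunctionField k K) {D : Divisor k K} (h : 0 < ell D) :
    ∃ F, 0 ≤ F ∧ LinEq D F := by
  obtain ⟨x, hx0, hx⟩ := exists_of_ell_pos h
  exact ⟨_, (mem_L_iff hK hx0).mp hx, x, hx0, rfl⟩

variable [IsAlgClosed k]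

theorem eq_single_of_effective_deg_one (hK : IsFunctionField k K) {F : Divisor k K} (h : 0 ≤ F) (hd : F.deg = 1) :
    ∃ R : Place k K, F = Finsupp.single R 1 := by
  obtain ⟨R, hR⟩ : ∃ R, F R ≠ 0 := by
    by_contra hc
    push Not at hc
    rw [show F = 0 from Finsupp.ext hc, deg_zero] at hd
    omega
  have hR1 : 1 ≤ F R := by
    have h1 : (0 : ℤ) ≤ F R := h R
    omega
  refine ⟨R, (eq_of_le_of_deg_le hK (D := Finsupp.single R 1) (E := F) (fun Q => ?_) ?_).symm⟩
  · rw [Finsupp.single_apply]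
    split_ifs with hQ
    · exact hQ ▸ hR1
    · exact h Q
  · rw [hd, deg_single, deg_eq_one hK]; simp

/-- In genus two `C + R` has `R` as a base point. -/
theorem le_of_linEq_canonical_add (hK : IsFunctionField k K) (hg : genus k K = 2) {C : Divisor k K}
    (hC : IsCanonical k K C) (R : Place k K) {F : Divisor k K} (hF : 0 ≤ F)
    (h : LinEq (C + Finsupp.single R 1) F) : 1 ≤ F R := by
  obtain ⟨x, hx, rfl⟩ := h
  have h1 := ell_eq_of_deg_large hK (D := C + Finsupp.single R 1) (by
    rw [deg_add, deg_single, deg_eq_one hK, (ell_canonical hK hC).2, hg]; norm_num)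
  rw [deg_add, deg_single, deg_eq_one hK, (ell_canonical hK hC).2, hg] at h1
  have hle : L C ≤ L (C + Finsupp.single R 1) := L_mono (le_add_of_nonneg_right (Finsupp.single_nonneg.mpr zero_le_one))
  have := finiteDimensional_L hK (C + Finsupp.single R 1)
  have h2 := (ell_canonical hK hC).1
  have heq : L C = L (C + Finsupp.single R 1) := Submodule.eq_of_le_of_finrank_le hle (by
    simp only [ell] at h1 h2
    omega)
  have h3 : x ∈ L C := heq.symm ▸ (mem_L_iff hK hx).mpr hF
  have h4 : (0 : ℤ) ≤ (C + div k x) R := ((mem_L_iff hK hx).mp h3) R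
  simp only [Finsupp.add_apply, Finsupp.single_eq_same] at h4 ⊢
  omega

theorem inf_L_le (V : Submodule k K) {D E : Divisor k K} (h : D ≤ E) : V ⊓ L D ≤ V ⊓ L E :=
  inf_le_inf_left V (L_mono h)

theorem finrank_inf_L_le_succ (hK : IsFunctionField k K) (V : Submodule k K) [FiniteDimensional k V]
    (E : Divisor k K) (Q : Place k K) :
    finrank k ↥(V ⊓ L E) ≤ finrank k ↥(V ⊓ L (E - Finsupp.single Q 1)) + 1 := by
  have hsub : E - Finsupp.single Q 1 ≤ E := sub_le_self E (Finsupp.single_nonneg.mpr zero_le_one)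
  obtain ⟨e, he, hrel⟩ := hasRelDim_L hK hsub
  obtain ⟨e', he', hrel'⟩ := hrel.inf_right V
  have : FiniteDimensional k ↥(L (E - Finsupp.single Q 1) ⊓ V) :=
    Submodule.finiteDimensional_of_le inf_le_right
  have h2 := (hrel'.finiteDimensional_iff this).2
  rw [inf_comm, inf_comm (L (E - Finsupp.single Q 1))] at h2
  have he1 : (e : ℤ) ≤ 1 := by
    rw [deg_sub, deg_single, deg_eq_one hK] at he; push_cast at he; omega
  omega

theorem finrank_inf_L_inf (V : Submodule k K) [FiniteDimensional k V] {X Y Z B : Divisor k K}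
    (hX : X ≤ Z) (hY : Y ≤ Z) (hB : ∀ R, B R = min (X R) (Y R)) :
    finrank k ↥(V ⊓ L X) + finrank k ↥(V ⊓ L Y) ≤ finrank k ↥(V ⊓ L Z) + finrank k ↥(V ⊓ L B) := by
  have : FiniteDimensional k ↥(V ⊓ L Z) := Submodule.finiteDimensional_of_le inf_le_left
  have : FiniteDimensional k ↥(V ⊓ L X) := Submodule.finiteDimensional_of_le inf_le_left
  have : FiniteDimensional k ↥(V ⊓ L Y) := Submodule.finiteDimensional_of_le inf_le_left
  have : FiniteDimensional k ↥(V ⊓ L B) := Submodule.finiteDimensional_of_le inf_le_left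
  rw [← Submodule.finrank_sup_add_finrank_inf_eq (V ⊓ L X) (V ⊓ L Y)]
  refine add_le_add (Submodule.finrank_mono (sup_le (inf_L_le V hX) (inf_L_le V hY))) (Submodule.finrank_mono ?_)
  rintro x ⟨⟨hx, h1⟩, -, h2⟩
  refine ⟨hx, fun R => ?_⟩
  rw [hB]
  rcases min_cases (X R) (Y R) with ⟨e, -⟩ | ⟨e, -⟩ <;> rw [e]
  · exact h1 R
  · exact h2 R

end Groth.Agent.FF
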