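import Groth.Agent.FF.SepPlaces
import Groth.Agent.FF.LinEquiv
import Groth.Agent.FF.Extension

/-!
# A separable place of degree at most `2g - 2`

The canonical series contains a separating function unless it comes from a subfield over which
`K` has degree `p`, and such a subfield of genus `g ≥ 2` has too few sections in degree `(2g-2)/p`.
-/

set_option autoImplicit false

open FunFld WithZero Module IntermediateField
open scoped Classical

universe u v

namespace Groth.Agent.FF

variable {k : Type u} {K : Type v} [Field k] [Field K] [Algebra k K]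

/-- An effective divisor with at least two sections does not leave all of `L(C)` inside `L(C - D)`. -/
theorem ell_sub_lt (hK : IsFunctionField k K) (hg : 0 < genus k K) {C D : Divisor k K} (hC : IsCanonical k K C)
    (hD : 0 ≤ D) (h2 : 2 ≤ ell D) : ell (C - D) < genus k K := by
  by_contra hc
  push Not at hc
  haveI := finiteDimensional_L hK C
  haveI := finiteDimensional_L hK D
  have hle : L (C - D) ≤ L C := L_mono (sub_le_self C hD)
  have heq : L (C - D) = L C := Submodule.eq_of_le_of_finrank_le hle (by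
    show ell C ≤ ell (C - D); rw [(ell_canonical hK hC).1]; exact hc)
  obtain ⟨y, hyD, hy⟩ : ∃ y ∈ L D, y ∉ Set.range (algebraMap k K) := by
    by_contra h
    push Not at h
    have hle' : L D ≤ Submodule.span k {(1 : K)} := fun x hx => by
      obtain ⟨c, rfl⟩ := h x hx
      exact Submodule.mem_span_singleton.mpr ⟨c, by rw [Algebra.smul_def, mul_one]⟩
    have : ell D ≤ 1 := (Submodule.finrank_mono hle').trans (finrank_span_singleton one_ne_zero).le
    omega
  have hmul : ∀ x ∈ L C, y * x ∈ L C := fun x hx P => by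
    have hx' : x ∈ L (C - D) := heq ▸ hx
    rw [map_mul]
    calc P.1 y * P.1 x ≤ exp (D P) * exp ((C - D) P) := mul_le_mul' (hyD P) (hx' P)
      _ = exp (C P) := by rw [← exp_add, Finsupp.sub_apply]; congr 1; ring
  let f : L C →ₗ[k] L C := (LinearMap.mulLeft k y).restrict hmul
  have hne : 0 < ell C := by rw [(ell_canonical hK hC).1]; exact hg
  obtain ⟨x, hx0, hx⟩ := exists_of_ell_pos hne
  have hiter : ∀ n : ℕ, ((f ^ n) ⟨x, hx⟩ : K) = y ^ n * x := fun n => by
    induction n with
    | zero => simp
    | succ n ih =>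
      rw [pow_succ' f n, Module.End.mul_apply]
      show y * ((f ^ n) ⟨x, hx⟩ : K) = _
      rw [ih, pow_succ', mul_assoc]
  have h0 : ∀ q : Polynomial k, ((Polynomial.aeval f q ⟨x, hx⟩ : L C) : K) = Polynomial.aeval y q * x := fun q => by
    induction q using Polynomial.induction_on' with
    | add a b ha hb => rw [map_add, LinearMap.add_apply, Submodule.coe_add, ha, hb, map_add, add_mul]
    | monomial n c =>
      rw [Polynomial.aeval_monomial, Polynomial.aeval_monomial, ← Algebra.smul_def, ← Algebra.smul_def,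
        LinearMap.smul_apply, Submodule.coe_smul, hiter, smul_mul_assoc]
  have h1 := h0 (minpoly k f)
  have h00 : Polynomial.aeval f (minpoly k f) = 0 := minpoly.aeval k f
  rw [h00, LinearMap.zero_apply, ZeroMemClass.coe_zero, eq_comm, mul_eq_zero] at h1
  exact hy (hK.2 y ⟨minpoly k f, minpoly.ne_zero (IsIntegral.of_finite k f), h1.resolve_right hx0⟩)

/-- In positive genus an effective divisor has at most `deg` sections. -/
theorem ell_le_deg (hK : IsFunctionField k K) (hg : 0 < genus k K) {D : Divisor k K} (hD : 0 ≤ D)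
    (h2 : 2 ≤ ell D) : (ell D : ℤ) ≤ D.deg := by
  obtain ⟨C, hC⟩ := exists_isCanonical hK
  have h := riemann_roch' hK hC D
  have := ell_sub_lt hK hg hC hD h2
  omega

/-- An effective canonical divisor. -/
theorem exists_effective_canonical_series (hK : IsFunctionField k K) (hg : 0 < genus k K) :
    ∃ E : Divisor k K, 0 ≤ E ∧ ell E = genus k K ∧ E.deg = 2 * genus k K - 2 := by
  obtain ⟨C, hC⟩ := exists_isCanonical hK
  obtain ⟨h1, h2⟩ := ell_canonical hK hC
  obtain ⟨E, hE, hlin⟩ := exists_effective hK (D := C) (by omega)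
  exact ⟨E, hE, (hlin.ell_eq hK).trans h1, (hlin.deg_eq hK).trans h2⟩

theorem one_mem_L {E : Divisor k K} (hE : 0 ≤ E) : (1 : K) ∈ L E := fun P => by
  rw [map_one, ← exp_zero, exp_le_exp]; exact hE P

theorem exists_mem_not_range (hK : IsFunctionField k K) {E : Divisor k K} (h2 : 2 ≤ ell E) :
    ∃ x ∈ L E, x ∉ Set.range (algebraMap k K) := by
  by_contra h
  push Not at h
  have hle' : L E ≤ Submodule.span k {(1 : K)} := fun x hx => by
    obtain ⟨c, rfl⟩ := h x hx
    exact Submodule.mem_span_singleton.mpr ⟨c, by rw [Algebra.smul_def, mul_one]⟩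
  have : ell E ≤ 1 := (Submodule.finrank_mono hle').trans (finrank_span_singleton one_ne_zero).le
  omega

theorem deg_poles_le_of_mem (hK : IsFunctionField k K) {E : Divisor k K} (hE : 0 ≤ E) {x : K} (hx : x ∈ L E) :
    (poles (k := k) x).deg ≤ E.deg := by
  refine deg_mono fun P => ?_
  rw [poles_apply hK]
  have h1 : 0 ≤ E P := hE P
  rcases eq_or_ne x 0 with rfl | h0
  · simp only [ord_zero, neg_zero, max_self]; exact h1
  · have h2 := (val_le_exp_iff P h0).mp (hx P)
    omega

section Sub

variable {K₀ : Type*} [Field K₀] [Algebra k K₀] [Algebra K₀ K] [IsScalarTower k K₀ K] [FiniteDimensional K₀ K]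

/-- Sections of `E` coming from a subfield are sections of a divisor of degree at most `deg E / [K:K₀]`. -/
theorem exists_sub_divisor (hK : IsFunctionField k K) (hK₀ : IsFunctionField k K₀) {g : ℕ} (hg : 2 ≤ g)
    {E : Divisor k K} (hE : 0 ≤ E) (hl : ell E = g) (hc : ∀ x ∈ L E, x ∈ Set.range (algebraMap K₀ K)) :
    ∃ D : Divisor k K₀, 0 ≤ D ∧ g ≤ ell D ∧ (finrank K₀ K : ℤ) * D.deg ≤ E.deg := by
  haveI := finiteDimensional_L hK E
  have hF₀ := isFF'_of_isFunctionField hK₀
  let b := Module.finBasisOfFinrankEq k (L E) hl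
  choose y hy using fun i => hc (b i : K) (b i).2
  let D : Divisor k K₀ := Finset.univ.sup' (Finset.univ_nonempty_iff.mpr (Fin.pos_iff_nonempty.mp (by omega : 0 < g))) fun i => poles (y i)
  have hD : 0 ≤ D := le_trans (poles_nonneg (y ⟨0, by omega⟩))
    (Finset.le_sup' (fun i => poles (k := k) (y i)) (Finset.mem_univ _))
  have hmem : ∀ i, y i ∈ L D := fun i P => (val_le_exp_poles hK₀ (y i) P).trans
    (exp_le_exp.mpr (Finset.le_sup' (fun i => poles (k := k) (y i)) (Finset.mem_univ i) P))
  haveI := finiteDimensional_L hK₀ D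
  let z : Fin g → L D := fun i => ⟨y i, hmem i⟩
  have hz : LinearIndependent k z := by
    apply LinearIndependent.of_comp ((IsScalarTower.toAlgHom k K₀ K).toLinearMap ∘ₗ (L D).subtype)
    have : ((IsScalarTower.toAlgHom k K₀ K).toLinearMap ∘ₗ (L D).subtype) ∘ z = fun i => ((L E).subtype (b i)) :=
      funext fun i => hy i
    rw [this]
    exact b.linearIndependent.map' (L E).subtype (Submodule.ker_subtype _)
  have hlD : g ≤ ell D := by simpa [ell] using hz.fintype_card_le_finrank
  have hle : conorm K D ≤ E := fun Q => by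
    obtain ⟨P, e, he, hQ⟩ := exists_isOverWith (K' := K) hF₀ Q
    rw [conorm_apply hF₀ D ⟨e, hQ⟩, ow_ramIdx_eq hQ]
    obtain ⟨i, hi⟩ : ∃ i, D P = poles (y i) P := by
      obtain ⟨i, -, hi⟩ := Finset.exists_mem_eq_sup' (Finset.univ_nonempty_iff.mpr (Fin.pos_iff_nonempty.mp (by omega : 0 < g)))
        (fun i => poles (k := k) (y i) P)
      refine ⟨i, le_antisymm ?_ (Finset.le_sup' (fun i => poles (k := k) (y i)) (Finset.mem_univ i) P)⟩
      rw [← hi]
      exact (Finset.apply_sup'_eq_sup'_comp (g := fun F : Divisor k K₀ => F P) _ (fun F G => rfl)).le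
    rw [hi, poles_apply hK₀]
    have hEQ : 0 ≤ E Q := hE Q
    rcases eq_or_ne (y i) 0 with h0 | h0
    · simp [h0, hEQ]
    · have h1 : Q.1 (algebraMap K₀ K (y i)) ≤ exp (E Q) := by rw [hy i]; exact (b i).2 Q
      have h2 := (val_le_exp_iff Q ((map_ne_zero (algebraMap K₀ K)).mpr h0)).mp h1
      rw [ow_ord_eq hQ] at h2
      rcases le_total 0 (-P.ord (y i)) with h3 | h3
      · rw [max_eq_left h3]; linarith
      · rw [max_eq_right h3, mul_zero]; exact hEQ
  refine ⟨D, hD, hlD, ?_⟩
  rw [← deg_conorm hF₀]
  exact deg_mono hle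

/-- The sections of a degree `≤ 2g-2` divisor cannot all come from a subfield of genus `g` and index `≥ 2`. -/
theorem exists_not_mem_range (hK : IsFunctionField k K) (hK₀ : IsFunctionField k K₀) {g : ℕ} (hg : 2 ≤ g)
    (hg₀ : genus k K₀ = g) (hp : 2 ≤ finrank K₀ K) {E : Divisor k K} (hE : 0 ≤ E) (hl : ell E = g)
    (hd : E.deg ≤ 2 * g - 2) : ∃ x ∈ L E, x ∉ Set.range (algebraMap K₀ K) := by
  by_contra hc
  push Not at hc
  obtain ⟨D, hD, hlD, h1⟩ := exists_sub_divisor hK hK₀ hg hE hl hc
  have h2 := ell_le_deg hK₀ (by omega) hD (by omega)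
  have h3 : 2 * D.deg ≤ (finrank K₀ K : ℤ) * D.deg := by
    have : (2 : ℤ) ≤ (finrank K₀ K : ℤ) := by exact_mod_cast hp
    exact mul_le_mul_of_nonneg_right this (deg_nonneg hD)
  omega

/-- The canonical sections do not all come from a subfield of index at least three. -/
theorem exists_not_mem_range_of_three_le (hK : IsFunctionField k K) (hK₀ : IsFunctionField k K₀) {g : ℕ}
    (hg : 2 ≤ g) (hp : 3 ≤ finrank K₀ K) {E : Divisor k K} (hE : 0 ≤ E) (hl : ell E = g)
    (hd : E.deg ≤ 2 * g - 2) : ∃ x ∈ L E, x ∉ Set.range (algebraMap K₀ K) := by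
  by_contra hc
  push Not at hc
  obtain ⟨D, hD, hlD, h1⟩ := exists_sub_divisor hK hK₀ hg hE hl hc
  have h2 := ell_le_deg_add_one hK₀ hD
  have h3 : 3 * D.deg ≤ (finrank K₀ K : ℤ) * D.deg := by
    have : (3 : ℤ) ≤ (finrank K₀ K : ℤ) := by exact_mod_cast hp
    exact mul_le_mul_of_nonneg_right this (deg_nonneg hD)
  omega

end Sub

/-- A separating element of degree at most `deg E` gives a place of degree at most `deg E` with separable residue field. -/
theorem exists_separable_place_of_separating (hK : IsFunctionField k K) {E : Divisor k K} (hE : 0 ≤ E) {t : K}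
    (ht : t ∈ L E) [Algebra.IsSeparable k⟮t⟯ K] :
    ∃ P : Place k K, Algebra.IsSeparable k (IsLocalRing.ResidueField P.O) ∧ (P.deg : ℤ) ≤ E.deg := by
  have htr : Transcendental k t := transcendental_of_separable_adjoin' hK
  have key : ∀ (P : Place k K) (a : k), P.1 (t - algebraMap k K a) < 1 → (P.deg : ℤ) ≤ E.deg := fun P a hP => by
    have hmem : t - algebraMap k K a ∈ L E := by
      refine Submodule.sub_mem _ ht ?_
      rw [Algebra.algebraMap_eq_smul_one]
      exact Submodule.smul_mem _ _ (one_mem_L hE)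
    have h0 : t - algebraMap k K a ≠ 0 := fun h => htr (by rw [sub_eq_zero.mp h]; exact isAlgebraic_algebraMap a)
    have h1 := congrArg FunFld.Divisor.deg (div_eq_poles_sub hK (t - algebraMap k K a))
    rw [deg_div_eq_zero hK, deg_sub] at h1
    have h2 : Finsupp.single P (1 : ℤ) ≤ poles (k := k) (t - algebraMap k K a)⁻¹ := fun Q => by
      rw [Finsupp.single_apply]
      split_ifs with h
      · subst h
        rw [poles_apply hK, ord_inv]
        have := (val_lt_one_iff P h0).mp hP
        omega
      · exact poles_nonneg _ Q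
    have h3 := deg_mono h2
    have h4 := deg_poles_le_of_mem hK hE hmem
    rw [deg_single] at h3
    omega
  rcases finite_or_infinite k with hfin | hinf
  · obtain ⟨P, hP⟩ := exists_val_lt_one hK htr
    haveI := finiteDimensional_residue hK P
    haveI : Algebra.IsAlgebraic k (IsLocalRing.ResidueField P.O) :=
      @Algebra.IsAlgebraic.of_finite k _ _ _ _ _ (finiteDimensional_residue hK P)
    exact ⟨P, Algebra.IsAlgebraic.isSeparable_of_perfectField, key P 0 (by rw [map_zero, sub_zero]; exact hP)⟩
  · obtain ⟨P, ⟨a, ha⟩, hsep⟩ := (SepPlaces.infinite_separable_over hK htr).nonempty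
    exact ⟨P, hsep, key P a ha⟩

end Groth.Agent.FF
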