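import Groth.Agent.FF.InvolutionOrbits
import Groth.Agent.FF.Extension
import Groth.Agent.FF.FixedPts
import Groth.Agent.FF.RiemannRoch
import Groth.Agent.FF.HyperGenus

/-! The Castelnuovo bound for two double covers. -/

open FunFld WithZero Module
open scoped Classical IntermediateField

namespace Groth.Agent.FF

variable {k K K₁ K₂ : Type*} [Field k] [Field K] [Field K₁] [Field K₂] [Algebra k K] [Algebra k K₁] [Algebra k K₂]
  [Algebra K₁ K] [Algebra K₂ K] [IsScalarTower k K₁ K] [IsScalarTower k K₂ K]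
  [FiniteDimensional K₁ K] [FiniteDimensional K₂ K] [IsAlgClosed k]

/-- A function outside a quadratic subfield bounds the genus. -/
theorem genus_le_of_double (hK : IsFunctionField k K) (hK₂ : IsFunctionField k K₂) (h : finrank K₂ K = 2)
    {t : K} (ht : Transcendental k t) (hnr : t ∉ Set.range (algebraMap K₂ K)) :
    (genus k K : ℤ) ≤ finrank k⟮t⟯ K + 2 * genus k K₂ - 1 := by
  obtain ⟨x, hx⟩ := exists_transcendental hK₂
  obtain ⟨P₀, -⟩ := exists_val_lt_one hK₂ hx
  set m : ℕ := 2 * genus k K₂ + 2 * genus k K + 1 with hm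
  set E : Divisor k K₂ := Finsupp.single P₀ (m : ℤ) with hE
  set D : Divisor k K := conorm K E + poles (k := k) t with hD
  have hFF := isFF'_of_isFunctionField hK₂
  have hEd : E.deg = m := by rw [hE, deg_single, deg_eq_one hK₂]; simp
  have hDd : D.deg = 2 * m + finrank k⟮t⟯ K := by
    rw [hD, deg_add, deg_conorm hFF, h, hEd, deg_poles hK ht]; push_cast; ring
  have hellE : (ell E : ℤ) = m + 1 - genus k K₂ := by
    rw [ell_eq_of_deg_large hK₂ (by rw [hEd]; omega), hEd]
  have hellD : (ell D : ℤ) = 2 * m + finrank k⟮t⟯ K + 1 - genus k K := by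
    rw [ell_eq_of_deg_large hK (by rw [hDd]; omega), hDd]
  have hmem : ∀ a ∈ L E, algebraMap K₂ K a ∈ L D ∧ algebraMap K₂ K a * t ∈ L D := by
    intro a ha
    have hc : ∀ Q : Place k K, Q.1 (algebraMap K₂ K a) ≤ exp (conorm K E Q) := fun Q => by
      obtain ⟨P, e, he, hQ⟩ := exists_isOverWith hFF Q
      rw [conorm_apply hFF E ⟨e, hQ⟩, ow_ramIdx_eq hQ, hQ a]
      calc P.1 a ^ e ≤ exp (E P) ^ e := pow_le_pow_left₀ zero_le' (ha P) e
        _ = exp ((e : ℤ) * E P) := by rw [← exp_nsmul, nsmul_eq_mul]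
    refine ⟨fun Q => (hc Q).trans (exp_le_exp.2 ?_), fun Q => ?_⟩
    · rw [hD, Finsupp.add_apply]
      exact le_add_of_nonneg_right (poles_nonneg t Q)
    · rw [map_mul, hD, Finsupp.add_apply, exp_add]
      refine mul_le_mul' (hc Q) ?_
      have ht0 : t ≠ 0 := fun e => ht (e ▸ isAlgebraic_zero)
      rw [val_le_exp_iff Q ht0, poles_apply hK]
      omega
  let Φ : L E × L E →ₗ[k] L D :=
    { toFun := fun p => ⟨algebraMap K₂ K p.1.1 + algebraMap K₂ K p.2.1 * t,
        add_mem (hmem _ p.1.2).1 (hmem _ p.2.2).2⟩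
      map_add' := fun p q => Subtype.ext (by simp; ring)
      map_smul' := fun c p => Subtype.ext (by
        simp only [Prod.smul_fst, Prod.smul_snd, SetLike.val_smul, RingHom.id_apply, Algebra.smul_def, map_mul,
          ← IsScalarTower.algebraMap_apply]
        ring) }
  have hΦ : Function.Injective Φ := by
    rw [injective_iff_map_eq_zero]
    intro p hp
    have h1 : algebraMap K₂ K p.1.1 + algebraMap K₂ K p.2.1 * t = 0 := congrArg Subtype.val hp
    have hb : (p.2.1 : K₂) = 0 := by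
      by_contra hb
      refine hnr ⟨-p.1.1 / p.2.1, ?_⟩
      rw [map_div₀, map_neg, div_eq_iff ((_root_.map_ne_zero _).mpr hb)]
      linear_combination -h1
    rw [hb, map_zero, zero_mul, add_zero, _root_.map_eq_zero] at h1
    exact Prod.ext (Subtype.ext h1) (Subtype.ext hb)
  haveI : Module.Finite k (L D) := Module.finite_of_finrank_pos (show 0 < ell D by omega)
  haveI : Module.Finite k (L E) := Module.finite_of_finrank_pos (show 0 < ell E by omega)
  have hle := LinearMap.finrank_le_finrank_of_injective hΦ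
  rw [Module.finrank_prod] at hle
  change ell E + ell E ≤ ell D at hle
  omega

omit [IsAlgClosed k] [Algebra k K₂] [IsScalarTower k K₂ K] in
theorem mem_range_of_fixed (h2 : (2 : k) ≠ 0) (h : finrank K₂ K = 2) (σ : K ≃ₐ[k] K)
    (hσ : ∀ a, σ (algebraMap K₂ K a) = algebraMap K₂ K a) (hσσ : ∀ z, σ (σ z) = z) (hσ1 : σ ≠ AlgEquiv.refl)
    {z : K} (hz : σ z = z) : z ∈ Set.range (algebraMap K₂ K) := by
  by_contra hnr
  refine hσ1 (AlgEquiv.ext fun w => ?_)
  obtain ⟨c, d, hcd⟩ := exists_decomp (K := K₂) (z := z) h (fun ⟨a, ha⟩ => hnr ⟨a, ha⟩) w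
  rw [hcd, map_add, map_mul, hσ, hσ, hz]
  rfl

omit [IsAlgClosed k] in
theorem finite_fixed [IsAlgClosed k] (hK : IsFunctionField k K) {σ : K ≃ₐ[k] K} (hσ : σ ≠ AlgEquiv.refl) :
    {P : Place k K | pullPlace σ P = P}.Finite := by
  by_contra hinf
  obtain ⟨S, hS, hSc⟩ := Set.Infinite.exists_subset_card_eq hinf (2 * genus k K + 3)
  exact hσ (eq_refl_of_many_fixed hK σ S (fun Q hQ => hS hQ) (by omega))

omit [Algebra k K₂] [IsScalarTower k K₂ K] [IsAlgClosed k] in
theorem exists_double_involution (h2 : (2 : k) ≠ 0) (h : finrank K₁ K = 2) :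
    ∃ σ : K ≃ₐ[k] K, (∀ a, σ (algebraMap K₁ K a) = algebraMap K₁ K a) ∧ (∀ z, σ (σ z) = z) ∧ σ ≠ AlgEquiv.refl := by
  let φ := IsScalarTower.toAlgHom k K₁ K
  let e : K₁ ≃+* φ.fieldRange := RingEquiv.ofBijective φ.rangeRestrict.toRingHom
    ⟨fun a b hab => (algebraMap K₁ K).injective (congrArg Subtype.val hab), fun ⟨_, a, ha⟩ => ⟨a, Subtype.ext ha⟩⟩
  have hF : finrank φ.fieldRange K = 2 :=
    (Algebra.finrank_eq_of_equiv_equiv e (RingEquiv.refl K) (RingHom.ext fun a => rfl)).symm.trans h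
  obtain ⟨σ, hσ, hσσ, hσ1⟩ := exists_involution h2 φ.fieldRange hF
  exact ⟨σ, fun a => hσ _ ⟨a, rfl⟩, hσσ, hσ1⟩

theorem infinite_places (hK : IsFunctionField k K) : Infinite (Place k K) := by
  obtain ⟨x, hx⟩ := exists_transcendental hK
  choose P hP using fun c : k => exists_val_lt_one hK (z := x - algebraMap k K c)
    (fun h => hx (by simpa using h.add (isAlgebraic_algebraMap c)))
  refine Infinite.of_injective P fun c d h => ?_
  by_contra hcd
  have h1 := hP c
  rw [h] at h1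
  have h3 := (P d).1.map_sub (x - algebraMap k K c) (x - algebraMap k K d)
  rw [show x - algebraMap k K c - (x - algebraMap k K d) = algebraMap k K (d - c) by rw [map_sub]; ring,
    val_algebraMap _ (sub_ne_zero.mpr (Ne.symm hcd))] at h3
  exact absurd (h3.trans_lt (max_lt h1 (hP d))) (lt_irrefl _)

/-- Two different quadratic subfields bound the genus. -/
theorem castelnuovo_double (h2 : (2 : k) ≠ 0) (hK : IsFunctionField k K) (hK₁ : IsFunctionField k K₁)
    (hK₂ : IsFunctionField k K₂) (h₁ : finrank K₁ K = 2) (h₂ : finrank K₂ K = 2)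
    (hne : Set.range (algebraMap K₁ K) ≠ Set.range (algebraMap K₂ K)) :
    (genus k K : ℤ) ≤ 2 * genus k K₁ + 2 * genus k K₂ + 1 := by
  obtain ⟨σ₁, hσ₁, hσσ₁, hσ₁1⟩ := exists_double_involution (K₁ := K₁) h2 h₁
  obtain ⟨σ₂, hσ₂, hσσ₂, hσ₂1⟩ := exists_double_involution (K₁ := K₂) h2 h₂
  have hσ12 : σ₁ ≠ σ₂ := fun e => hne (Set.ext fun z =>
    ⟨fun ⟨a, ha⟩ => mem_range_of_fixed h2 h₂ σ₂ hσ₂ hσσ₂ hσ₂1 (by rw [← e, ← ha, hσ₁]),
     fun ⟨a, ha⟩ => mem_range_of_fixed h2 h₁ σ₁ hσ₁ hσσ₁ hσ₁1 (by rw [e, ← ha, hσ₂])⟩)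
  -- a place with three images
  obtain ⟨P, hP2, hP12⟩ : ∃ P : Place k K, pullPlace σ₂ P ≠ P ∧ pullPlace σ₂ P ≠ pullPlace σ₁ P := by
    haveI := infinite_places hK
    have hne' : σ₂.trans σ₁ ≠ AlgEquiv.refl := fun e => hσ12 (AlgEquiv.ext fun z => by
      have h3 : σ₁ (σ₂ z) = z := AlgEquiv.congr_fun e z
      conv_lhs => rw [← h3]
      rw [hσσ₁])
    obtain ⟨P, hP⟩ := ((finite_fixed hK hσ₂1).union (finite_fixed hK hne')).exists_notMem
    refine ⟨P, fun e => hP (Or.inl e), fun e => hP (Or.inr ?_)⟩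
    show pullPlace (σ₂.trans σ₁) P = P
    rw [← pullPlace_comp σ₁ σ₂, ← e]
    exact Subtype.ext (Valuation.ext fun z => by rw [pullPlace_apply, pullPlace_apply, hσσ₂])
  have hFF := isFF'_of_isFunctionField hK₁
  obtain ⟨y, e, he, hPy⟩ := exists_isOverWith hFF P
  obtain ⟨C, hC⟩ := exists_isCanonical hK₁
  set E : Divisor k K₁ := Finsupp.single y ((genus k K₁ : ℤ) + 1) with hE
  have hEd : E.deg = (genus k K₁ : ℤ) + 1 := by rw [hE, deg_single, deg_eq_one hK₁]; simp
  have hRR := riemann_roch' hK₁ hC E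
  obtain ⟨w, hwE, hwc⟩ : ∃ w ∈ L E, w ∉ Set.range (algebraMap k K₁) := by
    by_contra hc
    push Not at hc
    have hle : L E ≤ Submodule.span k {(1 : K₁)} := fun x hx => by
      obtain ⟨c, rfl⟩ := hc x hx
      exact Submodule.mem_span_singleton.mpr ⟨c, by rw [Algebra.smul_def, mul_one]⟩
    have hl : ell E ≤ 1 := (Submodule.finrank_mono hle).trans (finrank_span_singleton one_ne_zero).le
    omega
  have hwtr : Transcendental k w := transcendental_of_not_mem hK₁ hwc
  have hw0 : w ≠ 0 := fun e => hwtr (e ▸ isAlgebraic_zero)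
  have hwp : poles (k := k) w ≤ E := fun R => by
    have h := hwE R
    rw [val_le_exp_iff R hw0] at h
    rw [poles_apply hK₁]
    have : 0 ≤ E R := by rw [hE, Finsupp.single_apply]; split_ifs <;> omega
    omega
  have hpole_eq : ∀ R : Place k K₁, 1 < R.1 w → R = y := fun R hR => by
    by_contra hRy
    have h := hwE R
    rw [hE, Finsupp.single_eq_of_ne hRy, exp_zero] at h
    exact absurd hR (not_lt.2 h)
  obtain ⟨R₀, hR₀⟩ := HyperGenus.exists_place_pole hK₁ hwtr
  have hyw : 1 < y.1 w := hpole_eq R₀ hR₀ ▸ hR₀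
  set t := algebraMap K₁ K w with ht
  have htr : Transcendental k t := fun h => hwtr ((isAlgebraic_algebraMap_iff (algebraMap K₁ K).injective).mp h)
  have hdeg : (finrank k⟮t⟯ K : ℤ) ≤ 2 * ((genus k K₁ : ℤ) + 1) := by
    have h1 := deg_mono hwp
    rw [deg_poles hK₁ hwtr, hEd] at h1
    rw [ht, finrank_adjoin_map (k := k) (K' := K) w, h₁]
    push_cast; omega
  have hnr : t ∉ Set.range (algebraMap K₂ K) := by
    rintro ⟨a, ha⟩
    have hfix : σ₂ t = t := by rw [← ha, hσ₂]
    have hPt : 1 < P.1 t := by rw [ht, hPy w]; exact one_lt_pow₀ hyw (by omega)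
    set R := pullPlace σ₂ P with hR
    have hRt : 1 < R.1 t := by rw [hR, pullPlace_apply, hfix]; exact hPt
    obtain ⟨y', e', he', hRy'⟩ := exists_isOverWith hFF R
    have hy' : 1 < y'.1 w := by
      by_contra hle
      exact absurd hRt (not_lt.2 (by rw [ht, hRy' w]; exact pow_le_one₀ zero_le' (not_lt.1 hle)))
    have hRy : IsOver R y := hpole_eq y' hy' ▸ ⟨e', hRy'⟩
    have hS : IsOver (pullPlace σ₁ P) y := ⟨e, fun x => by rw [pullPlace_apply, hσ₁]; exact hPy x⟩
    set Qs := (finite_over (K' := K) hFF y).toFinset with hQs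
    have hsum := sum_ramIdx_mul_deg hFF y Qs (by simp [hQs])
    rw [h₁, deg_eq_one hK₁, mul_one] at hsum
    simp only [deg_eq_one hK, mul_one] at hsum
    have hmem : ∀ Q : Place k K, IsOver Q y → Q ∈ Qs := fun Q hQ => by simp [hQs, hQ]
    have hram : ∀ Q : Place k K, IsOver Q y → 0 < ramIdx Q y := fun Q hQ => ramIdx_pos hQ
    by_cases hfixP : pullPlace σ₁ P = P
    · have heven : 2 ≤ ramIdx P y := by
        rw [ow_ramIdx_eq hPy]
        obtain ⟨s, hs0, hs⟩ := exists_uniformizer y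
        have hs' : algebraMap K₁ K s ≠ 0 := (_root_.map_ne_zero _).mpr hs0
        obtain ⟨r, hr⟩ := even_ord_of_fixed hK h2 σ₁ hσσ₁ hσ₁1 hfixP (hσ₁ s) hs'
        have h3 := ow_ord_eq hPy s
        rw [ord_eq_of_val y (n := 1) hs] at h3
        omega
      have h5 : ramIdx P y + ramIdx R y ≤ ∑ Q ∈ Qs, ramIdx Q y := by
        rw [← Finset.sum_pair (f := fun Q => ramIdx Q y) (Ne.symm hP2)]
        exact Finset.sum_le_sum_of_subset (Finset.insert_subset (hmem P ⟨e, hPy⟩) (Finset.singleton_subset_iff.2 (hmem R hRy)))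
      have := hram R hRy
      omega
    · have h5 : ramIdx P y + (ramIdx R y + ramIdx (pullPlace σ₁ P) y) ≤ ∑ Q ∈ Qs, ramIdx Q y := by
        rw [← Finset.sum_pair (f := fun Q => ramIdx Q y) hP12, ← Finset.sum_insert (f := fun Q => ramIdx Q y)
          (by simp [Finset.mem_insert, Ne.symm hP2, Ne.symm hfixP] : P ∉ ({R, pullPlace σ₁ P} : Finset _))]
        exact Finset.sum_le_sum_of_subset (Finset.insert_subset (hmem P ⟨e, hPy⟩)
          (Finset.insert_subset (hmem R hRy) (Finset.singleton_subset_iff.2 (hmem _ hS))))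
      have h6 := hram P ⟨e, hPy⟩
      have h7 := hram R hRy
      have h8 := hram _ hS
      omega
  have := genus_le_of_double hK hK₂ h₂ htr hnr
  omega

end Groth.Agent.FF
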