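import Groth.Agent.FF.LinSys
import Groth.Agent.FF.Rational

/-! Limit linear series on chains of rational components. -/

namespace Groth.Agent.FF

open WithZero FunFld Module
open scoped Classical

variable {k : Type*} [Field k] [IsAlgClosed k]

section Single

variable {K : Type*} [Field K] [Algebra k K] {V : Submodule k K} {D : Divisor k K} {d r : ℕ}

theorem sum_range_succ_reflect (r : ℕ) : ∑ n ∈ Finset.range r, (r - n) = r * (r + 1) / 2 := by
  rw [← sum_fin_val, Fin.sum_univ_eq_sum_range (fun j => j), ← Finset.sum_range_reflect (fun j => j),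
    Finset.sum_range_succ]
  simp

theorem cusp_wsum_ge (h : IsSeries k V D d r) {Q : Place k K} (hc : r ≤ fdim V D Q 2) :
    r + r * (r + 1) / 2 ≤ wsum V D d Q := by
  rcases Nat.eq_zero_or_pos r with rfl | hr
  · simp
  have hge : ∀ n : ℕ, r ≤ fdim V D Q ((n : ℤ) + 2) + n := fun n => by
    induction n with
    | zero => simpa using hc
    | succ n ih => have := fdim_step h Q ((n : ℤ) + 2); push_cast at this ⊢; rw [add_right_comm]; omega
  have hd : r < d := by
    by_contra hle
    have := hge (r - 1)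
    rw [fdim_eq_zero h Q (by omega)] at this
    omega
  obtain ⟨d', rfl⟩ : ∃ d', d = d' + 1 := ⟨d - 1, by omega⟩
  rw [wsum, Finset.sum_range_succ', add_comm r, ← sum_range_succ_reflect]
  refine add_le_add ((Finset.sum_le_sum fun n _ => ?_).trans
    (Finset.sum_le_sum_of_subset (Finset.range_mono (by omega)))) ?_
  · have := hge n
    push_cast; rw [add_assoc]; norm_num; omega
  · exact hc.trans (fdim_anti h Q (by simp))

theorem posGenus_ell_le {hK : IsFunctionField k K} (hg : 0 < genus k K) {E : Divisor k K}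
    (h : 0 < E.deg) : (ell E : ℤ) ≤ E.deg := by
  obtain ⟨P⟩ := nonempty_place hK
  rcases Nat.eq_zero_or_pos (ell E) with h0 | h0
  · omega
  obtain ⟨z, hz0, hz⟩ := exists_of_ell_pos h0
  -- make the divisor effective and compare with `ℓ(P) = 1`
  rw [← ell_add_div hK E hz0]
  have hdeg : Divisor.deg (E + div k z) = E.deg := by rw [deg_add, deg_div_eq_zero hK, add_zero]
  rw [← hdeg] at h ⊢
  have hEnn := (mem_L_iff hK hz0).mp hz
  obtain ⟨Q, hQ⟩ : ∃ Q, 0 < (E + div k z) Q := by
    by_contra hc; push Not at hc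
    have := deg_mono (E := (0 : Divisor k K)) hc
    rw [deg_zero] at this; omega
  have hle : Finsupp.single Q (1 : ℤ) ≤ E + div k z := fun R => by
    rcases eq_or_ne R Q with rfl | hR
    · simp at hQ ⊢; omega
    · simpa [Finsupp.single_eq_of_ne hR] using hEnn R
  have h1 := (ell_mono hK hle).2
  rw [deg_single, deg_eq_one hK] at h1
  have h2 : ell (Finsupp.single Q (1 : ℤ)) ≤ 1 := by
    by_contra hc
    have := genus_le_zero_of_two_le' hK (deg_eq_one hK Q) (by omega)
    omega
  omega
where
  genus_le_zero_of_two_le' (hK : IsFunctionField k K) {P : Place k K} (hP : P.deg = 1)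
      (h : 2 ≤ ell (Finsupp.single P (1 : ℤ))) : (genus k K : ℤ) ≤ 0 :=
    Groth.Agent.FF.genus_le_zero_of_two_le hK hP h

theorem posGenus_wsum_le (h : IsSeries k V D d r) (hg : 0 < genus k K) (P : Place k K) :
    wsum V D d P + r + r * (r + 1) / 2 ≤ (r + 1) * d := by
  have hle : ∀ n : ℕ, n < d → fdim V D P (n : ℤ) ≤ d - n := fun n hn => by
    have := finiteDimensional_L h.hK (D - Finsupp.single P (n : ℤ))
    refine (Submodule.finrank_mono inf_le_right).trans ?_
    have hd : Divisor.deg (D - Finsupp.single P (n : ℤ)) = (d : ℤ) - n := by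
      rw [deg_sub, deg_single, deg_eq_one h.hK, h.deg]; ring
    have := posGenus_ell_le (hK := h.hK) hg (E := D - Finsupp.single P (n : ℤ)) (by rw [hd]; omega)
    rw [hd] at this
    simp only [ell] at this; omega
  rcases Nat.eq_zero_or_pos r with rfl | hr
  · simp only [zero_mul, Nat.zero_div, add_zero, zero_add, one_mul]
    refine (Finset.sum_le_card_nsmul _ _ 1 fun n _ => ?_).trans (by simp)
    simpa using fdim_le h P ((n : ℤ) + 1)
  have hrd : r < d := by
    by_contra hc
    have := hle 0
    rw [Nat.cast_zero, fdim_zero h] at this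
    have := r_le_d h
    omega
  obtain ⟨d', rfl⟩ : ∃ d', d = d' + 1 := ⟨d - 1, by omega⟩
  -- split off the last summand, whose value is at most one
  rw [wsum, Finset.sum_range_succ]
  have hlast : fdim V D P ((d' : ℤ) + 1) ≤ 1 := by
    have h1 := fdim_step h P ((d' : ℤ) + 1)
    rw [fdim_eq_zero h P (n := (d' : ℤ) + 1 + 1) (by push_cast; omega)] at h1; exact h1
  have hsum : ∑ n ∈ Finset.range d', fdim V D P ((n : ℤ) + 1) ≤ ∑ n ∈ Finset.range d', min (r + 1) (d' - n) := by
    refine Finset.sum_le_sum fun n hn => le_min (fdim_le h P _) ?_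
    rw [Finset.mem_range] at hn
    have := hle (n + 1) (by omega)
    push_cast at this; omega
  have hmin : (∑ n ∈ Finset.range d', min (r + 1) (d' - n)) + r * (r + 1) / 2 ≤ (r + 1) * d' := by
    have h1 : ∀ n, min (r + 1) (d' - n) + (r + 1 - (d' - n)) = r + 1 := fun n => by omega
    have h2 : ∑ n ∈ Finset.range d', (min (r + 1) (d' - n) + (r + 1 - (d' - n))) = (r + 1) * d' := by
      simp [h1, mul_comm]
    rw [Finset.sum_add_distrib] at h2
    have h3 : r * (r + 1) / 2 ≤ ∑ n ∈ Finset.range d', (r + 1 - (d' - n)) := by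
      rw [← Finset.sum_range_reflect (fun n => r + 1 - (d' - n)), ← sum_range_succ_reflect]
      refine (Finset.sum_le_sum fun n hn => ?_).trans
        (Finset.sum_le_sum_of_subset (Finset.range_mono (by omega)))
      rw [Finset.mem_range] at hn; omega
    omega
  have e : (r + 1) * (d' + 1) = (r + 1) * d' + (r + 1) := by ring
  rw [e]
  omega

end Single

section Chain

variable {N : ℕ} {Z : Fin (N + 1) → Type*} [∀ i, Field (Z i)] [∀ i, Algebra k (Z i)]
  {d r : ℕ} {D : ∀ i, Divisor k (Z i)} {V : ∀ i, Submodule k (Z i)} {A B : ∀ i, Place k (Z i)}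

/-- The hypotheses on a chain of rational components with cusps at `Q i`, `i ∈ T`. -/
structure IsChain (k : Type*) {N : ℕ} {Z : Fin (N + 1) → Type*} [Field k] [∀ i, Field (Z i)]
    [∀ i, Algebra k (Z i)] (V : ∀ i, Submodule k (Z i)) (D : ∀ i, Divisor k (Z i)) (d r : ℕ)
    (A B : ∀ i, Place k (Z i)) (T : Finset (Fin (N + 1))) (Q : ∀ i, Place k (Z i)) : Prop where
  series : ∀ i, IsSeries k (V i) (D i) d r
  rat : ∀ i, genus k (Z i) = 0
  hAB : ∀ i : Fin (N + 1), 0 < (i : ℕ) → (i : ℕ) < N → A i ≠ B i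
  comp : ∀ (l : Fin N) (m : ℕ), m ≤ d + 1 →
    fdim (V l.castSucc) (D l.castSucc) (B l.castSucc) m +
      fdim (V l.succ) (D l.succ) (A l.succ) ((d : ℤ) + 1 - m) = r + 1
  hQA : ∀ i ∈ T, 0 < (i : ℕ) → Q i ≠ A i
  hQB : ∀ i ∈ T, (i : ℕ) < N → Q i ≠ B i
  cusp : ∀ i ∈ T, r ≤ fdim (V i) (D i) (Q i) 2

variable [CharZero k] {T : Finset (Fin (N + 1))} {Q : ∀ i, Place k (Z i)}

theorem IsChain.plucker4 (h : IsChain k V D d r A B T Q) (i : Fin (N + 1)) (Q' : Place k (Z i))
    (use' : Bool) (hQ'A : use' → 0 < (i : ℕ) → Q' ≠ A i) (hQ'B : use' → (i : ℕ) < N → Q' ≠ B i)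
    (hQ'Q : use' → i ∈ T → Q' ≠ Q i) :
    (if 0 < (i : ℕ) then wsum (V i) (D i) d (A i) - r * (r + 1) / 2 else 0) +
      (if (i : ℕ) < N then wsum (V i) (D i) d (B i) - r * (r + 1) / 2 else 0) +
      (if i ∈ T then wsum (V i) (D i) d (Q i) - r * (r + 1) / 2 else 0) +
      (if use' then wsum (V i) (D i) d Q' - r * (r + 1) / 2 else 0) + r * (r + 1) ≤ (r + 1) * d := by
  let sA : Finset (Place k (Z i)) := if 0 < (i : ℕ) then {A i} else ∅
  let sB : Finset (Place k (Z i)) := if (i : ℕ) < N then {B i} else ∅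
  let sQ : Finset (Place k (Z i)) := if i ∈ T then {Q i} else ∅
  let sQ' : Finset (Place k (Z i)) := if use' then {Q'} else ∅
  have key := plucker (h.series i).hK (h.rat i) (h.series i) (sA ∪ sB ∪ sQ ∪ sQ')
  have mA : ∀ x, x ∈ sA ↔ 0 < (i : ℕ) ∧ x = A i := fun x => by simp only [sA]; split_ifs with c <;> simp [c]
  have mB : ∀ x, x ∈ sB ↔ (i : ℕ) < N ∧ x = B i := fun x => by simp only [sB]; split_ifs with c <;> simp [c]
  have mQ : ∀ x, x ∈ sQ ↔ i ∈ T ∧ x = Q i := fun x => by simp only [sQ]; split_ifs with c <;> simp [c]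
  have mQ' : ∀ x, x ∈ sQ' ↔ use' ∧ x = Q' := fun x => by simp only [sQ']; split_ifs with c <;> simp [c]
  rw [Finset.sum_union, Finset.sum_union, Finset.sum_union] at key
  · have e : ∀ (c : Prop) [Decidable c] (x : Place k (Z i)) (f : Place k (Z i) → ℕ),
        ∑ P ∈ (if c then ({x} : Finset (Place k (Z i))) else ∅), f P = if c then f x else 0 :=
      fun c _ x f => by split_ifs <;> simp
    simp only [sA, sB, sQ, sQ', e] at key
    exact key
  · refine Finset.disjoint_left.mpr fun x h1 h2 => ?_
    obtain ⟨c1, rfl⟩ := (mA x).mp h1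
    exact h.hAB i c1 ((mB _).mp h2).1 ((mB _).mp h2).2
  · refine Finset.disjoint_left.mpr fun x h1 h2 => ?_
    obtain ⟨c2, rfl⟩ := (mQ x).mp h2
    rcases Finset.mem_union.mp h1 with h1 | h1
    · exact h.hQA i c2 ((mA _).mp h1).1 ((mA _).mp h1).2
    · exact h.hQB i c2 ((mB _).mp h1).1 ((mB _).mp h1).2
  · refine Finset.disjoint_left.mpr fun x h1 h2 => ?_
    obtain ⟨c2, rfl⟩ := (mQ' x).mp h2
    rcases Finset.mem_union.mp h1 with h1 | h1
    · rcases Finset.mem_union.mp h1 with h1 | h1
      · exact hQ'A c2 ((mA _).mp h1).1 ((mA _).mp h1).2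
      · exact hQ'B c2 ((mB _).mp h1).1 ((mB _).mp h1).2
    · exact hQ'Q c2 ((mQ _).mp h1).1 ((mQ _).mp h1).2

theorem IsChain.plucker3 (h : IsChain k V D d r A B T Q) (i : Fin (N + 1)) :
    (if 0 < (i : ℕ) then wsum (V i) (D i) d (A i) - r * (r + 1) / 2 else 0) +
      (if (i : ℕ) < N then wsum (V i) (D i) d (B i) - r * (r + 1) / 2 else 0) +
      (if i ∈ T then r else 0) + r * (r + 1) ≤ (r + 1) * d := by
  have := h.plucker4 i (A i) false (by simp) (by simp) (by simp)
  simp only [Bool.false_eq_true, if_false, add_zero] at this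
  by_cases hi : i ∈ T
  · have := cusp_wsum_ge (h.series i) (h.cusp i hi)
    simp only [hi, if_true] at *; omega
  · simp only [hi, if_false] at *; omega

theorem IsChain.node (h : IsChain k V D d r A B T Q) (l : Fin N) :
    wsum (V l.castSucc) (D l.castSucc) d (B l.castSucc) + wsum (V l.succ) (D l.succ) d (A l.succ) =
      (r + 1) * d :=
  wsum_compat (h.comp l)

omit [CharZero k] in
theorem card_filter_succ (T : Finset (Fin (N + 1))) (p q : Fin (N + 1) → Prop) [DecidablePred p]
    [DecidablePred q] (i : Fin (N + 1))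
    (hpq : ∀ j, q j ↔ p j ∨ j = i) (hpi : ¬ p i) :
    (T.filter q).card = (T.filter p).card + if i ∈ T then 1 else 0 := by
  split_ifs with hi
  · rw [show T.filter q = insert i (T.filter p) by
      ext j; simp only [Finset.mem_filter, Finset.mem_insert, hpq]; grind,
      Finset.card_insert_of_notMem (by simp [hpi])]
  · rw [show T.filter q = T.filter p by
      ext j; simp only [Finset.mem_filter, hpq]; grind, add_zero]

theorem IsChain.left_ge (h : IsChain k V D d r A B T Q) (i : Fin (N + 1)) :
    r * (T.filter fun j : Fin (N + 1) => (j : ℕ) < (i : ℕ)).card ≤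
      if 0 < (i : ℕ) then wsum (V i) (D i) d (A i) - r * (r + 1) / 2 else 0 := by
  induction i using Fin.induction with
  | zero => simp
  | succ l ih =>
    have hp := h.plucker3 l.castSucc
    have hn := h.node l
    have := wsum_ge (h.series l.succ) (A l.succ)
    have := wsum_ge (h.series l.castSucc) (B l.castSucc)
    have h2 := half_mul_two r
    rw [card_filter_succ T (fun j : Fin (N + 1) => (j : ℕ) < (l.castSucc : ℕ)) _ l.castSucc
      (fun j => by simp [Fin.ext_iff]; omega) (lt_irrefl _)]
    simp only [Fin.val_succ, Fin.val_castSucc, l.2, if_true, Nat.succ_pos] at *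
    rw [Nat.mul_add]
    rcases Decidable.em (l.castSucc ∈ T) with hT | hT <;> simp only [hT, if_true, if_false, mul_one, mul_zero] at * <;> omega

theorem IsChain.right_ge (h : IsChain k V D d r A B T Q) (i : Fin (N + 1)) :
    r * (T.filter fun j : Fin (N + 1) => (i : ℕ) < (j : ℕ)).card ≤
      if (i : ℕ) < N then wsum (V i) (D i) d (B i) - r * (r + 1) / 2 else 0 := by
  induction i using Fin.reverseInduction with
  | last =>
    rw [Finset.filter_false_of_mem (fun j _ => by simp; omega)]
    simp
  | cast l ih =>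
    have hp := h.plucker3 l.succ
    have hn := h.node l
    have := wsum_ge (h.series l.succ) (A l.succ)
    have := wsum_ge (h.series l.castSucc) (B l.castSucc)
    have h2 := half_mul_two r
    rw [card_filter_succ T (fun j : Fin (N + 1) => (l.succ : ℕ) < (j : ℕ)) _ l.succ
      (fun j => by simp [Fin.ext_iff]; omega) (lt_irrefl _)]
    simp only [Fin.val_succ, Fin.val_castSucc, l.2, if_true, Nat.succ_pos] at *
    rw [Nat.mul_add]
    rcases Decidable.em (l.succ ∈ T) with hT | hT <;> simp only [hT, if_true, if_false, mul_one, mul_zero] at * <;> omega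

omit [CharZero k] in
theorem card_split (T : Finset (Fin (N + 1))) (i : Fin (N + 1)) :
    T.card = (T.filter fun j : Fin (N + 1) => (j : ℕ) < (i : ℕ)).card + (T.filter fun j : Fin (N + 1) => (i : ℕ) < (j : ℕ)).card +
      if i ∈ T then 1 else 0 := by
  rw [← T.card_filter_add_card_filter_not (fun j : Fin (N + 1) => (j : ℕ) < (i : ℕ)), add_assoc]
  congr 1
  exact card_filter_succ T _ _ i (fun j => by simp [Fin.ext_iff]; omega) (lt_irrefl _)

/-- The bound off the special points of a component. -/
theorem IsChain.off_le (h : IsChain k V D d r A B T Q) (i : Fin (N + 1)) (Q' : Place k (Z i))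
    (hQ'A : 0 < (i : ℕ) → Q' ≠ A i) (hQ'B : (i : ℕ) < N → Q' ≠ B i) (hQ'Q : i ∈ T → Q' ≠ Q i) :
    wsum (V i) (D i) d Q' + r * T.card + r * (r + 1) ≤ (r + 1) * d + r * (r + 1) / 2 := by
  have hp := h.plucker4 i Q' true (fun _ => hQ'A) (fun _ => hQ'B) (fun _ => hQ'Q)
  simp only [if_true] at hp
  have := h.left_ge i
  have := h.right_ge i
  have := wsum_ge (h.series i) Q'
  rw [show r * T.card = r * (T.filter fun j : Fin (N + 1) => (j : ℕ) < (i : ℕ)).card +
      r * (T.filter fun j : Fin (N + 1) => (i : ℕ) < (j : ℕ)).card + r * (if i ∈ T then 1 else 0) by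
    rw [card_split T i]; ring]
  by_cases hT : i ∈ T
  · have := cusp_wsum_ge (h.series i) (h.cusp i hT)
    simp only [hT, if_true, mul_one] at *; omega
  · simp only [hT, if_false, mul_zero] at *; omega

theorem IsChain.cusp_le (h : IsChain k V D d r A B T Q) (i : Fin (N + 1)) (hi : i ∈ T) :
    wsum (V i) (D i) d (Q i) + r * (T.erase i).card + r * (r + 1) / 2 ≤ (r + 1) * d := by
  have hp := h.plucker4 i (A i) false (by simp) (by simp) (by simp)
  simp only [hi, if_true, Bool.false_eq_true, if_false, add_zero] at hp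
  have := h.left_ge i
  have := h.right_ge i
  have := wsum_ge (h.series i) (Q i)
  have := half_mul_two r
  have hc := card_split T i
  rw [if_pos hi, ← Finset.card_erase_add_one hi] at hc
  have : (T.erase i).card = (T.filter fun j : Fin (N + 1) => (j : ℕ) < (i : ℕ)).card +
      (T.filter fun j : Fin (N + 1) => (i : ℕ) < (j : ℕ)).card := by omega
  rw [this, Nat.mul_add]; omega

theorem IsChain.nodes_ge (h : IsChain k V D d r A B T Q) (i : Fin (N + 1)) (h0 : 0 < (i : ℕ))
    (hN : (i : ℕ) < N) : r * (T.erase i).card + r * (r + 1) ≤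
      wsum (V i) (D i) d (A i) + wsum (V i) (D i) d (B i) := by
  have h1 := h.left_ge i
  have h2 := h.right_ge i
  rw [if_pos h0] at h1
  rw [if_pos hN] at h2
  have := wsum_ge (h.series i) (A i)
  have := wsum_ge (h.series i) (B i)
  have := half_mul_two r
  have hc := card_split T i
  have : (T.erase i).card = (T.filter fun j : Fin (N + 1) => (j : ℕ) < (i : ℕ)).card +
      (T.filter fun j : Fin (N + 1) => (i : ℕ) < (j : ℕ)).card := by
    rw [Finset.card_erase_eq_ite]; split_ifs at hc ⊢ <;> omega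
  rw [this, Nat.mul_add]; omega

theorem IsChain.card_le (h : IsChain k V D d r A B T Q) : r * T.card + r * (r + 1) ≤ (r + 1) * d := by
  have hp := h.plucker3 0
  have h2 := h.right_ge 0
  rw [card_split T 0]
  have : (T.filter fun j : Fin (N + 1) => (j : ℕ) < ((0 : Fin (N + 1)) : ℕ)).card = 0 := by simp
  rw [this, zero_add, Nat.mul_add]
  rcases Decidable.em ((0 : Fin (N + 1)) ∈ T) with hT | hT <;>
    simp only [hT, if_true, if_false, mul_one, mul_zero, Fin.val_zero, lt_irrefl, add_zero, zero_add] at * <;> omega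

end Chain

end Groth.Agent.FF
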