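import Groth.Agent.FF.FrobLift
import Mathlib.FieldTheory.Galois.Basic

/-! Constant field extensions over finite fields. -/

open FunFld WithZero Module
open scoped Pointwise Classical IntermediateField

namespace Groth.Agent.FF

variable {k K k' K' : Type*} [Field k] [Finite k] [Field K] [Algebra k K] [Field k'] [Finite k'] [Field K']
  [Algebra k k'] [Algebra K K'] [Algebra k' K'] [Algebra k K'] [IsScalarTower k K K'] [IsScalarTower k k' K']

omit [Finite k] [Finite k'] in
theorem adjoin_gen_eq_top (hgen : Algebra.adjoin K (Set.range (algebraMap k' K')) = ⊤) (a : k')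
    (ha : Algebra.adjoin k {a} = ⊤) : Algebra.adjoin K {algebraMap k' K' a} = ⊤ := by
  refine top_le_iff.mp (hgen ▸ Algebra.adjoin_le ?_)
  rintro _ ⟨c, rfl⟩
  have h : c ∈ Algebra.adjoin k {a} := ha ▸ Algebra.mem_top
  have h2 : algebraMap k' K' c ∈ (Algebra.adjoin k {a}).map (IsScalarTower.toAlgHom k k' K') := ⟨c, h, rfl⟩
  rw [AlgHom.map_adjoin, Set.image_singleton] at h2
  have hle : Algebra.adjoin k {algebraMap k' K' a} ≤ (Algebra.adjoin K {algebraMap k' K' a}).restrictScalars k :=
    Algebra.adjoin_le Algebra.subset_adjoin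
  exact hle h2

omit [Finite k] [Finite k'] in
theorem exists_algebra_gen [Finite k] [Finite k'] : ∃ a : k', Algebra.adjoin k {a} = ⊤ := by
  have : FiniteDimensional k k' := Module.Finite.of_finite
  obtain ⟨a, ha⟩ := Field.exists_primitive_element k k'
  refine ⟨a, ?_⟩
  rw [← IntermediateField.adjoin_simple_toSubalgebra_of_isAlgebraic (IsIntegral.of_finite k a).isAlgebraic, ha]
  rfl

theorem isGalois_constExt (k : Type*) {K k' K' : Type*} [Field k] [Finite k] [Field K] [Algebra k K] [Field k']
    [Finite k'] [Field K'] [Algebra k k'] [Algebra K K'] [Algebra k' K'] [Algebra k K'] [IsScalarTower k K K']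
    [IsScalarTower k k' K'] [FiniteDimensional K K'] (hgen : Algebra.adjoin K (Set.range (algebraMap k' K')) = ⊤) :
    IsGalois K K' := by
  have : FiniteDimensional k k' := Module.Finite.of_finite
  obtain ⟨a, ha⟩ := exists_algebra_gen (k := k) (k' := k')
  have hint : IsIntegral k a := IsIntegral.of_finite k a
  set f := (minpoly k a).map (algebraMap k K)
  have hmap : f.map (algebraMap K K') = ((minpoly k a).map (algebraMap k k')).map (algebraMap k' K') := by
    rw [Polynomial.map_map, Polynomial.map_map, ← IsScalarTower.algebraMap_eq, ← IsScalarTower.algebraMap_eq]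
  have hsplit : (f.map (algebraMap K K')).Splits := by
    rw [hmap]
    exact (Normal.splits (inferInstance : Normal k k') a).map _
  have : Polynomial.IsSplittingField K K' f := by
    refine ⟨hsplit, top_le_iff.mp ((adjoin_gen_eq_top hgen a ha) ▸ Algebra.adjoin_mono ?_)⟩
    rintro _ rfl
    rw [Polynomial.mem_rootSet]
    refine ⟨((minpoly.monic hint).map _).ne_zero, ?_⟩
    rw [Polynomial.aeval_map_algebraMap, Polynomial.aeval_algebraMap_apply, minpoly.aeval, map_zero]
  exact IsGalois.of_separable_splitting_field (p := f) (Polynomial.Separable.map (Algebra.IsSeparable.isSeparable k a))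

omit [Finite k] [Finite k'] [Algebra K K'] [Algebra k' K'] [Algebra k k'] [IsScalarTower k K K'] [IsScalarTower k k' K'] [Algebra k K] in
theorem eq_of_val_sub_lt {Q : Place k K'} {x y : K'} (hx : IsIntegral k x) (hy : IsIntegral k y)
    (h : Q.1 (x - y) < 1) : x = y := by
  by_contra hne
  have h0 := sub_ne_zero.mpr hne
  have := (val_lt_one_iff Q h0).mp h
  exact transcendental_of_ord_ne_zero' (by omega : Q.ord (x - y) ≠ 0) (hx.sub hy).isAlgebraic

omit [Finite k] [Finite k'] [Algebra K K'] [Algebra k' K'] [Algebra k k'] [IsScalarTower k K K'] [IsScalarTower k k' K'] [Algebra k K] in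
theorem val_pow_sub_pow_lt {Q : Place k K'} {a b : K'} (ha : Q.1 a ≤ 1) (hb : Q.1 b ≤ 1) (h : Q.1 (a - b) < 1)
    (N : ℕ) : Q.1 (a ^ N - b ^ N) < 1 := by
  induction N with
  | zero => simp
  | succ N ih =>
    rw [show a ^ (N + 1) - b ^ (N + 1) = a ^ N * (a - b) + (a ^ N - b ^ N) * b by ring]
    refine Valuation.map_add_lt _ ?_ ?_
    · rw [map_mul, map_pow]; exact (mul_le_of_le_one_left' (pow_le_one' ha N)).trans_lt h
    · rw [map_mul]; exact (mul_le_of_le_one_right' hb).trans_lt ih

omit [Finite k] [Finite k'] [Algebra k' K'] [Algebra k k'] [IsScalarTower k k' K'] in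
theorem frobAt_pow [FiniteDimensional K K'] {N : ℕ} {σ : K' ≃ₐ[K] K'} {Q : Place k K'} (h : FrobAt N σ Q) (j : ℕ) :
    FrobAt (N ^ j) (σ ^ j : K' ≃ₐ[K] K') Q := by
  induction j with
  | zero => intro z hz; simp
  | succ j ih =>
    intro z hz
    have hσz : Q.1 (σ z) ≤ 1 := by
      rw [← sub_sub_cancel (z ^ N) (σ z)]
      exact (Q.1.map_sub _ _).trans (max_le (by rw [map_pow]; exact pow_le_one' hz N) (h z hz).le)
    rw [pow_succ σ, AlgEquiv.mul_apply, pow_succ', pow_mul,
      ← sub_add_sub_cancel ((z ^ N) ^ N ^ j) ((σ z) ^ N ^ j)]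
    exact Valuation.map_add_lt _ (val_pow_sub_pow_lt (by rw [map_pow]; exact pow_le_one' hz N) hσz (h z hz) _) (ih _ hσz)

omit [Finite k'] [Algebra K K'] [Algebra k K] [IsScalarTower k K K'] in
theorem val_const_le_one [Finite k'] (Q : Place k K') (c : k') : Q.1 (algebraMap k' K' c) ≤ 1 := by
  have : FiniteDimensional k k' := Module.Finite.of_finite
  rcases eq_or_ne (algebraMap k' K' c) 0 with h | h
  · rw [h, map_zero]; exact zero_le
  · have hint : IsIntegral k (algebraMap k' K' c) := (IsIntegral.of_finite k c).algebraMap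
    have h0 : Q.ord (algebraMap k' K' c) = 0 := by
      by_contra hne; exact transcendental_of_ord_ne_zero' hne hint.isAlgebraic
    exact (val_le_one_iff Q h).mpr h0.ge

/-- Places over `k` and over the bigger constant field agree. -/
def changeConsts : Place k K' ≃ Place k' K' where
  toFun Q := ⟨Q.1, fun c => val_const_le_one Q c, Q.2.2⟩
  invFun Q := ⟨Q.1, fun c => by rw [IsScalarTower.algebraMap_apply k k' K']; exact Q.2.1 _, Q.2.2⟩
  left_inv _ := rfl
  right_inv _ := rfl

omit [Algebra K K'] [Algebra k K] [IsScalarTower k K K'] in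
theorem deg_changeConsts (Q : Place k K') : Q.deg = finrank k k' * (changeConsts (k' := k') Q).deg := by
  let a : Algebra k' (IsLocalRing.ResidueField Q.O) := Place.algRes (changeConsts (k' := k') Q)
  exact @finrank_restrict k k' (IsLocalRing.ResidueField Q.O) _ _ _ _ (Place.algRes Q) a
    fun c => congrArg (IsLocalRing.residue Q.O) (Subtype.ext (IsScalarTower.algebraMap_apply k k' K' c))

variable [FiniteDimensional K K']

/-- In a constant extension nothing ramifies and residue degrees are given by least common multiples. -/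
theorem ramIdx_and_deg (hK : IsFunctionField k K) (hgen : Algebra.adjoin K (Set.range (algebraMap k' K')) = ⊤)
    {P : Place k K} {Q : Place k K'} {e : ℕ} (h : IsOverWith Q P e) :
    e = 1 ∧ Q.deg = Nat.lcm P.deg (finrank k k') := by
  have hFF := isFF'_of_isFunctionField hK
  have := isGalois_constExt k hgen
  have : FiniteDimensional k k' := Module.Finite.of_finite
  obtain ⟨a, ha⟩ := exists_algebra_gen (k := k) (k' := k')
  set b := algebraMap k' K' a with hb
  have hbint : IsIntegral k b := (IsIntegral.of_finite k a).algebraMap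
  have hb1 : Q.1 b ≤ 1 := val_const_le_one Q a
  have hext : ∀ σ : K' ≃ₐ[K] K', σ b = b → σ = 1 := fun σ hσ => by
    have : (σ : K' →ₐ[K] K') = AlgHom.id K K' :=
      AlgHom.ext_of_adjoin_eq_top (adjoin_gen_eq_top hgen a ha) (by rintro _ rfl; exact hσ)
    exact AlgEquiv.ext fun x => AlgHom.congr_fun this x
  have hσint : ∀ σ : K' ≃ₐ[K] K', IsIntegral k (σ b) := fun σ => hbint.map (σ.restrictScalars k)
  let FQ := IsLocalRing.ResidueField Q.O
  let aQ : Algebra k FQ := Place.algRes Q
  have hfdQ : @Module.Finite k FQ _ _ (@Algebra.toModule k FQ _ _ aQ) := finiteDimensional_residue' (isFF'_ext hFF) Q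
  have : Algebra.IsAlgebraic k FQ := Algebra.IsAlgebraic.of_finite k FQ
  have hsep : Algebra.IsSeparable k FQ := Algebra.IsAlgebraic.isSeparable_of_perfectField
  have he : e = 1 := by
    rw [← @card_inertia k K K' _ _ _ _ _ _ _ _ _ hFF P Q e h hsep, card_inertia_eq_card_set, Nat.card_eq_one_iff_unique]
    refine ⟨⟨fun x y => Subtype.ext ?_⟩, ⟨⟨1, fun z _ => by simp⟩⟩⟩
    rw [hext x.1 (eq_of_val_sub_lt (hσint _) hbint (x.2 b hb1)), hext y.1 (eq_of_val_sub_lt (hσint _) hbint (y.2 b hb1))]
  refine ⟨he, ?_⟩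
  set d := P.deg with hd
  set m := finrank k k'
  set L := Nat.lcm d m
  have hdQ : d ∣ Q.deg := by
    obtain ⟨f, u, hf, -⟩ := exists_residual_basis (isFF'_ext hFF) hFF (Q := Q) (P := P) ⟨e, h⟩
    exact Dvd.intro_left f hf
  have hmQ : m ∣ Q.deg := ⟨_, deg_changeConsts Q⟩
  refine le_antisymm ?_ (Nat.le_of_dvd (deg_pos' (isFF'_ext hFF) Q) (Nat.lcm_dvd hdQ hmQ))
  have hne : Nonempty {σ : K' ≃ₐ[K] K' // FrobAt (Nat.card k ^ d) σ Q} := by
    have := card_frobAt hFF h
    rw [he] at this
    exact (Nat.card_pos_iff.mp (by rw [this]; exact one_pos)).1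
  obtain ⟨σ, hσ⟩ := hne
  obtain ⟨j, hj⟩ : d ∣ L := Nat.dvd_lcm_left d m
  have hσj : FrobAt (Nat.card k ^ L) (σ ^ j : K' ≃ₐ[K] K') Q := by
    have := frobAt_pow hσ j
    rwa [← pow_mul, ← hj] at this
  have hpowb : b ^ (Nat.card k ^ L) = b := by
    obtain ⟨i, hi⟩ : m ∣ L := Nat.dvd_lcm_right d m
    have := Fintype.ofFinite k'
    rw [hb, ← map_pow, hi, pow_mul, ← Module.natCard_eq_pow_finrank, Nat.card_eq_fintype_card, FiniteField.pow_card_pow]
  have h1 : (σ ^ j : K' ≃ₐ[K] K') = 1 := hext _ (by
    have := eq_of_val_sub_lt (hbint.pow _) (hσint _) (hσj b hb1)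
    rw [← this, hpowb])
  rw [h1] at hσj
  have : Finite FQ := @Module.finite_of_finite k _ _ _ (@Algebra.toModule k FQ _ _ aQ) _ hfdQ
  have hcardQ : Nat.card FQ = Nat.card k ^ Q.deg :=
    @Module.natCard_eq_pow_finrank k FQ _ _ (@Algebra.toModule k FQ _ _ aQ) hfdQ
  have := Fintype.ofFinite FQ
  have hpow : ∀ r : FQ, r ^ (Nat.card k ^ L) = r := fun r => by
    obtain ⟨z, rfl⟩ := IsLocalRing.residue_surjective r
    rw [← map_pow, ← sub_eq_zero, ← map_sub, residue_eq_zero_iff]
    exact hσj z.1 ((mem_O Q).mp z.2)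
  have hL : L ≠ 0 := Nat.lcm_ne_zero (deg_pos hK P).ne' Module.finrank_pos.ne'
  have hq : 1 < Nat.card k ^ L := Nat.one_lt_pow hL card_base
  have hne' : (Polynomial.X ^ (Nat.card k ^ L) - Polynomial.X : Polynomial FQ) ≠ 0 :=
    FiniteField.X_pow_card_sub_X_ne_zero _ hq
  have hle := Polynomial.card_le_degree_of_subset_roots
    (p := (Polynomial.X ^ (Nat.card k ^ L) - Polynomial.X : Polynomial FQ)) (Z := Finset.univ) (fun r _ => by
      rw [Polynomial.mem_roots hne', Polynomial.IsRoot.def, Polynomial.eval_sub, Polynomial.eval_pow, Polynomial.eval_X,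
        hpow r, sub_self])
  rw [FiniteField.X_pow_card_sub_X_natDegree_eq _ hq, Finset.card_univ, ← Nat.card_eq_fintype_card,
    hcardQ] at hle
  exact (Nat.pow_le_pow_iff_right card_base).mp hle

/-- Point counts in a constant extension. -/
theorem NN_constExt (hK : IsFunctionField k K) (hgen : Algebra.adjoin K (Set.range (algebraMap k' K')) = ⊤)
    (hrk : finrank K K' = finrank k k') {r : ℕ} (hr : r ≠ 0) :
    NN k' K' r = NN k K (r * finrank k k') := by
  have hFF := isFF'_of_isFunctionField hK
  have : FiniteDimensional k k' := Module.Finite.of_finite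
  set m := finrank k k'
  have hm : 0 < m := Module.finrank_pos
  set T := (finite_places_deg_le hK (r * m)).toFinset.filter fun P => P.deg ∣ r * m
  let G := fun P : Place k K => ((finite_over (K' := K') hFF P).toFinset).map (changeConsts (k' := k')).toEmbedding
  have hmem : ∀ Q' : Place k' K', Q'.deg ∣ r ↔ Q' ∈ T.biUnion G := by
    intro Q'
    obtain ⟨Q, rfl⟩ := (changeConsts (k := k) (k' := k')).surjective Q'
    obtain ⟨P, e, -, he⟩ := exists_isOverWith hFF Q
    obtain ⟨-, hdeg⟩ := ramIdx_and_deg hK hgen he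
    rw [deg_changeConsts (k' := k') Q] at hdeg
    simp only [T, G, Finset.mem_biUnion, Finset.mem_filter, Set.Finite.mem_toFinset, Set.mem_ofPred_eq, Finset.mem_map_equiv,
      Equiv.symm_apply_apply]
    constructor
    · intro hdvd
      have h2 : P.deg ∣ r * m := (Nat.dvd_lcm_left P.deg m).trans (by rw [← hdeg, mul_comm r]; exact mul_dvd_mul_left m hdvd)
      exact ⟨P, ⟨Nat.le_of_dvd (Nat.mul_pos (Nat.pos_of_ne_zero hr) hm) h2, h2⟩, e, he⟩
    · rintro ⟨P', ⟨-, hP'⟩, hover⟩
      obtain rfl := isOver_unique hover ⟨e, he⟩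
      have h3 : m * (changeConsts (k' := k') Q).deg ∣ m * r := by
        rw [hdeg, mul_comm m r]; exact Nat.lcm_dvd hP' (Dvd.intro_left _ rfl)
      exact (mul_dvd_mul_iff_left hm.ne').mp h3
  rw [NN, finsum_mem_eq_sum_of_inter_support_eq _ (t := T.biUnion G) (by
    ext Q'; simp only [Set.mem_inter_iff, Set.mem_ofPred_eq, hmem, Finset.mem_coe])]
  rw [Finset.sum_biUnion fun P _ R _ hne => Finset.disjoint_left.mpr fun Q h h' => hne (by
    simp only [G, Finset.mem_map_equiv, Set.Finite.mem_toFinset, Set.mem_ofPred_eq] at h h'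
    exact isOver_unique h h')]
  rw [NN_eq_sum hK (Nat.mul_ne_zero hr hm.ne') le_rfl]
  refine Finset.sum_congr rfl fun P _ => ?_
  simp only [G, Finset.sum_map, Equiv.coe_toEmbedding]
  refine Nat.eq_of_mul_eq_mul_left hm ?_
  rw [Finset.mul_sum]
  have hs := sum_ramIdx_mul_deg (K' := K') hFF P (finite_over (K' := K') hFF P).toFinset (by simp)
  rw [hrk] at hs
  rw [← hs]
  refine Finset.sum_congr rfl fun Q hQ => ?_
  have hQP : IsOver Q P := by simpa using hQ
  obtain ⟨he, -⟩ := ramIdx_and_deg hK hgen (isOverWith_ramIdx hQP)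
  rw [he, one_mul, deg_changeConsts (k' := k') Q]

omit [FiniteDimensional K K'] in
/-- The constant field of a constant extension. -/
theorem isFunctionField_constExt [FiniteDimensional K K'] (hK : IsFunctionField k K)
    (hrk : finrank K K' = finrank k k') : IsFunctionField k' K' := by
  have hFF : IsFF' k K' := isFF'_ext (isFF'_of_isFunctionField hK)
  have : FiniteDimensional k k' := Module.Finite.of_finite
  have := finiteDimensional_consts hFF
  have : Finite (consts k K') := Module.finite_of_finite k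
  obtain ⟨x, hx, hfd⟩ := hFF
  refine ⟨⟨x, fun h => hx (IsAlgebraic.restrictScalars k h), ?_⟩, fun y hy => ?_⟩
  · have hle : k⟮x⟯.toSubfield ≤ (k'⟮x⟯).toSubfield := by
      rw [IntermediateField.adjoin_toSubfield, Subfield.closure_le]
      rintro w (⟨c, rfl⟩ | rfl)
      · rw [IsScalarTower.algebraMap_apply k k' K']; exact (k'⟮x⟯).algebraMap_mem _
      · exact IntermediateField.mem_adjoin_simple_self _ _
    let alg : Algebra k⟮x⟯ k'⟮x⟯ := RingHom.toAlgebra
      { toFun := fun z => ⟨z.1, hle z.2⟩
        map_one' := rfl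
        map_mul' := fun _ _ => rfl
        map_zero' := rfl
        map_add' := fun _ _ => rfl }
    exact (@finite_and_finrank_of_compat k⟮x⟯ k'⟮x⟯ K' _ _ _ alg _ _ (fun _ => rfl) hfd).1
  · have hy' : y ∈ consts k K' := mem_algebraicClosure_iff.mpr (hy.restrictScalars k)
    let ι : k' →ₐ[k] consts k K' := AlgHom.codRestrict (IsScalarTower.toAlgHom k k' K') (consts k K').toSubalgebra
      fun c => mem_algebraicClosure_iff.mpr (IsIntegral.of_finite k c).algebraMap.isAlgebraic
    have hle : finrank k (consts k K') ≤ finrank k k' := by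
      obtain ⟨c, hc⟩ := exists_algebra_gen (k := k) (k' := consts k K')
      have hint : IsIntegral k c := IsIntegral.of_finite k c
      have hdeg : (minpoly k c).natDegree = finrank k (consts k K') := by
        rw [← IntermediateField.adjoin.finrank hint]
        rw [show IntermediateField.adjoin k {c} = ⊤ from IntermediateField.toSubalgebra_injective
          ((IntermediateField.adjoin_simple_toSubalgebra_of_isAlgebraic hint.isAlgebraic).trans hc)]
        exact IntermediateField.finrank_top'
      have hmin : (minpoly k c).map (algebraMap k K) = minpoly K (c : K') := by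
        refine minpoly.eq_of_irreducible_of_monic (irreducible_map_of_const hK (minpoly.monic hint) (minpoly.irreducible hint)) ?_
          ((minpoly.monic hint).map _)
        rw [Polynomial.aeval_map_algebraMap]
        exact (Polynomial.aeval_algebraMap_apply K' c (minpoly k c)).trans (by rw [minpoly.aeval, map_zero])
      rw [← hrk, ← hdeg, ← Polynomial.natDegree_map (algebraMap k K) (p := minpoly k c), hmin]
      exact minpoly.natDegree_le (c : K')
    have hsurj : Function.Surjective ι := by
      have h1 : finrank k k' = finrank k (consts k K') :=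
        le_antisymm (LinearMap.finrank_le_finrank_of_injective (f := ι.toLinearMap) ι.toRingHom.injective) hle
      exact (LinearMap.injective_iff_surjective_of_finrank_eq_finrank h1 (f := ι.toLinearMap)).mp ι.toRingHom.injective
    obtain ⟨c, hc⟩ := hsurj ⟨y, hy'⟩
    exact ⟨c, congrArg Subtype.val hc⟩

end Groth.Agent.FF
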