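import Groth.Agent.FF.ZetaFin
import Groth.Agent.FF.Norm
import Mathlib.FieldTheory.Finite.Extension
import Mathlib.RingTheory.Polynomial.GaussLemma
import Mathlib.LinearAlgebra.Matrix.Charpoly.Minpoly
import Mathlib.FieldTheory.PrimitiveElement
import Mathlib.GroupTheory.Archimedean

/-! Over a finite constant field there are divisors of degree one (F. K. Schmidt). -/

open FunFld WithZero Module Polynomial
open scoped Classical

namespace Groth.Agent.FF

variable {k K : Type*} [Field k] [Field K] [Algebra k K]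

theorem irreducible_map_of_const (hK : IsFunctionField k K) {f : k[X]} (hf : f.Monic) (hirr : Irreducible f) :
    Irreducible (f.map (algebraMap k K)) := by
  have hlift : ∀ g : K[X], g.Monic → g ∣ f.map (algebraMap k K) → ∃ g₀ : k[X], g₀.Monic ∧ g₀.map (algebraMap k K) = g := by
    intro g hg hd
    have h := integralClosure.mem_lifts_of_monic_of_dvd_map K hf hg hd
    rw [lifts_iff_coeff_lifts] at h
    have h2 : g ∈ lifts (algebraMap k K) := (lifts_iff_coeff_lifts g).mpr fun n => by
      obtain ⟨c, hc⟩ := h n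
      exact hK.2 _ (hc ▸ (isAlgebraic_iff_isIntegral.mpr c.2))
    obtain ⟨g₀, h1, -, h3⟩ := lifts_and_degree_eq_and_monic h2 hg
    exact ⟨g₀, h3, h1⟩
  refine (irreducible_of_monic (hf.map _) fun h1 => ?_).mpr fun g h hg hh hgh => ?_
  · exact hirr.ne_one ((Polynomial.map_injective _ (algebraMap k K).injective) (h1.trans (Polynomial.map_one _).symm))
  · obtain ⟨g₀, hg₀, rfl⟩ := hlift g hg ⟨h, hgh.symm⟩
    obtain ⟨h₀, hh₀, rfl⟩ := hlift h hh ⟨_, (mul_comm _ _).trans hgh |>.symm⟩
    rw [← Polynomial.map_mul] at hgh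
    have := Polynomial.map_injective _ (algebraMap k K).injective hgh
    rcases hirr.isUnit_or_isUnit this.symm with hu | hu
    · exact Or.inl (by rw [hg₀.eq_one_of_isUnit hu, Polynomial.map_one])
    · exact Or.inr (by rw [hh₀.eq_one_of_isUnit hu, Polynomial.map_one])

theorem norm_algebraMap_sub_gen {A B : Type*} [Field A] [Field B] [Algebra A B] (pb : PowerBasis A B) (c : A) :
    Algebra.norm A (algebraMap A B c - pb.gen) = (minpoly A pb.gen).eval c := by
  rw [Algebra.norm_eq_matrix_det pb.basis, map_sub, AlgHom.commutes, ← charpoly_leftMulMatrix pb,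
    Matrix.eval_charpoly]
  rfl

/-- In the constant extension of degree `δ`, with `δ ∣ deg P` for every place `P`, there are two distinct
places over each place, of the same degree. -/
theorem exists_two_places [Finite k] (hK : IsFunctionField k K) {k' : Type*} [Field k'] [Algebra k k'] [Finite k']
    (a : k') (ha : IntermediateField.adjoin k {a} = ⊤) (h2 : 2 ≤ finrank k k')
    [hf : Fact (Irreducible ((minpoly k a).map (algebraMap k K)))]
    (P : Place k K) (hd : finrank k k' ∣ P.deg) :
    ∃ Q : Fin 2 → Place k (AdjoinRoot ((minpoly k a).map (algebraMap k K))),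
      Function.Injective Q ∧ ∀ i, IsOver (Q i) P ∧ (Q i).deg = P.deg := by
  have : FiniteDimensional k k' := Module.Finite.of_finite
  have hint : IsIntegral k a := IsIntegral.of_finite k a
  set f := minpoly k a
  set g := f.map (algebraMap k K) with hg
  have hgm : g.Monic := (minpoly.monic hint).map _
  have hFF := isFF'_of_isFunctionField hK
  let pb := AdjoinRoot.powerBasis hgm.ne_zero
  have : FiniteDimensional K (AdjoinRoot g) := pb.finite
  have hrk : finrank K (AdjoinRoot g) = finrank k k' := by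
    rw [pb.finrank, AdjoinRoot.powerBasis_dim, natDegree_map, ← IntermediateField.adjoin.finrank hint, ha,
      IntermediateField.finrank_top']
  have hmin : minpoly K pb.gen = g := by
    rw [AdjoinRoot.powerBasis_gen, AdjoinRoot.minpoly_root hgm.ne_zero, hgm.leadingCoeff, inv_one, map_one, mul_one]
  have hfd := finiteDimensional_residue hK P
  let aR : Algebra k (IsLocalRing.ResidueField P.O) := Place.algRes P
  have hfin : Finite (IsLocalRing.ResidueField P.O) :=
    @Module.finite_of_finite k _ _ _ (@Algebra.toModule k _ _ _ aR) _ hfd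
  have hcard : Nat.card (@AlgHom k k' (IsLocalRing.ResidueField P.O) _ _ _ _ aR) = finrank k k' :=
    @FiniteField.natCard_algHom_of_finrank_dvd k k' (IsLocalRing.ResidueField P.O) _ _ _ _ aR hfin hd
  have hlift : ∀ ψ : (@AlgHom k k' (IsLocalRing.ResidueField P.O) _ _ _ _ aR),
      ∃ c : P.O, IsLocalRing.residue P.O c = ψ a := fun ψ => IsLocalRing.residue_surjective _
  choose c hc using hlift
  have hfin' : Finite (@AlgHom k k' (IsLocalRing.ResidueField P.O) _ _ _ _ aR) :=
    Finite.of_injective _ DFunLike.coe_injective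
  have := Fintype.ofFinite (@AlgHom k k' (IsLocalRing.ResidueField P.O) _ _ _ _ aR)
  have hT := (finite_over (K' := AdjoinRoot g) hFF P)
  have hex : ∀ ψ, ∃ Q : Place k (AdjoinRoot g), IsOver Q P ∧
      Q.1 (algebraMap K (AdjoinRoot g) (c ψ) - pb.gen) < 1 := by
    intro ψ
    have hev : P.1 (g.eval (c ψ : K)) < 1 := by
      have h1 : (@Polynomial.aeval k (IsLocalRing.ResidueField P.O) _ _ aR (ψ a)) f = 0 := by
        rw [Polynomial.aeval_algHom_apply, minpoly.aeval, map_zero]
      have h3 : (Polynomial.aeval (c ψ) f : P.O) ∈ RingHom.ker (IsLocalRing.residue P.O) := by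
        rw [RingHom.mem_ker]
        rw [← hc ψ] at h1
        rw [← h1, aeval_def, aeval_def, Polynomial.hom_eval₂]
        rfl
      have h4 := (residue_eq_zero_iff P).mp (RingHom.mem_ker.mp h3)
      let inc : P.O →ₐ[k] K := AlgHom.mk (P.O.subtype) fun _ => rfl
      have h5 : (Polynomial.aeval (c ψ) f : K) = g.eval (c ψ : K) := by
        rw [hg, eval_map, ← aeval_def]
        exact (Polynomial.aeval_algHom_apply inc (c ψ) f).symm
      rwa [h5] at h4
    have hne : algebraMap K (AdjoinRoot g) (c ψ) - pb.gen ≠ 0 := by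
      intro e
      have h1 : minpoly K pb.gen = X - C (c ψ : K) := by
        rw [← sub_eq_zero.mp e]; exact minpoly.eq_X_sub_C _ _
      have h6 := congrArg natDegree (hmin.symm.trans h1)
      rw [natDegree_X_sub_C, natDegree_map, ← IntermediateField.adjoin.finrank hint, ha, IntermediateField.finrank_top'] at h6
      omega
    have hn := deg_mul_ord_norm hFF P (algebraMap K (AdjoinRoot g) (c ψ) - pb.gen) hT.toFinset (by simp)
    rw [norm_algebraMap_sub_gen, hmin] at hn
    by_contra hno
    push Not at hno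
    have hle : ∑ Q ∈ hT.toFinset, (Q.deg : ℤ) * Q.ord (algebraMap K (AdjoinRoot g) (c ψ) - pb.gen) ≤ 0 :=
      Finset.sum_nonpos fun Q hQ => by
        have hQ' : IsOver Q P := by simpa using hQ
        have := hno Q hQ'
        rw [← not_lt, val_lt_one_iff Q hne] at this
        exact mul_nonpos_of_nonneg_of_nonpos (by positivity) (by omega)
    have hne' : g.eval (c ψ : K) ≠ 0 := by
      rw [← hmin, ← norm_algebraMap_sub_gen]; exact Algebra.norm_ne_zero_iff.mpr hne
    have h7 := (val_lt_one_iff P hne').mp hev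
    have := deg_pos hK P
    nlinarith
  choose Q hQ hQlt using hex
  have hinj : Function.Injective Q := by
    intro ψ φ he
    have h1 := hQlt ψ
    have h2 := hQlt φ
    rw [← he] at h2
    have h3 := Valuation.map_sub_lt (Q ψ).1 h1 h2
    rw [sub_sub_sub_cancel_right, ← map_sub] at h3
    have h4 : IsLocalRing.residue P.O (c ψ - c φ) = 0 := by
      rw [residue_eq_zero_iff]
      exact (ow_lt_one_iff (isOverWith_ramIdx (hQ ψ)) _).mp h3
    rw [map_sub, sub_eq_zero, hc, hc] at h4
    refine AlgHom.ext_of_adjoin_eq_top (s := {a}) ?_ (by rintro _ rfl; exact h4)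
    rw [← IntermediateField.adjoin_simple_toSubalgebra_of_isAlgebraic hint.isAlgebraic, ha]
    rfl
  have hle : ∀ ψ, P.deg ≤ (Q ψ).deg := fun ψ => by
    obtain ⟨r, u, hr, -⟩ := exists_residual_basis (isFF'_ext hFF) hFF (hQ ψ)
    rw [← hr]
    refine Nat.le_mul_of_pos_left _ (Nat.pos_of_ne_zero fun h0 => ?_)
    rw [h0, zero_mul] at hr
    have := deg_pos_ext hFF (Q ψ)
    omega
  have heq : ∀ ψ, (Q ψ).deg = P.deg := by
    intro ψ
    have hs := sum_ramIdx_mul_deg (K' := AdjoinRoot g) hFF P hT.toFinset (by simp)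
    have hsub : Finset.univ.image Q ⊆ hT.toFinset := fun R hR => by
      obtain ⟨ψ, -, rfl⟩ := Finset.mem_image.mp hR
      simpa using hQ ψ
    have h1 : ∑ R ∈ Finset.univ.image Q, R.deg ≤ finrank K (AdjoinRoot g) * P.deg := by
      rw [← hs]
      refine le_trans ?_ (Finset.sum_le_sum_of_subset hsub)
      refine Finset.sum_le_sum fun R hR => Nat.le_mul_of_pos_left _ ?_
      obtain ⟨φ, -, rfl⟩ := Finset.mem_image.mp hR
      exact ramIdx_pos (hQ φ)
    rw [Finset.sum_image fun x _ y _ h => hinj h, hrk] at h1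
    by_contra hne
    have : ∑ _φ : (@AlgHom k k' (IsLocalRing.ResidueField P.O) _ _ _ _ aR), P.deg < ∑ φ, (Q φ).deg :=
      Finset.sum_lt_sum (fun φ _ => hle φ) ⟨ψ, Finset.mem_univ _, lt_of_le_of_ne (hle ψ) (Ne.symm hne)⟩
    rw [Finset.sum_const, Finset.card_univ, ← Nat.card_eq_fintype_card, hcard, smul_eq_mul] at this
    omega
  have : ∃ e : Fin 2 → (@AlgHom k k' (IsLocalRing.ResidueField P.O) _ _ _ _ aR), Function.Injective e := by
    have h : 2 ≤ Fintype.card (@AlgHom k k' (IsLocalRing.ResidueField P.O) _ _ _ _ aR) := by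
      rw [← Nat.card_eq_fintype_card, hcard]; exact h2
    obtain ⟨e⟩ := Function.Embedding.nonempty_of_card_le (α := Fin 2) (by simpa using h)
    exact ⟨e, e.injective⟩
  obtain ⟨e, he⟩ := this
  exact ⟨Q ∘ e, hinj.comp he, fun i => ⟨hQ _, heq _⟩⟩

/-- Two copies of a finitely supported function placed along jointly injective maps. -/
theorem mapDomain_pair_injective {α β : Type*} {Q : Fin 2 → α → β}
    (hQ : Function.Injective fun p : Fin 2 × α => Q p.1 p.2) :
    Function.Injective fun D : (α →₀ ℤ) × (α →₀ ℤ) => D.1.mapDomain (Q 0) + D.2.mapDomain (Q 1) := by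
  have hi : ∀ i, Function.Injective (Q i) := fun i a b h => (Prod.ext_iff.mp (@hQ (i, a) (i, b) h)).2
  have hd : ∀ i j a, i ≠ j → Q i a ∉ Set.range (Q j) := fun i j a hij ⟨b, hb⟩ =>
    hij (Prod.ext_iff.mp (@hQ (j, b) (i, a) hb)).1.symm
  have h0 : ∀ (D : (α →₀ ℤ) × (α →₀ ℤ)) a, (D.1.mapDomain (Q 0) + D.2.mapDomain (Q 1)) (Q 0 a) = D.1 a := fun D a => by
    rw [Finsupp.add_apply, Finsupp.mapDomain_apply (hi 0), Finsupp.mapDomain_of_notMem_range _ _ (hd 0 1 a (by decide)), add_zero]
  have h1 : ∀ (D : (α →₀ ℤ) × (α →₀ ℤ)) a, (D.1.mapDomain (Q 0) + D.2.mapDomain (Q 1)) (Q 1 a) = D.2 a := fun D a => by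
    rw [Finsupp.add_apply, Finsupp.mapDomain_apply (hi 1), Finsupp.mapDomain_of_notMem_range _ _ (hd 1 0 a (by decide)), zero_add]
  intro D E h
  exact Prod.ext (Finsupp.ext fun a => by rw [← h0 D a, ← h0 E a]; exact DFunLike.congr_fun h _)
    (Finsupp.ext fun a => by rw [← h1 D a, ← h1 E a]; exact DFunLike.congr_fun h _)

/-- F. K. Schmidt: the degree is onto. -/
theorem exists_deg_one [Finite k] (hK : IsFunctionField k K) : ∃ D : Divisor k K, D.deg = 1 := by
  obtain ⟨d, hd⟩ := Int.subgroup_cyclic (degHom k K).range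
  rw [← AddSubgroup.zmultiples_eq_closure] at hd
  set δ := d.natAbs with hδ
  have hmem : ∀ D : Divisor k K, (δ : ℤ) ∣ D.deg := fun D => by
    have : D.deg ∈ (degHom k K).range := ⟨D, degHom_apply D⟩
    rw [hd, Int.mem_zmultiples_iff] at this
    rwa [hδ, Int.natAbs_dvd]
  obtain ⟨D₁, hD₁⟩ : (δ : ℤ) ∈ (degHom k K).range := by
    rw [hd, Int.mem_zmultiples_iff, hδ, Int.dvd_natAbs]
  rw [degHom_apply] at hD₁
  have hP : ∀ P : Place k K, δ ∣ P.deg := fun P => by
    have := hmem (Finsupp.single P 1)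
    rw [deg_single, one_mul] at this
    exact_mod_cast this
  have hδ0 : δ ≠ 0 := fun h0 => by
    obtain ⟨B, -, hB⟩ := exists_deg_ge hK 1
    have := hmem B
    rw [h0, Nat.cast_zero, zero_dvd_iff] at this
    omega
  refine ⟨D₁, ?_⟩
  by_contra hne
  have h2 : 2 ≤ δ := by omega
  clear hne
  have hFF := isFF'_of_isFunctionField hK
  obtain ⟨p, hp⟩ := CharP.exists k
  have : Fact p.Prime := ⟨CharP.char_is_prime k p⟩
  have : NeZero δ := ⟨hδ0⟩
  obtain ⟨a, ha⟩ := Field.exists_primitive_element k (FiniteField.Extension k p δ)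
  have hk' : finrank k (FiniteField.Extension k p δ) = δ := FiniteField.finrank_extension k p δ
  have hint : IsIntegral k a := IsIntegral.of_finite k a
  have hf : Fact (Irreducible ((minpoly k a).map (algebraMap k K))) :=
    ⟨irreducible_map_of_const hK (minpoly.monic hint) (minpoly.irreducible hint)⟩
  let L := AdjoinRoot ((minpoly k a).map (algebraMap k K))
  have : FiniteDimensional K L := (AdjoinRoot.powerBasis ((minpoly.monic hint).map _).ne_zero).finite
  choose Q hQinj hQ using fun P => exists_two_places hK a ha (by omega) P (by rw [hk']; exact hP P)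
  have hQ' : Function.Injective fun p : Fin 2 × Place k K => Q p.2 p.1 := by
    rintro ⟨i, P⟩ ⟨j, R⟩ (h : Q P i = Q R j)
    have hPR : P = R := isOver_unique (hQ P i).1 (h ▸ (hQ R j).1)
    subst hPR
    exact Prod.ext (hQinj P h) rfl
  have hL : IsFF' k L := isFF'_ext hFF
  have hc0 := finiteDimensional_consts hL
  have hfinC : Finite (consts k L) := Module.finite_of_finite k
  have hL' := isFunctionField_consts hL
  set cd := finrank k (consts k L)
  have hq' : Nat.card (consts k L) = Nat.card k ^ cd := Module.natCard_eq_pow_finrank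
  let Ψ : Fin 2 → Place k K → Place (consts k L) L := fun i P => placeConsts (k := k) (L := L) (Q P i)
  have hΨ : Function.Injective fun p : Fin 2 × Place k K => Ψ p.1 p.2 := fun x y h => hQ' ((placeConsts (k := k) (L := L)).injective h)
  have hdeg : ∀ i (D : Divisor k K), (cd : ℤ) * Divisor.deg (D.mapDomain (Ψ i) : Divisor (consts k L) L) = D.deg := fun i D => by
    rw [← degHom_apply, ← degHom_apply]
    induction D using Finsupp.induction_linear with
    | zero => simp
    | add f g hf hg => rw [Finsupp.mapDomain_add, map_add, map_add, mul_add, hf, hg]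
    | single P n =>
      rw [Finsupp.mapDomain_single, degHom_apply, degHom_apply, deg_single, deg_single, ← (hQ P i).2,
        show (Q P i).deg = cd * (Ψ i P).deg from deg_placeConsts (k := k) (L := L) (Q P i)]
      push_cast
      ring
  have hpos : ∀ i {D : Divisor k K}, 0 ≤ D → (0 : Divisor (consts k L) L) ≤ D.mapDomain (Ψ i) := fun i {D} hD R => by
    by_cases hR : R ∈ Set.range (Ψ i)
    · obtain ⟨P, rfl⟩ := hR
      rw [Finsupp.mapDomain_apply (fun x y h => (Prod.ext_iff.mp (@hΨ (i, x) (i, y) h)).2)]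
      exact hD P
    · rw [Finsupp.mapDomain_of_notMem_range _ _ hR]; rfl
  set q := Nat.card k
  set g := genus k K
  set h' := classNum (consts k L) L
  set N := h' * q ^ (cd + 2 * g) with hN
  set m := δ * (4 * g + N) with hm
  have := finite_effDiv hL' ((m / cd : ℕ) : ℤ)
  have hfin := fun n : ℤ => finite_effDiv hK n
  let S := Σ j : Fin (N + 1), {D : Divisor k K // 0 ≤ D ∧ D.deg = ((δ * (2 * g + j) : ℕ) : ℤ)} ×
    {D : Divisor k K // 0 ≤ D ∧ D.deg = ((δ * (2 * g + (N - j)) : ℕ) : ℤ)}
  have hΦdeg : ∀ x : S, Divisor.deg (x.2.1.1.mapDomain (Ψ 0) + x.2.2.1.mapDomain (Ψ 1) : Divisor (consts k L) L) = ((m / cd : ℕ) : ℤ) := by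
    intro x
    have h0 := hdeg 0 x.2.1.1
    have h1 := hdeg 1 x.2.2.1
    rw [x.2.1.2.2] at h0
    rw [x.2.2.2.2] at h1
    have hj := x.1.2
    have hsum : δ * (2 * g + x.1) + δ * (2 * g + (N - x.1)) = m := by rw [hm, ← mul_add]; congr 1; omega
    have hz : (cd : ℤ) * Divisor.deg (x.2.1.1.mapDomain (Ψ 0) + x.2.2.1.mapDomain (Ψ 1) : Divisor (consts k L) L) = (m : ℤ) := by
      rw [deg_add, mul_add, h0, h1, ← Nat.cast_add, hsum]
    have hcd : 0 < cd := Module.finrank_pos
    have hnn := deg_nonneg (add_nonneg (hpos 0 x.2.1.2.1) (hpos 1 x.2.2.2.1))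
    obtain ⟨e, he⟩ := Int.eq_ofNat_of_zero_le hnn
    rw [he] at hz ⊢
    have hz' : cd * e = m := by exact_mod_cast hz
    rw [← hz', Nat.mul_div_cancel_left _ hcd]
  let Φ : S → {E : Divisor (consts k L) L // 0 ≤ E ∧ E.deg = ((m / cd : ℕ) : ℤ)} := fun x =>
    ⟨x.2.1.1.mapDomain (Ψ 0) + x.2.2.1.mapDomain (Ψ 1), add_nonneg (hpos 0 x.2.1.2.1) (hpos 1 x.2.2.2.1), hΦdeg x⟩
  have hΦ : Function.Injective Φ := by
    rintro ⟨i, D, E⟩ ⟨j, D', E'⟩ he
    have he' := @mapDomain_pair_injective _ _ Ψ hΨ (D.1, E.1) (D'.1, E'.1) (congrArg Subtype.val he)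
    simp only [Prod.mk.injEq] at he'
    have hij : i = j := by
      have h3 := D.2.2
      rw [he'.1, D'.2.2, Nat.cast_inj] at h3
      exact Fin.ext (by have := Nat.eq_of_mul_eq_mul_left (Nat.pos_of_ne_zero hδ0) h3; omega)
    subst hij
    exact Sigma.ext rfl (heq_of_eq (Prod.ext (Subtype.ext he'.1) (Subtype.ext he'.2)))
  have hup := (Nat.card_le_card_of_injective Φ hΦ).trans (effDivCount_le hL' (m / cd))
  have hlow : ∀ t : ℕ, 2 * g ≤ t → q ^ (δ * t - g) ≤ Nat.card {D : Divisor k K // 0 ≤ D ∧ D.deg = ((δ * t : ℕ) : ℤ)} :=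
    fun t ht => effDivCount_ge hK (ht.trans (Nat.le_mul_of_pos_left t (by omega))) ((t : ℤ) • D₁)
      (by rw [← degHom_apply, map_zsmul, degHom_apply, hD₁, smul_eq_mul]; push_cast; ring)
  have hS : (N + 1) * q ^ (m - 2 * g) ≤ Nat.card S := by
    rw [Nat.card_sigma]
    refine le_trans (le_of_eq ?_) (Finset.sum_le_sum (f := fun _ : Fin (N + 1) => q ^ (m - 2 * g)) fun j _ => ?_)
    · simp
    rw [Nat.card_prod]
    refine le_trans (le_of_eq ?_) (Nat.mul_le_mul (hlow _ (by omega)) (hlow _ (by omega)))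
    rw [← pow_add]
    congr 1
    have hsum : δ * (2 * g + j) + δ * (2 * g + (N - j)) = m := by rw [hm, ← mul_add]; congr 1; omega
    have h1 : g ≤ δ * (2 * g + j) := (Nat.le_mul_of_pos_left _ (by omega)).trans' (by omega)
    have h2 : g ≤ δ * (2 * g + (N - j)) := (Nat.le_mul_of_pos_left _ (by omega)).trans' (by omega)
    omega
  rw [hq', ← pow_mul] at hup
  have hq1 : 2 ≤ q := card_base
  have hmg : 2 * g ≤ m := (Nat.le_mul_of_pos_left _ (by omega : 0 < δ)).trans' (by omega)
  have hexp : cd * (m / cd + 1) ≤ (cd + 2 * g) + (m - 2 * g) := by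
    have := Nat.mul_div_le m cd
    rw [mul_add, mul_one]
    omega
  have h4 : (N + 1) * q ^ (m - 2 * g) ≤ N * q ^ (m - 2 * g) := by
    refine (hS.trans hup).trans ?_
    rw [hN, mul_assoc, ← pow_add]
    exact Nat.mul_le_mul_left _ (Nat.pow_le_pow_right (by omega) hexp)
  have := Nat.le_of_mul_le_mul_right h4 (Nat.pos_of_ne_zero (pow_ne_zero _ (by omega)))
  omega

theorem surjective_deg [Finite k] (hK : IsFunctionField k K) :
    Function.Surjective (Divisor.deg : Divisor k K → ℤ) := fun n => by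
  obtain ⟨D, hD⟩ := exists_deg_one hK
  exact ⟨n • D, by rw [← degHom_apply, map_zsmul, degHom_apply, hD, smul_eq_mul, mul_one]⟩

end Groth.Agent.FF
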