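import Groth.Agent.FF.Rational

/-! Functions with prescribed pole order on a genus-one function field. -/

namespace Groth.Agent.FF

open WithZero FunFld Module IntermediateField
open scoped Classical

variable {k K : Type*} [Field k] [Field K] [Algebra k K]

/-- Elements of pairwise different orders at a place are linearly independent. -/
theorem linearIndependent_of_ord_injective (P : Place k K) {ι : Type*} (v : ι → K)
    (hne : ∀ i, v i ≠ 0) (hinj : Function.Injective fun i => P.ord (v i)) :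
    LinearIndependent k v := by
  rw [linearIndependent_iff']
  intro s c hsum i hi
  by_contra hci
  obtain ⟨j, hj, hmin⟩ := (s.filter fun l => c l ≠ 0).exists_min_image (fun l => P.ord (v l))
    ⟨i, Finset.mem_filter.mpr ⟨hi, hci⟩⟩
  obtain ⟨hjs, hcj⟩ := Finset.mem_filter.mp hj
  have hvj : P.1 (c j • v j) = exp (-P.ord (v j)) := by
    rw [Algebra.smul_def, map_mul, val_algebraMap P hcj, one_mul, val_eq_exp_neg_ord P (hne j)]
  have := P.1.map_sum_eq_of_lt (f := fun l => c l • v l) hjs fun l hl => by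
    rw [Finset.mem_sdiff, Finset.mem_singleton] at hl
    rw [hvj]
    rcases eq_or_ne (c l) 0 with h0 | h0
    · simp [h0]
    · rw [Algebra.smul_def, map_mul, val_algebraMap P h0, one_mul, val_eq_exp_neg_ord P (hne l), exp_lt_exp]
      have h1 := hmin l (Finset.mem_filter.mpr ⟨hl.1, h0⟩)
      have h2 : P.ord (v j) ≠ P.ord (v l) := fun e => hl.2 (hinj e.symm)
      omega
  rw [hsum, map_zero, hvj] at this
  exact exp_ne_zero this.symm

theorem mem_single_mul {P : Place k K} {a b : K} {m n : ℤ} (ha : a ∈ L (Finsupp.single P m))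
    (hb : b ∈ L (Finsupp.single P n)) : a * b ∈ L (Finsupp.single P (m + n)) := fun Q => by
  rw [map_mul, Finsupp.single_add, Finsupp.add_apply, exp_add]
  exact mul_le_mul' (ha Q) (hb Q)

theorem mem_single_pow {P : Place k K} {a : K} {m : ℤ} (ha : a ∈ L (Finsupp.single P m)) (i : ℕ) :
    a ^ i ∈ L (Finsupp.single P ((i : ℤ) * m)) := fun Q => by
  rw [map_pow]
  refine (pow_le_pow_left₀ zero_le (ha Q) i).trans_eq ?_
  rw [← exp_nsmul]; congr 1
  simp [Finsupp.single_apply]

theorem ord_pow_of_ne (P : Place k K) {x : K} (hx : x ≠ 0) (i : ℕ) : P.ord (x ^ i) = i * P.ord x := by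
  induction i with
  | zero => simp
  | succ i ih => rw [pow_succ, ord_mul P (pow_ne_zero i hx) hx, ih]; push_cast; ring

theorem single_mono (P : Place k K) {m n : ℤ} (h : m ≤ n) :
    (Finsupp.single P m : Divisor k K) ≤ Finsupp.single P n := fun Q => by
  simp only [Finsupp.single_apply]; split_ifs <;> omega

/-- The monomials `f^i`, `f^i g` of a genus-one field. -/
theorem genusOne_basis (hK : IsFunctionField k K) (hg1 : genus k K = 1) {P : Place k K} (hP : P.deg = 1)
    {f g : K} (hf : f ∈ L (Finsupp.single P (2 : ℤ))) (hf2 : P.ord f = -2)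
    (hg : g ∈ L (Finsupp.single P (3 : ℤ))) (hg3 : P.ord g = -3) (n : ℕ) (hn : 2 ≤ n) :
    LinearIndependent k
        (Sum.elim (fun i : Fin (n / 2 + 1) => f ^ (i : ℕ)) (fun i : Fin ((n - 1) / 2) => f ^ (i : ℕ) * g)) ∧
      Submodule.span k (Set.range
        (Sum.elim (fun i : Fin (n / 2 + 1) => f ^ (i : ℕ)) (fun i : Fin ((n - 1) / 2) => f ^ (i : ℕ) * g))) =
        L (Finsupp.single P (n : ℤ)) := by
  have hf0 : f ≠ 0 := by rintro rfl; simp at hf2
  have hg0 : g ≠ 0 := by rintro rfl; simp at hg3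
  have hli : LinearIndependent k
      (Sum.elim (fun i : Fin (n / 2 + 1) => f ^ (i : ℕ)) (fun i : Fin ((n - 1) / 2) => f ^ (i : ℕ) * g)) := by
    refine linearIndependent_of_ord_injective P _ ?_ ?_
    · rintro (i | i)
      · exact pow_ne_zero _ hf0
      · exact mul_ne_zero (pow_ne_zero _ hf0) hg0
    · rintro (i | i) (j | j) e <;>
        simp only [Sum.elim_inl, Sum.elim_inr, ord_mul P (pow_ne_zero _ hf0) hg0, ord_pow_of_ne P hf0, hf2, hg3] at e
      · rw [Fin.ext (by omega : (i : ℕ) = j)]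
      · omega
      · omega
      · rw [Fin.ext (by omega : (i : ℕ) = j)]
  refine ⟨hli, ?_⟩
  have := finiteDimensional_L hK (Finsupp.single P (n : ℤ))
  refine Submodule.eq_of_le_of_finrank_le (Submodule.span_le.mpr ?_) ?_
  · rintro _ ⟨i | i, rfl⟩
    · have hi : ((i : ℕ) : ℤ) * 2 ≤ n := by have := i.2; omega
      exact L_mono (single_mono P hi) (mem_single_pow hf i)
    · have hi : ((i : ℕ) : ℤ) * 2 + 3 ≤ n := by have := i.2; omega
      exact L_mono (single_mono P hi) (mem_single_mul (mem_single_pow hf i) hg)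
  · rw [finrank_span_eq_card hli]
    have := ell_eq_of_deg_large hK (D := Finsupp.single P (n : ℤ)) (by rw [deg_single, hP, hg1]; simp; omega)
    rw [deg_single, hP, hg1] at this
    simp only [ell] at this
    simp only [Fintype.card_sum, Fintype.card_fin]
    push_cast at this; omega

theorem exists_exact_pole (hK : IsFunctionField k K) (hg1 : genus k K = 1) {P : Place k K}
    (hP : P.deg = 1) (n : ℕ) (hn : 2 ≤ n) :
    ∃ x, x ∈ L (Finsupp.single P (n : ℤ)) ∧ P.ord x = -(n : ℤ) := by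
  have h1 := ell_eq_of_deg_large hK (D := Finsupp.single P (n : ℤ)) (by rw [deg_single, hP, hg1]; simp; omega)
  have h2 := ell_eq_of_deg_large hK (D := Finsupp.single P ((n : ℤ) - 1))
    (by rw [deg_single, hP, hg1]; simp; omega)
  rw [deg_single, hP, hg1] at h1 h2
  push_cast at h1 h2
  obtain ⟨x, hx, hnx⟩ := Set.exists_of_ssubset (show (L (Finsupp.single P ((n : ℤ) - 1)) : Set K) ⊂
      L (Finsupp.single P (n : ℤ)) from lt_of_le_of_ne (L_mono (single_mono P (by omega))) fun e => by
    have e' := SetLike.coe_injective e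
    simp only [ell] at h1 h2; rw [e'] at h2; omega)
  refine ⟨x, hx, ?_⟩
  have hx0 : x ≠ 0 := fun e => hnx (e ▸ Submodule.zero_mem _)
  have h3 := hx P
  rw [val_eq_exp_neg_ord P hx0, Finsupp.single_eq_same, exp_le_exp] at h3
  by_contra hne
  apply hnx
  intro Q
  rcases eq_or_ne Q P with rfl | hQ
  · rw [val_eq_exp_neg_ord Q hx0, Finsupp.single_eq_same, exp_le_exp]; omega
  · simpa [Finsupp.single_eq_of_ne hQ] using hx Q

theorem finrank_adjoin_of_pole (hK : IsFunctionField k K) {P : Place k K} (hP : P.deg = 1) {x : K}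
    {n : ℕ} (hn : 0 < n) (hx : x ∈ L (Finsupp.single P (n : ℤ))) (ho : P.ord x = -(n : ℤ)) :
    finrank k⟮x⟯ K = n := by
  have hx0 : x ≠ 0 := by rintro rfl; simp at ho; omega
  have hxt := transcendental_of_not_mem hK (not_mem_range_of_val hx0 (P := P) (by omega))
  have hp : poles (k := k) x = Finsupp.single P (n : ℤ) := by
    ext Q; rw [poles_apply hK]
    rcases eq_or_ne Q P with rfl | hQ
    · rw [ho, Finsupp.single_eq_same]; omega
    · have := (val_le_exp_iff Q hx0).mp (hx Q)
      rw [Finsupp.single_eq_of_ne hQ] at this ⊢; omega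
  have := deg_poles hK hxt
  rw [hp, deg_single, hP] at this
  push_cast at this; omega

theorem weierstrass_form' (hK : IsFunctionField k K) (hg1 : genus k K = 1) {P : Place k K}
    (hP : P.deg = 1) :
    ∃ x y : K, x ∈ L (Finsupp.single P (2 : ℤ)) ∧ y ∈ L (Finsupp.single P (3 : ℤ)) ∧
      P.ord x = -2 ∧ P.ord y = -3 ∧ IntermediateField.adjoin k ({x, y} : Set K) = ⊤ ∧
      ∃ f g : Polynomial k, f.natDegree ≤ 1 ∧ g.natDegree = 3 ∧
        y ^ 2 + Polynomial.aeval x f * y + Polynomial.aeval x g = 0 := by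
  obtain ⟨x, hx, hxo⟩ := exists_exact_pole hK hg1 hP 2 le_rfl
  obtain ⟨y, hy, hyo⟩ := exists_exact_pole hK hg1 hP 3 (by norm_num)
  refine ⟨x, y, hx, hy, hxo, hyo, ?_, ?_⟩
  · have h2 := finrank_adjoin_of_pole hK hP two_pos hx hxo
    have h3 := finrank_adjoin_of_pole hK hP three_pos hy hyo
    set F := IntermediateField.adjoin k ({x, y} : Set K)
    have hxF : k⟮x⟯ ≤ F := adjoin_simple_le_iff.mpr (subset_adjoin k _ (by simp))
    have hyF : k⟮y⟯ ≤ F := adjoin_simple_le_iff.mpr (subset_adjoin k _ (by simp))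
    have d2 : finrank F K ∣ 2 := h2 ▸ finrank_dvd_of_le_left hxF
    have d3 : finrank F K ∣ 3 := h3 ▸ finrank_dvd_of_le_left hyF
    exact finrank_eq_one_iff_eq_top.mp (Nat.eq_one_of_dvd_coprimes (by norm_num) d2 d3)
  · have hy2 : y ^ 2 ∈ L (Finsupp.single P (6 : ℤ)) := by simpa using mem_single_pow hy 2
    obtain ⟨-, hsp⟩ := genusOne_basis hK hg1 hP hx hxo hy hyo 6 (by norm_num)
    rw [show ((6 : ℕ) : ℤ) = 6 from rfl] at hsp
    rw [← hsp] at hy2
    obtain ⟨c, hc⟩ := (Submodule.mem_span_range_iff_exists_fun k).mp hy2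
    change Fin 4 ⊕ Fin 2 → k at c
    change ∑ i : Fin 4 ⊕ Fin 2, c i • Sum.elim (fun i : Fin 4 => x ^ (i : ℕ))
      (fun i : Fin 2 => x ^ (i : ℕ) * y) i = y ^ 2 at hc
    rw [Fintype.sum_sum_type] at hc
    simp only [Fin.sum_univ_four, Fin.sum_univ_two, Sum.elim_inl, Sum.elim_inr,
      show ((0 : Fin 4) : ℕ) = 0 from rfl, show ((1 : Fin 4) : ℕ) = 1 from rfl, show ((2 : Fin 4) : ℕ) = 2 from rfl,
      show ((3 : Fin 4) : ℕ) = 3 from rfl, show ((0 : Fin 2) : ℕ) = 0 from rfl,
      show ((1 : Fin 2) : ℕ) = 1 from rfl, pow_zero, pow_one, one_mul, Algebra.smul_def, mul_one] at hc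
    set a0 := c (Sum.inl 0)
    set a1 := c (Sum.inl 1)
    set a2 := c (Sum.inl 2)
    set a3 := c (Sum.inl 3)
    set b0 := c (Sum.inr 0)
    set b1 := c (Sum.inr 1)
    refine ⟨-(Polynomial.C b0 + Polynomial.C b1 * Polynomial.X),
      -(Polynomial.C a3 * Polynomial.X ^ 3 + Polynomial.C a2 * Polynomial.X ^ 2 +
        Polynomial.C a1 * Polynomial.X + Polynomial.C a0), ?_, ?_, ?_⟩
    · rw [Polynomial.natDegree_neg]; compute_degree
    · rw [Polynomial.natDegree_neg]
      refine Polynomial.natDegree_cubic ?_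
      intro h3
      have hy0 : y ≠ 0 := by rintro rfl; simp at hyo
      have hx0 : x ≠ 0 := by rintro rfl; simp at hxo
      have hv : P.1 (y ^ 2) = exp (6 : ℤ) := by
        rw [val_eq_exp_neg_ord P (pow_ne_zero 2 hy0), ord_pow_of_ne P hy0, hyo]; rfl
      have hbound : P.1 (y ^ 2) ≤ exp (5 : ℤ) := by
        have t : ∀ (a : k) (z : K) (e : ℤ), P.1 z ≤ exp e → e ≤ 5 →
            P.1 (algebraMap k K a * z) ≤ exp (5 : ℤ) := fun a z e hz he => by
          rw [map_mul]; exact (mul_le_of_le_one_left' (P.2.1 a)).trans (hz.trans (exp_le_exp.mpr he))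
        have vx : P.1 x ≤ exp (2 : ℤ) := by simpa using hx P
        have vy : P.1 y ≤ exp (3 : ℤ) := by simpa using hy P
        rw [← hc, h3, map_zero, zero_mul, add_zero]
        refine P.1.map_add_le (P.1.map_add_le (P.1.map_add_le ?_ (t _ _ 2 vx (by norm_num))) (t _ _ 4 ?_ (by norm_num)))
          (P.1.map_add_le (t _ _ 3 vy (by norm_num)) (t _ _ 5 ?_ le_rfl))
        · exact (P.2.1 _).trans (by rw [← exp_zero, exp_le_exp]; norm_num)
        · rw [map_pow]; exact (pow_le_pow_left₀ zero_le vx 2).trans_eq (by rw [← exp_nsmul]; rfl)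
        · rw [map_mul]; exact (mul_le_mul' vx vy).trans_eq (by rw [← exp_add]; rfl)
      rw [hv, exp_le_exp] at hbound; omega
    · rw [← hc]; simp; ring

end Groth.Agent.FF
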