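import Groth.Agent.FF.FixedPts
import Groth.Agent.FF.GenusOne

/-! Weierstrass points in characteristic `0` or `> 2g - 2`; finiteness of the automorphism group. -/

namespace Groth.Agent.FF

open FunFld LocRes WithZero Submodule Module
open scoped Classical

variable {k K : Type*} [Field k] [Field K] [Algebra k K] [IsAlgClosed k] (hK : IsFunctionField k K)

include hK in
theorem isPoleNum_pullPlace (σ : K ≃ₐ[k] K) {P : Place k K} {m : ℕ} (h : IsPoleNum P m) :
    IsPoleNum (pullPlace σ P) m := by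
  obtain ⟨f, hf, hv⟩ := isPoleNum_iff_exists.mp h
  refine isPoleNum_iff_exists.mpr ⟨σ.symm f, fun Q => ?_, by rw [pullPlace_apply, AlgEquiv.apply_symm_apply, hv]⟩
  have h1 := hf (pullPlace σ.symm Q)
  rw [pullPlace_apply] at h1
  refine h1.trans_eq (congrArg exp ?_)
  simp only [Finsupp.single_apply]
  refine if_congr ⟨fun h => ?_, fun h => ?_⟩ rfl rfl
  · rw [h]; exact Subtype.ext (Valuation.ext fun x => by simp [pullPlace_apply])
  · rw [← h]; exact Subtype.ext (Valuation.ext fun x => by simp [pullPlace_apply])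

include hK in
theorem gap_iff_eq (P : Place k K) (j : ℕ) :
    ¬ IsPoleNum P (j + 1) ↔ L (Finsupp.single P ((j : ℤ) + 1)) = L (Finsupp.single P (j : ℤ)) := by
  rw [IsPoleNum, not_not]
  simp

include hK in
/-- The data of a Weierstrass point computation. -/
theorem weierstrass_data (hg : 1 < genus k K) (hchar : ringChar k = 0 ∨ 2 * genus k K - 2 < ringChar k)
    {C : Divisor k K} (hC : IsCanonical k K C) {n : ℕ} {φ : Fin (n + 1) → K} (hφ : LinearIndependent k φ)
    (hspan : span k (Set.range φ) = L C) {s : K} {H : K →ₐ[k] PowerSeries K} (hH : IsHasseFamily s H)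
    {J : Fin n → ℕ} (hJ : IsOrders K (hcol (AlgHom.id k K) H φ) J)
    {Φ : Place k K → (K →ₐ[k] LaurentSeries k)} (hΦ : ∀ P : Place k K, IsExpansionAt P.1 (Φ P)) :
    n + 1 = genus k K ∧
    (wDiv (AlgHom.id k K) H Φ s φ J).deg = (2 * (n : ℤ) + 4) * ∑ l : Fin n, ((l : ℕ) + 1 : ℤ) ∧
    ∀ P : Place k K, ∃ J' : Fin n → ℕ, StrictMono J' ∧
      (∀ l : Fin n, (l : ℕ) + 1 ≤ J' l ∧ J' l ≤ 2 * (l : ℕ) + 2) ∧
      wDiv (AlgHom.id k K) H Φ s φ J P = ∑ l : Fin n, ((J' l : ℤ) - ((l : ℕ) + 1)) ∧
      ∀ m, 1 ≤ m → (¬ IsPoleNum P m ↔ m = 1 ∨ ∃ l, J' l + 1 = m) := by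
  have hn : n + 1 = genus k K := by
    have h1 := finrank_span_eq_card hφ
    rw [hspan, Fintype.card_fin] at h1
    have h2 := (ell_canonical hK hC).1
    simp only [ell] at h2
    omega
  have hdegφ : (mapDiv k φ).deg = 2 * (n : ℤ) := by
    have : mapDiv k φ = C := by
      ext P
      obtain ⟨y, hy, hli, h1, hnorm⟩ := exists_normalisation hK hφ P
      obtain ⟨hC', hspan'⟩ := canonical_twist hK hC hspan hy
      have h0 := canonical_coeff_zero hK hC' P (hspan' ▸ h1)
        fun f hf => val_le_of_mem_span hK P hnorm (hspan'.symm ▸ hf)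
      rw [Finsupp.sub_apply, div_apply hK] at h0
      have h2 := mapDiv_smul hK hφ.ne_zero hy P
      rw [mapDiv_eq_zero_of hK hli.ne_zero P hnorm h1] at h2
      omega
    rw [this, (ell_canonical hK hC).2]
    omega
  have hstd : ∀ (P : Place k K) (y t : K) (Ht : K →ₐ[k] PowerSeries K) (J' : Fin n → ℕ),
      LinearIndependent k (y • φ) → (1 : K) ∈ span k (Set.range (y • φ)) →
      (∀ i, P.1 ((y • φ) i) ≤ 1) → P.1 t = exp (-1 : ℤ) → IsHasseFamily t Ht →
      IsOrders (IsLocalRing.ResidueField P.O) (hcolAt P Ht (y • φ)) J' →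
      (mapDiv k (y • φ)).deg = (mapDiv k φ).deg →
      P.1 (wrMat (AlgHom.id k K) Ht (y • φ) (fun l : Fin n => (l : ℕ) + 1)).det =
        exp (-(∑ l : Fin n, ((J' l : ℤ) - (((l : ℕ) + 1 : ℕ) : ℤ)))) := by
    intro P y t Ht J' hli h1 hnorm ht hHt hJ' hdeg
    refine ((val_wrMat_le_and_iff hK (AlgHom.id k K) P (fun z hz => hz) ht hHt hli h1 hnorm hJ' _).2
      (Or.inl fun l => Nat.succ_pos _)).mpr (binomMat_standard_det_ne_zero hJ'.1 1 le_rfl
        (fun _ => (exists_adapted hK P ht hHt hnorm hli h1 hJ').1) (hchar.imp id fun h l => ?_))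
    have := orders_at_le_deg hK P hli h1 hnorm ht hHt hJ' l
    omega
  obtain ⟨P₀⟩ := nonempty_place hK
  have hJeq : J = fun l : Fin n => (l : ℕ) + 1 := by
    obtain ⟨y, t, Ht, J', hy, hli, h1, hnorm, ht, hHt, hJt, hJ', hpos, hdeg, -⟩ :=
      exists_local_data hK hφ (AlgHom.id k K) hH hJ P₀
    have hle := orders_le hJt (fun a b hab => Nat.succ_lt_succ hab)
      ((det_ne_zero_iff _ _ _ _).mp (det_wrMat_ne_zero_of_val P₀ (hstd P₀ y t Ht J' hli h1 hnorm ht hHt hJ' hdeg)))
    have hge : ∀ l : Fin n, (l : ℕ) + 1 ≤ J l := by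
      rintro ⟨l, hl⟩
      induction l with
      | zero => exact orders_id_pos hH hJ ⟨0, hl⟩
      | succ l ih =>
        have := hJ.1 (show (⟨l, by omega⟩ : Fin n) < ⟨l + 1, hl⟩ from Nat.lt_succ_self l)
        have := ih (by omega)
        simp only at *
        omega
    exact funext fun l => le_antisymm (hle l) (hge l)
  refine ⟨hn, ?_, fun P => ?_⟩
  · have hfr : finrank (AlgHom.id k K).fieldRange K = 1 :=
      IntermediateField.finrank_eq_one_iff_eq_top.mpr (AlgHom.fieldRange_eq_top.mpr Function.surjective_id)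
    rw [(wDiv_nonneg_and_deg hK (AlgHom.id k K) hφ hH hJ hΦ).2, hfr, hdegφ, ← hn, hJeq]
    push_cast
    have hT : 2 * ∑ l : Fin n, ((l : ℕ) + 1 : ℤ) = (n : ℤ) * (n + 1) := by
      clear hdegφ hstd hJeq hJ hspan hφ hn
      clear φ J
      induction n with
      | zero => simp
      | succ m ih => rw [Fin.sum_univ_castSucc]; simp only [Fin.val_castSucc, Fin.val_last]; push_cast; linarith
    linear_combination -2 * hT
  · obtain ⟨y, t, Ht, J', hy, hli, h1, hnorm, ht, hHt, hJt, hJ', hpos, hdeg, hW⟩ :=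
      exists_local_data hK hφ (AlgHom.id k K) hH hJ P
    have hgap : ∀ m, 1 ≤ m → (¬ IsPoleNum P m ↔ m = 1 ∨ ∃ l, J' l + 1 = m) := by
      intro m hm
      obtain ⟨j, rfl⟩ : ∃ j, m = j + 1 := ⟨m - 1, by omega⟩
      rcases Nat.eq_zero_or_pos j with rfl | hj
      · refine ⟨fun _ => Or.inl rfl, fun _ h => ?_⟩
        obtain ⟨f, hf, hfv⟩ := isPoleNum_iff_exists.mp h
        have h2 : 2 ≤ ell (Finsupp.single P (1 : ℤ)) := by
          have := ell_single_succ hK P 0
          rw [if_pos h] at this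
          simp only [Nat.cast_zero, Finsupp.single_zero, (finrank_L_zero hK).2, zero_add, Nat.cast_one] at this
          omega
        have := genus_le_zero_of_two_le hK (deg_eq_one hK P) h2
        omega
      · rw [gap_iff_eq hK, ← canonical_orders_iff_gap hK hC hspan P hy h1 hnorm ht hHt hj, ← hJ'.2]
        constructor
        · rintro ⟨l, rfl⟩; exact Or.inr ⟨l, rfl⟩
        · rintro (h | ⟨l, hl⟩)
          · omega
          · exact ⟨l, by omega⟩
    refine ⟨J', hJ'.1, fun l => ⟨?_, ?_⟩, ?_, hgap⟩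
    · obtain ⟨l, hl⟩ := l
      induction l with
      | zero => exact hpos ⟨0, hl⟩
      | succ l ih =>
        have := hJ'.1 (show (⟨l, by omega⟩ : Fin n) < ⟨l + 1, hl⟩ from Nat.lt_succ_self l)
        have := ih (by omega)
        simp only at *
        omega
    · have hG : ¬ IsPoleNum P (J' l + 1) := (hgap _ (by omega)).mpr (Or.inr ⟨l, rfl⟩)
      have h2 := card_poleNum_le_card_gap P (n := J' l) (Nat.lt_succ_self _) hG (fun m h1 h2 => by omega)
      have h3 := Finset.card_filter_add_card_filter_not (s := Finset.Icc 1 (J' l)) (fun m => IsPoleNum P m)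
      have h4 : ((Finset.Icc 1 (J' l)).filter fun m => ¬ IsPoleNum P m).card ≤ (l : ℕ) + 1 := by
        refine (Finset.card_le_card (t := insert 1 ((Finset.Iio l).image fun a => J' a + 1)) fun m hm => ?_).trans
          ((Finset.card_insert_le _ _).trans (Nat.add_le_add_right (Finset.card_image_le.trans (by simp)) 1))
        rw [Finset.mem_filter, Finset.mem_Icc] at hm
        rcases (hgap m hm.1.1).mp hm.2 with h | ⟨a, ha⟩
        · exact Finset.mem_insert.mpr (Or.inl h)
        · exact Finset.mem_insert.mpr (Or.inr (Finset.mem_image.mpr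
            ⟨a, Finset.mem_Iio.mpr (hJ'.1.lt_iff_lt.mp (by omega)), ha⟩))
      rw [Nat.card_Icc] at h3
      omega
    · rw [← hW Φ hΦ]
      have h := sum_le_wDiv hK P hli h1 hnorm ht hHt hJ' (fun z hz => hz) hJt hΦ
      have h' := hstd P y t Ht J' hli h1 hnorm ht hHt hJ' hdeg
      subst hJeq
      rw [h.2.mp h']
      push_cast
      rfl

include hK in
theorem pole_two_data {P : Place k K} (h : IsPoleNum P 2) :
    ∃ f : K, f ∈ L (Finsupp.single P (2 : ℤ)) ∧ P.1 f = exp (2 : ℤ) ∧ finrank (IntermediateField.adjoin k ({f} : Set K)) K = 2 := by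
  obtain ⟨f, hf, hv⟩ := isPoleNum_iff_exists.mp h
  exact ⟨f, hf, hv, finrank_adjoin_of_pole hK (deg_eq_one hK P) (n := 2) two_pos hf
    (ord_eq_of_val P (by rw [hv, neg_neg]))⟩

include hK in
/-- A function with a single double pole is fixed exactly by the automorphisms fixing the Weierstrass points. -/
theorem fixes_iff_of_hyperelliptic (hg : 1 < genus k K) (S : Finset (Place k K)) {P : Place k K} (hP : P ∈ S)
    (hcard : 4 ≤ S.card) (hS : ∀ Q ∈ S, IsPoleNum Q 2) (hcanon : ell (Finsupp.single P ((2 * genus k K - 2 : ℕ) : ℤ)) = genus k K)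
    {f : K} (hf : f ∈ L (Finsupp.single P (2 : ℤ))) (hfv : P.1 f = exp (2 : ℤ)) (σ : K ≃ₐ[k] K) :
    (∀ Q ∈ S, IsFixedPt (σ : K →ₐ[k] K) Q) ↔ σ f = f := by
  have hfQ : ∀ Q, Q ≠ P → Q.1 f ≤ 1 := fun Q h => by simpa [h] using hf Q
  have hself : ∀ Q : Place k K, pullPlace σ Q = P → Q.1 (σ f) = exp (2 : ℤ) := fun Q h => by
    rw [← pullPlace_apply, h, hfv]
  constructor
  · intro hfix
    by_contra hne
    have hh : σ f - f ≠ 0 := sub_ne_zero.mpr hne
    have hfixP := (pullPlace_eq_iff hK σ P).mpr (hfix P hP)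
    let E : Divisor k K := Finsupp.single P (2 : ℤ) - ∑ Q ∈ S.erase P, Finsupp.single Q (1 : ℤ)
    have hmem : σ f - f ∈ L E := fun Q => by
      simp only [E, Finsupp.sub_apply, Finsupp.finsetSum_apply, Finsupp.single_apply, Finset.sum_ite_eq', Finset.mem_erase]
      by_cases hQ : Q = P
      · subst hQ
        rw [if_pos rfl, if_neg (by simp), sub_zero]
        exact (Q.1.map_sub _ _).trans (max_le (hself Q hfixP).le hfv.le)
      · have hQ' : pullPlace σ Q ≠ P := fun h => hQ (pullPlace_injective σ (h.trans hfixP.symm))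
        rw [if_neg (Ne.symm hQ)]
        by_cases hQS : Q ∈ S
        · rw [if_pos ⟨hQ, hQS⟩, zero_sub]
          obtain ⟨c, hc⟩ := exists_const_near hK Q (hfQ Q hQ)
          have h2 := hfix Q hQS _ hc
          have h3 : Q.1 (σ f - f) < 1 := by
            rw [show σ f - f = (σ : K →ₐ[k] K) (f - algebraMap k K c) - (f - algebraMap k K c) by simp]
            exact (Q.1.map_sub _ _).trans_lt (max_lt h2 hc)
          rw [val_le_exp_iff Q hh]
          have := (val_lt_one_iff Q hh).mp h3
          omega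
        · rw [if_neg (fun h => hQS h.2), sub_zero, exp_zero]
          exact (Q.1.map_sub _ _).trans (max_le (hfQ (pullPlace σ Q) hQ') (hfQ Q hQ))
    have hs : ∀ T : Finset (Place k K), (∑ R ∈ T, Finsupp.single R (1 : ℤ) : Divisor k K).deg = T.card := fun T => by
      induction T using Finset.induction with
      | empty => simp
      | insert a s ha ih => rw [Finset.sum_insert ha, deg_add, deg_single, deg_eq_one hK, ih, Finset.card_insert_of_notMem ha]; push_cast; ring
    have hneg : E.deg < 0 := by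
      simp only [E, deg_sub, deg_single, deg_eq_one hK, hs, Finset.card_erase_of_mem hP]
      omega
    rw [L_eq_bot_of_deg_neg hK hneg] at hmem
    exact hh hmem
  · intro hσ Q hQS
    rw [← pullPlace_eq_iff hK]
    by_contra hne
    by_cases hQ : Q = P
    · subst hQ
      have h1 := hfQ _ hne
      rw [pullPlace_apply, hσ, hfv, ← exp_zero, exp_le_exp] at h1
      norm_num at h1
    · obtain ⟨c, hc⟩ := exists_const_near hK Q (hfQ Q hQ)
      set g := f - algebraMap k K c with hgdef
      have hg2 : g ∈ L (Finsupp.single P (2 : ℤ)) := sub_mem hf (by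
        rw [Algebra.algebraMap_eq_smul_one]
        exact smul_mem _ _ (L_mono (Finsupp.single_nonneg.mpr (by norm_num)) (by rw [L_zero_eq hK]; exact mem_span_singleton_self _)))
      have hg0 : g ≠ 0 := fun h => by
        rw [hgdef, sub_eq_zero] at h
        have hc1 := P.2.1 c
        rw [← h, hfv, ← exp_zero, exp_le_exp] at hc1
        norm_num at hc1
      have hval : Q.1 g ≤ exp (-2 : ℤ) := by
        by_contra hlt
        have hord := (val_lt_one_iff Q hg0).mp hc
        have hv1 : Q.1 g = exp (-((1 : ℕ) : ℤ)) := by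
          rw [val_eq_exp_neg_ord Q hg0, exp_le_exp] at hlt
          rw [val_eq_exp_neg_ord Q hg0, exp_inj]
          push_cast
          omega
        let C : Divisor k K := Finsupp.single P ((2 * genus k K - 2 : ℕ) : ℤ)
        have hC : IsCanonical k K C := isCanonical_of_ell_deg hK hcanon (by
          rw [deg_single, deg_eq_one hK]; omega)
        have h1 : (1 : K) ∈ L C := L_mono (Finsupp.single_nonneg.mpr (Int.natCast_nonneg _))
          (by rw [L_zero_eq hK]; exact mem_span_singleton_self _)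
        have hgC : g ∈ L C := L_mono (fun R => by
          simp only [C, Finsupp.single_apply]; split_ifs <;> omega) hg2
        have := (exists_mem_L_val_iff hK hC Q h1 (fun u hu => by simpa [C, hQ] using hu Q) 1).mp ⟨g, hgC, hv1⟩
        exact hS Q hQS (by simpa [IsPoleNum, Nat.cast_one] using this)
      have hval' : (pullPlace σ Q).1 g ≤ exp (-2 : ℤ) := by
        rw [pullPlace_apply, hgdef, map_sub, hσ, AlgEquiv.commutes, ← hgdef]
        exact hval
      have hQ'P : pullPlace σ Q ≠ P := fun h => by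
        have h1 := hfQ Q hQ
        rw [← hσ, hself Q h, ← exp_zero, exp_le_exp] at h1
        norm_num at h1
      let E : Divisor k K := Finsupp.single P (2 : ℤ) - Finsupp.single Q (2 : ℤ) - Finsupp.single (pullPlace σ Q) (2 : ℤ)
      have hmem : g ∈ L E := fun R => by
        simp only [E, Finsupp.sub_apply, Finsupp.single_apply]
        rcases eq_or_ne R Q with rfl | hRQ
        · rw [if_neg (Ne.symm hQ), if_pos rfl, if_neg hne]; simpa using hval
        rcases eq_or_ne R (pullPlace σ Q) with rfl | hRQ'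
        · rw [if_neg (Ne.symm hQ'P), if_neg (Ne.symm hRQ), if_pos rfl]; simpa using hval'
        · rw [if_neg (Ne.symm hRQ), if_neg (Ne.symm hRQ'), sub_zero, sub_zero]
          simpa [Finsupp.single_apply] using hg2 R
      rw [L_eq_bot_of_deg_neg hK (by simp [E, deg_sub, deg_single, deg_eq_one hK])] at hmem
      exact hg0 hmem

include hK in
/-- The dichotomy for the Weierstrass points. -/
theorem weierstrass_dichotomy (hg : 1 < genus k K) (hchar : ringChar k = 0 ∨ 2 * genus k K - 2 < ringChar k)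
    {C : Divisor k K} (hC : IsCanonical k K C) {n : ℕ} {φ : Fin (n + 1) → K} (hφ : LinearIndependent k φ)
    (hspan : span k (Set.range φ) = L C) {s : K} {H : K →ₐ[k] PowerSeries K} (hH : IsHasseFamily s H)
    {J : Fin n → ℕ} (hJ : IsOrders K (hcol (AlgHom.id k K) H φ) J)
    {Φ : Place k K → (K →ₐ[k] LaurentSeries k)} (hΦ : ∀ P : Place k K, IsExpansionAt P.1 (Φ P)) :
    ((2 * genus k K + 2 < (wDiv (AlgHom.id k K) H Φ s φ J).support.card ∧
      ∀ σ : K ≃ₐ[k] K, (∀ P, wDiv (AlgHom.id k K) H Φ s φ J P ≠ 0 → IsFixedPt (σ : K →ₐ[k] K) P) →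
        σ = AlgEquiv.refl) ∨
    ((wDiv (AlgHom.id k K) H Φ s φ J).support.card = 2 * genus k K + 2 ∧
      ∃ x : K, finrank (IntermediateField.adjoin k ({x} : Set K)) K = 2 ∧
        ∀ σ : K ≃ₐ[k] K, (∀ P, wDiv (AlgHom.id k K) H Φ s φ J P ≠ 0 → IsFixedPt (σ : K →ₐ[k] K) P) ↔ σ x = x)) ∧
    ∀ P, wDiv (AlgHom.id k K) H Φ s φ J P ≠ 0 ↔ ∃ m, 1 ≤ m ∧ m ≤ genus k K ∧ IsPoleNum P m := by
  obtain ⟨hn, hdeg, hpt⟩ := weierstrass_data hK hg hchar hC hφ hspan hH hJ hΦ
  choose J' hmono hbd hW hgap using hpt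
  have hle : ∀ P (l : Fin n), (J' P l : ℤ) - ((l : ℕ) + 1) ≤ ((l : ℕ) + 1 : ℤ) := fun P l => by
    have := (hbd P l).2
    omega
  have hWeq : ∀ P, (wDiv (AlgHom.id k K) H Φ s φ J) P = ∑ l : Fin n, ((J' P l : ℤ) - ((l : ℕ) + 1)) := hW
  set W := wDiv (AlgHom.id k K) H Φ s φ J with hWdef
  set T : ℤ := ∑ l : Fin n, ((l : ℕ) + 1 : ℤ) with hTdef
  have hT : 0 < T := Finset.sum_pos (fun l _ => by positivity) ⟨⟨0, by omega⟩, Finset.mem_univ _⟩
  have hWle : ∀ P, W P ≤ T := fun P => (hWeq P).trans_le (Finset.sum_le_sum fun l _ => hle P l)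
  have hsum : W.deg = ∑ P ∈ W.support, W P := Finset.sum_congr rfl fun P _ => by
    simp [deg_eq_one hK]
  have hN : 2 * (n : ℤ) + 4 ≤ W.support.card := by
    have h1 := Finset.sum_le_card_nsmul W.support (fun P => W P) T (fun P _ => hWle P)
    rw [← hsum, hdeg, nsmul_eq_mul] at h1
    exact le_of_mul_le_mul_right h1 hT
  refine ⟨?_, fun P => ?_⟩
  · rcases lt_or_eq_of_le hN with hlt | heq
    · refine Or.inl ⟨by omega, fun σ hσ => eq_refl_of_many_fixed hK σ W.support
        (fun Q hQ => (pullPlace_eq_iff hK σ Q).mpr (hσ Q (Finsupp.mem_support_iff.mp hQ))) (by omega)⟩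
    · refine Or.inr ⟨by omega, ?_⟩
      have hall : ∀ P ∈ W.support, W P = T := by
        refine (Finset.sum_eq_sum_iff_of_le fun P _ => hWle P).mp ?_
        rw [← hsum, hdeg, Finset.sum_const, nsmul_eq_mul, heq]
      have hJ2 : ∀ P ∈ W.support, ∀ l : Fin n, J' P l = 2 * (l : ℕ) + 2 := fun P hP l => by
        have h1 := hall P hP
        rw [hWeq] at h1
        have h2 := (Finset.sum_eq_sum_iff_of_le fun l _ => hle P l).mp h1 l (Finset.mem_univ l)
        omega
      have htwo : ∀ P ∈ W.support, IsPoleNum P 2 := fun P hP => by_contra fun h => by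
        rcases (hgap P 2 (by omega)).mp h with h | ⟨l, hl⟩
        · omega
        · rw [hJ2 P hP l] at hl; omega
      obtain ⟨P, hP⟩ : W.support.Nonempty := Finset.card_pos.mp (by omega)
      obtain ⟨f, hf, hfv, hfr⟩ := pole_two_data hK (htwo P hP)
      refine ⟨f, hfr, fun σ => Iff.trans ⟨fun h Q hQ => h Q (Finsupp.mem_support_iff.mp hQ),
        fun h Q hQ => h Q (Finsupp.mem_support_iff.mpr hQ)⟩
        (fixes_iff_of_hyperelliptic hK hg W.support hP (by omega) htwo ?_ hf hfv σ)⟩
      have hF : (Finset.Icc 1 (2 * n)).filter (fun m => ¬ IsPoleNum P m) =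
          (Finset.range n).image fun i => 2 * i + 1 := by
        ext m
        rw [Finset.mem_filter, Finset.mem_Icc, Finset.mem_image]
        constructor
        · rintro ⟨⟨h1, h2⟩, h⟩
          rcases (hgap P m h1).mp h with rfl | ⟨l, hl⟩
          · exact ⟨0, Finset.mem_range.mpr (by omega), rfl⟩
          · rw [hJ2 P hP l] at hl
            exact ⟨(l : ℕ) + 1, Finset.mem_range.mpr (by omega), by omega⟩
        · rintro ⟨i, hi, rfl⟩
          rw [Finset.mem_range] at hi
          refine ⟨by omega, (hgap P _ (by omega)).mpr ?_⟩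
          rcases Nat.eq_zero_or_pos i with rfl | hi0
          · exact Or.inl rfl
          · exact Or.inr ⟨⟨i - 1, by omega⟩, by rw [hJ2 P hP]; dsimp; omega⟩
      have h3 := ell_single_eq hK P (2 * n)
      rw [hF, Finset.card_image_of_injective _ (fun a b (h : 2 * a + 1 = 2 * b + 1) => by omega), Finset.card_range] at h3
      rw [show 2 * genus k K - 2 = 2 * n by omega]
      omega
  · constructor
    · intro hne
      by_contra hno
      push Not at hno
      refine hne ?_
      rw [hWeq]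
      refine Finset.sum_eq_zero fun l _ => ?_
      have h1 := fun m (h1 : 1 ≤ m) (h2 : m ≤ genus k K) => (hgap P m h1).mp (hno m h1 h2)
      have hex : ∀ i : Fin n, ∃ a, J' P a = (i : ℕ) + 1 := fun i => by
        rcases h1 ((i : ℕ) + 2) (by omega) (by omega) with h | ⟨a, ha⟩
        · omega
        · exact ⟨a, by omega⟩
      choose a ha using hex
      have hinj : Function.Injective a := fun i j h => Fin.ext (by have := ha i; have := ha j; rw [h] at *; omega)
      obtain ⟨i, rfl⟩ := (Finite.injective_iff_surjective.mp hinj) l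
      have hb := (hbd P (a i)).1
      have hbmono : StrictMono a := fun i j hij => (hmono P).lt_iff_lt.mp (by rw [ha, ha]; exact Nat.succ_lt_succ hij)
      rw [ha i] at hb ⊢
      have hi : (i : ℕ) ≤ (a i : ℕ) := hbmono.id_le i
      push_cast
      omega
    · rintro ⟨m, h1, h2, hm⟩ h0
      have hJ1 : ∀ l : Fin n, J' P l = (l : ℕ) + 1 := fun l => by
        rw [hWeq] at h0
        have h3 := (Finset.sum_eq_zero_iff_of_nonneg
          (fun l _ => by have := (hbd P l).1; omega)).mp h0 l (Finset.mem_univ l)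
        omega
      refine ((hgap P m h1).mpr ?_) hm
      rcases eq_or_ne m 1 with h | h
      · exact Or.inl h
      · exact Or.inr ⟨⟨m - 2, by omega⟩, by rw [hJ1]; dsimp; omega⟩

include hK in
/-- The automorphism group is finite. -/
theorem finite_algEquiv (hg : 1 < genus k K) (hchar : ringChar k = 0 ∨ 2 * genus k K - 2 < ringChar k) :
    Finite (K ≃ₐ[k] K) := by
  obtain ⟨C, hC⟩ := exists_isCanonical hK
  have := finiteDimensional_L hK C
  obtain ⟨n, hn⟩ : ∃ n, n + 1 = genus k K := ⟨genus k K - 1, by omega⟩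
  let b := Module.finBasisOfFinrankEq k (L C) ((ell_canonical hK hC).1.trans hn.symm)
  let φ : Fin (n + 1) → K := fun i => (b i : K)
  have hφ : LinearIndependent k φ := b.linearIndependent.map' (L C).subtype (L C).ker_subtype
  have hspan : span k (Set.range φ) = L C := by
    rw [show Set.range φ = (L C).subtype '' Set.range b from (Set.range_comp _ _), ← Submodule.map_span, b.span_eq,
      Submodule.map_top, Submodule.range_subtype]
  obtain ⟨P₀⟩ := nonempty_place hK
  obtain ⟨t, -, ht⟩ := exists_uniformizer P₀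
  obtain ⟨H, hH⟩ := exists_hasse_uniformizer hK P₀ ht
  obtain ⟨J, hJ, -⟩ := exists_orders hK hφ (AlgHom.id k K) hH
  choose u hu0 hu using fun P : Place k K => exists_uniformizer P
  choose Φ hΦ' using fun P : Place k K => exists_expansion hK P (hu P)
  obtain ⟨hd, hiff⟩ := weierstrass_dichotomy hK hg hchar hC hφ hspan hH hJ (fun P => (hΦ' P).1) (Φ := Φ)
  set W := wDiv (AlgHom.id k K) H Φ t φ J with hWdef
  have hinv : ∀ (σ : K ≃ₐ[k] K), ∀ P ∈ W.support, pullPlace σ P ∈ W.support := fun σ P hP => by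
    rw [Finsupp.mem_support_iff, hiff] at hP ⊢
    obtain ⟨m, h1, h2, h3⟩ := hP
    exact ⟨m, h1, h2, isPoleNum_pullPlace hK σ h3⟩
  let act : (K ≃ₐ[k] K) → (W.support → W.support) := fun σ P => ⟨pullPlace σ P, hinv σ P P.2⟩
  have hker : {ρ : K ≃ₐ[k] K | ∀ P, W P ≠ 0 → IsFixedPt (ρ : K →ₐ[k] K) P}.Finite := by
    rcases hd with ⟨-, h⟩ | ⟨-, x, hx, h⟩
    · exact (Set.finite_singleton AlgEquiv.refl).subset fun ρ hρ => h ρ hρ
    · let F := IntermediateField.adjoin k ({x} : Set K)
      have : FiniteDimensional F K := Module.finite_of_finrank_pos (by rw [hx]; exact two_pos)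
      refine (Set.finite_range fun e : K ≃ₐ[F] K => e.restrictScalars k).subset fun ρ hρ => ?_
      have hfix : ∀ z ∈ F, ρ z = z := fun z hz => by
        induction hz using IntermediateField.adjoin_induction with
        | mem y hy => rw [Set.mem_singleton_iff] at hy; rw [hy]; exact (h ρ).mp hρ
        | algebraMap r => exact ρ.commutes r
        | add y z _ _ hy hz => rw [map_add, hy, hz]
        | mul y z _ _ hy hz => rw [map_mul, hy, hz]
        | inv y _ hy => rw [map_inv₀, hy]
      exact ⟨AlgEquiv.ofRingEquiv (f := (ρ : K ≃+* K)) (fun z => hfix z z.2), AlgEquiv.ext fun _ => rfl⟩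
  refine Finite.of_finite_univ ?_
  refine Set.Finite.of_finite_fibers act (Set.toFinite _) fun g hg' => ?_
  obtain ⟨σ₀, -, rfl⟩ := hg'
  refine (hker.image fun ρ => σ₀.symm.symm * ρ).subset fun σ hσ => ⟨σ₀⁻¹ * σ, fun P hP => ?_, ?_⟩
  · rw [← pullPlace_eq_iff hK]
    have hP' : P ∈ W.support := Finsupp.mem_support_iff.mpr hP
    have hmem : pullPlace σ₀.symm P ∈ W.support := hinv _ P hP'
    have h1 := congrFun (Set.mem_singleton_iff.mp hσ.2) ⟨_, hmem⟩
    have h2 : pullPlace σ (pullPlace σ₀.symm P) = pullPlace σ₀ (pullPlace σ₀.symm P) := congrArg Subtype.val h1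
    rw [show pullPlace (σ₀⁻¹ * σ) P = pullPlace σ (pullPlace σ₀.symm P) from rfl, h2]
    exact Subtype.ext (Valuation.ext fun x => by simp [pullPlace_apply])
  · simp

end Groth.Agent.FF
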