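import Groth.Agent.FF.PlaneModel
import Groth.Agent.FF.Embed2

/-! Projective normality in high degree versus nonsingularity; smooth plane models. -/

open FunFld WithZero Module
open scoped Pointwise

namespace Groth.Agent.FF

variable {k K : Type*} [Field k] [Field K] [Algebra k K] {ι : Type*}

theorem exists_degree_bound (φ : ι → K) {j : ι} (hj : φ j ≠ 0) {u : K}
    (hu : u ∈ Algebra.adjoin k (Set.range fun i => φ i / φ j)) :
    ∃ N : ℕ, ∀ M, N ≤ M → u * φ j ^ M ∈ Submodule.span k (Set.range φ) ^ M := by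
  have hφ : ∀ i, φ i ∈ Submodule.span k (Set.range φ) := fun i => Submodule.subset_span ⟨i, rfl⟩
  induction hu using Algebra.adjoin_induction with
  | mem z hz =>
    obtain ⟨i, rfl⟩ := hz
    refine ⟨1, fun M hM => ?_⟩
    obtain ⟨r, rfl⟩ := Nat.exists_eq_add_of_le hM
    rw [pow_add, pow_one, pow_add, pow_one, ← mul_assoc, div_mul_cancel₀ _ hj]
    exact Submodule.mul_mem_mul (hφ i) (Submodule.pow_mem_pow _ (hφ j) r)
  | algebraMap c =>
    refine ⟨0, fun M _ => ?_⟩
    rw [← Algebra.smul_def]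
    exact Submodule.smul_mem _ _ (Submodule.pow_mem_pow _ (hφ j) M)
  | add a b _ _ ha hb =>
    obtain ⟨N, hN⟩ := ha; obtain ⟨N', hN'⟩ := hb
    exact ⟨max N N', fun M hM => by rw [add_mul]; exact add_mem (hN M (le_of_max_le_left hM)) (hN' M (le_of_max_le_right hM))⟩
  | mul a b _ _ ha hb =>
    obtain ⟨N, hN⟩ := ha; obtain ⟨N', hN'⟩ := hb
    refine ⟨N + N', fun M hM => ?_⟩
    obtain ⟨r, rfl⟩ := Nat.exists_eq_add_of_le hM
    rw [show a * b * φ j ^ (N + N' + r) = (a * φ j ^ N) * (b * φ j ^ (N' + r)) by ring,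
      show N + N' + r = N + (N' + r) by omega, pow_add (Submodule.span k (Set.range φ))]
    exact Submodule.mul_mem_mul (hN N le_rfl) (hN' _ (by omega))

theorem div_pow_mem_adjoin (φ : ι → K) {j : ι} (hj : φ j ≠ 0) (n : ℕ) :
    ∀ s ∈ Submodule.span k (Set.range φ) ^ n, s / φ j ^ n ∈ Algebra.adjoin k (Set.range fun i => φ i / φ j) := by
  induction n with
  | zero =>
    intro s hs
    rw [pow_zero, Submodule.mem_one] at hs
    obtain ⟨c, rfl⟩ := hs
    simp only [pow_zero, div_one]
    exact Subalgebra.algebraMap_mem _ c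
  | succ n ih =>
    intro s hs
    rw [pow_succ] at hs
    induction hs using Submodule.mul_induction_on' with
    | mem_mul_mem a ha b hb =>
      rw [pow_succ, mul_div_mul_comm]
      refine Subalgebra.mul_mem _ (ih a ha) ?_
      induction hb using Submodule.span_induction with
      | mem z hz => obtain ⟨i, rfl⟩ := hz; exact Algebra.subset_adjoin ⟨i, rfl⟩
      | zero => simp
      | add x y _ _ hx hy => rw [add_div]; exact add_mem hx hy
      | smul c x _ hx => rw [smul_div_assoc]; exact Subalgebra.smul_mem _ hx c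
    | add x _ y _ hx hy => rw [add_div]; exact add_mem hx hy

theorem val_eq_exp_of_forall_le {φ : ι → K} {D : Divisor k K}
    (hb : IsBpf (Submodule.span k (Set.range φ)) D) {P : Place k K} {j : ι}
    (hmax : ∀ i, P.1 (φ i) ≤ P.1 (φ j)) : IsExact D P (φ j) := by
  refine le_antisymm (hb.le (Submodule.subset_span ⟨j, rfl⟩) P) ?_
  obtain ⟨s, hs, he⟩ := hb.exists_exact P
  rw [← (he : P.1 s = _)]
  clear he
  induction hs using Submodule.span_induction with
  | mem z hz => obtain ⟨i, rfl⟩ := hz; exact hmax i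
  | zero => simp
  | add x y _ _ hx hy => exact (P.1.map_add x y).trans (max_le hx hy)
  | smul c x _ hx =>
    rw [Algebra.smul_def, map_mul]
    exact (mul_le_mul' (P.2.1 c) hx).trans (by rw [one_mul])

theorem exists_max_ne_zero [Fintype ι] {φ : ι → K} {D : Divisor k K}
    (hb : IsBpf (Submodule.span k (Set.range φ)) D) (P : Place k K) :
    ∃ j, φ j ≠ 0 ∧ ∀ i, P.1 (φ i) ≤ P.1 (φ j) := by
  obtain ⟨s, hs, he⟩ := hb.exists_exact P
  have : Nonempty ι := by
    by_contra hc
    have := not_nonempty_iff.mp hc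
    rw [Set.range_eq_empty, Submodule.span_empty, Submodule.mem_bot] at hs
    exact he.ne_zero hs
  obtain ⟨j, -, hj⟩ := Finset.exists_max_image Finset.univ (fun i => P.1 (φ i)) Finset.univ_nonempty
  have hmax := fun i => hj i (Finset.mem_univ i)
  exact ⟨j, (val_eq_exp_of_forall_le hb hmax).ne_zero, hmax⟩

theorem isNonsingularAt_of_normal [IsAlgClosed k] (hK : IsFunctionField k K) [Fintype ι] (φ : ι → K)
    (D : Divisor k K) (hb : IsBpf (Submodule.span k (Set.range φ)) D) (hD : 0 < D.deg) (n₁ : ℕ)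
    (hn : ∀ n, n₁ ≤ n → L (n • D) ≤ Submodule.span k (Set.range φ) ^ n) (P : Place k K) :
    IsNonsingularAt φ P := by
  intro z hz
  obtain ⟨j, hj0, hmax⟩ := exists_max_ne_zero hb P
  have hje := val_eq_exp_of_forall_le hb hmax
  set n := n₁ + ((poles (k := k) z).deg + 2 * genus k K + 1).toNat with hn'
  set E := n • D - poles (k := k) z with hE
  have hdegE : 2 * (genus k K : ℤ) + 1 ≤ E.deg := by
    have : 0 ≤ (poles (k := k) z).deg := by
      have := deg_mono (poles_nonneg (k := k) z); rwa [deg_zero] at this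
    rw [hE, deg_sub, ← natCast_zsmul, deg_zsmul, hn']
    push_cast
    rw [Int.toNat_of_nonneg (by omega)]
    nlinarith
  have hP1 : 2 * (genus k K : ℤ) - 1 ≤ (E - Finsupp.single P (1 : ℤ)).deg := by
    rw [deg_sub, deg_single, deg_eq_one hK]; omega
  have h1 := ell_eq_of_deg_large hK (D := E) (by omega)
  have h2 := ell_eq_of_deg_large hK hP1
  rw [deg_sub, deg_single, deg_eq_one hK] at h2
  obtain ⟨s, hs, hs'⟩ := exists_not_mem_sub_single hK (E := E) (P := P) (by omega)
  have hse : IsExact E P s := exact_of_not_le hs fun hle => hs' (mem_L_sub_single.mpr ⟨hs, hle⟩)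
  have hzP : poles (k := k) z P = 0 := by
    rw [poles_apply hK]
    rcases eq_or_ne z 0 with rfl | hz0
    · simp [Place.ord]
    · have := (val_le_one_iff P hz0).mp hz; omega
  have hsD : s ∈ L (n • D) := L_mono (sub_le_self _ (poles_nonneg z)) hs
  have hzs : z * s ∈ L (n • D) := by
    have := mul_mem_L (fun Q => val_le_exp_poles hK z Q : z ∈ L (poles (k := k) z)) hs
    rwa [hE, add_sub_cancel] at this
  refine ⟨j, hj0, hmax, z * s / φ j ^ n, div_pow_mem_adjoin φ hj0 n _ (hn n (by omega) hzs),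
    s / φ j ^ n, div_pow_mem_adjoin φ hj0 n _ (hn n (by omega) hsD), ?_, by rw [mul_div_assoc]⟩
  rw [map_div₀, map_pow, hje, hse, hE, Finsupp.sub_apply, hzP, sub_zero, ← exp_nsmul, ← Finsupp.smul_apply,
    div_self exp_ne_zero]

theorem normal_of_isNonsingularAt [IsAlgClosed k] (hK : IsFunctionField k K) [Fintype ι] (φ : ι → K)
    (D : Divisor k K) (hb : IsBpf (Submodule.span k (Set.range φ)) D) (hD : 0 < D.deg)
    (h : ∀ P : Place k K, IsNonsingularAt φ P) :
    ∃ n₁, ∀ n, n₁ ≤ n → L (n • D) ≤ Submodule.span k (Set.range φ) ^ n := by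
  classical
  set V := Submodule.span k (Set.range φ) with hV
  set n₀ := 2 * genus k K + 2 with hn₀
  have := finiteDimensional_L hK (n₀ • D)
  let C : ℕ → Submodule k K := fun N => V ^ N ⊓ ⨅ b : L (n₀ • D), (V ^ (N + n₀)).comap (LinearMap.mulRight k (b : K))
  have hC : ∀ N s, s ∈ C N ↔ s ∈ V ^ N ∧ ∀ b ∈ L (n₀ • D), s * b ∈ V ^ (N + n₀) := fun N s => by
    simp [C, Submodule.mem_iInf]
  have hCmul : ∀ N r s t, s ∈ C N → t ∈ V ^ r → s * t ∈ C (N + r) := fun N r s t hs ht => by
    rw [hC] at hs ⊢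
    refine ⟨by rw [pow_add]; exact Submodule.mul_mem_mul hs.1 ht, fun b hb' => ?_⟩
    rw [mul_right_comm, show N + r + n₀ = (N + n₀) + r by omega, pow_add]
    exact Submodule.mul_mem_mul (hs.2 b hb') ht
  -- conductor elements at each place
  have hex : ∀ P : Place k K, ∃ N s, s ∈ C N ∧ IsExact (N • D) P s := fun P => by
    obtain ⟨j, hj0, hmax⟩ := exists_max_ne_zero hb P
    have hje := val_eq_exp_of_forall_le hb hmax
    have hjV : φ j ∈ V := Submodule.subset_span ⟨j, rfl⟩
    let B := Module.finBasis k (L (n₀ • D))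
    have hone : ∀ i, ∃ N s, s ∈ V ^ N ∧ IsExact (N • D) P s ∧ s * (B i : K) ∈ V ^ (N + n₀) := fun i => by
      obtain ⟨j', hj'0, hmax', u, hu, w, hw, hw1, hzw⟩ := h P ((B i : K) / φ j ^ n₀) (by
        rw [map_div₀, map_pow, hje, ← exp_nsmul, ← Finsupp.smul_apply, div_le_one₀ exp_pos]
        exact (B i).2 P)
      obtain ⟨Nu, hNu⟩ := exists_degree_bound φ hj'0 hu
      obtain ⟨Nw, hNw⟩ := exists_degree_bound φ hj'0 hw
      have hje' := val_eq_exp_of_forall_le hb hmax'
      refine ⟨Nu + Nw, w * φ j' ^ (Nu + Nw), hNw _ (by omega), ?_, ?_⟩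
      · rw [IsExact, map_mul, hw1, one_mul]; exact hje'.pow _
      · have e : w * φ j' ^ (Nu + Nw) * (B i : K) = (u * φ j' ^ (Nu + Nw)) * φ j ^ n₀ := by
          rw [← hzw]; field_simp [pow_ne_zero n₀ hj0]
        rw [e, pow_add V (Nu + Nw) n₀]
        exact Submodule.mul_mem_mul (hNu _ (by omega)) (Submodule.pow_mem_pow _ hjV _)
    have hall : ∀ t : Finset (Fin (finrank k (L (n₀ • D)))), ∃ N s, s ∈ V ^ N ∧ IsExact (N • D) P s ∧
        ∀ i ∈ t, s * (B i : K) ∈ V ^ (N + n₀) := fun t => by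
      induction t using Finset.induction with
      | empty => exact ⟨0, 1, by rw [pow_zero]; exact Submodule.one_le.mp le_rfl, by simp [IsExact], by simp⟩
      | @insert i t _ ih =>
        obtain ⟨N, s, hs, he, hst⟩ := ih
        obtain ⟨N', s', hs', he', hst'⟩ := hone i
        refine ⟨N + N', s * s', by rw [pow_add]; exact Submodule.mul_mem_mul hs hs', ?_, ?_⟩
        · rw [add_nsmul]; exact he.mul he'
        intro l hl
        rcases Finset.mem_insert.mp hl with rfl | hl
        · rw [mul_assoc, add_assoc, pow_add]; exact Submodule.mul_mem_mul hs hst'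
        · rw [mul_right_comm, show N + N' + n₀ = (N + n₀) + N' by omega, pow_add]
          exact Submodule.mul_mem_mul (hst l hl) hs'
    obtain ⟨N, s, hs, he, hst⟩ := hall Finset.univ
    refine ⟨N, s, (hC N s).mpr ⟨hs, fun b hb' => ?_⟩, he⟩
    have : (⟨b, hb'⟩ : L (n₀ • D)) ∈ (V ^ (N + n₀)).comap ((LinearMap.mulLeft k s).comp (Submodule.subtype _)) := by
      rw [← B.sum_repr ⟨b, hb'⟩]
      exact Submodule.sum_mem _ fun l _ => Submodule.smul_mem _ _ (by simpa using hst l (Finset.mem_univ l))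
    simpa using this
  -- one degree for all places
  obtain ⟨P₀⟩ := nonempty_place hK
  obtain ⟨N₁, a, ha, hae⟩ := hex P₀
  choose NP sP hsP heP using hex
  set bad := (FunFld.div k a + N₁ • D).support
  set N := N₁ + bad.sum NP with hN
  have hbpf : IsBpf (C N) (N • D) :=
    { le := fun s hs => pow_le_L hb.le N ((hC N s).mp hs).1
      exists_exact := fun P => by
        obtain ⟨e, heV, hee⟩ := hb.exists_exact P
        by_cases hP : P ∈ bad
        · obtain ⟨r, hr⟩ := Nat.exists_eq_add_of_le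
            (show NP P ≤ N from le_add_left (Finset.single_le_sum (fun _ _ => Nat.zero_le _) hP))
          refine ⟨sP P * e ^ r, hr ▸ hCmul _ _ _ _ (hsP P) (Submodule.pow_mem_pow _ heV r), ?_⟩
          rw [hr, add_nsmul]; exact (heP P).mul (hee.pow r)
        · rw [Finsupp.notMem_support_iff, Finsupp.add_apply, div_apply hK] at hP
          have hae' : IsExact (N₁ • D) P a := by
            rw [IsExact, val_eq_exp_neg_ord P hae.ne_zero, show -P.ord a = (N₁ • D) P by omega]
          refine ⟨a * e ^ bad.sum NP, hCmul _ _ _ _ ha (Submodule.pow_mem_pow _ heV _), ?_⟩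
          rw [hN, add_nsmul]; exact hae'.mul (hee.pow _) }
  obtain ⟨b, hb1, b', hb1', hb0, hb0', hbb⟩ := hbpf.exists_pair hK
  refine ⟨N + (n₀ + N + 2 * genus k K), fun n hn => ?_⟩
  obtain ⟨r, rfl⟩ := Nat.exists_eq_add_of_le hn
  set m := n₀ + (N + 2 * genus k K + r) with hm
  have hdegm : ∀ i : ℕ, (i • D).deg = i * D.deg := fun i => by rw [← natCast_zsmul, deg_zsmul]
  intro x hx
  rw [show N + (n₀ + N + 2 * genus k K) + r = m + N by omega, add_nsmul] at hx
  obtain ⟨y, hy, z, hz, rfl⟩ := pencil hK (hbpf.le hb1) (hbpf.le hb1') hb0 hb0' hbb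
    (by rw [hdegm, hdegm, hm, hn₀]; push_cast; nlinarith) (by rw [hdegm]; positivity) x hx
  have hgen := hb.L_nsmul_le hK hD.le n₀ (fun i hi => by
    rw [hn₀] at hi
    have : (2 * genus k K + 2 : ℤ) ≤ i := by exact_mod_cast hi
    nlinarith) (N + 2 * genus k K + r)
  have key : ∀ c ∈ C N, ∀ w ∈ L (m • D), c * w ∈ V ^ (N + (n₀ + N + 2 * genus k K) + r) := fun c hc w hw => by
    rw [show N + (n₀ + N + 2 * genus k K) + r = (N + 2 * genus k K + r) + (N + n₀) by omega, pow_add]
    have hw' := hgen hw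
    clear hw
    induction hw' using Submodule.mul_induction_on' with
    | mem_mul_mem v hv l hl => rw [mul_left_comm]; exact Submodule.mul_mem_mul hv (((hC N c).mp hc).2 l hl)
    | add p _ q _ hp hq => rw [mul_add]; exact add_mem hp hq
  exact add_mem (key b hb1 y hy) (key b' hb1' z hz)

theorem plane_smooth_iff [IsAlgClosed k] (hK : IsFunctionField k K) {x y : K}
    (hxy : IntermediateField.adjoin k ({x, y} : Set K) = ⊤) :
    2 * (genus k K : ℤ) = ((mapDiv k ![(1 : K), x, y]).deg - 1) * ((mapDiv k ![(1 : K), x, y]).deg - 2) ↔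
      ∀ P : Place k K, IsNonsingularAt ![(1 : K), x, y] P := by
  obtain ⟨f, hf, hfxy⟩ := exists_relation hK hxy
  obtain ⟨hde, -, hid⟩ := plane_degree hK hxy hf hfxy
  have hb := isBpf_plane hK x y
  have hd := deg_mapDiv_plane_pos hK hxy
  rw [hde]
  constructor
  · intro heq P
    refine isNonsingularAt_of_normal hK _ _ hb hd (2 * genus k K + f.totalDegree) (fun n hn => ?_) P
    obtain ⟨r, rfl⟩ := Nat.exists_eq_add_of_le hn
    have := hid (2 * genus k K + r) (by omega)
    rw [show 2 * genus k K + r + f.totalDegree = 2 * genus k K + f.totalDegree + r by omega] at this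
    have := finiteDimensional_L hK ((2 * genus k K + f.totalDegree + r) • mapDiv k ![(1 : K), x, y])
    refine (Submodule.eq_of_le_of_finrank_le (pow_le_L hb.le _) ?_).ge
    change ell _ ≤ _
    omega
  · intro h
    obtain ⟨n₁, hn₁⟩ := normal_of_isNonsingularAt hK _ _ hb hd h
    have h1 := hid (n₁ + 2 * genus k K) (by omega)
    have e : planeV k x y ^ (n₁ + 2 * genus k K + f.totalDegree) =
        L ((n₁ + 2 * genus k K + f.totalDegree) • mapDiv k ![(1 : K), x, y]) :=
      le_antisymm (pow_le_L hb.le _) (hn₁ _ (by omega))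
    rw [e, ← ell, sub_self, mul_zero] at h1
    omega

end Groth.Agent.FF
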