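import Groth.Agent.FF.DiffGenus
import Groth.Agent.FF.PlaneSmooth

/-! Divisors of differentials `u dv` through a separating variable. -/

namespace Groth.Agent.FF

open FunFld WithZero LocRes IntermediateField
open scoped Classical

variable {k K : Type*} [Field k] [IsAlgClosed k] [Field K] [Algebra k K]

theorem ord_mul_zpow_aux (P : Place k K) {x : K} (hx : x ≠ 0) (n : ℤ) : P.ord (x ^ n) = n * P.ord x := by
  refine ord_eq_of_val P ?_
  rw [map_zpow₀, val_eq_exp_neg_ord P hx, ← exp_zsmul, smul_eq_mul, mul_neg]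

/-- The divisor of `u dv` is `div (u · dv/ds) + div ds`. -/
theorem divDiff_eq_div_add (hK : IsFunctionField k K) {s : K} {H : K →ₐ[k] PowerSeries K} (hH : IsHasseFamily s H)
    (Φ : Place k K → (K →ₐ[k] LaurentSeries k)) (hΦ : ∀ P : Place k K, IsExpansionAt P.1 (Φ P))
    (u v : K) (h0 : u * hasseD H 1 v ≠ 0) :
    divDiff Φ u v = FunFld.div k (u * hasseD H 1 v) + divDiff Φ 1 s := by
  have := isSeparable_of_hasse hK hH
  have hP : ∀ P : Place k K, ordDiff (Φ P) u v = P.ord (u * hasseD H 1 v) + ordDiff (Φ P) 1 s := by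
    intro P
    obtain ⟨t, ht0, ht⟩ := exists_uniformizer P
    obtain ⟨Ht, hHt⟩ := exists_hasse_uniformizer hK P ht
    have he : hasseDer hHt = hasseD Ht 1 s • hasseDer hH := by
      refine derivation_ext_separable (x := s) _ _ ?_
      change hasseD Ht 1 s = hasseD Ht 1 s * hasseD H 1 s
      rw [hasseD_one_self hH, mul_one]
    have hv : hasseD Ht 1 v = hasseD Ht 1 s * hasseD H 1 v := Derivation.congr_fun he v
    have hs0 : hasseD Ht 1 s ≠ 0 := fun h => by
      have := isSeparable_of_hasse hK hHt
      have he' : hasseDer hH = hasseD H 1 t • hasseDer hHt := by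
        refine derivation_ext_separable (x := t) _ _ ?_
        change hasseD H 1 t = hasseD H 1 t * hasseD Ht 1 t
        rw [hasseD_one_self hHt, mul_one]
      have h1 : hasseD H 1 s = hasseD H 1 t * hasseD Ht 1 s := Derivation.congr_fun he' s
      rw [hasseD_one_self hH, h, mul_zero] at h1
      exact one_ne_zero h1
    rw [ordDiff, vDiff_eq hK P ht hHt (Φ P) (hΦ P), hv, ordDiff_eq hK P ht hHt (hΦ P),
      show u * (hasseD Ht 1 s * hasseD H 1 v) = u * hasseD H 1 v * hasseD Ht 1 s by ring, ← ord_mul P h0 hs0]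
    rfl
  have hs := (divDiff_props hK hH Φ hΦ).1
  have hfin : (Function.support fun P : Place k K => ordDiff (Φ P) u v).Finite := by
    refine ((finite_support_ord hK (u * hasseD H 1 v)).union (divDiff Φ 1 s).finite_support).subset fun P hmem => ?_
    by_contra hc
    simp only [Set.mem_union, Function.mem_support, not_or, not_not] at hc
    refine hmem ?_
    change ordDiff (Φ P) u v = 0
    rw [hP, hc.1, ← hs, hc.2, add_zero]
  refine Finsupp.ext fun P => ?_
  rw [Finsupp.add_apply, div_apply hK, hs, ← hP, divDiff, dif_pos hfin]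
  rfl

end Groth.Agent.FF
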