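import Groth.Agent.FF.DiscrDiff

/-! The divisor of a differential has degree `2g - 2`. -/

namespace Groth.Agent.FF

open FunFld WithZero LocRes Module IntermediateField
open scoped Classical

variable {k K : Type*} [Field k] [Field K] [Algebra k K] [IsAlgClosed k]

theorem isFunctionField_adjoin {x : K} (hK : IsFunctionField k K) (hx : Transcendental k x) :
    IsFunctionField k k⟮x⟯ ∧ k⟮(AdjoinSimple.gen k x)⟯ = (⊤ : IntermediateField k k⟮x⟯) := by
  have htop : k⟮(AdjoinSimple.gen k x)⟯ = (⊤ : IntermediateField k k⟮x⟯) := by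
    refine IntermediateField.map_injective k⟮x⟯.val ?_
    rw [adjoin_map, Set.image_singleton, ← AlgHom.fieldRange_eq_map, fieldRange_val]
    rfl
  refine ⟨⟨⟨AdjoinSimple.gen k x, fun h => hx (h.algebraMap), ?_⟩, fun y hy => ?_⟩, htop⟩
  · rw [htop]
    exact Module.Finite.of_surjective (Algebra.linearMap (⊤ : IntermediateField k k⟮x⟯) k⟮x⟯)
      fun y => ⟨⟨y, trivial⟩, rfl⟩
  · obtain ⟨c, hc⟩ := hK.2 y (hy.algebraMap (A := K))
    exact ⟨c, Subtype.ext hc⟩

/-- In `k(x)` an element of degree one has a unique pole. -/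
theorem pole_unique (hF : IsFunctionField k K) {w : K} (hw : Transcendental k w) (h1 : finrank k⟮w⟯ K = 1)
    {P Q : Place k K} (hP : 1 < P.1 w) (hQ : 1 < Q.1 w) : P = Q ∧ P.ord w = -1 := by
  have hw0 : w ≠ 0 := fun e => hw (e ▸ isAlgebraic_zero)
  have hdeg := deg_poles hF hw
  rw [h1, Nat.cast_one] at hdeg
  have hpos : ∀ R : Place k K, 1 < R.1 w → 1 ≤ poles (k := k) w R := fun R hR => by
    rw [poles_apply hF]
    have : ¬ (0 ≤ R.ord w) := fun h => not_lt.mpr ((val_le_one_iff R hw0).mpr h) hR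
    omega
  have hle : ∀ S : Finset (Place k K), ∑ R ∈ S, poles (k := k) w R ≤ 1 := fun S => by
    rw [← hdeg]
    have : (poles (k := k) w).deg = ∑ R ∈ S ∪ (poles (k := k) w).support, poles (k := k) w R := by
      rw [FunFld.Divisor.deg, Finsupp.sum_of_support_subset (poles (k := k) w) (Finset.subset_union_right (s₁ := S)) _ (by simp)]
      simp [deg_eq_one hF]
    rw [this]
    exact Finset.sum_le_sum_of_subset_of_nonneg Finset.subset_union_left fun R _ _ => poles_nonneg w R
  refine ⟨by_contra fun hne => ?_, ?_⟩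
  · have := hle {P, Q}
    rw [Finset.sum_pair hne] at this
    have := hpos P hP; have := hpos Q hQ
    omega
  · have := hle {P}
    rw [Finset.sum_singleton, poles_apply hF] at this
    have h2 := hpos P hP
    rw [poles_apply hF] at h2
    omega

section Lattice

variable (x : K)

/-- `L(m·(pole divisor of x))`. -/
noncomputable def bnd (m : ℤ) : Submodule k K := L (m • poles (k := k) x)

variable {x}

theorem mem_bnd (hK : IsFunctionField k K) (hx : x ≠ 0) {m : ℤ} {z : K} :
    z ∈ bnd (k := k) x m ↔ (∀ Q : Place k K, Q.1 x ≤ 1 → Q.1 z ≤ 1) ∧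
      ∀ Q : Place k K, 1 < Q.1 x → Q.1 z ≤ exp (m * -Q.ord x) := by
  simp only [bnd, mem_L, Finsupp.smul_apply, smul_eq_mul, poles_apply hK]
  refine ⟨fun h => ⟨fun Q hQ => ?_, fun Q hQ => ?_⟩, fun h Q => ?_⟩
  · have := h Q
    rwa [max_eq_right (by have := (val_le_one_iff Q hx).mp hQ; omega), mul_zero, exp_zero] at this
  · have := h Q
    rwa [max_eq_left] at this
    have : ¬ (0 ≤ Q.ord x) := fun h' => not_lt.mpr ((val_le_one_iff Q hx).mpr h') hQ
    omega
  · rcases le_or_gt (Q.1 x) 1 with hQ | hQ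
    · rw [max_eq_right (by have := (val_le_one_iff Q hx).mp hQ; omega), mul_zero, exp_zero]; exact h.1 Q hQ
    · rw [max_eq_left (by
        have : ¬ (0 ≤ Q.ord x) := fun h' => not_lt.mpr ((val_le_one_iff Q hx).mpr h') hQ
        omega)]
      exact h.2 Q hQ

theorem bnd_mono {m l : ℤ} (h : m ≤ l) : bnd (k := k) x m ≤ bnd (k := k) x l :=
  L_mono fun Q => mul_le_mul_of_nonneg_right h (poles_nonneg x Q)

theorem mul_mem_bnd (hK : IsFunctionField k K) {m : ℤ} {z : K} (h : z ∈ bnd (k := k) x m) :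
    x * z ∈ bnd (k := k) x (m + 1) := by
  intro Q
  rw [map_mul, add_comm, add_zsmul, one_zsmul, Finsupp.add_apply, exp_add]
  exact mul_le_mul' (val_le_exp_poles hK x Q) (h Q)

theorem mem_bnd_of_mul (hK : IsFunctionField k K) (hx : x ≠ 0) {m M : ℤ} {z : K} (hz : z ∈ bnd (k := k) x M)
    (h : x * z ∈ bnd (k := k) x m) : z ∈ bnd (k := k) x (m - 1) := by
  rw [mem_bnd hK hx] at h hz ⊢
  refine ⟨hz.1, fun Q hQ => ?_⟩
  have := h.2 Q hQ
  rw [map_mul, val_eq_exp_neg_ord Q hx] at this
  rw [show (m - 1) * -Q.ord x = m * -Q.ord x - -Q.ord x by ring, exp_sub]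
  rw [le_div_iff₀ (exp_pos), mul_comm]
  exact this

theorem bnd_neg (hK : IsFunctionField k K) (hx : Transcendental k x) {m : ℤ} (hm : m < 0) :
    bnd (k := k) x m = ⊥ := by
  have := finiteDimensional_adjoin hK hx
  refine L_eq_bot_of_deg_neg hK ?_
  rw [deg_zsmul, deg_poles hK hx]
  exact mul_neg_of_neg_of_pos hm (by exact_mod_cast Module.finrank_pos)

end Lattice

/-- Complements for the leading parts of the filtration by pole order. -/
theorem exists_leading (hK : IsFunctionField k K) {x : K} (hx : Transcendental k x) :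
    ∃ C : ℕ → Submodule k K, (∀ m : ℕ, C m ≤ bnd (k := k) x m ∧ FiniteDimensional k (C m)) ∧
      (∀ (m : ℕ) (g : ℕ → K), (∀ j, g j ∈ C j) →
        ∑ j ∈ Finset.range (m + 1), x ^ (m - j) * g j ∈ bnd (k := k) x ((m : ℤ) - 1) → ∀ j ≤ m, g j = 0) ∧
      ∀ (m : ℕ) (z : K), z ∈ bnd (k := k) x m → ∃ g : ℕ → K, (∀ j, g j ∈ C j) ∧
        z - ∑ j ∈ Finset.range (m + 1), x ^ (m - j) * g j ∈ bnd (k := k) x ((m : ℤ) - 1) := by
  have hx0 : x ≠ 0 := fun e => hx (e ▸ isAlgebraic_zero)
  let V : ℤ → Submodule k K := bnd (k := k) x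
  have hfd : ∀ m, FiniteDimensional k (V m) := fun m => finiteDimensional_L hK _
  let mx : K →ₗ[k] K := LinearMap.mulLeft k x
  have hC : ∀ m : ℕ, ∃ C : Submodule k K, C ≤ V m ∧
      Disjoint C (V ((m : ℤ) - 1) ⊔ (V ((m : ℤ) - 1)).map mx) ∧
      V m ≤ C ⊔ (V ((m : ℤ) - 1) ⊔ (V ((m : ℤ) - 1)).map mx) := by
    intro m
    set S := V ((m : ℤ) - 1) ⊔ (V ((m : ℤ) - 1)).map mx
    have hS : S ≤ V m := sup_le (bnd_mono (by omega)) (by
      rintro _ ⟨z, hz, rfl⟩
      have := mul_mem_bnd hK hz
      rwa [sub_add_cancel] at this)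
    obtain ⟨C₀, hC₀⟩ := Submodule.exists_isCompl S
    refine ⟨C₀ ⊓ V m, inf_le_right, hC₀.disjoint.symm.mono_left inf_le_left, ?_⟩
    intro z hz
    have hzt : z ∈ S ⊔ C₀ := by rw [hC₀.codisjoint.eq_top]; trivial
    obtain ⟨a, ha, c, hc, rfl⟩ := Submodule.mem_sup.mp hzt
    rw [add_comm]
    exact Submodule.add_mem_sup ⟨hc, by have := (V m).sub_mem hz (hS ha); rwa [add_sub_cancel_left] at this⟩ ha
  choose C hCle hCd hCs using hC
  have hfdC : ∀ m, FiniteDimensional k (C m) := fun m =>
    have := hfd m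
    Submodule.finiteDimensional_of_le (hCle m)
  -- leading parts are independent
  have hindep : ∀ (m : ℕ) (g : ℕ → K), (∀ j, g j ∈ C j) →
      ∑ j ∈ Finset.range (m + 1), x ^ (m - j) * g j ∈ V ((m : ℤ) - 1) → ∀ j ≤ m, g j = 0 := by
    intro m
    induction m with
    | zero =>
      intro g hg hmem j hj
      obtain rfl : j = 0 := by omega
      simp at hmem
      exact (Submodule.disjoint_def.mp (hCd 0)) _ (hg 0) (Submodule.mem_sup_left (by simpa using hmem))
    | succ m ih =>
      intro g hg hmem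
      set inner := ∑ j ∈ Finset.range (m + 1), x ^ (m - j) * g j
      have hsplit : ∑ j ∈ Finset.range (m + 1 + 1), x ^ (m + 1 - j) * g j = x * inner + g (m + 1) := by
        rw [Finset.sum_range_succ, Nat.sub_self, pow_zero, one_mul, Finset.mul_sum]
        congr 1
        refine Finset.sum_congr rfl fun j hj => ?_
        rw [Finset.mem_range] at hj
        rw [show m + 1 - j = (m - j) + 1 by omega, pow_succ]; ring
      have hin : inner ∈ V m := sum_mem fun j hj => by
        rw [Finset.mem_range] at hj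
        have : ∀ l : ℕ, x ^ l * g j ∈ V ((j : ℤ) + l) := fun l => by
          induction l with
          | zero => simpa using hCle j (hg j)
          | succ l ihl => rw [pow_succ', mul_assoc, Nat.cast_succ, ← add_assoc]; exact mul_mem_bnd hK ihl
        have h2 := this (m - j)
        rwa [Nat.cast_sub (by omega), add_sub_cancel] at h2
      rw [hsplit, show (((m + 1 : ℕ) : ℤ)) - 1 = (m : ℤ) by push_cast; ring] at hmem
      have htop : g (m + 1) = 0 := by
        refine (Submodule.disjoint_def.mp (hCd (m + 1))) _ (hg _) ?_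
        rw [show g (m + 1) = (x * inner + g (m + 1)) + -(mx inner) by simp [mx]]
        refine add_mem (Submodule.mem_sup_left ?_) (neg_mem (Submodule.mem_sup_right ⟨inner, ?_, rfl⟩))
        · simpa using hmem
        · simpa using hin
      rw [htop, add_zero] at hmem
      intro j hj
      rcases Nat.lt_or_ge j (m + 1) with h | h
      · exact ih g hg (mem_bnd_of_mul hK hx0 hin hmem) j (by omega)
      · rw [show j = m + 1 by omega]; exact htop
  have hgen : ∀ (m : ℕ) (z : K), z ∈ V m → ∃ g : ℕ → K, (∀ j, g j ∈ C j) ∧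
      z - ∑ j ∈ Finset.range (m + 1), x ^ (m - j) * g j ∈ V ((m : ℤ) - 1) := by
    intro m
    induction m with
    | zero =>
      intro z hz
      obtain ⟨c, hc, s, hs, rfl⟩ := Submodule.mem_sup.mp (hCs 0 hz)
      refine ⟨fun j => if j = 0 then c else 0, fun j => by beta_reduce; split_ifs with h <;> [exact h ▸ hc; exact zero_mem _], ?_⟩
      have : s = 0 := by
        have hb : V ((0 : ℕ) - 1 : ℤ) = ⊥ := bnd_neg hK hx (by norm_num)
        rw [hb, Submodule.map_bot, bot_sup_eq] at hs
        simpa using hs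
      simp [this]
    | succ m ih =>
      intro z hz
      obtain ⟨c, hc, s, hs, rfl⟩ := Submodule.mem_sup.mp (hCs (m + 1) hz)
      obtain ⟨a, ha, _, ⟨w, hw, rfl⟩, rfl⟩ := Submodule.mem_sup.mp hs
      rw [show (((m + 1 : ℕ) : ℤ)) - 1 = (m : ℤ) by push_cast; ring] at hw ha ⊢
      obtain ⟨g, hg, hrem⟩ := ih w hw
      refine ⟨fun j => if j = m + 1 then c else g j, fun j => by
        beta_reduce
        split_ifs with h
        · exact h ▸ hc
        · exact hg j, ?_⟩
      beta_reduce
      rw [Finset.sum_range_succ, if_pos rfl, Nat.sub_self, pow_zero, one_mul,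
        show ∑ j ∈ Finset.range (m + 1), x ^ (m + 1 - j) * (if j = m + 1 then c else g j) =
          x * ∑ j ∈ Finset.range (m + 1), x ^ (m - j) * g j by
        rw [Finset.mul_sum]
        refine Finset.sum_congr rfl fun j hj => ?_
        rw [Finset.mem_range] at hj
        rw [if_neg (by omega), show m + 1 - j = (m - j) + 1 by omega, pow_succ]; ring]
      rw [show c + (a + mx w) - (x * ∑ j ∈ Finset.range (m + 1), x ^ (m - j) * g j + c) =
        a + x * (w - ∑ j ∈ Finset.range (m + 1), x ^ (m - j) * g j) by simp [mx]; ring]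
      refine add_mem ha ?_
      have := mul_mem_bnd hK hrem
      rwa [sub_add_cancel] at this
  exact ⟨C, fun m => ⟨hCle m, hfdC m⟩, hindep, hgen⟩

/-- A polynomial in `x` clearing the finite poles of `z`, vanishing only below such poles. -/
theorem exists_clear_poles (hK : IsFunctionField k K) {x : K} (hx : Transcendental k x) (z : K) :
    ∃ (q : Polynomial k) (m : ℕ), q ≠ 0 ∧ Polynomial.aeval x q * z ∈ bnd (k := k) x m ∧
      ∀ a, q.eval a = 0 → ∃ Q : Place k K, Q.1 (x - algebraMap k K a) < 1 ∧ 1 < Q.1 z := by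
  have hx0 : x ≠ 0 := fun e => hx (e ▸ isAlgebraic_zero)
  let T := ((finite_support_ord hK z).toFinset).filter fun Q => Q.1 x ≤ 1 ∧ 1 < Q.1 z
  choose a ha using fun Q : {Q : Place k K // Q.1 x ≤ 1} => exists_const_near hK Q.1 Q.2
  let f : {Q // Q ∈ T} → Polynomial k := fun Q =>
    (Polynomial.X - Polynomial.C (a ⟨Q.1, (Finset.mem_filter.mp Q.2).2.1⟩)) ^ ((-Q.1.ord z).toNat)
  let q : Polynomial k := ∏ Q ∈ T.attach, f Q
  have hqne : q ≠ 0 := Finset.prod_ne_zero_iff.mpr fun Q _ => pow_ne_zero _ (Polynomial.X_sub_C_ne_zero _)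
  have hint : ∀ Q : Place k K, Q.1 x ≤ 1 → Q.1 (Polynomial.aeval x q * z) ≤ 1 := fun Q hQ => by
    rw [map_mul]
    by_cases hQz : 1 < Q.1 z
    · have hz : z ≠ 0 := fun h => by rw [h, map_zero] at hQz; exact not_lt_zero hQz
      have hQT : Q ∈ T := by
        simp only [T, Finset.mem_filter, Set.Finite.mem_toFinset, Function.mem_support]
        exact ⟨fun h => not_lt.mpr ((val_le_one_iff Q hz).mpr h.ge) hQz, hQ, hQz⟩
      obtain ⟨r, hr⟩ : f ⟨Q, hQT⟩ ∣ q := Finset.dvd_prod_of_mem f (Finset.mem_attach T ⟨Q, hQT⟩)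
      rw [hr]
      simp only [f, map_mul, map_pow, map_sub, Polynomial.aeval_X, Polynomial.aeval_C]
      have h1 : Q.1 (x - algebraMap k K (a ⟨Q, hQ⟩)) ≤ exp (-1 : ℤ) := val_le_of_lt_one Q (ha ⟨Q, hQ⟩)
      refine (mul_le_mul' (mul_le_mul' (pow_le_pow_left₀ zero_le h1 _) (val_aeval_le hQ r)) le_rfl).trans ?_
      rw [mul_one, ← exp_nsmul, val_eq_exp_neg_ord Q hz, ← exp_add, ← exp_zero, exp_le_exp]
      simp; omega
    · exact mul_le_one' (val_aeval_le hQ q) (not_lt.mp hQz)
  let w := Polynomial.aeval x q * z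
  obtain ⟨B, hB⟩ : ∃ B : ℕ, ∀ Q : Place k K, -Q.ord w ≤ B := by
    refine ⟨((finite_support_ord hK w).toFinset.sup fun Q => (-Q.ord w).toNat), fun Q => ?_⟩
    by_cases hQ : Q.ord w = 0
    · omega
    · have := Finset.le_sup (f := fun Q : Place k K => (-Q.ord w).toNat)
        (show Q ∈ (finite_support_ord hK w).toFinset by simpa using hQ)
      omega
  refine ⟨q, B, hqne, (mem_bnd hK hx0).mpr ⟨hint, fun Q hQ => ?_⟩, fun c hc => ?_⟩
  · rcases eq_or_ne w 0 with h | h
    · rw [show Polynomial.aeval x q * z = 0 from h, map_zero]; exact zero_le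
    · rw [val_le_exp_iff Q h]
      have h1 : ¬ (0 ≤ Q.ord x) := fun h' => not_lt.mpr ((val_le_one_iff Q hx0).mpr h') hQ
      have h2 := hB Q
      have h3 : (B : ℤ) ≤ (B : ℤ) * -Q.ord x := le_mul_of_one_le_right (by positivity) (by omega)
      omega
  · rw [Polynomial.eval_prod, Finset.prod_eq_zero_iff] at hc
    obtain ⟨Q, -, hQ⟩ := hc
    simp only [f, Polynomial.eval_pow, Polynomial.eval_sub, Polynomial.eval_X, Polynomial.eval_C] at hQ
    obtain ⟨h1, h2, h3⟩ := Finset.mem_filter.mp Q.2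
    refine ⟨Q.1, ?_, h3⟩
    rw [show c = a ⟨Q.1, h2⟩ from sub_eq_zero.mp (pow_eq_zero_iff'.mp hQ).1]
    exact ha ⟨Q.1, h2⟩

/-- A reduced integral basis of `K` over `k[x]`. -/
theorem exists_reduced_basis (hK : IsFunctionField k K) {x : K} (hx : Transcendental k x) :
    ∃ (ι : Type) (_ : Fintype ι) (d : ι → ℕ) (b : Basis ι k⟮x⟯ K),
      (∀ s, b s ∈ bnd (k := k) x (d s)) ∧
      (∀ (m : ℕ) (z : K), z ∈ bnd (k := k) x m → ∃ p : ι → Polynomial k,
        (∀ s, p s = 0 ∨ (p s).natDegree + d s ≤ m) ∧ ∑ s, Polynomial.aeval x (p s) * b s = z) ∧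
      (∑ s, (d s : ℤ)) = finrank k⟮x⟯ K + (genus k K : ℤ) - 1 := by
  have hx0 : x ≠ 0 := fun e => hx (e ▸ isAlgebraic_zero)
  have hfin := finiteDimensional_adjoin hK hx
  let V : ℤ → Submodule k K := bnd (k := k) x
  have hfd : ∀ m, FiniteDimensional k (V m) := fun m => finiteDimensional_L hK _
  obtain ⟨C, hC, hindep, hgen⟩ := exists_leading hK hx
  have hfdC : ∀ m, FiniteDimensional k (C m) := fun m => (hC m).2
  have hCle : ∀ m : ℕ, C m ≤ V m := fun m => (hC m).1
  -- the index type
  let bC : ∀ j, Basis (Fin (finrank k (C j))) k (C j) := fun j => Module.finBasis k (C j)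
  let ι₀ := Σ j : ℕ, Fin (finrank k (C j))
  let v : ι₀ → K := fun s => (bC s.1 s.2 : K)
  have hv : ∀ s, v s ∈ V s.1 := fun s => hCle _ (bC s.1 s.2).2
  have hterm : ∀ (s : ι₀) (p : Polynomial k) (M : ℕ), p.natDegree + s.1 ≤ M →
      Polynomial.aeval x p * v s - (p.coeff (M - s.1)) • (x ^ (M - s.1) * v s) ∈ V ((M : ℤ) - 1) := by
    intro s p M hM
    have hpow : ∀ l : ℕ, x ^ l * v s ∈ V ((s.1 : ℤ) + l) := fun l => by
      induction l with
      | zero => simpa using hv s
      | succ l ihl => rw [pow_succ', mul_assoc, Nat.cast_succ, ← add_assoc]; exact mul_mem_bnd hK ihl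
    rw [Polynomial.aeval_eq_sum_range' (n := M - s.1 + 1) (by omega), Finset.sum_range_succ, add_mul,
      smul_mul_assoc, add_sub_cancel_right, Finset.sum_mul]
    refine sum_mem fun i hi => ?_
    rw [Finset.mem_range] at hi
    rw [smul_mul_assoc]
    exact Submodule.smul_mem _ _ (bnd_mono (by omega) (hpow i))
  have hboundT : ∀ (T : Finset ι₀) (p : ι₀ → Polynomial k) (m : ℤ),
      ∑ s ∈ T, Polynomial.aeval x (p s) * v s ∈ V m → ∀ s ∈ T, p s ≠ 0 → ((p s).natDegree + s.1 : ℤ) ≤ m := by
    intro T p m hmem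
    by_contra hne
    push Not at hne
    obtain ⟨s₁, hs₁, hp₁, hlt₁⟩ := hne
    obtain ⟨s₂, hs₂, hmax⟩ := Finset.exists_max_image (T.filter fun s => p s ≠ 0) (fun s => (p s).natDegree + s.1)
      ⟨s₁, Finset.mem_filter.mpr ⟨hs₁, hp₁⟩⟩
    obtain ⟨hs₂T, hp₂⟩ := Finset.mem_filter.mp hs₂
    set M := (p s₂).natDegree + s₂.1 with hMdef
    have hMlt : m ≤ (M : ℤ) - 1 := by
      have := hmax s₁ (Finset.mem_filter.mpr ⟨hs₁, hp₁⟩)
      omega
    let g : ℕ → K := fun j => ∑ i : Fin (finrank k (C j)),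
      (if (⟨j, i⟩ : ι₀) ∈ T then (p ⟨j, i⟩).coeff (M - j) else 0) • (bC j i : K)
    have hg : ∀ j, g j ∈ C j := fun j => sum_mem fun i _ => Submodule.smul_mem _ _ (bC j i).2
    have hdeg : ∀ s ∈ T, p s ≠ 0 → (p s).natDegree + s.1 ≤ M := fun s hs hp =>
      hmax s (Finset.mem_filter.mpr ⟨hs, hp⟩)
    have htopmem : ∑ j ∈ Finset.range (M + 1), x ^ (M - j) * g j ∈ V ((M : ℤ) - 1) := by
      have e : ∑ j ∈ Finset.range (M + 1), x ^ (M - j) * g j =
          ∑ s ∈ T.filter (fun s => s.1 ≤ M), ((p s).coeff (M - s.1)) • (x ^ (M - s.1) * v s) := by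
        simp only [g, Finset.mul_sum, mul_smul_comm]
        rw [Finset.sum_sigma']
        refine (Finset.sum_subset_zero_on_sdiff (fun s hs => ?_) (fun s hs => ?_) fun s hs => ?_).symm
        · obtain ⟨hsT, hsM⟩ := Finset.mem_filter.mp hs
          simp only [Finset.mem_sigma, Finset.mem_range, Finset.mem_univ, and_true]
          omega
        · obtain ⟨hs1, hs2⟩ := Finset.mem_sdiff.mp hs
          simp only [Finset.mem_sigma, Finset.mem_range, Finset.mem_univ, and_true] at hs1
          rw [if_neg (fun h => hs2 (Finset.mem_filter.mpr ⟨h, by omega⟩)), zero_smul]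
        · rw [if_pos (Finset.mem_filter.mp hs).1]
      rw [e]
      have h2 : ∀ s ∈ T, Polynomial.aeval x (p s) * v s -
          (if s.1 ≤ M then ((p s).coeff (M - s.1)) • (x ^ (M - s.1) * v s) else 0) ∈ V ((M : ℤ) - 1) := fun s hs => by
        by_cases hp : p s = 0
        · simp [hp]
        · have := hdeg s hs hp
          rw [if_pos (by omega)]
          exact hterm s (p s) M this
      rw [Finset.sum_filter, show ∑ s ∈ T, (if s.1 ≤ M then ((p s).coeff (M - s.1)) • (x ^ (M - s.1) * v s) else 0) =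
        ∑ s ∈ T, Polynomial.aeval x (p s) * v s - ∑ s ∈ T, (Polynomial.aeval x (p s) * v s -
          (if s.1 ≤ M then ((p s).coeff (M - s.1)) • (x ^ (M - s.1) * v s) else 0)) by
        rw [Finset.sum_sub_distrib]; abel]
      exact sub_mem (bnd_mono hMlt hmem) (sum_mem h2)
    have h0 := hindep M g hg htopmem s₂.1 (by omega)
    have h0' : ∑ i, (if (⟨s₂.1, i⟩ : ι₀) ∈ T then (p ⟨s₂.1, i⟩).coeff (M - s₂.1) else 0) • bC s₂.1 i = 0 :=
      Subtype.ext (by simpa [g, apply_ite (Subtype.val : C s₂.1 → K)] using h0)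
    have := Fintype.linearIndependent_iff.mp (bC s₂.1).linearIndependent _ h0' s₂.2
    rw [if_pos hs₂T, hMdef, Nat.add_sub_cancel] at this
    exact hp₂ (Polynomial.leadingCoeff_eq_zero.mp this)
  -- linear independence over `k(x)`
  have hli : LinearIndependent k⟮x⟯ v := by
    rw [linearIndependent_iff']
    intro T c hc s hs
    have hfrac : ∀ a : k⟮x⟯, ∃ r q : Polynomial k, Polynomial.aeval x q ≠ 0 ∧
        (a : K) * Polynomial.aeval x q = Polynomial.aeval x r := fun a => by
      obtain ⟨r, q, hrq⟩ := (mem_adjoin_simple_iff k (a : K)).mp a.2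
      rcases eq_or_ne (Polynomial.aeval x q) 0 with h | h
      · exact ⟨0, 1, by simp, by rw [hrq, h, div_zero]; simp⟩
      · exact ⟨r, q, h, by rw [hrq, div_mul_cancel₀ _ h]⟩
    choose r q hq hrq using hfrac
    let p : ι₀ → Polynomial k := fun s => r (c s) * ∏ s' ∈ T.erase s, q (c s')
    have hp : ∀ s ∈ T, Polynomial.aeval x (p s) = (c s : K) * ∏ s' ∈ T, Polynomial.aeval x (q (c s')) := fun s hs => by
      rw [map_mul, map_prod, ← Finset.mul_prod_erase T _ hs, ← hrq]; ring
    have hsum : ∑ s ∈ T, Polynomial.aeval x (p s) * v s ∈ V (-1) := by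
      have : ∑ s ∈ T, Polynomial.aeval x (p s) * v s = (∏ s' ∈ T, Polynomial.aeval x (q (c s'))) * ∑ s ∈ T, c s • v s := by
        rw [Finset.mul_sum]
        exact Finset.sum_congr rfl fun s hs => by rw [hp s hs, IntermediateField.smul_def, smul_eq_mul]; ring
      rw [this, hc, mul_zero]; exact zero_mem _
    have : p s = 0 := by
      by_contra hne
      have := hboundT T p (-1) hsum s hs hne
      omega
    have h := hp s hs
    rw [this, map_zero, eq_comm, mul_eq_zero, Finset.prod_eq_zero_iff] at h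
    rcases h with h | ⟨s', -, hs'⟩
    · exact Subtype.ext h
    · exact absurd hs' (hq _)
  have hfinι : Finite ι₀ := hli.finite
  have : Fintype ι₀ := Fintype.ofFinite _
  -- generation
  have hgenP : ∀ (m : ℕ) (z : K), z ∈ V m → ∃ p : ι₀ → Polynomial k,
      (∀ s, p s = 0 ∨ (p s).natDegree + s.1 ≤ m) ∧ ∑ s, Polynomial.aeval x (p s) * v s = z := by
    intro m
    induction m using Nat.strong_induction_on with
    | _ m ih =>
      intro z hz
      obtain ⟨g, hg, hrem⟩ := hgen m z hz
      let c : ι₀ → k := fun s => (bC s.1).repr ⟨g s.1, hg _⟩ s.2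
      let p₀ : ι₀ → Polynomial k := fun s => if s.1 ≤ m then Polynomial.monomial (m - s.1) (c s) else 0
      have hp₀ : ∀ s, p₀ s = 0 ∨ (p₀ s).natDegree + s.1 ≤ m := fun s => by
        simp only [p₀]
        split_ifs with h
        · right
          have := Polynomial.natDegree_monomial_le (m := m - s.1) (c s)
          omega
        · left; rfl
      have htop : ∑ s, Polynomial.aeval x (p₀ s) * v s = ∑ j ∈ Finset.range (m + 1), x ^ (m - j) * g j := by
        have hexp : ∀ j, g j = ∑ i, ((bC j).repr ⟨g j, hg j⟩ i) • (bC j i : K) := fun j => by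
          have := congrArg Subtype.val ((bC j).sum_repr ⟨g j, hg j⟩)
          exact (this.symm.trans (map_sum (C j).subtype _ _)).trans (Finset.sum_congr rfl fun i _ => rfl)
        have e2 : ∑ j ∈ Finset.range (m + 1), x ^ (m - j) * g j =
            ∑ s ∈ (Finset.range (m + 1)).sigma (fun j => (Finset.univ : Finset (Fin (finrank k (C j))))),
              c s • (x ^ (m - s.1) * v s) := by
          rw [Finset.sum_sigma]
          refine Finset.sum_congr rfl fun j _ => ?_
          conv_lhs => rw [hexp j, Finset.mul_sum]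
          exact Finset.sum_congr rfl fun i _ => mul_smul_comm _ _ _
        rw [e2]
        refine (Finset.sum_subset_zero_on_sdiff (Finset.subset_univ _) (fun s hs => ?_) fun s hs => ?_).symm
        · have hsm : ¬ s.1 ≤ m := fun h => (Finset.mem_sdiff.mp hs).2
            (Finset.mem_sigma.mpr ⟨Finset.mem_range.mpr (by omega), Finset.mem_univ _⟩)
          rw [show p₀ s = 0 by simp only [p₀]; rw [if_neg hsm]]
          simp
        · have hsm : s.1 ≤ m := Nat.lt_succ_iff.mp (Finset.mem_range.mp (Finset.mem_sigma.mp hs).1)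
          rw [show p₀ s = Polynomial.monomial (m - s.1) (c s) by simp only [p₀]; rw [if_pos hsm],
            Polynomial.aeval_monomial, Algebra.smul_def]
          ring
      rcases Nat.eq_zero_or_pos m with rfl | hm
      · refine ⟨p₀, hp₀, htop.trans ?_⟩
        have hb : bnd (k := k) x ((0 : ℕ) - 1 : ℤ) = ⊥ := bnd_neg hK hx (by norm_num)
        rw [hb, Submodule.mem_bot, sub_eq_zero] at hrem
        exact hrem.symm
      · obtain ⟨p₁, hp₁, hsum₁⟩ := ih (m - 1) (by omega) _ (by rwa [Nat.cast_sub hm, Nat.cast_one])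
        refine ⟨fun s => p₀ s + p₁ s, fun s => ?_, ?_⟩
        · beta_reduce
          rcases hp₀ s with h₀ | h₀ <;> rcases hp₁ s with h₁ | h₁
          · left; simp [h₀, h₁]
          · right; simp only [h₀, zero_add]; omega
          · right; simp only [h₁, add_zero]; omega
          · right
            have := Polynomial.natDegree_add_le (p₀ s) (p₁ s)
            omega
        · simp only [map_add, add_mul, Finset.sum_add_distrib, htop, hsum₁, add_sub_cancel]
  have hspan : ⊤ ≤ Submodule.span k⟮x⟯ (Set.range v) := fun z _ => by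
    -- clear the finite poles
    obtain ⟨q, m, hqne, hm, -⟩ := exists_clear_poles hK hx z
    have hq0 : Polynomial.aeval x q ≠ 0 := fun h => hqne (transcendental_iff.mp hx q h)
    obtain ⟨p, -, hp⟩ := hgenP m _ hm
    have hmem : ∀ r : Polynomial k, Polynomial.aeval x r ∈ k⟮x⟯ := fun r =>
      IntermediateField.algebra_adjoin_le_adjoin k _ (Polynomial.aeval_mem_adjoin_singleton k x)
    have e : z = ∑ s, ((⟨_, hmem (p s)⟩ : k⟮x⟯) / ⟨_, hmem q⟩) • v s := by
      calc z = (Polynomial.aeval x q)⁻¹ * (Polynomial.aeval x q * z) := (inv_mul_cancel_left₀ hq0 z).symm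
        _ = _ := by
          rw [← hp, Finset.mul_sum]
          refine Finset.sum_congr rfl fun s _ => ?_
          rw [IntermediateField.smul_def, smul_eq_mul, IntermediateField.coe_div]; ring
    rw [e]
    exact sum_mem fun s _ => Submodule.smul_mem _ _ (Submodule.subset_span ⟨s, rfl⟩)
  let b : Basis ι₀ k⟮x⟯ K := Basis.mk hli hspan
  have hb : ∀ s, b s = v s := fun s => Basis.mk_apply hli hspan s
  refine ⟨ι₀, inferInstance, fun s => s.1, b, fun s => by rw [hb]; exact hv s, fun m z hz => ?_, ?_⟩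
  · simp only [hb]; exact hgenP m z hz
  -- counting
  let m₀ : ℕ := (Finset.univ.sup fun s : ι₀ => s.1) + 2 * genus k K
  have hd : ∀ s : ι₀, s.1 ≤ m₀ := fun s => by
    have := Finset.le_sup (f := fun s : ι₀ => s.1) (Finset.mem_univ s)
    omega
  let Φ : (∀ s : ι₀, Polynomial.degreeLT k (m₀ - s.1 + 1)) →ₗ[k] K :=
    ∑ s, ((LinearMap.mulRight k (v s)).comp ((Polynomial.aeval x).toLinearMap.comp
      ((Polynomial.degreeLT k (m₀ - s.1 + 1)).subtype.comp (LinearMap.proj s))))
  have hΦ : ∀ p, Φ p = ∑ s, Polynomial.aeval x (p s : Polynomial k) * v s := fun p => by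
    simp [Φ, LinearMap.sum_apply]
  have hinj : Function.Injective Φ := by
    rw [injective_iff_map_eq_zero]
    intro p hp
    funext s
    refine Subtype.ext ?_
    by_contra hne
    have := hboundT Finset.univ (fun s => (p s : Polynomial k)) (-1) (by rw [← hΦ, hp]; exact zero_mem _) s
      (Finset.mem_univ s) hne
    omega
  have hrange : LinearMap.range Φ = V m₀ := by
    refine le_antisymm ?_ fun z hz => ?_
    · rintro _ ⟨p, rfl⟩
      rw [hΦ]
      refine sum_mem fun s _ => ?_
      by_cases hp : (p s : Polynomial k) = 0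
      · simp [hp]
      · have hlt := Polynomial.mem_degreeLT.mp (p s).2
        rw [Polynomial.degree_eq_natDegree hp, Nat.cast_lt] at hlt
        have := hterm s (p s : Polynomial k) m₀ (by have := hd s; omega)
        have h2 : x ^ (m₀ - s.1) * v s ∈ V m₀ := by
          have hpow : ∀ l : ℕ, x ^ l * v s ∈ V ((s.1 : ℤ) + l) := fun l => by
            induction l with
            | zero => simpa using hv s
            | succ l ihl => rw [pow_succ', mul_assoc, Nat.cast_succ, ← add_assoc]; exact mul_mem_bnd hK ihl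
          have h3 := hpow (m₀ - s.1)
          rwa [Nat.cast_sub (hd s), add_sub_cancel] at h3
        have h4 := add_mem (bnd_mono (by omega) this) (Submodule.smul_mem (V m₀) ((p s : Polynomial k).coeff (m₀ - s.1)) h2)
        rwa [sub_add_cancel] at h4
    · obtain ⟨p, hp, rfl⟩ := hgenP m₀ z hz
      refine ⟨fun s => ⟨p s, Polynomial.mem_degreeLT.mpr ?_⟩, by rw [hΦ]⟩
      rcases hp s with h | h
      · rw [h, Polynomial.degree_zero]; exact WithBot.bot_lt_coe _
      · exact Polynomial.degree_le_natDegree.trans_lt (by exact_mod_cast (by omega : (p s).natDegree < m₀ - s.1 + 1))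
  have hdim : finrank k (V m₀) = ∑ s : ι₀, (m₀ - s.1 + 1) := by
    rw [← hrange, LinearMap.finrank_range_of_inj hinj, Module.finrank_pi_fintype]
    exact Finset.sum_congr rfl fun s _ => by
      rw [(Polynomial.degreeLTEquiv k _).finrank_eq, Module.finrank_fin_fun]
  have hn : (finrank k⟮x⟯ K : ℤ) = Fintype.card ι₀ := by rw [Module.finrank_eq_card_basis b]
  have hnpos : 0 < finrank k⟮x⟯ K := Module.finrank_pos
  have hRR := ell_eq_of_deg_large hK (D := (m₀ : ℤ) • poles (k := k) x) (by
    rw [deg_zsmul, deg_poles hK hx]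
    have : (2 * genus k K : ℤ) ≤ m₀ := by omega
    have : (m₀ : ℤ) ≤ (m₀ : ℤ) * finrank k⟮x⟯ K := le_mul_of_one_le_right (by positivity) (by exact_mod_cast hnpos)
    omega)
  rw [deg_zsmul, deg_poles hK hx, show ell ((m₀ : ℤ) • poles (k := k) x) = finrank k (V m₀) from rfl, hdim] at hRR
  rw [Nat.cast_sum, Finset.sum_congr rfl (fun s _ => show (((m₀ - s.1 + 1 : ℕ)) : ℤ) = ((m₀ : ℤ) + 1) - s.1 by
    rw [Nat.cast_add, Nat.cast_sub (hd s), Nat.cast_one]; ring), Finset.sum_sub_distrib, Finset.sum_const,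
    Finset.card_univ, nsmul_eq_mul] at hRR
  change (∑ s : ι₀, (s.1 : ℤ)) = _
  rw [hn] at hRR ⊢
  linarith

end Groth.Agent.FF
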