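import Groth.Agent.FF.Geometric
import Groth.Agent.LocResLib.Basic
import Groth.Prelude.Def_W4bk4goldsch23Ext

/-! Different exponents read through Laurent expansions. -/

universe u v w

namespace Groth.Agent.FF

open FunFld WithZero LocRes Polynomial
open scoped LaurentSeries

variable {k : Type u} {K : Type v} [Field k] [Field K] [Algebra k K]
variable {F : Type w} [Field F] [Algebra k F]

theorem D_rel (χ : K →ₐ[k] F⸨X⸩) {a x c : K}
    (h : KaehlerDifferential.D k K a = c • KaehlerDifferential.D k K x) :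
    LocRes.D F (χ a) = χ c * LocRes.D F (χ x) := by
  let := χ.toRingHom.toAlgebra
  have : IsScalarTower k K F⸨X⸩ := isScalarTower_exp χ
  have h1 := congrArg (dExp χ).liftKaehlerDifferential h
  rw [map_smul, Derivation.liftKaehlerDifferential_comp_D, Derivation.liftKaehlerDifferential_comp_D] at h1
  exact h1

theorem D_ne_zero_of_exp (χ : K →ₐ[k] F⸨X⸩) {x : K} (h : LocRes.D F (χ x) ≠ 0) :
    KaehlerDifferential.D k K x ≠ 0 := fun h0 => h (by
  have := D_rel χ (a := x) (x := x) (c := 0) (by rw [h0, smul_zero])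
  rw [this, map_zero, zero_mul])

theorem exists_smul_D (hK : IsFunctionField k K) (hg : IsGeometric k K) {x : K}
    (hx : KaehlerDifferential.D k K x ≠ 0) (a : K) :
    ∃ c : K, KaehlerDifferential.D k K a = c • KaehlerDifferential.D k K x := by
  obtain ⟨c, hc⟩ := exists_smul_eq_of_finrank_eq_one (finrank_kaehler hK hg) hx (KaehlerDifferential.D k K a)
  exact ⟨c, hc.symm⟩

theorem valued_D_le_one {f : F⸨X⸩} (h : Valued.v f ≤ (1 : WithZero (Multiplicative ℤ))) :
    Valued.v (LocRes.D F f) ≤ (1 : WithZero (Multiplicative ℤ)) := by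
  obtain ⟨u, rfl⟩ := (LaurentSeries.val_le_one_iff_eq_coe F f).mp h
  rw [D_coe]
  exact LocResLib.valued_coe_le_one _

theorem valued_eq_one_of_coeff {f : F⸨X⸩} (h : Valued.v f ≤ (1 : WithZero (Multiplicative ℤ))) (h0 : f.coeff 0 ≠ 0) :
    Valued.v f = (1 : WithZero (Multiplicative ℤ)) := by
  refine le_antisymm h (not_lt.mp fun hlt => ?_)
  have : Valued.v f ≤ exp (-(1 : ℤ)) := by
    rcases eq_or_ne (Valued.v f) 0 with h | h
    · rw [h]; exact zero_le
    · rw [← exp_log h, ← exp_zero, exp_lt_exp] at hlt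
      rw [← exp_log h, exp_le_exp]; omega
  exact h0 ((LaurentSeries.valuation_le_iff_coeff_lt_eq_zero F).mp this 0 (by omega))

theorem valued_D_eq_one {f : F⸨X⸩} (h : Valued.v f = exp (-1 : ℤ)) :
    Valued.v (LocRes.D F f) = (1 : WithZero (Multiplicative ℤ)) := by
  have h1 : f.coeff 1 ≠ 0 := fun h1 => by
    have h0 := (LaurentSeries.valuation_le_iff_coeff_lt_eq_zero F).mp h.le
    have : Valued.v f ≤ exp (-(2 : ℤ)) := (LaurentSeries.valuation_le_iff_coeff_lt_eq_zero F).mpr fun n hn => by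
      rcases eq_or_lt_of_le (show n ≤ 1 by omega) with rfl | hn'
      · exact h1
      · exact h0 n hn'
    rw [h, exp_le_exp] at this; omega
  refine valued_eq_one_of_coeff (valued_D_le_one (by rw [h]; exact exp_le_exp.mpr (by norm_num))) ?_
  rw [D_coeff, zero_add, one_smul]; exact h1

variable {P : Place k K} {φ : K →ₐ[k] F⸨X⸩}

theorem exists_val_exp_neg_one (hφ : IsExpansionAt P.1 φ) :
    ∃ t : K, P.1 t = exp (-1 : ℤ) ∧ Valued.v (LocRes.D F (φ t)) = (1 : WithZero (Multiplicative ℤ)) := by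
  obtain ⟨t, ht⟩ := hφ.2.2
  exact ⟨t, ht, valued_D_eq_one (by rw [hφ.1, ht])⟩

variable {K' : Type*} [Field K'] [Algebra K K'] [Algebra k K'] [IsScalarTower k K K']
variable {F' : Type w} [Field F'] [Algebra k F'] {Q : Place k K'} {ψ : K' →ₐ[k] F'⸨X⸩}

theorem D_rel_above (ψ : K' →ₐ[k] F'⸨X⸩) {a x c : K}
    (h : KaehlerDifferential.D k K a = c • KaehlerDifferential.D k K x) :
    LocRes.D F' (ψ (algebraMap K K' a)) = ψ (algebraMap K K' c) * LocRes.D F' (ψ (algebraMap K K' x)) :=
  D_rel (ψ.comp (IsScalarTower.toAlgHom k K K')) h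

/-- The different exponent on `dx` is the order of the derivative of a local parameter below. -/
theorem diffExp_eq (hK : IsFunctionField k K) (hg : IsGeometric k K) {e : ℕ} (he : IsOverWith Q P e)
    (hφ : IsExpansionAt P.1 φ) (hψ : IsExpansionAt Q.1 ψ) {x : K} (hx : vDiff φ 1 x ≠ 0)
    (hx' : vDiff ψ 1 (algebraMap K K' x) ≠ 0) {t : K} (ht : P.1 t = exp (-1 : ℤ)) :
    diffExp φ ψ e x = -log (Valued.v (LocRes.D F' (ψ (algebraMap K K' t)))) ∧
      Valued.v (LocRes.D F' (ψ (algebraMap K K' t))) ≠ (0 : WithZero (Multiplicative ℤ)) := by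
  have hDt := valued_D_eq_one (f := φ t) (by rw [hφ.1, ht])
  have hDt0 : LocRes.D F (φ t) ≠ 0 := fun h => by rw [h, map_zero] at hDt; exact zero_ne_one hDt
  obtain ⟨c, hc⟩ := exists_smul_D hK hg (D_ne_zero_of_exp φ hDt0) x
  have h1 : vDiff φ 1 x = P.1 c := by
    rw [vDiff, map_one φ, one_mul, D_rel φ hc, map_mul, hDt, mul_one, hφ.1]
  have h2 : vDiff ψ 1 (algebraMap K K' x) = P.1 c ^ e * Valued.v (LocRes.D F' (ψ (algebraMap K K' t))) := by
    rw [vDiff, map_one ψ, one_mul, D_rel_above ψ hc, map_mul, hψ.1, he c]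
  rw [h1] at hx
  rw [h2] at hx'
  have h3 := right_ne_zero_of_mul hx'
  refine ⟨?_, h3⟩
  rw [diffExp, ordDiff, ordDiff, h1, h2, log_mul (pow_ne_zero _ hx) h3, log_pow, nsmul_eq_mul]
  ring

/-- The order of the derivative of a series of order prime to the characteristic. -/
theorem valued_D_eq_of_ord {L : Type*} [Field L] {T : L⸨X⸩} {m : ℤ} (hv : Valued.v T = exp (-m)) (hm : (m : L) ≠ 0) :
    Valued.v (LocRes.D L T) = exp (-(m - 1)) := by
  have hT0 : T ≠ 0 := fun h => by rw [h, map_zero] at hv; exact exp_ne_zero hv.symm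
  have hord := (LocResLib.res_inv_mul_D hT0).2
  rw [hv, exp_inj, neg_inj] at hord
  set u := T.powerSeriesPart
  have hgm : T = HahnSeries.single m 1 * (u : L⸨X⸩) := by
    rw [hord]; exact T.single_order_mul_powerSeriesPart.symm
  have hu0 : PowerSeries.constantCoeff u ≠ 0 := by
    rw [← PowerSeries.coeff_zero_eq_constantCoeff_apply, LaurentSeries.powerSeriesPart_coeff, Nat.cast_zero, add_zero]
    exact fun h => hT0 (HahnSeries.coeff_order_eq_zero.mp h)
  have hD : LocRes.D L T = HahnSeries.single m 1 * ((PowerSeries.derivative L u : PowerSeries L) : L⸨X⸩) +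
      HahnSeries.single (m - 1) (m : L) * (u : L⸨X⸩) := by
    rw [hgm]; exact LocResLib.D_single_mul_coe _ _
  have hcoe : ∀ (n : ℤ) (r : L) (z : PowerSeries L), Valued.v (HahnSeries.single n r * (z : L⸨X⸩)) ≤ exp (-n) :=
    fun n r z => by
      refine (LaurentSeries.valuation_le_iff_coeff_lt_eq_zero L).mpr fun j hj => ?_
      rw [LocResLib.coeff_single_mul_coe, if_pos (by omega), mul_zero]
  have hle : Valued.v (LocRes.D L T) ≤ exp (-(m - 1)) := by
    rw [hD]
    exact (Valued.v.map_add _ _).trans (max_le ((hcoe _ _ _).trans (exp_le_exp.mpr (by omega))) (hcoe _ _ _))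
  have hc : (LocRes.D L T).coeff (m - 1) ≠ 0 := by
    rw [hD, HahnSeries.coeff_add, LocResLib.coeff_single_mul_coe, LocResLib.coeff_single_mul_coe, if_pos (by omega),
      mul_zero, zero_add, if_neg (by omega), sub_self, Int.natAbs_zero, PowerSeries.coeff_zero_eq_constantCoeff_apply]
    exact mul_ne_zero hm hu0
  refine le_antisymm hle (not_lt.mp fun hlt => hc ?_)
  have hle' : Valued.v (LocRes.D L T) ≤ exp (-m) := ?_
  · exact (LaurentSeries.valuation_le_iff_coeff_lt_eq_zero L).mp hle' _ (by omega)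
  rcases eq_or_ne (Valued.v (LocRes.D L T)) 0 with h | h
  · rw [h]; exact zero_le
  · rw [← exp_log h, exp_lt_exp] at hlt
    rw [← exp_log h, exp_le_exp]; omega

/-- `e - 1` when tame, at least `e` otherwise. -/
theorem diffExp_tame (hK : IsFunctionField k K) (hg : IsGeometric k K) {e : ℕ} (he : IsOverWith Q P e)
    (hφ : IsExpansionAt P.1 φ) (hψ : IsExpansionAt Q.1 ψ) {x : K} (hx : vDiff φ 1 x ≠ 0)
    (hx' : vDiff ψ 1 (algebraMap K K' x) ≠ 0) :
    (¬ (ringChar K ∣ e) → diffExp φ ψ e x = (e : ℤ) - 1) ∧ (ringChar K ∣ e → (e : ℤ) ≤ diffExp φ ψ e x) := by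
  obtain ⟨t, ht, -⟩ := exists_val_exp_neg_one hφ
  obtain ⟨hd, hne⟩ := diffExp_eq hK hg he hφ hψ hx hx' ht
  rw [hd]
  set T := ψ (algebraMap K K' t) with hT
  have hv : Valued.v T = exp (-(e : ℤ)) := by
    rw [hT, hψ.1, he t, ht, ← exp_nsmul]; simp
  have hT0 : T ≠ 0 := fun h => by rw [h, map_zero] at hv; exact exp_ne_zero hv.symm
  have hord := (LocResLib.res_inv_mul_D hT0).2
  rw [hv, exp_inj, neg_inj] at hord
  set u := T.powerSeriesPart
  have hgm : T = HahnSeries.single (e : ℤ) 1 * (u : F'⸨X⸩) := by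
    rw [hord]; exact T.single_order_mul_powerSeriesPart.symm
  have hu0 : PowerSeries.constantCoeff u ≠ 0 := by
    rw [← PowerSeries.coeff_zero_eq_constantCoeff_apply, LaurentSeries.powerSeriesPart_coeff, Nat.cast_zero, add_zero]
    exact fun h => hT0 (HahnSeries.coeff_order_eq_zero.mp h)
  have hchar : ringChar K ∣ e ↔ (e : F') = 0 := by
    rw [← ringChar.spec, ← map_eq_zero_iff (HahnSeries.C : F' →+* F'⸨X⸩) HahnSeries.C_injective, map_natCast,
      ← map_natCast (ψ.toRingHom.comp (algebraMap K K')) e, map_eq_zero_iff _ (RingHom.injective _)]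
  have hD : LocRes.D F' T = HahnSeries.single (e : ℤ) 1 * ((PowerSeries.derivative F' u : PowerSeries F') : F'⸨X⸩) +
      HahnSeries.single ((e : ℤ) - 1) ((e : ℤ) : F') * (u : F'⸨X⸩) := by
    rw [hgm]; exact LocResLib.D_single_mul_coe _ _
  have hcoe : ∀ (m : ℤ) (r : F') (z : PowerSeries F'),
      Valued.v (HahnSeries.single m r * (z : F'⸨X⸩)) ≤ exp (-m) := fun m r z => by
    refine (LaurentSeries.valuation_le_iff_coeff_lt_eq_zero F').mpr fun n hn => ?_
    rw [LocResLib.coeff_single_mul_coe, if_pos (by omega), mul_zero]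
  constructor
  · intro hdvd
    rw [hchar] at hdvd
    have hle : Valued.v (LocRes.D F' T) ≤ exp (-((e : ℤ) - 1)) := by
      rw [hD]
      exact (Valued.v.map_add _ _).trans (max_le ((hcoe _ _ _).trans (exp_le_exp.mpr (by omega))) (hcoe _ _ _))
    have hc : (LocRes.D F' T).coeff ((e : ℤ) - 1) ≠ 0 := by
      rw [hD, HahnSeries.coeff_add, LocResLib.coeff_single_mul_coe, LocResLib.coeff_single_mul_coe, if_pos (by omega),
        mul_zero, zero_add, if_neg (by omega), sub_self, Int.natAbs_zero, PowerSeries.coeff_zero_eq_constantCoeff_apply,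
        Int.cast_natCast]
      exact mul_ne_zero hdvd hu0
    have hge : ¬ Valued.v (LocRes.D F' T) ≤ exp (-(e : ℤ)) := fun h =>
      hc ((LaurentSeries.valuation_le_iff_coeff_lt_eq_zero F').mp h _ (by omega))
    rw [← exp_log hne, exp_le_exp] at hle hge
    omega
  · intro hdvd
    rw [hchar] at hdvd
    have hle : Valued.v (LocRes.D F' T) ≤ exp (-(e : ℤ)) := by
      rw [hD, Int.cast_natCast, hdvd, map_zero, zero_mul, add_zero]
      exact hcoe _ _ _
    rw [← exp_log hne, exp_le_exp] at hle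
    omega

/-- Totally ramified places: the different exponent is the order of `f'(s)`. -/
theorem ord_derivative_minpoly (hK : IsFunctionField k K) (hg : IsGeometric k K) [FiniteDimensional K K'] {e : ℕ}
    (he : IsOverWith Q P e) (hφ : IsExpansionAt P.1 φ) (hψ : IsExpansionAt Q.1 ψ) {x : K} (hx : vDiff φ 1 x ≠ 0)
    (hx' : vDiff ψ 1 (algebraMap K K' x) ≠ 0) (hn : e = Module.finrank K K') {s : K'} (hs : Q.1 s = exp (-1 : ℤ)) :
    Q.ord (aeval s (derivative (minpoly K s))) = diffExp φ ψ e x := by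
  obtain ⟨t, ht, hDt⟩ := exists_val_exp_neg_one hφ
  obtain ⟨hd, hne⟩ := diffExp_eq hK hg he hφ hψ hx hx' ht
  have hint := IsIntegral.of_finite K s
  set f := minpoly K s with hf
  set m := f.natDegree with hm
  have hme : m ≤ e := hn ▸ minpoly.natDegree_le s
  have hs0 : s ≠ 0 := fun h => by rw [h, map_zero] at hs; exact exp_ne_zero hs.symm
  set o : ℕ → ℤ := fun i => -log (P.1 (f.coeff i))
  have hterm : ∀ i, f.coeff i ≠ 0 → Q.1 (algebraMap K K' (f.coeff i) * s ^ i) = exp (-((e : ℤ) * o i + i)) := fun i hi => by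
    rw [map_mul, map_pow, hs, he, ← exp_log ((map_ne_zero P.1).mpr hi), ← exp_nsmul, ← exp_nsmul, ← exp_add]
    congr 1
    simp only [o, log_exp, nsmul_eq_mul]
    push_cast
    ring
  have hsum : ∑ i ∈ Finset.range (m + 1), algebraMap K K' (f.coeff i) * s ^ i = 0 := by
    rw [← minpoly.aeval K s, aeval_eq_sum_range]
    simp only [Algebra.smul_def, hm, hf]
  have hlead : f.coeff m = 1 := (minpoly.monic hint).coeff_natDegree
  obtain ⟨i₀, hi₀, hmax⟩ := Finset.exists_max_image (Finset.range (m + 1))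
    (fun i => Q.1 (algebraMap K K' (f.coeff i) * s ^ i)) ⟨0, by simp⟩
  have hi₀ne : f.coeff i₀ ≠ 0 := fun h => by
    have := hmax m (Finset.self_mem_range_succ m)
    simp only [hlead, h, map_one (algebraMap K K'), map_zero, zero_mul, one_mul, map_pow, hs, le_zero_iff] at this
    exact pow_ne_zero _ exp_ne_zero this
  obtain ⟨j, hj, hjne, hjv⟩ : ∃ j ∈ Finset.range (m + 1), j ≠ i₀ ∧
      Q.1 (algebraMap K K' (f.coeff j) * s ^ j) = Q.1 (algebraMap K K' (f.coeff i₀) * s ^ i₀) := by
    by_contra hcon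
    have h : ∀ j ∈ Finset.range (m + 1) \ {i₀},
        Q.1 (algebraMap K K' (f.coeff j) * s ^ j) < Q.1 (algebraMap K K' (f.coeff i₀) * s ^ i₀) := fun j hj => by
      rw [Finset.mem_sdiff, Finset.mem_singleton] at hj
      exact lt_of_le_of_ne (hmax j hj.1) fun h => hcon ⟨j, hj.1, hj.2, h⟩
    have h2 := Valuation.map_sum_eq_of_lt Q.1 hi₀ h
    rw [hsum, map_zero, hterm _ hi₀ne] at h2
    exact exp_ne_zero h2.symm
  have hjne' : f.coeff j ≠ 0 := fun h => by
    rw [h, map_zero, zero_mul, map_zero, hterm _ hi₀ne] at hjv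
    exact exp_ne_zero hjv.symm
  rw [hterm _ hjne', hterm _ hi₀ne, exp_inj, neg_inj] at hjv
  rw [Finset.mem_range] at hi₀ hj
  have he0 : 0 < e := hn ▸ Module.finrank_pos
  have hdiff : (e : ℤ) * (o j - o i₀) = (i₀ : ℤ) - j := by linarith
  have hdne : o j - o i₀ ≠ 0 := fun h => by rw [h, mul_zero] at hdiff; omega
  have habs : (e : ℤ) ≤ |(i₀ : ℤ) - j| := by
    rw [← hdiff, abs_mul, Nat.abs_cast]
    exact le_mul_of_one_le_right (by positivity) (Int.one_le_abs hdne)
  have hme' : m = e := by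
    rcases abs_cases ((i₀ : ℤ) - j) with ⟨h, -⟩ | ⟨h, -⟩ <;> omega
  have hcases : (i₀ = 0 ∧ j = m) ∨ (i₀ = m ∧ j = 0) := by
    rcases abs_cases ((i₀ : ℤ) - j) with ⟨h, -⟩ | ⟨h, -⟩ <;> omega
  have hom : o m = 0 := by simp [o, hlead]
  have h00 : f.coeff 0 ≠ 0 ∧ o 0 = 1 := by
    rcases hcases with ⟨h1, h2⟩ | ⟨h1, h2⟩
    · subst h1; subst h2
      refine ⟨hi₀ne, ?_⟩
      rw [hom, hme'] at hjv
      have : (e : ℤ) * (o 0 - 1) = 0 := by push_cast at hjv; linarith
      rcases mul_eq_zero.mp this with h | h <;> omega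
    · subst h2
      refine ⟨hjne', ?_⟩
      rw [h1, hom, hme'] at hjv
      have : (e : ℤ) * (o 0 - 1) = 0 := by push_cast at hjv; linarith
      rcases mul_eq_zero.mp this with h | h <;> omega
  have hmaxv : Q.1 (algebraMap K K' (f.coeff i₀) * s ^ i₀) = exp (-(e : ℤ)) := by
    rw [hterm _ hi₀ne]
    rcases hcases with ⟨h1, -⟩ | ⟨h1, -⟩
    · subst h1; rw [h00.2]; simp
    · subst h1; rw [hom, hme']; simp
  have hsmall : ∀ i, i < m → P.1 (f.coeff i) < 1 := fun i hi => by
    rcases eq_or_ne (f.coeff i) 0 with h | h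
    · rw [h, map_zero]; exact zero_lt_one
    · have := hmax i (Finset.mem_range.mpr (by omega))
      rw [hmaxv, hterm i h, exp_le_exp] at this
      have hoi : 0 < o i := by
        by_contra hc
        have : (e : ℤ) * o i ≤ 0 := mul_nonpos_of_nonneg_of_nonpos (by positivity) (not_lt.mp hc)
        omega
      simp only [o] at hoi
      calc P.1 (f.coeff i) = exp (log (P.1 (f.coeff i))) := (exp_log ((map_ne_zero P.1).mpr h)).symm
        _ < exp (0 : ℤ) := exp_lt_exp.mpr (by omega)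
        _ = 1 := exp_zero
  have hP0 : P.1 (f.coeff 0) = exp (-1 : ℤ) := by
    rw [← exp_log ((map_ne_zero P.1).mpr h00.1)]; congr 1; have := h00.2; simp only [o] at this; omega
  have hDt0 : LocRes.D F (φ t) ≠ 0 := fun h => by rw [h, map_zero] at hDt; exact zero_ne_one hDt
  choose c hc using exists_smul_D hK hg (D_ne_zero_of_exp φ hDt0)
  have hPc : ∀ a, P.1 a ≤ 1 → P.1 (c a) ≤ 1 := fun a ha => by
    have h1 := valued_D_le_one (f := φ a) (by rw [hφ.1]; exact ha)
    rwa [D_rel φ (hc a), map_mul, hDt, mul_one, hφ.1] at h1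
  have hPc0 : P.1 (c (f.coeff 0)) = 1 := by
    have h1 := valued_D_eq_one (f := φ (f.coeff 0)) (by rw [hφ.1, hP0])
    rwa [D_rel φ (hc _), map_mul, hDt, mul_one, hφ.1] at h1
  set T := LocRes.D F' (ψ (algebraMap K K' t))
  set S := ψ s
  have hDS := valued_D_eq_one (f := S) (by rw [hψ.1, hs])
  have hder : aeval s (derivative f) = ∑ i ∈ Finset.range (m + 1), algebraMap K K' (f.coeff i) * ((i : K') * s ^ (i - 1)) := by
    conv_lhs => rw [f.as_sum_range_C_mul_X_pow, derivative_sum]
    rw [map_sum]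
    refine Finset.sum_congr (by rw [hm]) fun i _ => ?_
    rw [derivative_C_mul_X_pow, map_mul, map_pow, aeval_C, aeval_X, map_mul, map_natCast]
    ring
  have hderiv : (∑ i ∈ Finset.range (m + 1), ψ (algebraMap K K' (c (f.coeff i))) * S ^ i) * T +
      ψ (aeval s (derivative f)) * LocRes.D F' S = 0 := by
    have h1 := congrArg (fun z => LocRes.D F' (ψ z)) hsum
    simp only [map_zero] at h1
    rw [hder, ← h1, map_sum ψ, map_sum ψ, map_sum (LocRes.D F'), Finset.sum_mul, Finset.sum_mul, ← Finset.sum_add_distrib]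
    refine Finset.sum_congr rfl fun i _ => ?_
    rw [map_mul ψ, map_mul ψ, map_mul ψ, map_natCast ψ, map_pow ψ, map_pow ψ, Derivation.leibniz, Derivation.leibniz_pow,
      D_rel_above ψ (hc (f.coeff i))]
    simp only [smul_eq_mul, nsmul_eq_mul]
    ring
  have hvsum : Valued.v (∑ i ∈ Finset.range (m + 1), ψ (algebraMap K K' (c (f.coeff i))) * S ^ i) =
      (1 : WithZero (Multiplicative ℤ)) := by
    have hv : ∀ i, Valued.v (ψ (algebraMap K K' (c (f.coeff i))) * S ^ i) = P.1 (c (f.coeff i)) ^ e * exp (-(i : ℤ)) := fun i => by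
      rw [map_mul, map_pow, hψ.1, hψ.1, hs, he, ← exp_nsmul]; simp
    have h0 : Valued.v (ψ (algebraMap K K' (c (f.coeff 0))) * S ^ 0) = (1 : WithZero (Multiplicative ℤ)) := by
      rw [hv, hPc0, one_pow, one_mul, Nat.cast_zero, neg_zero, exp_zero]
    rw [← h0]
    refine Valuation.map_sum_eq_of_lt _ (Finset.mem_range.mpr (by omega)) fun i hi => ?_
    rw [Finset.mem_sdiff, Finset.mem_singleton, Finset.mem_range] at hi
    rw [h0, hv]
    have h1 : P.1 (f.coeff i) ≤ 1 := by
      rcases lt_or_eq_of_le (show i ≤ m by omega) with h | h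
      · exact (hsmall i h).le
      · rw [h, hlead, map_one]
    calc P.1 (c (f.coeff i)) ^ e * exp (-(i : ℤ)) ≤ 1 * exp (-(i : ℤ)) := by gcongr; exact pow_le_one' (hPc _ h1) e
      _ = exp (-(i : ℤ)) := one_mul _
      _ < exp (0 : ℤ) := exp_lt_exp.mpr (by omega)
      _ = 1 := exp_zero
  have h2 := congrArg (fun z => Valued.v z) (eq_neg_of_add_eq_zero_left hderiv)
  simp only [map_neg_eq_map, Valuation.map_neg, map_mul, hvsum, hDS, one_mul, mul_one, hψ.1] at h2
  rw [hd, Place.ord, h2]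

end Groth.Agent.FF
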