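import Groth.Agent.FF.DiffDegree
import Groth.Prelude.Def_W4bk4goldsch45p2

/-! `deg [ds] = 2g - 2` and Riemann–Hurwitz over `k(x)`. -/

namespace Groth.Agent.FF

open FunFld WithZero LocRes Module IntermediateField
open scoped Classical

variable {k K : Type*} [Field k] [Field K] [Algebra k K] [IsAlgClosed k]

theorem deg_dx (hK : IsFunctionField k K) {x : K} {H : K →ₐ[k] PowerSeries K} (hH : IsHasseFamily x H) :
    ∃ δ : Place k K → ℤ,
      (∀ (Q : Place k K) (t : K) (Ht : K →ₐ[k] PowerSeries K), Q.1 t = exp (-1 : ℤ) → IsHasseFamily t Ht →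
        δ Q = Q.ord (hasseD Ht 1 x)) ∧
      ∃ S : Finset (Place k K), (∀ Q, δ Q ≠ 0 → Q ∈ S) ∧ ∑ Q ∈ S, δ Q = 2 * (genus k K : ℤ) - 2 := by
  have hx := transcendental_of_hasse hH hK
  have hx0 : x ≠ 0 := fun e => hx (e ▸ isAlgebraic_zero)
  have := isSeparable_of_hasse hK hH
  have := finiteDimensional_adjoin hK hx
  choose tQ htQ0 htQ using fun Q : Place k K => exists_uniformizer Q
  choose HQ hHQ using fun Q : Place k K => exists_hasse_uniformizer hK Q (htQ Q)
  have hDne : ∀ Q, hasseD (HQ Q) 1 x ≠ 0 := fun Q => hasseD_one_ne_zero hK hH (hHQ Q)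
  let δ : Place k K → ℤ := fun Q => Q.ord (hasseD (HQ Q) 1 x)
  have hδ : ∀ (Q : Place k K) (t : K) (Ht : K →ₐ[k] PowerSeries K), Q.1 t = exp (-1 : ℤ) → IsHasseFamily t Ht →
      δ Q = Q.ord (hasseD Ht 1 x) := fun Q t Ht ht hHt => by
    obtain ⟨φ, hφ, -, -⟩ := exists_expansion hK Q (htQ Q)
    have h1 := vDiff_eq hK Q (htQ Q) (hHQ Q) φ hφ 1 x
    have h2 := vDiff_eq hK Q ht hHt φ hφ 1 x
    rw [one_mul] at h1 h2
    simp only [δ, Place.ord, h1.symm.trans h2]
  -- the base `k(x)`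
  obtain ⟨hF, htop⟩ := isFunctionField_adjoin hK hx
  let xF : k⟮x⟯ := AdjoinSimple.gen k x
  have hmap : algebraMap k⟮x⟯ K xF = x := rfl
  have hxF : Transcendental k xF := fun h => hx (h.algebraMap)
  have hxF0 : xF ≠ 0 := fun e => hxF (e ▸ isAlgebraic_zero)
  have hdeg1 : finrank k⟮xF⟯ k⟮x⟯ = 1 := by rw [htop]; exact IntermediateField.finrank_top
  have hdeg1' : ∀ a : k, finrank k⟮(xF - algebraMap k k⟮x⟯ a)⟯ k⟮x⟯ = 1 := fun a => by
    have : k⟮(xF - algebraMap k k⟮x⟯ a)⟯ = (⊤ : IntermediateField k k⟮x⟯) := by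
      rw [eq_top_iff, ← htop, adjoin_simple_le_iff]
      have h1 := add_mem (mem_adjoin_simple_self k (xF - algebraMap k k⟮x⟯ a))
        (IntermediateField.algebraMap_mem k⟮(xF - algebraMap k k⟮x⟯ a)⟯ a)
      rwa [sub_add_cancel] at h1
    rw [this]; exact IntermediateField.finrank_top
  obtain ⟨Pi, hPi⟩ := exists_one_lt_val hF hxF
  have hPuniq : ∀ P, 1 < P.1 xF → P = Pi := fun P hP => (pole_unique hF hxF hdeg1 hP hPi).1
  have hPiord : Pi.ord xF = -1 := (pole_unique hF hxF hdeg1 hPi hPi).2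
  -- finite places: the uniformizer `x - a`
  have hfinP : ∀ P : Place k k⟮x⟯, P.1 xF ≤ 1 → ∃ a : k, P.1 (xF - algebraMap k k⟮x⟯ a) = exp (-1 : ℤ) ∧
      ∀ P' : Place k k⟮x⟯, P'.1 (xF - algebraMap k k⟮x⟯ a) < 1 → P' = P := fun P hP => by
    obtain ⟨a, ha⟩ := exists_const_near hF P hP
    have ht : Transcendental k (xF - algebraMap k k⟮x⟯ a) := fun h => hxF (by
      simpa using h.add (isAlgebraic_algebraMap a))
    have hti : Transcendental k (xF - algebraMap k k⟮x⟯ a)⁻¹ := fun h => ht (by simpa using h.inv)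
    have hne : xF - algebraMap k k⟮x⟯ a ≠ 0 := fun e => ht (e ▸ isAlgebraic_zero)
    have hd : finrank k⟮(xF - algebraMap k k⟮x⟯ a)⁻¹⟯ k⟮x⟯ = 1 := by
      have : k⟮(xF - algebraMap k k⟮x⟯ a)⁻¹⟯ = k⟮(xF - algebraMap k k⟮x⟯ a)⟯ := by
        refine le_antisymm (adjoin_simple_le_iff.mpr (inv_mem (mem_adjoin_simple_self k _)))
          (adjoin_simple_le_iff.mpr ?_)
        have := inv_mem (mem_adjoin_simple_self k (xF - algebraMap k k⟮x⟯ a)⁻¹)
        rwa [inv_inv] at this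
      rw [this]; exact hdeg1' a
    refine ⟨a, ?_, fun P' hP' => ((pole_unique hF hti hd ((val_inv_gt hne).mp hP') ((val_inv_gt hne).mp ha))).1⟩
    have := (pole_unique hF hti hd ((val_inv_gt hne).mp ha) ((val_inv_gt hne).mp ha)).2
    rw [ord_inv] at this
    rw [val_eq_exp_neg_ord P hne, exp_inj]
    omega
  have hover : ∀ (Q : Place k K), ∃ P : Place k k⟮x⟯, IsOver Q P := fun Q => by
    obtain ⟨P, e, -, he⟩ := exists_isOverWith hF.1 Q
    exact ⟨P, e, he⟩
  have hoverPi : ∀ Q : Place k K, IsOver Q Pi ↔ 1 < Q.1 x := fun Q => by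
    constructor
    · rintro ⟨e, he⟩
      exact not_le.mp fun h => not_le.mpr hPi ((ow_le_one_iff he xF).mp h)
    · intro h
      obtain ⟨P, e, he⟩ := hover Q
      rw [← hPuniq P (not_le.mp fun hP => not_le.mpr h ((ow_le_one_iff he xF).mpr hP))]
      exact ⟨e, he⟩
  obtain ⟨ι, _, d, b, hbd, hgen, hcount⟩ := exists_reduced_basis hK hx
  let n := finrank k⟮x⟯ K
  have hcoord : ∀ (z : K) (q : Polynomial k) (p : ι → Polynomial k), Polynomial.aeval x q ≠ 0 →
      ∑ s, Polynomial.aeval x (p s) * b s = Polynomial.aeval x q * z →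
      ∀ s, b.repr z s = Polynomial.aeval xF (p s) / Polynomial.aeval xF q := fun z q p hq h s => by
    have e : ∀ r : Polynomial k, algebraMap k⟮x⟯ K (Polynomial.aeval xF r) = Polynomial.aeval x r := fun r =>
      (Polynomial.aeval_algebraMap_apply K xF r).symm
    have h1 : z = ∑ s, (Polynomial.aeval xF (p s) / Polynomial.aeval xF q) • b s := by
      calc z = (Polynomial.aeval x q)⁻¹ * (Polynomial.aeval x q * z) := (inv_mul_cancel_left₀ hq z).symm
        _ = _ := by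
          rw [← h, Finset.mul_sum]
          refine Finset.sum_congr rfl fun s _ => ?_
          rw [Algebra.smul_def, map_div₀, e, e]; ring
    conv_lhs => rw [h1]
    simp [Finsupp.finsetSum_apply, Finsupp.single_apply]
  choose T hT using fun P : Place k k⟮x⟯ =>
    (⟨(finite_over (K' := K) hF.1 P).toFinset, fun Q => by simp⟩ : ∃ T : Finset (Place k K), ∀ Q, Q ∈ T ↔ IsOver Q P)
  -- finite places
  have hfinite : ∀ P : Place k k⟮x⟯, P.1 xF ≤ 1 →
      P.ord (Algebra.discr k⟮x⟯ (b : ι → K)) = ∑ Q ∈ T P, δ Q ∧ ∀ Q ∈ T P, 0 ≤ δ Q := fun P hP => by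
    obtain ⟨a, ha, huniq⟩ := hfinP P hP
    have hQx : ∀ Q : Place k K, IsOver Q P → Q.1 x ≤ 1 := fun Q ⟨e, he⟩ => (ow_le_one_iff he xF).mpr hP
    have hb : ∀ l, ∀ Q : Place k K, IsOver Q P → Q.1 (b l) ≤ 1 := fun l Q hQ =>
      ((mem_bnd hK hx0).mp (hbd l)).1 Q (hQx Q hQ)
    have hrepr : ∀ z, (∀ Q : Place k K, IsOver Q P → Q.1 z ≤ 1) → ∀ l, P.1 (b.repr z l) ≤ 1 := fun z hz l => by
      obtain ⟨q, m, hq0, hmem, hroots⟩ := exists_clear_poles hK hx z
      obtain ⟨p, -, hp⟩ := hgen m _ hmem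
      have hqx : Polynomial.aeval x q ≠ 0 := fun h => hq0 (transcendental_iff.mp hx q h)
      rw [hcoord z q p hqx hp l, map_div₀]
      have hqa : q.rootMultiplicity a = 0 := by
        rw [Polynomial.rootMultiplicity_eq_zero_iff]
        intro hroot
        exfalso
        obtain ⟨Q, hQ, hQz⟩ := hroots a hroot
        obtain ⟨P', e, he⟩ := hover Q
        have : P'.1 (xF - algebraMap k k⟮x⟯ a) < 1 := (ow_lt_one_iff he _).mp (by
          rwa [map_sub, hmap, ← IsScalarTower.algebraMap_apply])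
        exact not_lt.mpr (hz Q (huniq P' this ▸ ⟨e, he⟩)) hQz
      rw [val_aeval_finite ha hq0, hqa, Nat.cast_zero, neg_zero, exp_zero, div_one]
      exact val_aeval_le hP _
    have hDu : ∀ Q, hasseD (HQ Q) 1 (algebraMap k⟮x⟯ K (xF - algebraMap k k⟮x⟯ a)) = hasseD (HQ Q) 1 x := fun Q => by
      rw [map_sub, hmap, ← IsScalarTower.algebraMap_apply]
      change hasseDer (hHQ Q) (x - algebraMap k K a) = hasseDer (hHQ Q) x
      rw [map_sub, Derivation.map_algebraMap, sub_zero]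
    refine ⟨?_, fun Q hQ => ?_⟩
    · rw [ord_discr_eq hF hK P ha (T P) (hT P) b hb hrepr tQ htQ HQ hHQ (fun Q _ => by rw [hDu]; exact hDne Q)]
      exact Finset.sum_congr rfl fun Q _ => by rw [hDu]
    · exact (val_le_one_iff Q (hDne Q)).mp (val_hasseD_le hK Q (htQ Q) (hHQ Q) (hQx Q ((hT P Q).mp hQ)) 1)
  -- the infinite place
  have hsumd : ∑ Q ∈ T Pi, δ Q = Pi.ord (Algebra.discr k⟮x⟯ (b : ι → K)) + 2 * ∑ s, (d s : ℤ) - 2 * n := by
    have hQord : ∀ Q ∈ T Pi, Q.ord x = -(ramIdx Q Pi : ℤ) := fun Q hQ => by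
      have h := ow_ord_eq (isOverWith_ramIdx ((hT Pi Q).mp hQ)) xF
      rw [hPiord, mul_neg, mul_one] at h
      exact h
    let c : ι → k⟮x⟯ := fun s => (xF ^ d s)⁻¹
    have hc : ∀ s, IsUnit (c s) := fun s => (inv_ne_zero (pow_ne_zero _ hxF0)).isUnit
    let be : Basis ι k⟮x⟯ K := b.isUnitSMul hc
    have hbe : ∀ s, be s = c s • b s := fun s => Basis.isUnitSMul_apply hc s
    have hmapc : ∀ s, algebraMap k⟮x⟯ K (c s) = (x ^ d s)⁻¹ := fun s => by simp [c]; rfl
    have hbe1 : ∀ l, ∀ Q : Place k K, IsOver Q Pi → Q.1 (be l) ≤ 1 := fun l Q hQ => by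
      rw [hbe, Algebra.smul_def, hmapc, map_mul, map_inv₀, map_pow, val_eq_exp_neg_ord Q hx0, ← exp_nsmul, ← exp_neg]
      refine (mul_le_mul' le_rfl (((mem_bnd hK hx0).mp (hbd l)).2 Q ((hoverPi Q).mp hQ))).trans_eq ?_
      rw [← exp_add, ← exp_zero]; congr 1; simp
    have hrepr : ∀ z, (∀ Q : Place k K, IsOver Q Pi → Q.1 z ≤ 1) → ∀ l, Pi.1 (be.repr z l) ≤ 1 := fun z hz l => by
      obtain ⟨q, m, hq0, hmem, -⟩ := exists_clear_poles hK hx z
      have hqx : Polynomial.aeval x q ≠ 0 := fun h => hq0 (transcendental_iff.mp hx q h)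
      have hPiv : Pi.1 xF = exp (1 : ℤ) := by rw [val_eq_exp_neg_ord Pi hxF0, hPiord, neg_neg]
      have hqv := val_aeval_inf hPiv hq0
      have hmem' : Polynomial.aeval x q * z ∈ bnd (k := k) x q.natDegree := by
        rw [mem_bnd hK hx0] at hmem ⊢
        refine ⟨hmem.1, fun Q hQ => ?_⟩
        have hQP := (hoverPi Q).mpr hQ
        rw [map_mul]
        refine (mul_le_mul' le_rfl (hz Q hQP)).trans ?_
        rw [mul_one, show Polynomial.aeval x q = algebraMap k⟮x⟯ K (Polynomial.aeval xF q) from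
            Polynomial.aeval_algebraMap_apply K xF q, isOverWith_ramIdx hQP (Polynomial.aeval xF q), hqv,
          show Q.ord x = _ from ow_ord_eq (isOverWith_ramIdx hQP) xF, hPiord, ← exp_nsmul, exp_le_exp]
        simp [mul_comm]
      obtain ⟨p, hpdeg, hp⟩ := hgen _ _ hmem'
      have hrep : be.repr z l = xF ^ d l * (Polynomial.aeval xF (p l) / Polynomial.aeval xF q) := by
        rw [Basis.repr_isUnitSMul, hcoord z q p hqx hp l, Units.smul_def, smul_eq_mul, Units.val_inv_eq_inv_val,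
          IsUnit.unit_spec]
        simp only [c, inv_inv]
      rw [hrep, map_mul, map_pow, map_div₀, hqv, hPiv, ← exp_nsmul]
      rcases hpdeg l with h | h
      · rw [h, map_zero, map_zero, zero_div, mul_zero]; exact zero_le
      · rcases eq_or_ne (p l) 0 with h0 | h0
        · rw [h0, map_zero, map_zero, zero_div, mul_zero]; exact zero_le
        · rw [val_aeval_inf hPiv h0, ← exp_sub, ← exp_add, ← exp_zero, exp_le_exp]
          simp only [nsmul_eq_mul, mul_one]
          omega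
    have hDinv : ∀ Q : Place k K, hasseD (HQ Q) 1 (algebraMap k⟮x⟯ K xF⁻¹) = -(x⁻¹ ^ 2 * hasseD (HQ Q) 1 x) := fun Q => by
      rw [map_inv₀, hmap]
      have := (hasseDer (hHQ Q)).leibniz_inv x
      change hasseDer (hHQ Q) x⁻¹ = _
      rw [this, smul_eq_mul, neg_mul]
      rfl
    have hDne' : ∀ Q, hasseD (HQ Q) 1 (algebraMap k⟮x⟯ K xF⁻¹) ≠ 0 := fun Q => by
      rw [hDinv]; exact neg_ne_zero.mpr (mul_ne_zero (pow_ne_zero _ (inv_ne_zero hx0)) (hDne Q))
    have hu : Pi.1 xF⁻¹ = exp (-1 : ℤ) := by rw [val_eq_exp_neg_ord Pi (inv_ne_zero hxF0), ord_inv, hPiord]; norm_num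
    have h := ord_discr_eq hF hK Pi hu (T Pi) (hT Pi) be hbe1 hrepr tQ htQ HQ hHQ (fun Q _ => hDne' Q)
    have hQs : ∀ Q ∈ T Pi, Q.ord (hasseD (HQ Q) 1 (algebraMap k⟮x⟯ K xF⁻¹)) = 2 * (ramIdx Q Pi : ℤ) + δ Q := fun Q hQ => by
      have hneg : ∀ w : K, Q.ord (-w) = Q.ord w := fun w => by simp [Place.ord]
      rw [hDinv, hneg, ord_mul Q (pow_ne_zero _ (inv_ne_zero hx0)) (hDne Q), sq,
        ord_mul Q (inv_ne_zero hx0) (inv_ne_zero hx0), ord_inv, hQord Q hQ]
      ring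
    have hsum : ∑ Q ∈ T Pi, (ramIdx Q Pi : ℤ) = n := by
      have := sum_ramIdx_mul_deg (K' := K) hF.1 Pi (T Pi) (hT Pi)
      simp only [deg_eq_one hK, deg_eq_one hF, mul_one] at this
      exact_mod_cast this
    rw [Finset.sum_congr rfl hQs, Finset.sum_add_distrib, ← Finset.mul_sum, hsum] at h
    have hdisc : Algebra.discr k⟮x⟯ (be : ι → K) = (∏ s, c s) ^ 2 * Algebra.discr k⟮x⟯ (b : ι → K) := by
      have e : (be : ι → K) = Matrix.vecMul (b : ι → K) ((Matrix.diagonal c).map (algebraMap k⟮x⟯ K)) := by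
        funext s
        rw [hbe, Matrix.diagonal_map (map_zero _), Matrix.vecMul_diagonal, Algebra.smul_def, mul_comm]
      rw [e, Algebra.discr_of_matrix_vecMul, Matrix.det_diagonal]
    have hd0 : Algebra.discr k⟮x⟯ (b : ι → K) ≠ 0 := Algebra.discr_not_zero_of_basis _ b
    have hcprod : ∀ S : Finset ι, Pi.ord (∏ s ∈ S, c s) = ∑ s ∈ S, (d s : ℤ) := fun S => by
      induction S using Finset.induction with
      | empty => simp
      | insert i S hi ih =>
        have hpow : ∀ m : ℕ, Pi.ord (xF ^ m) = -(m : ℤ) := fun m => by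
          induction m with
          | zero => simp
          | succ m ihm => rw [pow_succ, ord_mul Pi (pow_ne_zero _ hxF0) hxF0, ihm, hPiord]; push_cast; ring
        rw [Finset.prod_insert hi, Finset.sum_insert hi, ord_mul Pi (hc i).ne_zero
          (Finset.prod_ne_zero_iff.mpr fun s _ => (hc s).ne_zero), ih, ord_inv, hpow, neg_neg]
    rw [hdisc, sq, ord_mul Pi (mul_ne_zero (Finset.prod_ne_zero_iff.mpr fun s _ => (hc s).ne_zero)
      (Finset.prod_ne_zero_iff.mpr fun s _ => (hc s).ne_zero)) hd0,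
      ord_mul Pi (Finset.prod_ne_zero_iff.mpr fun s _ => (hc s).ne_zero)
      (Finset.prod_ne_zero_iff.mpr fun s _ => (hc s).ne_zero), hcprod] at h
    linarith
  -- summing up
  let SP : Finset (Place k k⟮x⟯) := insert Pi (finite_support_ord hF (Algebra.discr k⟮x⟯ (b : ι → K))).toFinset
  have hdisj : (SP : Set (Place k k⟮x⟯)).PairwiseDisjoint T := fun P _ P' _ hne => by
    rw [Function.onFun, Finset.disjoint_left]
    exact fun Q h h' => hne (isOver_unique ((hT P Q).mp h) ((hT P' Q).mp h'))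
  refine ⟨δ, hδ, SP.biUnion T, fun Q hQ => ?_, ?_⟩
  · obtain ⟨P, hP⟩ := hover Q
    rw [Finset.mem_biUnion]
    by_contra hne
    push Not at hne
    have hPS : P ∉ SP := fun h => hne P h ((hT P Q).mpr hP)
    simp only [SP, Finset.mem_insert, Set.Finite.mem_toFinset, Function.mem_support, not_or, not_not] at hPS
    obtain ⟨h1, h2⟩ := hfinite P (not_lt.mp fun h => hPS.1 (hPuniq P h))
    rw [hPS.2] at h1
    exact hQ ((Finset.sum_eq_zero_iff_of_nonneg h2).mp h1.symm Q ((hT P Q).mpr hP))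
  · rw [Finset.sum_biUnion hdisj]
    have hs : ∀ P ∈ SP, ∑ Q ∈ T P, δ Q =
        P.ord (Algebra.discr k⟮x⟯ (b : ι → K)) + if P = Pi then 2 * ∑ s, (d s : ℤ) - 2 * n else 0 := fun P _ => by
      split_ifs with h
      · rw [h, hsumd]; ring
      · rw [add_zero, (hfinite P (not_lt.mp fun h' => h (hPuniq P h'))).1]
    rw [Finset.sum_congr rfl hs, Finset.sum_add_distrib, Finset.sum_ite_eq', if_pos (Finset.mem_insert_self _ _)]
    have hd : ∑ P ∈ SP, P.ord (Algebra.discr k⟮x⟯ (b : ι → K)) = 0 := by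
      have := deg_div_eq_zero hF (Algebra.discr k⟮x⟯ (b : ι → K))
      rw [FunFld.Divisor.deg, Finsupp.sum_of_support_subset _ (s := SP) (fun P hP => ?_) _ (by simp)] at this
      · simpa [deg_eq_one hF, div_apply hF] using this
      · rw [Finsupp.mem_support_iff, div_apply hF] at hP
        exact Finset.mem_insert_of_mem (by simpa using hP)
    rw [hd, hcount]
    ring

theorem ordDiff_eq (hK : IsFunctionField k K) (P : Place k K) {t : K} (ht : P.1 t = exp (-1 : ℤ))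
    {Ht : K →ₐ[k] PowerSeries K} (hHt : IsHasseFamily t Ht) {φ : K →ₐ[k] LaurentSeries k}
    (hφ : IsExpansionAt P.1 φ) (s : K) : ordDiff φ 1 s = P.ord (hasseD Ht 1 s) := by
  rw [ordDiff, vDiff_eq hK P ht hHt φ hφ, one_mul]; rfl

theorem divDiff_props (hK : IsFunctionField k K) {s : K} {H : K →ₐ[k] PowerSeries K} (hH : IsHasseFamily s H)
    (Φ : Place k K → (K →ₐ[k] LaurentSeries k)) (hΦ : ∀ P : Place k K, IsExpansionAt P.1 (Φ P)) :
    (∀ P, divDiff Φ 1 s P = ordDiff (Φ P) 1 s) ∧ (divDiff Φ 1 s).deg = 2 * (genus k K : ℤ) - 2 := by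
  obtain ⟨δ, hδ, S, hS, hsum⟩ := deg_dx hK hH
  have heq : ∀ P, ordDiff (Φ P) 1 s = δ P := fun P => by
    obtain ⟨t, ht0, ht⟩ := exists_uniformizer P
    obtain ⟨Ht, hHt⟩ := exists_hasse_uniformizer hK P ht
    rw [ordDiff_eq hK P ht hHt (hΦ P), hδ P t Ht ht hHt]
  have hfin : (Function.support fun P : Place k K => ordDiff (Φ P) 1 s).Finite :=
    S.finite_toSet.subset fun P hP => hS P (by rw [← heq]; exact hP)
  have happ : ∀ P, divDiff Φ 1 s P = ordDiff (Φ P) 1 s := fun P => by rw [divDiff, dif_pos hfin]; rfl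
  refine ⟨happ, ?_⟩
  rw [FunFld.Divisor.deg, Finsupp.sum_of_support_subset _ (s := S) (fun P hP => hS P (by
    rw [Finsupp.mem_support_iff, happ] at hP; rwa [← heq])) _ (by simp), ← hsum]
  exact Finset.sum_congr rfl fun P _ => by rw [happ, heq, deg_eq_one hK]; simp

end Groth.Agent.FF
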