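import Groth.Agent.FF.Galois
import Mathlib.RingTheory.Trace.Basic
import Mathlib.RingTheory.Discriminant
import Mathlib.RingTheory.PowerBasis
import Mathlib.FieldTheory.PrimitiveElement

/-! Finitely many places ramify in a separable extension. -/

open FunFld WithZero Module
open scoped Classical

namespace Groth.Agent.FF

variable {k K K' : Type*} [Field k] [Field K] [Field K'] [Algebra k K] [Algebra K K'] [Algebra k K']
  [IsScalarTower k K K'] [FiniteDimensional K K']

omit [Algebra k K] [Algebra K K'] [Algebra k K'] [IsScalarTower k K K'] [FiniteDimensional K K'] in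
theorem val_trace_lt_of_nilpotent [Algebra k K] (P : Place k K) {n : Type*} [Fintype n] [DecidableEq n]
    (M : Matrix n n K) (hM : ∀ i j, P.1 (M i j) ≤ 1) (N : ℕ) (hN : ∀ i j, P.1 ((M ^ N) i j) < 1) :
    P.1 M.trace < 1 := by
  let MO : Matrix n n P.O := fun i j => ⟨M i j, (mem_O P).mpr (hM i j)⟩
  have hmap : MO.map P.O.subtype = M := rfl
  let r := IsLocalRing.residue P.O
  have hnil : IsNilpotent (MO.map r) := by
    refine ⟨N, ?_⟩
    rw [← Matrix.map_pow]
    ext i j
    refine (residue_eq_zero_iff P).mpr ?_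
    change P.1 (((MO ^ N).map P.O.subtype) i j) < 1
    rw [Matrix.map_pow, hmap]
    exact hN i j
  have h0 : r MO.trace = 0 := by
    rw [AddMonoidHom.map_trace r MO]
    exact (Matrix.isNilpotent_trace_of_isNilpotent hnil).eq_zero
  have h := (residue_eq_zero_iff P).mp h0
  convert h using 2
  simp only [Matrix.trace, Matrix.diag]
  exact (map_sum P.O.subtype (fun i => MO i i) _).symm

theorem val_trace_le (hK : IsFF' k K) {P : Place k K} {ι : Type*} [Fintype ι] (ω : Basis ι K K')
    (hω : ∀ l, ∀ Q : Place k K', IsOver Q P → Q.1 (ω l) ≤ 1)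
    (hrepr : ∀ z, (∀ Q : Place k K', IsOver Q P → Q.1 z ≤ 1) → ∀ l, P.1 (ω.repr z l) ≤ 1)
    {w : K'} (hw : ∀ Q : Place k K', IsOver Q P → Q.1 w ≤ 1) :
    P.1 (Algebra.trace K K' w) ≤ 1 ∧
      ((∀ Q : Place k K', IsOver Q P → Q.1 w < 1) → P.1 (Algebra.trace K K' w) < 1) := by
  have hint : ∀ (w : K'), (∀ Q : Place k K', IsOver Q P → Q.1 w ≤ 1) →
      ∀ i j, P.1 (Algebra.leftMulMatrix ω w i j) ≤ 1 := fun w hw i j => by
    rw [Algebra.leftMulMatrix_eq_repr_mul]
    exact hrepr _ (fun Q hQ => by rw [map_mul]; exact mul_le_one' (hw Q hQ) (hω j Q hQ)) i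
  rw [Algebra.trace_eq_matrix_trace ω]
  refine ⟨P.1.map_sum_le fun i _ => hint w hw i i, fun hlt => ?_⟩
  obtain ⟨t, ht0, ht⟩ := exists_uniformizer P
  set N := (finite_over (K' := K') hK P).toFinset.sum (fun Q => ramIdx Q P) with hN
  refine val_trace_lt_of_nilpotent P _ (hint w hw) N fun i j => ?_
  rw [← map_pow]
  have hz : ∀ Q : Place k K', IsOver Q P → Q.1 (w ^ N * (algebraMap K K' t)⁻¹) ≤ 1 := fun Q hQ => by
    rw [map_mul, map_pow, map_inv₀, isOverWith_ramIdx hQ, ht, ← exp_nsmul, ← exp_neg]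
    refine (mul_le_mul' (pow_le_exp_neg (hlt Q hQ) N) le_rfl).trans ?_
    rw [← exp_add, ← exp_zero, exp_le_exp, nsmul_eq_mul]
    have h1 : ramIdx Q P ≤ N := Finset.single_le_sum (fun R _ => Nat.zero_le (ramIdx R P)) (by simpa using hQ)
    omega
  have e : w ^ N = t • (w ^ N * (algebraMap K K' t)⁻¹) := by
    rw [Algebra.smul_def, mul_comm, mul_assoc, inv_mul_cancel₀ ((map_ne_zero _).mpr ht0), mul_one]
  rw [e, map_smul, Matrix.smul_apply, smul_eq_mul, map_mul]
  refine lt_of_le_of_lt (mul_le_of_le_one_right' (hint _ hz i j)) ?_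
  rw [ht, ← exp_zero, exp_lt_exp]; omega

theorem discr_lt_of_ramified (hK : IsFF' k K) {P : Place k K} {Q : Place k K'} {e : ℕ} (h : IsOverWith Q P e)
    (he : 1 < e) {m : Type*} [Fintype m] [DecidableEq m] (b : Basis m K K')
    (hb : ∀ j, ∀ R : Place k K', IsOver R P → R.1 (b j) ≤ 1) : P.1 (Algebra.discr K (b : m → K')) < 1 := by
  obtain ⟨ι, _, ω, hω, hrepr, -⟩ := exists_adapted_basis (K' := K') hK P
  let σ : ι ≃ m := Fintype.equivOfCardEq (by rw [← finrank_eq_card_basis ω, ← finrank_eq_card_basis b])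
  let ω' := ω.reindex σ
  have hω' : ∀ l, ∀ R : Place k K', IsOver R P → R.1 (ω' l) ≤ 1 := fun l R hR => by
    rw [Basis.reindex_apply]; exact hω _ R hR
  have hrepr' : ∀ z, (∀ R : Place k K', IsOver R P → R.1 z ≤ 1) → ∀ l, P.1 (ω'.repr z l) ≤ 1 := fun z hz l => by
    rw [Basis.repr_reindex, Finsupp.mapDomain_equiv_apply]; exact hrepr z hz _
  set T := Algebra.traceMatrix K (ω' : m → K')
  have hT : ∀ i j, P.1 (T i j) ≤ 1 := fun i j => by
    simp only [T, Algebra.traceMatrix_apply, Algebra.traceForm_apply]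
    exact (val_trace_le hK ω' hω' hrepr' fun R hR => by
      rw [map_mul]; exact mul_le_one' (hω' i R hR) (hω' j R hR)).1
  obtain ⟨t, ht0, ht⟩ := exists_uniformizer P
  obtain ⟨π, hπ0, hπ1, hπR⟩ := exists_ord_indicator (K := K) (finite_over (K' := K') hK P).toFinset
    (Q := Q) (by simpa using ⟨e, h⟩)
  have hft : algebraMap K K' t ≠ 0 := (map_ne_zero _).mpr ht0
  set z := algebraMap K K' t * π⁻¹ with hz
  have hzord : ∀ R : Place k K', IsOver R P → R.ord z = ramIdx R P - R.ord π := fun R hR => by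
    rw [hz, ord_mul R hft (inv_ne_zero hπ0), ord_inv, ow_ord_eq (isOverWith_ramIdx hR), ord_eq_of_val P ht]
    ring
  have hzlt : ∀ R : Place k K', IsOver R P → R.1 z < 1 := fun R hR => by
    rw [val_lt_one_iff R (mul_ne_zero hft (inv_ne_zero hπ0)), hzord R hR]
    by_cases hRQ : R = Q
    · subst hRQ; rw [hπ1, ow_ramIdx_eq h]; omega
    · rw [hπR R (by simpa using hR) hRQ]; have := ramIdx_pos hR; omega
  set a : m → K := fun i => ω'.repr z i
  have ha : ∀ i, P.1 (a i) ≤ 1 := hrepr' z fun R hR => (hzlt R hR).le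
  obtain ⟨i₀, hi₀⟩ : ∃ i, P.1 (a i) = 1 := by
    by_contra hc
    push Not at hc
    have h1 : Q.1 z ≤ exp (-(e : ℤ)) := by
      rw [← ω'.sum_repr z]
      refine Q.1.map_sum_le fun i _ => ?_
      rw [Algebra.smul_def, map_mul, ← ow_ramIdx_eq h]
      exact (mul_le_mul' (isOver_val_le_exp ⟨e, h⟩ (lt_of_le_of_ne (ha i) (hc i))) (hω' i Q ⟨e, h⟩)).trans_eq (mul_one _)
    rw [val_le_exp_iff Q (mul_ne_zero hft (inv_ne_zero hπ0)), hzord Q ⟨e, h⟩, hπ1, ow_ramIdx_eq h] at h1
    omega
  have hvec : ∀ j, P.1 (Matrix.vecMul a T j) < 1 := fun j => by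
    have e1 : Matrix.vecMul a T j = Algebra.trace K K' (z * ω' j) := by
      conv_rhs => rw [← ω'.sum_repr z, Finset.sum_mul, map_sum]
      simp only [Matrix.vecMul, dotProduct, T, Algebra.traceMatrix_apply, Algebra.traceForm_apply, smul_mul_assoc,
        map_smul, smul_eq_mul, a]
    rw [e1]
    refine (val_trace_le hK ω' hω' hrepr' fun R hR => ?_).2 fun R hR => ?_
    · rw [map_mul]; exact mul_le_one' (hzlt R hR).le (hω' j R hR)
    · rw [map_mul]; exact lt_of_le_of_lt (mul_le_of_le_one_right' (hω' j R hR)) (hzlt R hR)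
  have hdet : P.1 T.det < 1 := by
    have hadj : ∀ i j, P.1 (T.adjugate i j) ≤ 1 := fun i j => by
      rw [Matrix.adjugate_apply]
      refine (det_val_le P _ (fun r c => ?_) ∅ (by simp)).trans_eq (by simp)
      rw [Matrix.updateRow_apply]
      split_ifs
      · by_cases hci : c = i
        · subst hci; simp
        · rw [Pi.single_eq_of_ne hci]; simp
      · exact hT r c
    have e2 : Matrix.vecMul (Matrix.vecMul a T) T.adjugate i₀ = T.det * a i₀ := by
      rw [Matrix.vecMul_vecMul, Matrix.mul_adjugate, Matrix.vecMul_smul, Matrix.vecMul_one]; rfl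
    have h2 : P.1 (T.det * a i₀) < 1 := by
      rw [← e2]
      simp only [Matrix.vecMul, dotProduct]
      refine P.1.map_sum_lt one_ne_zero fun j _ => ?_
      rw [map_mul]
      exact lt_of_le_of_lt (mul_le_of_le_one_right' (hadj j i₀)) (hvec j)
    rwa [map_mul, hi₀, mul_one] at h2
  set C : Matrix m m K := ω'.toMatrix (b : m → K')
  have hC : ∀ i j, P.1 (C i j) ≤ 1 := fun i j => hrepr' (b j) (hb j) i
  have e3 : (b : m → K') = Matrix.vecMul (ω' : m → K') (C.map (algebraMap K K')) := by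
    funext j
    rw [← ω'.sum_repr (b j)]
    simp only [Matrix.vecMul, dotProduct, Matrix.map_apply, C, Basis.toMatrix_apply, Algebra.smul_def]
    exact Finset.sum_congr rfl fun i _ => mul_comm _ _
  rw [e3, Algebra.discr_of_matrix_vecMul, map_mul, map_pow]
  refine lt_of_le_of_lt (mul_le_of_le_one_left' (pow_le_one₀ zero_le ?_)) hdet
  exact (det_val_le P C hC ∅ (by simp)).trans_eq (by simp)

theorem finite_ramified [Algebra.IsSeparable K K'] (hK : IsFF' k K) :
    {Q : Place k K' | ¬ Function.Surjective (Q.1.comap (algebraMap K K'))}.Finite := by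
  obtain ⟨θ, hθ⟩ := Field.exists_primitive_element K K'
  let pb := IntermediateField.adjoin.powerBasis (Algebra.IsIntegral.isIntegral (R := K) θ)
  let e : IntermediateField.adjoin K ({θ} : Set K') ≃ₐ[K] K' :=
    (IntermediateField.equivOfEq hθ).trans IntermediateField.topEquiv
  let b := pb.basis.map e.toLinearEquiv
  have hD : Algebra.discr K (b : Fin pb.dim → K') ≠ 0 := Algebra.discr_not_zero_of_basis K b
  have hb : ∀ j, b j = θ ^ (j : ℕ) := fun j => by
    simp [b, pb, e]
  choose below hbelow using fun Q : Place k K' => exists_isOverWith hK Q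
  have hfin : ((Function.support fun P : Place k K => P.ord (Algebra.discr K (b : Fin pb.dim → K'))) ∪
      below '' (Function.support fun Q : Place k K' => Q.ord θ)).Finite :=
    (finite_support_ord' hK _).union ((finite_support_ord' (isFF'_ext hK) θ).image _)
  refine (hfin.biUnion fun P _ => finite_over (K' := K') hK P).subset fun Q hQ => ?_
  obtain ⟨e', he', h⟩ := hbelow Q
  refine Set.mem_iUnion₂.mpr ⟨below Q, ?_, ⟨e', h⟩⟩
  by_contra hc
  simp only [Set.mem_union, Function.mem_support, Set.mem_image, not_or, ne_eq, not_not, not_exists, not_and] at hc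
  have hθint : ∀ R : Place k K', IsOver R (below Q) → R.1 θ ≤ 1 := fun R hR => by
    rcases eq_or_ne θ 0 with hθ0 | hθ0
    · rw [hθ0]; simp
    rw [val_le_one_iff R hθ0]
    by_contra hneg
    obtain ⟨e₂, -, h₂⟩ := hbelow R
    exact hc.2 R (by omega) (isOver_unique ⟨e₂, h₂⟩ hR)
  have he : 1 < e' := by
    have hne : e' ≠ 1 := fun h1 => hQ ((surjective_comap_iff h).mpr h1)
    omega
  have hlt := discr_lt_of_ramified hK h he b fun j R hR => by
    rw [hb, map_pow]; exact pow_le_one₀ zero_le (hθint R hR)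
  rw [val_lt_one_iff (below Q) hD, hc.1] at hlt
  exact lt_irrefl _ hlt

end Groth.Agent.FF
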