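import Groth.Agent.FF.Orders
import Groth.Agent.FF.Norm
import Groth.Agent.FF.Discr

/-! The discriminant of a local integral basis measured by differentials. -/

namespace Groth.Agent.FF

open FunFld WithZero LocRes Module
open scoped Classical

variable {k K K' : Type*} [Field k] [Field K] [Field K'] [Algebra k K] [Algebra K K'] [Algebra k K']
  [IsScalarTower k K K'] [FiniteDimensional K K'] [IsAlgClosed k]

theorem val_le_of_lt_one {L : Type*} [Field L] [Algebra k L] (P : Place k L) {x : L} (h : P.1 x < 1) :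
    P.1 x ≤ exp (-1 : ℤ) := by
  rcases eq_or_ne x 0 with rfl | h0
  · simp
  · rw [val_lt_one_iff P h0] at h; rw [val_le_exp_iff P h0]; omega

theorem prod_pow_dvd_of_vanish {L : Type*} [Field L] [Algebra k L] {m : Type*} (T : Finset m) (Q : m → Place k L)
    (c : m → k) (e : m → ℕ) (hc : Set.InjOn c T) {y : L}
    (hy : ∀ i ∈ T, (Q i).1 (y - algebraMap k L (c i)) = exp (-1 : ℤ)) {p : Polynomial k}
    (hp : ∀ i ∈ T, (Q i).1 (Polynomial.aeval y p) ≤ exp (-(e i : ℤ))) :
    (∏ i ∈ T, (Polynomial.X - Polynomial.C (c i)) ^ e i) ∣ p := by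
  refine Finset.prod_dvd_of_coprime (fun i hi j hj hij => ?_) fun i hi => ?_
  · exact ((Polynomial.isCoprime_X_sub_C_of_isUnit_sub
      (sub_ne_zero.mpr fun h => hij (hc hi hj h)).isUnit).pow)
  · rcases eq_or_ne p 0 with rfl | hp0
    · exact dvd_zero _
    · rw [← Polynomial.le_rootMultiplicity_iff hp0]
      have := hp i hi
      rw [val_aeval_finite (hy i hi) hp0, exp_le_exp] at this
      omega

/-- At a place `P` of the base with uniformizer `u`, the discriminant of an integral basis of `K'` has order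
`∑_{Q|P} ord_Q (D_{t_Q} u)`. -/
theorem ord_discr_eq [Algebra.IsSeparable K K'] (hK : IsFunctionField k K) (hK' : IsFunctionField k K')
    (P : Place k K) {u : K} (hu : P.1 u = exp (-1 : ℤ)) (T : Finset (Place k K'))
    (hT : ∀ Q, Q ∈ T ↔ IsOver Q P) {ι : Type*} [Fintype ι] (b : Basis ι K K')
    (hb : ∀ l, ∀ Q : Place k K', IsOver Q P → Q.1 (b l) ≤ 1)
    (hrepr : ∀ z, (∀ Q : Place k K', IsOver Q P → Q.1 z ≤ 1) → ∀ l, P.1 (b.repr z l) ≤ 1)
    (tQ : Place k K' → K') (htQ : ∀ Q : Place k K', Q.1 (tQ Q) = exp (-1 : ℤ))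
    (HQ : Place k K' → K' →ₐ[k] PowerSeries K') (hHQ : ∀ Q : Place k K', IsHasseFamily (tQ Q) (HQ Q))
    (hne : ∀ Q ∈ T, hasseD (HQ Q) 1 (algebraMap K K' u) ≠ 0) :
    P.ord (Algebra.discr K (b : ι → K')) = ∑ Q ∈ T, Q.ord (hasseD (HQ Q) 1 (algebraMap K K' u)) := by
  have hFF : IsFF' k K := hK.1
  let e : Place k K' → ℕ := fun Q => ramIdx Q P
  have he : ∀ Q ∈ T, 0 < e Q := fun Q hQ => ramIdx_pos ((hT Q).mp hQ)
  let n := finrank K K'
  have hsum : ∑ Q ∈ T, e Q = n := by
    have := sum_ramIdx_mul_deg (K' := K') hFF P T hT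
    simpa [deg_eq_one hK', deg_eq_one hK, e, n] using this
  -- a local generator
  let c : Place k K' → k := fun Q => if h : Q ∈ T then (Infinite.natEmbedding k) (T.equivFin ⟨Q, h⟩) else 0
  have hc : Set.InjOn c T := fun A hA B hB h => by
    rw [Finset.mem_coe] at hA hB
    simp only [c, dif_pos hA, dif_pos hB] at h
    exact congrArg Subtype.val (T.equivFin.injective (Fin.ext ((Infinite.natEmbedding k).injective h)))
  obtain ⟨y, hy⟩ := exists_approx T (fun Q => algebraMap k K' (c Q) + tQ Q) (fun _ => -2)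
  have hyQ : ∀ Q ∈ T, Q.1 (y - algebraMap k K' (c Q)) = exp (-1 : ℤ) := fun Q hQ => by
    rw [show y - algebraMap k K' (c Q) = (y - (algebraMap k K' (c Q) + tQ Q)) + tQ Q by ring,
      Valuation.map_add_eq_of_lt_right _ ?_, htQ]
    rw [htQ]; exact (hy Q hQ).trans_lt (exp_lt_exp.mpr (by norm_num))
  have hyle : ∀ Q ∈ T, Q.1 y ≤ 1 := fun Q hQ => by
    rw [show y = (y - algebraMap k K' (c Q)) + algebraMap k K' (c Q) by ring]
    exact Q.1.map_add_le ((hyQ Q hQ).trans_le (by rw [← exp_zero, exp_le_exp]; omega)) (Q.2.1 _)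
  have hypow : ∀ (m : ℕ), ∀ Q : Place k K', IsOver Q P → Q.1 (y ^ m) ≤ 1 := fun m Q hQ => by
    rw [map_pow]; exact pow_le_one₀ zero_le (hyle Q ((hT Q).mpr hQ))
  have hover : ∀ Q ∈ T, ∀ a : K, Q.1 (algebraMap K K' a) = P.1 a ^ e Q := fun Q hQ =>
    isOverWith_ramIdx ((hT Q).mp hQ)
  -- a polynomial vanishing to order `e` at every place over `P`
  have hvanish : ∀ p : Polynomial k, p.degree < n →
      (∀ Q ∈ T, Q.1 (Polynomial.aeval y p) ≤ exp (-(e Q : ℤ))) → p = 0 := fun p hdeg hp => by
    by_contra hp0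
    have hd := prod_pow_dvd_of_vanish T id c e hc hyQ hp
    have := Polynomial.natDegree_le_of_dvd hd hp0
    rw [Polynomial.natDegree_prod _ _ fun Q _ => pow_ne_zero _ (Polynomial.X_sub_C_ne_zero _)] at this
    simp only [Polynomial.natDegree_pow, Polynomial.natDegree_X_sub_C, mul_one, hsum] at this
    rw [Polynomial.degree_eq_natDegree hp0] at hdeg
    have : p.natDegree < n := by exact_mod_cast hdeg
    omega
  -- the powers of `y` form an integral basis at `P`
  have hcardι : Fintype.card ι = n := (Module.finrank_eq_card_basis b).symm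
  let eι : Fin n ≃ ι := (Fintype.equivFinOfCardEq hcardι).symm
  let b' : Basis (Fin n) K K' := b.reindex eι.symm
  let M : Matrix (Fin n) (Fin n) K := b'.toMatrix fun j : Fin n => y ^ (j : ℕ)
  have hM : ∀ i j, P.1 (M i j) ≤ 1 := fun i j => by
    simp only [M, Basis.toMatrix_apply, b', Basis.repr_reindex, Finsupp.mapDomain_equiv_apply]
    exact hrepr _ (hypow _) _
  have hkey : ∀ a : Fin n → K, (∀ j, P.1 (a j) ≤ 1) → (∀ i, P.1 ((M.mulVec a) i) < 1) → ∀ j, P.1 (a j) < 1 := by
    intro a ha hMa
    choose a₀ ha₀ using fun j => exists_const_near hK P (ha j)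
    let p : Polynomial k := ∑ j : Fin n, Polynomial.monomial (j : ℕ) (a₀ j)
    have hp : p = 0 := by
      refine hvanish p ?_ fun Q hQ => ?_
      · refine (Polynomial.degree_sum_le _ _).trans_lt ((Finset.sup_lt_iff (WithBot.bot_lt_coe n)).mpr fun j _ => ?_)
        exact (Polynomial.degree_monomial_le _ _).trans_lt (WithBot.coe_lt_coe.mpr j.2)
      · have hsmall : ∀ w : K, P.1 w < 1 → Q.1 (algebraMap K K' w) ≤ exp (-(e Q : ℤ)) := fun w hw => by
          rw [hover Q hQ]
          refine (pow_le_pow_left₀ zero_le (val_le_of_lt_one P hw) _).trans_eq ?_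
          rw [← exp_nsmul]; simp
        have hexp : ∑ j, a j • y ^ (j : ℕ) = ∑ i, (M.mulVec a) i • b' i := by
          have h2 : ∀ j : Fin n, ∑ i, (M i j * a j) • b' i = a j • y ^ (j : ℕ) := fun j => by
            conv_rhs => rw [← b'.sum_repr (y ^ (j : ℕ)), Finset.smul_sum]
            exact Finset.sum_congr rfl fun i _ => by rw [smul_smul, mul_comm]; rfl
          simp only [Matrix.mulVec, dotProduct, Finset.sum_smul]
          rw [Finset.sum_comm]
          exact Finset.sum_congr rfl fun j _ => (h2 j).symm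
        have hpe : Polynomial.aeval y p = ∑ i, (M.mulVec a) i • b' i -
            ∑ j : Fin n, algebraMap K K' (a j - algebraMap k K (a₀ j)) * y ^ (j : ℕ) := by
          rw [← hexp, map_sum, ← Finset.sum_sub_distrib]
          refine Finset.sum_congr rfl fun j _ => ?_
          rw [Polynomial.aeval_monomial, Algebra.smul_def, ← sub_mul, ← map_sub, sub_sub_cancel,
            ← IsScalarTower.algebraMap_apply]
        rw [hpe]
        refine Q.1.map_sub_le (Q.1.map_sum_le fun i _ => ?_) (Q.1.map_sum_le fun j _ => ?_)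
        · rw [Algebra.smul_def, map_mul, show b' i = b (eι i) by simp [b']]
          exact (mul_le_mul' (hsmall _ (hMa i)) (hb _ Q ((hT Q).mp hQ))).trans_eq (mul_one _)
        · rw [map_mul]
          exact (mul_le_mul' (hsmall _ (ha₀ j)) (hypow _ Q ((hT Q).mp hQ))).trans_eq (mul_one _)
    intro j
    have hj := congrArg (fun p => Polynomial.coeff p (j : ℕ)) hp
    simp only [p, Polynomial.finsetSum_coeff, Polynomial.coeff_monomial, Polynomial.coeff_zero] at hj
    rw [Finset.sum_eq_single j (fun i _ hij => if_neg fun h => hij (Fin.ext h)) (by simp), if_pos rfl] at hj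
    have := ha₀ j
    rwa [hj, map_zero, sub_zero] at this
  have hdet : P.1 M.det = 1 := by
    let MO : Matrix (Fin n) (Fin n) P.O := fun i j => ⟨M i j, (mem_O P).mpr (hM i j)⟩
    have hMdet : M.det = ((MO.det : P.O) : K) := (RingHom.map_det P.O.subtype MO).symm
    refine le_antisymm (by rw [hMdet]; exact (mem_O P).mp MO.det.2) (not_lt.mp fun hlt => ?_)
    let R := IsLocalRing.residue P.O
    have h0 : (MO.map R).det = 0 := by
      rw [← RingHom.mapMatrix_apply, ← RingHom.map_det]
      exact (residue_eq_zero_iff P).mpr (hMdet ▸ hlt)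
    obtain ⟨v, hv, hMv⟩ := Matrix.exists_mulVec_eq_zero_iff.mpr h0
    choose w hw using fun j => IsLocalRing.residue_surjective (v j)
    apply hv
    funext j
    rw [← hw, Pi.zero_apply, residue_eq_zero_iff]
    refine hkey (fun j => (w j : K)) (fun j => (mem_O P).mp (w j).2) (fun i => ?_) j
    have := congrFun hMv i
    simp only [Matrix.mulVec, dotProduct, Matrix.map_apply, Pi.zero_apply] at this ⊢
    rw [show ∑ x, M i x * (w x : K) = ((∑ x, MO i x * w x : P.O) : K) by simp [MO],
      ← residue_eq_zero_iff, map_sum]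
    simpa [R, map_mul, hw] using this
  have hMne : M.det ≠ 0 := fun h => by rw [h, map_zero] at hdet; exact zero_ne_one hdet
  have hvec : (fun j : Fin n => y ^ (j : ℕ)) = Matrix.vecMul (b' : Fin n → K') (M.map (algebraMap K K')) := by
    funext j
    rw [← b'.sum_repr (y ^ (j : ℕ))]
    simp only [Matrix.vecMul, dotProduct, Matrix.map_apply, M, Basis.toMatrix_apply, Algebra.smul_def]
    exact Finset.sum_congr rfl fun i _ => mul_comm _ _
  have hli : LinearIndependent K fun j : Fin n => y ^ (j : ℕ) := by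
    have hu : IsUnit M := (Matrix.isUnit_iff_isUnit_det M).mpr hMne.isUnit
    rw [Fintype.linearIndependent_iff]
    intro g hg j
    have : M.mulVec g = 0 := by
      funext i
      have := congrArg (fun z => b'.repr z i) hg
      simpa [M, Matrix.mulVec, dotProduct, Basis.toMatrix_apply, mul_comm, map_sum, Finsupp.finsetSum_apply] using this
    rw [← Matrix.mulVec_injective_iff_isUnit] at hu
    exact congrFun (hu (this.trans (Matrix.mulVec_zero M).symm)) j
  let bp : Basis (Fin n) K K' := basisOfLinearIndependentOfCardEqFinrank' (fun j : Fin n => y ^ (j : ℕ)) hli (by simp [n])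
  let pb : PowerBasis K K' := ⟨y, n, bp, fun i => by simp [bp]⟩
  have hdiscr : P.ord (Algebra.discr K (b : ι → K')) = P.ord (Algebra.norm K (Polynomial.aeval y (minpoly K y).derivative)) := by
    have h1 : Algebra.discr K (b : ι → K') = Algebra.discr K (b' : Fin n → K') := by
      rw [Basis.coe_reindex, Equiv.symm_symm]
      exact (Algebra.discr_reindex K b eι.symm).symm
    have h2 : Algebra.discr K (pb.basis : Fin n → K') = M.det ^ 2 * Algebra.discr K (b' : Fin n → K') := by
      rw [show (pb.basis : Fin n → K') = fun j : Fin n => y ^ (j : ℕ) from pb.coe_basis, hvec,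
        Algebra.discr_of_matrix_vecMul]
    have hd0 : Algebra.discr K (b' : Fin n → K') ≠ 0 := Algebra.discr_not_zero_of_basis K b'
    have hord : P.ord (Algebra.discr K (pb.basis : Fin n → K')) = P.ord (Algebra.discr K (b : ι → K')) := by
      rw [h2, ord_mul P (pow_ne_zero _ hMne) hd0, h1, ord_eq_of_val P (n := 0) (by rw [map_pow, hdet]; simp), zero_add]
    rw [← hord, Algebra.discr_powerBasis_eq_norm]
    rcases neg_one_pow_eq_or (R := K) (finrank K K' * (finrank K K' - 1) / 2) with h | h <;> rw [h]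
    · rw [one_mul]
    · rw [neg_one_mul, Place.ord, Valuation.map_neg]; rfl
  have hnorm := deg_mul_ord_norm hFF P (Polynomial.aeval y (minpoly K y).derivative) T hT
  simp only [deg_eq_one hK', deg_eq_one hK, Nat.cast_one, one_mul] at hnorm
  rw [hdiscr, hnorm]
  -- the different at each place
  let f := minpoly K y
  have hint : IsIntegral K y := Algebra.IsIntegral.isIntegral y
  have hfdeg : f.natDegree = n := pb.natDegree_minpoly
  have hfco : ∀ i, P.1 (f.coeff i) ≤ 1 := fun i => by
    rcases lt_trichotomy i n with hi | rfl | hi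
    · -- coordinates of `y ^ n`
      have hz : ∀ Q : Place k K', IsOver Q P → Q.1 (y ^ n) ≤ 1 := hypow n
      let d : Fin n → K := fun j => -f.coeff j
      have hyn : y ^ n = ∑ j : Fin n, d j • y ^ (j : ℕ) := by
        have := minpoly.aeval K y
        rw [Polynomial.aeval_eq_sum_range, hfdeg, Finset.sum_range_succ, ← hfdeg,
          (minpoly.monic hint).coeff_natDegree, one_smul, hfdeg] at this
        rw [eq_neg_of_add_eq_zero_right this, ← Finset.sum_neg_distrib,
          ← Fin.sum_univ_eq_sum_range (fun j => -(f.coeff j • y ^ j))]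
        simp [d]
      have hMd : M.mulVec d = fun i => b'.repr (y ^ n) i := by
        funext i
        rw [hyn]
        simp [M, Matrix.mulVec, dotProduct, Basis.toMatrix_apply, map_sum, Finsupp.finsetSum_apply, mul_comm]
      have hd : d = M⁻¹.mulVec (fun i => b'.repr (y ^ n) i) := by
        rw [← hMd, Matrix.mulVec_mulVec, Matrix.nonsing_inv_mul _ hMne.isUnit, Matrix.one_mulVec]
      have : P.1 (d ⟨i, hi⟩) ≤ 1 := by
        rw [hd, Matrix.inv_def, Matrix.smul_mulVec, Pi.smul_apply, smul_eq_mul, map_mul, Ring.inverse_eq_inv',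
          map_inv₀, hdet, inv_one, one_mul]
        simp only [Matrix.mulVec, dotProduct]
        refine P.1.map_sum_le fun l _ => ?_
        rw [map_mul]
        refine mul_le_one' ?_ (by simp only [b', Basis.repr_reindex, Finsupp.mapDomain_equiv_apply]; exact hrepr _ hz _)
        let MO : Matrix (Fin n) (Fin n) P.O := fun i j => ⟨M i j, (mem_O P).mpr (hM i j)⟩
        have : M.adjugate = MO.adjugate.map P.O.subtype := (RingHom.map_adjugate P.O.subtype MO).symm
        rw [this]; exact (mem_O P).mp (MO.adjugate _ _).2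
      simpa [d] using this
    · rw [← hfdeg, (minpoly.monic hint).coeff_natDegree]; simp
    · rw [Polynomial.coeff_eq_zero_of_natDegree_lt (by omega), map_zero]; exact zero_le
  choose fb hfb using fun i : ℕ => exists_const_near hK P (hfco i)
  have hu0 : u ≠ 0 := fun h => exp_ne_zero (by rw [← hu, h, map_zero])
  let g : ℕ → K := fun i => (f.coeff i - algebraMap k K (fb i)) / u
  have hg : ∀ i, P.1 (g i) ≤ 1 := fun i => by
    simp only [g, map_div₀, hu]
    exact div_le_one_of_le₀ (val_le_of_lt_one P (hfb i)) zero_le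
  have hfg : ∀ i, f.coeff i = algebraMap k K (fb i) + u * g i := fun i => by
    simp only [g]; rw [mul_div_cancel₀ _ hu0]; ring
  have hfbn : fb n = 1 := by
    have := hfb n
    rw [← hfdeg, (minpoly.monic hint).coeff_natDegree, hfdeg, ← map_one (algebraMap k K), ← map_sub] at this
    by_contra hne'
    rw [val_algebraMap P (sub_ne_zero.mpr (Ne.symm hne'))] at this
    exact lt_irrefl _ this
  let fbar : Polynomial k := ∑ i ∈ Finset.range (n + 1), Polynomial.monomial i (fb i)
  let G : K' := ∑ i ∈ Finset.range (n + 1), algebraMap K K' (g i) * y ^ i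
  have hGle : ∀ Q ∈ T, Q.1 G ≤ 1 := fun Q hQ => Q.1.map_sum_le fun i _ => by
    rw [map_mul]
    exact mul_le_one' (by rw [hover Q hQ]; exact pow_le_one₀ zero_le (hg i)) (hypow i Q ((hT Q).mp hQ))
  have hfbarG : Polynomial.aeval y fbar + algebraMap K K' u * G = 0 := by
    have := minpoly.aeval K y
    rw [Polynomial.aeval_eq_sum_range, hfdeg] at this
    rw [← this, map_sum, Finset.mul_sum, ← Finset.sum_add_distrib]
    refine Finset.sum_congr rfl fun i _ => ?_
    rw [Polynomial.aeval_monomial, hfg, Algebra.smul_def, map_add, map_mul, ← IsScalarTower.algebraMap_apply]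
    ring
  have hfbar_eq : fbar = ∏ Q ∈ T, (Polynomial.X - Polynomial.C (c Q)) ^ e Q := by
    have hdvd : (∏ Q ∈ T, (Polynomial.X - Polynomial.C (c Q)) ^ e Q) ∣ fbar :=
      prod_pow_dvd_of_vanish T id c e hc hyQ fun Q hQ => by
        rw [eq_neg_of_add_eq_zero_left hfbarG, Valuation.map_neg, map_mul, id, hover Q hQ, hu, ← exp_nsmul]
        refine (mul_le_mul' le_rfl (hGle Q hQ)).trans_eq ?_
        simp
    have hmon : (∏ Q ∈ T, (Polynomial.X - Polynomial.C (c Q)) ^ e Q).Monic :=
      Polynomial.monic_prod_of_monic _ _ fun Q _ => (Polynomial.monic_X_sub_C _).pow _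
    have hdeg : (∏ Q ∈ T, (Polynomial.X - Polynomial.C (c Q)) ^ e Q).natDegree = n := by
      rw [Polynomial.natDegree_prod _ _ fun Q _ => pow_ne_zero _ (Polynomial.X_sub_C_ne_zero _)]
      simp [hsum]
    have hfn : fbar.coeff n = 1 := by
      simp [fbar, Polynomial.finsetSum_coeff, Polynomial.coeff_monomial, hfbn]
    have hle : fbar.natDegree ≤ n := Polynomial.natDegree_sum_le_of_forall_le _ _ fun i hi =>
      (Polynomial.natDegree_monomial_le _).trans (by simp at hi; omega)
    have hfm : fbar.Monic := Polynomial.monic_of_natDegree_le_of_coeff_eq_one n hle hfn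
    exact (Polynomial.eq_of_monic_of_dvd_of_natDegree_le hmon hfm hdvd (by omega))
  refine Finset.sum_congr rfl fun Q hQ => ?_
  have hQQ := (hT Q).mp hQ
  set D : Derivation k K' K' := hasseDer (hHQ Q) with hD
  have hDy : Q.1 (D y) = 1 := by
    have h1 := exists_val_hasseD_eq_one hK' Q (htQ Q) (hHQ Q) (f := y - algebraMap k K' (c Q))
      (fun h => exp_ne_zero (by rw [← hyQ Q hQ, h, map_zero]))
      ((hyQ Q hQ).trans_le (by rw [← exp_zero, exp_le_exp]; omega))
    rw [ord_eq_of_val Q (n := 1) (hyQ Q hQ)] at h1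
    change Q.1 (D (y - algebraMap k K' (c Q))) = 1 at h1
    rwa [map_sub, Derivation.map_algebraMap, sub_zero] at h1
  have hGv : Q.1 G = 1 := by
    have h2 : Q.1 (Polynomial.aeval y fbar) = exp (-(e Q : ℤ)) := by
      rw [hfbar_eq, map_prod, map_prod, Finset.prod_eq_single_of_mem Q hQ fun R hR hne' => ?_]
      · rw [map_pow, map_pow, map_sub, Polynomial.aeval_X, Polynomial.aeval_C, hyQ Q hQ, ← exp_nsmul]; simp
      · rw [map_pow, map_pow, map_sub, Polynomial.aeval_X, Polynomial.aeval_C,
          show y - algebraMap k K' (c R) = (y - algebraMap k K' (c Q)) + algebraMap k K' (c Q - c R) by rw [map_sub]; ring,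
          Valuation.map_add_eq_of_lt_right, val_algebraMap Q (sub_ne_zero.mpr fun h => hne' (hc hR hQ h.symm)), one_pow]
        rw [val_algebraMap Q (sub_ne_zero.mpr fun h => hne' (hc hR hQ h.symm)), hyQ Q hQ, ← exp_zero, exp_lt_exp]
        omega
    rw [eq_neg_of_add_eq_zero_left hfbarG, Valuation.map_neg, map_mul, hover Q hQ, hu, ← exp_nsmul] at h2
    have : exp (-(e Q : ℤ)) * Q.1 G = exp (-(e Q : ℤ)) * 1 := by rw [mul_one]; simpa using h2
    exact mul_left_cancel₀ exp_ne_zero this
  -- derivatives of elements of the base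
  obtain ⟨Hu, hHu⟩ := exists_hasse_uniformizer hK P hu
  have := isSeparable_of_hasse hK hHu
  have hbase : ∀ a : K, D (algebraMap K K' a) = algebraMap K K' (hasseD Hu 1 a) * D (algebraMap K K' u) := by
    let d₁ : Derivation k K K' := (D.compAlgebraMap K)
    let d₂ : Derivation k K K' := (D (algebraMap K K' u)) • ((Algebra.linearMap K K').compDer (hasseDer hHu))
    have : d₁ = d₂ := derivation_ext_separable (x := u) d₁ d₂ (by
      change D (algebraMap K K' u) = D (algebraMap K K' u) * algebraMap K K' (hasseD Hu 1 u)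
      rw [hasseD_one_self hHu, map_one, mul_one])
    intro a
    exact (Derivation.congr_fun this a).trans (mul_comm _ _)
  have hDg : ∀ i, Q.1 (algebraMap K K' (hasseD Hu 1 (f.coeff i)) - algebraMap K K' (g i)) < 1 := fun i => by
    rw [← map_sub, hfg, hover Q hQ]
    refine pow_lt_one_iff_of_nonneg zero_le (he Q hQ).ne' |>.mpr ?_
    have : hasseD Hu 1 (algebraMap k K (fb i) + u * g i) - g i = u * hasseD Hu 1 (g i) := by
      have h1 : hasseD Hu 1 (algebraMap k K (fb i)) = 0 := (hasseDer hHu).map_algebraMap _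
      rw [hasseD_apply, map_add, map_add, ← hasseD_apply, ← hasseD_apply, h1, hasseD_one_mul hHu, hasseD_one_self hHu]
      ring
    rw [this, map_mul, hu]
    exact (mul_le_mul' le_rfl (val_hasseD_le hK P hu hHu (hg i) 1)).trans_lt (by rw [mul_one, ← exp_zero, exp_lt_exp]; omega)
  have hrel : Polynomial.aeval y f.derivative * D y +
      D (algebraMap K K' u) * ∑ i ∈ Finset.range (n + 1), algebraMap K K' (hasseD Hu 1 (f.coeff i)) * y ^ i = 0 := by
    have h0 := congrArg D (minpoly.aeval K y)
    have hder : Polynomial.aeval y f.derivative = ∑ i ∈ Finset.range (n + 1), algebraMap K K' (f.coeff i) * ((i : K') * y ^ (i - 1)) := by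
      conv_lhs => rw [f.as_sum_range' (n + 1) (by omega)]
      rw [map_sum, map_sum]
      refine Finset.sum_congr rfl fun i _ => ?_
      rw [Polynomial.derivative_monomial, Polynomial.aeval_monomial, map_mul, map_natCast]
      ring
    rw [map_zero, Polynomial.aeval_eq_sum_range, hfdeg, map_sum] at h0
    rw [← h0, hder, Finset.sum_mul, Finset.mul_sum, ← Finset.sum_add_distrib]
    refine Finset.sum_congr rfl fun i _ => ?_
    rw [Algebra.smul_def, D.leibniz, D.leibniz_pow, hbase (f.coeff i), smul_eq_mul, smul_eq_mul, smul_eq_mul, nsmul_eq_mul]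
    ring
  have hS : Q.1 (∑ i ∈ Finset.range (n + 1), algebraMap K K' (hasseD Hu 1 (f.coeff i)) * y ^ i) = 1 := by
    rw [show (∑ i ∈ Finset.range (n + 1), algebraMap K K' (hasseD Hu 1 (f.coeff i)) * y ^ i) =
      (∑ i ∈ Finset.range (n + 1), (algebraMap K K' (hasseD Hu 1 (f.coeff i)) - algebraMap K K' (g i)) * y ^ i) + G by
        simp only [G, sub_mul, Finset.sum_sub_distrib, sub_add_cancel],
      Valuation.map_add_eq_of_lt_right _ ?_, hGv]
    rw [hGv]
    refine Q.1.map_sum_lt one_ne_zero fun i _ => ?_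
    rw [map_mul]
    exact (mul_le_mul' le_rfl (hypow i Q hQQ)).trans_lt (by rw [mul_one]; exact hDg i)
  have hne' := hne Q hQ
  have key : Q.1 (Polynomial.aeval y f.derivative) = Q.1 (D (algebraMap K K' u)) := by
    have := congrArg Q.1 (eq_neg_of_add_eq_zero_left hrel)
    rwa [Valuation.map_neg, map_mul, map_mul, hDy, hS, mul_one, mul_one] at this
  simp only [Place.ord]
  exact congrArg (fun v => -WithZero.log v) key

end Groth.Agent.FF
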