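import Groth.Agent.FF.InvolutionOrbits
import Groth.Agent.FF.HyperGenus
import Groth.Agent.FF.Rational

/-! Pencils of degree two on a genus one field are conjugate under automorphisms. -/

open FunFld WithZero Module Polynomial
open scoped Classical IntermediateField

namespace Groth.Agent.FF

variable {k K : Type*} [Field k] [Field K] [Algebra k K] [IsAlgClosed k] (hK : IsFunctionField k K)

include hK

/-- A quadratic extension of `k(t)` in odd characteristic has a ramified place. -/
theorem exists_fixed_of_quadratic (h2 : (2 : k) ≠ 0) {t : K} (htr : Transcendental k t)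
    (ht : finrank k⟮t⟯ K = 2) :
    ∃ (φ : K ≃ₐ[k] K) (A : Place k K), (∀ a ∈ k⟮t⟯, φ a = a) ∧ (∀ z, φ (φ z) = z) ∧ φ ≠ AlgEquiv.refl ∧
      pullPlace φ A = A := by
  haveI : FiniteDimensional k⟮t⟯ K := Module.finite_of_finrank_eq_succ ht
  obtain ⟨φ, hφF, hφφ, hφ1⟩ := exists_involution h2 _ ht
  refine ⟨φ, ?_⟩
  obtain ⟨z, hz⟩ : ∃ z, φ z ≠ z := by
    by_contra hc; push Not at hc; exact hφ1 (AlgEquiv.ext hc)
  set y := z - φ z with hy
  have hy0 : y ≠ 0 := sub_ne_zero.mpr (Ne.symm hz)
  have hφy : φ y = -y := by rw [hy, map_sub, hφφ]; ring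
  have h2K : (2 : K) ≠ 0 := by
    rw [← map_ofNat (algebraMap k K) 2]; exact (_root_.map_ne_zero _).mpr h2
  have hyF : y ∉ k⟮t⟯ := fun h => hy0 ((mul_eq_zero.1 (show (2 : K) * y = 0 by
    linear_combination (hφF y h).symm.trans hφy)).resolve_left h2K)
  have hy2F : y ^ 2 ∈ k⟮t⟯ := by
    obtain ⟨c, d, hcd⟩ := exists_decomp (K := k⟮t⟯) (z := y) ht (fun ⟨c, hc⟩ => hyF (by rw [← hc]; exact c.2)) (y ^ 2)
    change y ^ 2 = (c : K) + (d : K) * y at hcd
    have h := congrArg φ hcd
    rw [map_pow, hφy, map_add, map_mul, hφy, hφF _ c.2, hφF _ d.2] at h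
    have h3 : (2 : K) * ((d : K) * y) = 0 := by linear_combination h - hcd
    rw [hcd, (mul_eq_zero.1 h3).resolve_left h2K, add_zero]
    exact c.2
  have hex : ∃ n, ∃ (p : k[X]) (w : K), p.natDegree = n ∧ w ∉ k⟮t⟯ ∧ w ^ 2 = aeval t p := by
    obtain ⟨r, s, hrs⟩ := (IntermediateField.mem_adjoin_simple_iff k _).1 hy2F
    have hs : aeval t s ≠ 0 := fun e => by
      rw [e, div_zero] at hrs; exact hy0 (pow_eq_zero_iff two_ne_zero |>.1 hrs)
    refine ⟨_, r * s, y * aeval t s, rfl, fun h => hyF ?_, by rw [mul_pow, hrs, map_mul]; field_simp⟩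
    have hsF : aeval t s ∈ k⟮t⟯ :=
      (IntermediateField.mem_adjoin_simple_iff k _).2 ⟨s, 1, by rw [map_one, div_one]⟩
    simpa [hs] using div_mem h hsF
  obtain ⟨p, w, hpn, hwF, hw2⟩ := Nat.find_spec hex
  have hw0 : w ≠ 0 := fun e => hwF (e ▸ zero_mem _)
  have hp0 : p ≠ 0 := fun e => by rw [e, map_zero] at hw2; exact hw0 (pow_eq_zero_iff two_ne_zero |>.1 hw2)
  have hsq : Squarefree p := by
    intro a ⟨b, hb⟩
    have ha0 : a ≠ 0 := fun e => hp0 (by rw [hb, e]; simp)
    have hb0 : b ≠ 0 := fun e => hp0 (by rw [hb, e]; simp)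
    by_contra hu
    have hdeg : 0 < a.natDegree := natDegree_pos_iff_degree_pos.2 (degree_pos_of_ne_zero_of_nonunit ha0 hu)
    have hta : aeval t a ≠ 0 := fun e => ha0 ((transcendental_iff_injective.mp htr) (e.trans (map_zero _).symm))
    have hlt : b.natDegree < Nat.find hex := by
      rw [← hpn, hb, natDegree_mul (mul_ne_zero ha0 ha0) hb0, natDegree_mul ha0 ha0]; omega
    refine Nat.find_min hex hlt ⟨b, w / aeval t a, rfl, fun h => hwF ?_, by
      rw [div_pow, hw2, hb, map_mul, map_mul]; field_simp⟩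
    have haF : aeval t a ∈ k⟮t⟯ :=
      (IntermediateField.mem_adjoin_simple_iff k _).2 ⟨a, 1, by rw [map_one, div_one]⟩
    simpa [hta] using mul_mem h haF
  obtain ⟨S, hS, hcard⟩ := exists_fixed_places hK ht htr hw2 hsq φ (hφF t (IntermediateField.mem_adjoin_simple_self k t))
  obtain ⟨A, hA⟩ : S.Nonempty := Finset.card_pos.1 (by
    have : p.natDegree ≠ 0 := fun h0 => hwF (by
      obtain ⟨c, hc⟩ : w ∈ Set.range (algebraMap k K) := by
        by_contra hn
        refine transcendental_of_not_mem hK hn ?_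
        obtain ⟨c, hc⟩ := natDegree_eq_zero.1 h0
        exact IsAlgebraic.of_pow two_pos (by rw [hw2, ← hc, aeval_C]; exact isAlgebraic_algebraMap c)
      rw [← hc]; exact IntermediateField.algebraMap_mem _ c)
    omega)
  exact ⟨A, hφF, hφφ, hφ1, hS A hA⟩

theorem pullPlace_pullPlace (ψ : K ≃ₐ[k] K) (hψ : ∀ z, ψ (ψ z) = z) (R : Place k K) :
    pullPlace ψ (pullPlace ψ R) = R :=
  Subtype.ext (Valuation.ext fun z => by rw [pullPlace_apply, pullPlace_apply, hψ])

/-- A generator of a quadratic subfield with a double pole at a fixed place. -/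
theorem exists_double_pole (h2 : (2 : k) ≠ 0) {t : K} (htr : Transcendental k t) (ht : finrank k⟮t⟯ K = 2) :
    ∃ (A : Place k K) (v : K), Transcendental k v ∧ k⟮v⟯ = k⟮t⟯ ∧ poles (k := k) v = Finsupp.single A 2 := by
  obtain ⟨φ, A, hφF, hφφ, hφ1, hA⟩ := exists_fixed_of_quadratic hK h2 htr ht
  obtain ⟨v, hadj, hAv⟩ : ∃ v, k⟮v⟯ = k⟮t⟯ ∧ 1 < A.1 v := by
    rcases lt_or_ge 1 (A.1 t) with h | h
    · exact ⟨t, rfl, h⟩
    obtain ⟨c, hc⟩ := exists_const_near hK A h
    set w := t - algebraMap k K c with hw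
    have hw0 : w ≠ 0 := fun e => htr (by
      rw [show t = algebraMap k K c from sub_eq_zero.1 e]; exact isAlgebraic_algebraMap c)
    refine ⟨w⁻¹, le_antisymm (IntermediateField.adjoin_simple_le_iff.mpr (inv_mem (sub_mem
      (IntermediateField.mem_adjoin_simple_self k t) (IntermediateField.algebraMap_mem _ c))))
      (IntermediateField.adjoin_simple_le_iff.mpr ?_), ?_⟩
    · have := add_mem (inv_mem (IntermediateField.mem_adjoin_simple_self k w⁻¹))
        (IntermediateField.algebraMap_mem k⟮w⁻¹⟯ c)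
      simpa [hw] using this
    · rw [map_inv₀]; exact (one_lt_inv₀ (zero_lt_iff.mpr ((_root_.map_ne_zero _).mpr hw0))).mpr hc
  have hvtr : Transcendental k v := transcendental_of_not_mem hK fun ⟨c, hc⟩ => by
    rw [← hc] at hAv
    exact absurd hAv (not_lt.2 (A.2.1 c))
  refine ⟨A, v, hvtr, hadj, ?_⟩
  rw [poles_eq_orbit hK h2 φ hφφ hφ1 (hφF v (hadj ▸ IntermediateField.mem_adjoin_simple_self k v))
    (by rw [deg_poles hK hvtr, hadj, ht]; norm_num) hAv, hA, ← Finsupp.single_add]
  norm_num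

/-- In genus one any two places are exchanged by an involution. -/
theorem exists_swap (h2 : (2 : k) ≠ 0) (hg : genus k K = 1) (p q : Place k K) :
    ∃ ψ : K ≃ₐ[k] K, (∀ z, ψ (ψ z) = z) ∧ pullPlace ψ p = q := by
  let D : Divisor k K := Finsupp.single p 1 + Finsupp.single q 1
  obtain ⟨C, hC⟩ := exists_isCanonical hK
  have hRR := riemann_roch' hK hC D
  have hDd : D.deg = 2 := by
    simp only [D, deg_add, deg_single, deg_eq_one hK]; norm_num
  obtain ⟨t, htD, htc⟩ : ∃ t ∈ L D, t ∉ Set.range (algebraMap k K) := by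
    by_contra hc
    push Not at hc
    have hle : L D ≤ Submodule.span k {(1 : K)} := fun x hx => by
      obtain ⟨c, rfl⟩ := hc x hx
      exact Submodule.mem_span_singleton.mpr ⟨c, by rw [Algebra.smul_def, mul_one]⟩
    have hl : ell D ≤ 1 := (Submodule.finrank_mono hle).trans (finrank_span_singleton one_ne_zero).le
    omega
  have htr : Transcendental k t := transcendental_of_not_mem hK htc
  have ht0 : t ≠ 0 := fun e => htr (e ▸ isAlgebraic_zero)
  have hpd : poles (k := k) t ≤ D := fun R => by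
    have h := htD R
    rw [val_le_exp_iff R ht0] at h
    rw [poles_apply hK]
    have h0 : 0 ≤ D R := by
      simp only [D, Finsupp.add_apply, Finsupp.single_apply]; split_ifs <;> norm_num
    omega
  have hdeg : (poles (k := k) t).deg = 2 := by
    have h1 := deg_mono hpd
    rw [hDd] at h1
    have h3 := deg_poles hK htr
    have h4 : finrank k⟮t⟯ K ≠ 1 := fun h => by
      obtain ⟨-, -, -, -, h5⟩ := genus_zero_of_adjoin_eq_top hK (IntermediateField.finrank_eq_one_iff_eq_top.mp h) htr
      omega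
    have h6 : finrank k⟮t⟯ K ≠ 0 := fun h => by
      obtain ⟨R, hR⟩ := HyperGenus.exists_place_pole hK htr
      have h7 : Finsupp.single R (1 : ℤ) ≤ poles (k := k) t := fun S => by
        rw [Finsupp.single_apply]; split_ifs with e
        · subst e
          rw [poles_apply hK]
          have : ¬ 0 ≤ R.ord t := fun h8 => absurd hR (not_lt.2 ((val_le_one_iff R ht0).2 h8))
          omega
        · exact poles_nonneg t S
      have h8 := deg_mono h7
      rw [h3, h, deg_single, deg_eq_one hK] at h8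
      norm_num at h8
    omega
  have hfin : finrank k⟮t⟯ K = 2 := by
    have h3 := deg_poles hK htr
    rw [hdeg] at h3
    exact_mod_cast h3.symm
  have hpolesD : poles (k := k) t = D := by
    have hE : (0 : Divisor k K) ≤ D - poles (k := k) t := sub_nonneg.mpr hpd
    exact (sub_eq_zero.mp (eq_zero_of_nonneg_of_deg_eq_zero hK hE (by rw [deg_sub, hDd, hdeg, sub_self]))).symm
  obtain ⟨φ, hφF, hφφ, hφ1⟩ := exists_involution h2 _ hfin
  have hpt : 1 < p.1 t := by
    have h : poles (k := k) t p ≠ 0 := by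
      rw [hpolesD]; simp only [D, Finsupp.add_apply, Finsupp.single_apply, if_pos]; split_ifs <;> norm_num
    rw [poles_apply hK] at h
    by_contra hle
    have := (val_le_one_iff p ht0).1 (not_lt.1 hle)
    omega
  have horb := poles_eq_orbit hK h2 φ hφφ hφ1 (hφF t (IntermediateField.mem_adjoin_simple_self k t)) hdeg hpt
  rw [hpolesD] at horb
  exact ⟨φ, hφφ, ((Finsupp.single_left_inj one_ne_zero).1 (add_left_cancel horb)).symm⟩

/-- In genus one, two quadratic rational subfields are conjugate under an involution. -/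
theorem exists_conj_pencils (h2 : (2 : k) ≠ 0) (hg : genus k K = 1) {t₁ t₂ : K}
    (htr₁ : Transcendental k t₁) (ht₁ : finrank k⟮t₁⟯ K = 2) (htr₂ : Transcendental k t₂) (ht₂ : finrank k⟮t₂⟯ K = 2) :
    ∃ ψ : K ≃ₐ[k] K, (∀ z, ψ (ψ z) = z) ∧ ∀ z, z ∈ k⟮t₁⟯ ↔ ψ z ∈ k⟮t₂⟯ := by
  obtain ⟨A, v, hvtr, hadjv, hpv⟩ := exists_double_pole hK h2 htr₁ ht₁
  obtain ⟨B, w, hwtr, hadjw, hpw⟩ := exists_double_pole hK h2 htr₂ ht₂
  obtain ⟨ψ, hψψ, hψB⟩ := exists_swap hK h2 hg B A
  refine ⟨ψ, hψψ, ?_⟩
  have hψA : pullPlace ψ A = B := by rw [← hψB, pullPlace_pullPlace hK ψ hψψ]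
  have hv0 : v ≠ 0 := fun e => hvtr (e ▸ isAlgebraic_zero)
  have hw0 : w ≠ 0 := fun e => hwtr (e ▸ isAlgebraic_zero)
  have hψw0 : ψ w ≠ 0 := (_root_.map_ne_zero ψ).mpr hw0
  have hψwtr : Transcendental k (ψ w) := fun h => hwtr (by
    have := h.algHom (ψ : K →ₐ[k] K); rwa [AlgEquiv.coe_toAlgHom, hψψ] at this)
  have hmem : ∀ (u : K) (R : Place k K), poles (k := k) u R ≤ (Finsupp.single A (2 : ℤ)) R → u ≠ 0 →
      R.1 u ≤ exp ((Finsupp.single A (2 : ℤ)) R) := fun u R h hu => by
    rw [val_le_exp_iff R hu]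
    rw [poles_apply hK] at h
    omega
  have hvL : v ∈ L (Finsupp.single A (2 : ℤ)) := fun R => hmem v R (by rw [hpv]) hv0
  have hwL : ψ w ∈ L (Finsupp.single A (2 : ℤ)) := fun R => hmem (ψ w) R (by
    have h := DFunLike.congr_fun hpw (pullPlace ψ R)
    rw [poles_apply hK] at h ⊢
    have hord : (pullPlace ψ R).ord w = R.ord (ψ w) := by simp only [Place.ord, pullPlace_apply]
    rw [hord] at h
    rw [h, Finsupp.single_apply, Finsupp.single_apply]
    have hiff : A = R ↔ B = pullPlace ψ R := ⟨fun e => by rw [← e, hψA], fun e => by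
      rw [← pullPlace_pullPlace hK ψ hψψ R, ← e, hψB]⟩
    simp only [hiff, le_refl]) hψw0
  have h1L : (1 : K) ∈ L (Finsupp.single A (2 : ℤ)) := fun R => by
    rw [map_one, ← exp_zero]
    exact exp_le_exp.2 (by rw [Finsupp.single_apply]; split_ifs <;> norm_num)
  obtain ⟨C, hC⟩ := exists_isCanonical hK
  have hell : ell (Finsupp.single A (2 : ℤ) : Divisor k K) = 2 := by
    have h := ell_eq_of_deg_large hK (D := Finsupp.single A (2 : ℤ))
      (by rw [deg_single, deg_eq_one hK, hg]; norm_num)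
    rw [deg_single, deg_eq_one hK, hg] at h
    omega
  have hind : LinearIndependent k ![(1 : K), v] := by
    rw [LinearIndependent.pair_iff]
    intro a b hab
    by_cases hb : b = 0
    · subst hb
      rw [zero_smul, add_zero, Algebra.smul_def, mul_one] at hab
      exact ⟨(_root_.map_eq_zero _).1 hab, rfl⟩
    · refine absurd (?_ : IsAlgebraic k v) hvtr
      rw [Algebra.smul_def, Algebra.smul_def, mul_one] at hab
      rw [show v = algebraMap k K (-a / b) by
        rw [map_div₀, map_neg, eq_div_iff ((_root_.map_ne_zero _).mpr hb)]; linear_combination hab]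
      exact isAlgebraic_algebraMap _
  haveI hfd : FiniteDimensional k (L (Finsupp.single A (2 : ℤ) : Divisor k K)) :=
    Module.finite_of_finrank_eq_succ hell
  have hspan : Submodule.span k (Set.range ![(1 : K), v]) = L (Finsupp.single A (2 : ℤ)) := by
    refine Submodule.eq_of_le_of_finrank_le ?_ (hell.le.trans_eq ?_)
    · rw [Submodule.span_le]; rintro _ ⟨i, rfl⟩
      fin_cases i
      · exact h1L
      · exact hvL
    · rw [finrank_span_eq_card hind, Fintype.card_fin]
  rw [← hspan, Matrix.range_cons_cons_empty, Submodule.mem_span_pair] at hwL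
  obtain ⟨a, b, hab⟩ := hwL
  rw [Algebra.smul_def, Algebra.smul_def, mul_one] at hab
  have hb : algebraMap k K b ≠ 0 := fun e => hψwtr (by
    rw [← hab, e, zero_mul, add_zero]; exact isAlgebraic_algebraMap a)
  have heq : k⟮ψ w⟯ = k⟮v⟯ := le_antisymm (IntermediateField.adjoin_simple_le_iff.mpr (by
      rw [← hab]; exact add_mem (IntermediateField.algebraMap_mem _ a) (mul_mem (IntermediateField.algebraMap_mem _ b)
        (IntermediateField.mem_adjoin_simple_self k v))))
    (IntermediateField.adjoin_simple_le_iff.mpr (by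
      rw [show v = (ψ w - algebraMap k K a) / algebraMap k K b by rw [eq_div_iff hb, ← hab]; ring]
      exact div_mem (sub_mem (IntermediateField.mem_adjoin_simple_self k _) (IntermediateField.algebraMap_mem _ a))
        (IntermediateField.algebraMap_mem _ b)))
  have hmap : IntermediateField.map (ψ : K →ₐ[k] K) k⟮w⟯ = k⟮ψ w⟯ := by
    rw [IntermediateField.adjoin_map, Set.image_singleton]; rfl
  intro z
  rw [← hadjv, ← hadjw, ← heq, ← hmap, IntermediateField.mem_map]
  exact ⟨fun ⟨u, hu, hz⟩ => by rw [← hz]; change ψ (ψ u) ∈ _; rw [hψψ]; exact hu, fun h => ⟨_, h, hψψ z⟩⟩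

end Groth.Agent.FF
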