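import Groth.Agent.FF.DiffExp

/-! Laurent expansions have dense image; their coefficient fields are separable. -/

universe u v w

namespace Groth.Agent.FF

open FunFld WithZero LocRes
open scoped LaurentSeries

variable {k : Type u} {K : Type v} {F : Type w} [Field k] [Field K] [Field F] [Algebra k K] [Algebra k F]
  {P : Place k K} {φ : K →ₐ[k] F⸨X⸩}

/-- The image of an expansion is dense. -/
theorem exists_near_expansion (hφ : IsExpansionAt P.1 φ) (f : F⸨X⸩) (N : ℤ) :
    ∃ z : K, Valued.v (φ z - f) ≤ exp (-N) := by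
  obtain ⟨t, ht⟩ := hφ.2.2
  suffices key : ∀ n : ℕ, ∀ N : ℤ, ∀ g : F⸨X⸩, Valued.v g ≤ exp (-N) → ∃ z : K, Valued.v (φ z - g) ≤ exp (-(N + n)) by
    rcases eq_or_ne f 0 with rfl | hf
    · exact ⟨0, by simp⟩
    set M := log (Valued.v f)
    obtain ⟨z, hz⟩ := key (N + M).toNat (-M) f (by rw [neg_neg, exp_log ((map_ne_zero _).mpr hf)])
    exact ⟨z, hz.trans (exp_le_exp.mpr (by omega))⟩
  intro n
  induction n with
  | zero => exact fun N g hg => ⟨0, by simpa using hg⟩
  | succ n ih =>
    intro N g hg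
    obtain ⟨z, hz⟩ := ih N g hg
    set M := N + n
    set T := φ (t ^ M) with hT
    have hvT : Valued.v T = exp (-M) := by
      rw [hT, hφ.1, map_zpow₀, ht, ← exp_zsmul]; simp
    have hT0 : T ≠ 0 := fun h => by rw [h, map_zero] at hvT; exact exp_ne_zero hvT.symm
    have hq : Valued.v ((g - φ z) / T) ≤ (1 : WithZero (Multiplicative ℤ)) := by
      rw [map_div₀, hvT, div_le_iff₀ exp_pos, one_mul, Valuation.map_sub_swap]
      exact hz
    obtain ⟨y, hy, hyc⟩ := hφ.2.1 (((g - φ z) / T).coeff 0)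
    refine ⟨z + t ^ M * y, ?_⟩
    have h1 : Valued.v (φ y - (g - φ z) / T) ≤ exp (-(1 : ℤ)) := by
      refine (LaurentSeries.valuation_le_iff_coeff_lt_eq_zero F).mpr fun m hm => ?_
      rcases eq_or_lt_of_le (show m ≤ 0 by omega) with rfl | hm'
      · rw [HahnSeries.coeff_sub, hyc, sub_self]
      · rw [HahnSeries.coeff_sub,
          (LaurentSeries.valuation_le_iff_coeff_lt_eq_zero F).mp (show Valued.v (φ y) ≤ exp (-(0 : ℤ)) by rw [hφ.1]; simpa using hy) m hm',
          (LaurentSeries.valuation_le_iff_coeff_lt_eq_zero F).mp (show Valued.v ((g - φ z) / T) ≤ exp (-(0 : ℤ)) by simpa using hq) m hm',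
          sub_zero]
    have h2 : φ (z + t ^ M * y) - g = T * (φ y - (g - φ z) / T) := by
      rw [map_add, map_mul, ← hT]; field_simp; ring
    rw [h2, map_mul, hvT]
    refine (mul_le_mul_right h1 _).trans_eq ?_
    rw [← exp_add]; congr 1; push_cast; ring

/-- Coefficientwise application of an additive map. -/
def mapCoeff (δ : F →+ F) (f : F⸨X⸩) : F⸨X⸩ := f.map δ

theorem mapCoeff_coeff (δ : F →+ F) (f : F⸨X⸩) (n : ℤ) : (mapCoeff δ f).coeff n = δ (f.coeff n) := rfl

theorem mapCoeff_sub (δ : F →+ F) (f g : F⸨X⸩) : mapCoeff δ (f - g) = mapCoeff δ f - mapCoeff δ g := by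
  ext n; simp [mapCoeff_coeff]

theorem valued_mapCoeff_le (δ : F →+ F) {f : F⸨X⸩} {N : ℤ} (h : Valued.v f ≤ exp (-N)) :
    Valued.v (mapCoeff δ f) ≤ exp (-N) :=
  (LaurentSeries.valuation_le_iff_coeff_lt_eq_zero F).mpr fun n hn => by
    rw [mapCoeff_coeff, (LaurentSeries.valuation_le_iff_coeff_lt_eq_zero F).mp h n hn, map_zero]

theorem mapCoeff_mul (δ : Derivation k F F) (f g : F⸨X⸩) :
    mapCoeff (δ : F →ₗ[k] F).toAddMonoidHom (f * g) =
      f * mapCoeff (δ : F →ₗ[k] F).toAddMonoidHom g + g * mapCoeff (δ : F →ₗ[k] F).toAddMonoidHom f := by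
  ext n
  rw [HahnSeries.coeff_add, mul_comm g, mapCoeff_coeff, HahnSeries.coeff_mul,
    HahnSeries.coeff_mul_right' g.isPWO_support (fun m hm => fun h => hm (by rw [mapCoeff_coeff, h, map_zero])),
    HahnSeries.coeff_mul_left' f.isPWO_support (fun m hm => fun h => hm (by rw [mapCoeff_coeff, h, map_zero])),
    map_sum, ← Finset.sum_add_distrib]
  refine Finset.sum_congr rfl fun ij _ => ?_
  simp only [mapCoeff_coeff, LinearMap.toAddMonoidHom_coe, Derivation.coeFn_coe, Derivation.leibniz, smul_eq_mul]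
  ring

theorem valued_D_le {f : F⸨X⸩} {N : ℤ} (h : Valued.v f ≤ exp (-N)) : Valued.v (LocRes.D F f) ≤ exp (-(N - 1)) :=
  (LaurentSeries.valuation_le_iff_coeff_lt_eq_zero F).mpr fun n hn => by
    rw [D_coeff, (LaurentSeries.valuation_le_iff_coeff_lt_eq_zero F).mp h (n + 1) (by omega), smul_zero]

/-- A place with an expansion over `k` has separable residue field. -/
theorem isSeparable_coeffField (hK : IsFunctionField k K) (hg : IsGeometric k K)
    [FiniteDimensional k F] (hφ : IsExpansionAt P.1 φ) : Algebra.IsSeparable k F := by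
  obtain ⟨t, ht, hDt⟩ := exists_val_exp_neg_one hφ
  have hT0 : LocRes.D F (φ t) ≠ 0 := fun h => by rw [h, map_zero] at hDt; exact zero_ne_one hDt
  have hdt := D_ne_zero_of_exp φ hT0
  have hder : ∀ (δ : Derivation k F F) (a : F), δ a = 0 := by
    intro δ a
    by_contra ha
    set Δ := mapCoeff (δ : F →ₗ[k] F).toAddMonoidHom
    let := φ.toRingHom.toAlgebra
    have : IsScalarTower k K F⸨X⸩ := isScalarTower_exp φ
    have hΔC : ∀ c : k, Δ (φ (algebraMap k K c)) = 0 := fun c => by
      ext n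
      rw [LocRes.map_algebraMap, mapCoeff_coeff, HahnSeries.C_apply, HahnSeries.coeff_single]
      split_ifs <;> simp
    let dΔ : Derivation k K F⸨X⸩ :=
      { toFun := fun z => Δ (φ z)
        map_add' := fun a b => by
          show Δ (φ (a + b)) = Δ (φ a) + Δ (φ b)
          ext n
          simp [Δ, mapCoeff_coeff]
        map_smul' := fun c z => by
          show Δ (φ (c • z)) = c • Δ (φ z)
          rw [Algebra.smul_def, map_mul]
          simp only [Δ]
          rw [mapCoeff_mul, show mapCoeff _ (φ (algebraMap k K c)) = 0 from hΔC c, mul_zero,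
            add_zero, LocRes.map_algebraMap, HahnSeries.C_mul_eq_smul, algebraMap_smul]
        map_one_eq_zero' := by
          show Δ (φ 1) = 0
          rw [← map_one (algebraMap k K)]; exact hΔC 1
        leibniz' := fun a b => by
          show Δ (φ (a * b)) = φ a * Δ (φ b) + φ b * Δ (φ a)
          rw [map_mul]; exact mapCoeff_mul δ _ _ }
    set c₀ := Δ (φ t) / LocRes.D F (φ t)
    have hrel : ∀ z, Δ (φ z) = c₀ * LocRes.D F (φ z) := fun z => by
      obtain ⟨c, hc⟩ := exists_smul_D hK hg hdt z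
      have h1 := congrArg dΔ.liftKaehlerDifferential hc
      rw [map_smul, Derivation.liftKaehlerDifferential_comp_D, Derivation.liftKaehlerDifferential_comp_D] at h1
      change Δ (φ z) = φ c * Δ (φ t) at h1
      rw [h1, D_rel φ hc]
      simp only [c₀]; field_simp
    obtain ⟨M, hM⟩ : ∃ M : ℕ, Valued.v c₀ ≤ exp (M : ℤ) := by
      rcases eq_or_ne c₀ 0 with h | h
      · exact ⟨0, by rw [h, map_zero]; exact zero_le⟩
      · exact ⟨(log (Valued.v c₀)).toNat, by
          rw [← exp_log ((map_ne_zero (Valued.v (R := F⸨X⸩))).mpr h), exp_le_exp]; exact Int.self_le_toNat _⟩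
    obtain ⟨z, hz⟩ := exists_near_expansion hφ (HahnSeries.C a) ((M : ℤ) + 2)
    have hDC : LocRes.D F (HahnSeries.C a) = 0 := by rw [D_apply, derivative_C]
    have hΔa : Δ (HahnSeries.C a) = HahnSeries.C (δ a) := by
      ext n
      rw [mapCoeff_coeff, HahnSeries.C_apply, HahnSeries.C_apply, HahnSeries.coeff_single, HahnSeries.coeff_single]
      split_ifs <;> simp
    have hid : (HahnSeries.C : F →+* F⸨X⸩) (δ a) = c₀ * LocRes.D F (φ z - HahnSeries.C a) - Δ (φ z - HahnSeries.C a) := by
      rw [← hΔa]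
      simp only [Δ] at hrel ⊢
      rw [mapCoeff_sub, hrel, map_sub, hDC, sub_zero]; ring
    have hv : Valued.v ((HahnSeries.C : F →+* F⸨X⸩) (δ a)) ≤ exp (-(1 : ℤ)) := by
      rw [hid]
      refine (Valued.v.map_sub _ _).trans (max_le ?_ ((valued_mapCoeff_le _ hz).trans (exp_le_exp.mpr (by omega))))
      rw [map_mul]
      refine (mul_le_mul' hM (valued_D_le hz)).trans ?_
      rw [← exp_add, exp_le_exp]; omega
    have := (LaurentSeries.valuation_le_iff_coeff_lt_eq_zero F).mp hv 0 (by omega)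
    rw [HahnSeries.C_apply, HahnSeries.coeff_single_same] at this
    exact ha this
  rw [← Algebra.FormallyUnramified.iff_isSeparable]
  refine ⟨subsingleton_of_forall_eq 0 fun w => ?_⟩
  have htop : (⊤ : Submodule F (KaehlerDifferential k F)) ≤ ⊥ := by
    rw [← KaehlerDifferential.span_range_derivation, Submodule.span_le]
    rintro _ ⟨a, rfl⟩
    refine (Module.forall_dual_apply_eq_zero_iff F _).mp fun ℓ => ?_
    exact hder (ℓ.compDer (KaehlerDifferential.D k F)) a
  exact htop trivial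

/-- Residues take nonzero values. -/
theorem exists_locRes_ne_zero (hK : IsFunctionField k K) (hg : IsGeometric k K)
    [FiniteDimensional k F] (hφ : IsExpansionAt P.1 φ) {x : K} (hx : KaehlerDifferential.D k K x ≠ 0) :
    ∃ y : K, locRes φ y x ≠ 0 := by
  have := isSeparable_coeffField hK hg hφ
  obtain ⟨a, ha⟩ : ∃ a, Algebra.trace k F a ≠ 0 := by
    by_contra hc; push Not at hc
    exact Algebra.trace_ne_zero k F (LinearMap.ext hc)
  obtain ⟨t, ht, hDt⟩ := exists_val_exp_neg_one hφ
  have hT0 : LocRes.D F (φ t) ≠ 0 := fun h => by rw [h, map_zero] at hDt; exact zero_ne_one hDt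
  obtain ⟨c, hc⟩ := exists_smul_D hK hg (D_ne_zero_of_exp φ hT0) x
  have hc0 : c ≠ 0 := fun h => hx (by rw [hc, h, zero_smul])
  have hT : LocRes.D F (φ x) ≠ 0 := by
    rw [D_rel φ hc]; exact mul_ne_zero ((map_ne_zero φ.toRingHom).mpr hc0) hT0
  set T := LocRes.D F (φ x)
  obtain ⟨y, hy⟩ := exists_near_expansion hφ (HahnSeries.single (-1 : ℤ) a / T) (log (Valued.v T))
  refine ⟨y, ?_⟩
  rw [locRes, resExp, LocRes.res_apply]
  have h1 : Valued.v (φ y * T - HahnSeries.single (-1 : ℤ) a) ≤ exp (-(0 : ℤ)) := by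
    rw [show φ y * T - HahnSeries.single (-1 : ℤ) a = (φ y - HahnSeries.single (-1 : ℤ) a / T) * T by field_simp, map_mul]
    refine (mul_le_mul_left hy _).trans_eq ?_
    conv_lhs => arg 2; rw [← exp_log ((map_ne_zero (Valued.v (R := F⸨X⸩))).mpr hT)]
    rw [← exp_add]; simp
  have h2 := (LaurentSeries.valuation_le_iff_coeff_lt_eq_zero F).mp h1 (-1) (by omega)
  rw [HahnSeries.coeff_sub, HahnSeries.coeff_single_same, sub_eq_zero] at h2
  rw [h2]; exact ha

end Groth.Agent.FF
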