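import Groth.Agent.FF.RiemannRoch
import Mathlib.FieldTheory.AlgebraicClosure
import Mathlib.RingTheory.IntegralClosure.IntegrallyClosed

/-! Function fields with a possibly larger field of constants: reduction to the exact constant field. -/

open FunFld WithZero Module IntermediateField

namespace Groth.Agent.FF

/-- A function field whose field of constants may be a proper extension of `k`. -/
def IsFF' (k L : Type*) [Field k] [Field L] [Algebra k L] : Prop :=
  ∃ x : L, Transcendental k x ∧ FiniteDimensional k⟮x⟯ L

variable {k L : Type*} [Field k] [Field L] [Algebra k L]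

/-- The exact constant field. -/
abbrev consts (k L : Type*) [Field k] [Field L] [Algebra k L] : IntermediateField k L :=
  algebraicClosure k L

theorem isFF'_of_isFunctionField (h : IsFunctionField k L) : IsFF' k L := h.1

theorem transcendental_consts {x : L} (hx : Transcendental k x) : Transcendental (consts k L) x :=
  fun h => hx (IsAlgebraic.restrictScalars k h)

theorem linearIndependent_adjoin_of_consts {x : L} (hx : Transcendental k x) {ι : Type*} (c : ι → consts k L)
    (hc : LinearIndependent k c) : LinearIndependent k⟮x⟯ fun i => (c i : L) := by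
  classical
  have hxK := transcendental_iff_injective.mp (transcendental_consts hx)
  let S : Submodule k L := LinearMap.range ((Polynomial.aeval (R := consts k L) x).toLinearMap.restrictScalars k)
  refine linearIndependent_adjoin_of_mod hx S (fun s ⟨p, hp⟩ => ⟨Polynomial.X * p, by simp [← hp]⟩) _
    (fun i => ⟨Polynomial.C (c i), by simp⟩) fun t a ⟨s, ⟨p, hp⟩, hsum⟩ i hi => ?_
  have h1 : Polynomial.C (∑ i ∈ t, a i • c i) = Polynomial.X * p := hxK (by
    rw [map_mul, Polynomial.aeval_X, show Polynomial.aeval x p = s from hp, ← hsum, Polynomial.aeval_C,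
      map_sum]
    rfl)
  have h2 : ∑ i ∈ t, a i • c i = 0 := by simpa using congrArg (Polynomial.coeff · 0) h1
  exact linearIndependent_iff'.mp hc t a h2 i hi

theorem finiteDimensional_consts (h : IsFF' k L) : FiniteDimensional k (consts k L) := by
  obtain ⟨x, hx, hfd⟩ := h
  let b := Basis.ofVectorSpace k (consts k L)
  have := (linearIndependent_adjoin_of_consts hx _ b.linearIndependent).finite
  exact Module.Finite.of_basis b

/-- `k'(x)` as an extension of `k(x)`. -/
noncomputable abbrev mid (x : L) : IntermediateField k⟮x⟯ L :=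
  IntermediateField.adjoin k⟮x⟯ (consts k L : Set L)

theorem mem_consts_adjoin_of_mem {x : L} {z : L} (hz : z ∈ k⟮x⟯) : z ∈ (consts k L)⟮x⟯ := by
  have h : k⟮x⟯.toSubfield ≤ ((consts k L)⟮x⟯).toSubfield := by
    rw [IntermediateField.adjoin_toSubfield, Subfield.closure_le]
    rintro w (⟨c, rfl⟩ | rfl)
    · exact ((consts k L)⟮x⟯).algebraMap_mem ⟨algebraMap k L c, (consts k L).algebraMap_mem c⟩
    · exact mem_adjoin_simple_self _ _
  exact h hz

theorem mem_mid_iff (x y : L) : y ∈ mid (k := k) x ↔ y ∈ (consts k L)⟮x⟯ := by
  constructor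
  · intro hy
    have h : (mid (k := k) x).toSubfield ≤ ((consts k L)⟮x⟯).toSubfield := by
      rw [IntermediateField.adjoin_toSubfield, Subfield.closure_le]
      rintro z (⟨⟨c, hc⟩, rfl⟩ | hz)
      · exact mem_consts_adjoin_of_mem hc
      · exact ((consts k L)⟮x⟯).algebraMap_mem ⟨z, hz⟩
    exact h hy
  · intro hy
    have h : ((consts k L)⟮x⟯).toSubfield ≤ (mid (k := k) x).toSubfield := by
      rw [IntermediateField.adjoin_toSubfield, Subfield.closure_le]
      rintro z (⟨⟨c, hc⟩, rfl⟩ | hz)
      · exact IntermediateField.subset_adjoin k⟮x⟯ (consts k L : Set L) hc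
      · rw [Set.mem_singleton_iff.mp hz]
        exact (mid (k := k) x).algebraMap_mem ⟨x, mem_adjoin_simple_self k x⟩
    exact h hy

theorem finrank_mid (h : IsFF' k L) {x : L} (hx : Transcendental k x) :
    finrank k⟮x⟯ (mid (k := k) x) = finrank k (consts k L) := by
  have := finiteDimensional_consts h
  let c := Module.finBasis k (consts k L)
  have hli := linearIndependent_adjoin_of_consts hx _ c.linearIndependent
  have halg : ∀ z ∈ (consts k L : Set L), IsAlgebraic k⟮x⟯ z := fun z hz =>
    IsAlgebraic.tower_top _ ((mem_algebraicClosure_iff).mp hz)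
  have hspan : Subalgebra.toSubmodule (mid (k := k) x).toSubalgebra =
      Submodule.span k⟮x⟯ (Set.range fun i => (c i : L)) := by
    rw [IntermediateField.adjoin_toSubalgebra_of_isAlgebraic halg, Algebra.adjoin_eq_span]
    refine le_antisymm (Submodule.span_le.mpr fun z hz => ?_) (Submodule.span_mono ?_)
    · have hz' : z ∈ consts k L := by
        induction hz using Submonoid.closure_induction with
        | mem w hw => exact hw
        | one => exact one_mem _
        | mul a b _ _ ha hb => exact mul_mem ha hb
      rw [show z = ∑ i, c.repr ⟨z, hz'⟩ i • (c i : L) from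
        (congrArg Subtype.val (c.sum_repr ⟨z, hz'⟩)).symm.trans (map_sum (consts k L).val _ _)]
      exact Submodule.sum_mem _ fun i _ => Submodule.smul_of_tower_mem _ _ (Submodule.subset_span ⟨i, rfl⟩)
    · rintro _ ⟨i, rfl⟩
      exact Submonoid.subset_closure (c i).2
  calc finrank k⟮x⟯ (mid (k := k) x)
      = finrank k⟮x⟯ (Subalgebra.toSubmodule (mid (k := k) x).toSubalgebra) := rfl
    _ = finrank k (consts k L) := by
        rw [hspan, finrank_span_eq_card hli, Fintype.card_fin]

theorem finrank_adjoin_consts (h : IsFF' k L) {x : L} (hx : Transcendental k x) :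
    finrank k⟮x⟯ L = finrank k (consts k L) * finrank (consts k L)⟮x⟯ L := by
  rw [← finrank_mid h hx, ← Module.finrank_mul_finrank k⟮x⟯ (mid (k := k) x) L]
  congr 1
  let e : mid (k := k) x ≃+* (consts k L)⟮x⟯ :=
    { toFun := fun y => ⟨y.1, (mem_mid_iff x y.1).mp y.2⟩
      invFun := fun y => ⟨y.1, (mem_mid_iff x y.1).mpr y.2⟩
      left_inv := fun _ => rfl
      right_inv := fun _ => rfl
      map_mul' := fun _ _ => rfl
      map_add' := fun _ _ => rfl }
  exact Algebra.finrank_eq_of_equiv_equiv e (RingEquiv.refl L) (by ext y; rfl)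

theorem isFunctionField_consts (h : IsFF' k L) : IsFunctionField (consts k L) L := by
  have := finiteDimensional_consts h
  obtain ⟨x, hx, hfd⟩ := h
  refine ⟨⟨x, transcendental_consts hx, ?_⟩, fun y hy => ⟨⟨y, mem_algebraicClosure_iff.mpr
    (hy.restrictScalars k)⟩, rfl⟩⟩
  refine Module.finite_of_finrank_pos ?_
  have h1 := finrank_adjoin_consts ⟨x, hx, hfd⟩ hx
  have h2 : 0 < finrank k⟮x⟯ L := finrank_pos
  rw [h1] at h2
  exact Nat.pos_of_mul_pos_left h2

theorem val_le_one_of_mem_consts (P : Place k L) {c : L} (hc : c ∈ consts k L) : P.1 c ≤ 1 := by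
  have h1 : IsIntegral k c := mem_algebraicClosure_iff'.mp hc
  have h2 : IsIntegral P.O c := h1.map_of_comp_eq (algebraMap k P.O) (RingHom.id L) rfl
  obtain ⟨d, hd⟩ := IsIntegrallyClosed.isIntegral_iff.mp h2
  rw [← hd]
  exact (mem_O P).mp d.2

/-- A place over `k` is the same thing as a place over the constant field. -/
def placeConsts : Place k L ≃ Place (consts k L) L where
  toFun P := ⟨P.1, fun c => val_le_one_of_mem_consts P c.2, P.2.2⟩
  invFun P := ⟨P.1, fun c => P.2.1 ⟨algebraMap k L c, (consts k L).algebraMap_mem c⟩, P.2.2⟩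
  left_inv _ := rfl
  right_inv _ := rfl

theorem finrank_restrict {A B R : Type*} [Field A] [Field B] [CommRing R] [Algebra A B] [Algebra A R]
    [Algebra B R] (h : ∀ c : A, algebraMap A R c = algebraMap B R (algebraMap A B c)) :
    finrank A R = finrank A B * finrank B R := by
  have := IsScalarTower.of_algebraMap_eq h
  exact (Module.finrank_mul_finrank A B R).symm

theorem deg_placeConsts (P : Place k L) :
    P.deg = finrank k (consts k L) * (placeConsts (k := k) (L := L) P).deg := by
  let a : Algebra (consts k L) (IsLocalRing.ResidueField P.O) :=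
    Place.algRes (placeConsts (k := k) (L := L) P)
  exact @finrank_restrict k (consts k L) (IsLocalRing.ResidueField P.O) _ _ _ _ (Place.algRes P) a
    fun _ => rfl

theorem exists_transcendental' (h : IsFF' k L) : ∃ x : L, Transcendental k x := h.imp fun _ hx => hx.1

theorem finite_support_ord' (h : IsFF' k L) (x : L) :
    (Function.support fun P : Place k L => P.ord x).Finite := by
  refine ((finite_support_ord (isFunctionField_consts h) x).preimage
    placeConsts.injective.injOn).subset fun P hP => ?_
  exact hP

theorem finiteDimensional_residue' (h : IsFF' k L) (P : Place k L) :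
    FiniteDimensional k (IsLocalRing.ResidueField P.O) := by
  refine Module.finite_of_finrank_pos ?_
  change 0 < P.deg
  rw [deg_placeConsts]
  have := finiteDimensional_consts h
  exact Nat.mul_pos finrank_pos (deg_pos (isFunctionField_consts h) _)

theorem deg_pos' (h : IsFF' k L) (P : Place k L) : 0 < P.deg := by
  have := finiteDimensional_residue' h P
  exact finrank_pos

/-- The weighted number of poles of `x` is `[L : k(x)]`. -/
theorem sum_poles' (h : IsFF' k L) {x : L} (hx : Transcendental k x) (S : Finset (Place k L))
    (hS : ∀ P : Place k L, P.ord x < 0 → P ∈ S) :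
    ∑ P ∈ S, max (-P.ord x) 0 * P.deg = (finrank k⟮x⟯ L : ℤ) := by
  classical
  have hK := isFunctionField_consts h
  have h1 := deg_poles hK (transcendental_consts hx)
  rw [Divisor.deg, Finsupp.sum_of_support_subset _ (s := S.map (placeConsts (k := k) (L := L)).toEmbedding) (fun P hP => ?_) _
    (fun _ _ => zero_mul _), Finset.sum_map] at h1
  · rw [finrank_adjoin_consts h hx, Nat.cast_mul, ← h1, Finset.mul_sum]
    refine Finset.sum_congr rfl fun P _ => ?_
    rw [poles_apply hK, deg_placeConsts P]
    push_cast
    change max (-P.ord x) 0 * _ = _ * (max (-P.ord x) 0 * _)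
    rw [Equiv.coe_toEmbedding]; ring
  · rw [Finsupp.mem_support_iff, poles_apply hK] at hP
    rw [Finset.mem_map_equiv]
    refine hS _ ?_
    change P.ord x < 0
    omega

theorem transcendental_of_ord_ne_zero' {x : L} {P : Place k L} (h : P.ord x ≠ 0) : Transcendental k x := by
  intro ha
  rcases eq_or_ne x 0 with rfl | hx0
  · exact h (ord_zero P)
  have hm : x ∈ consts k L := mem_algebraicClosure_iff.mpr ha
  have h1 := (val_le_one_iff P hx0).mp (val_le_one_of_mem_consts P hm)
  have h2 := (val_le_one_iff P (inv_ne_zero hx0)).mp (val_le_one_of_mem_consts P (inv_mem hm))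
  rw [ord_inv] at h2
  omega

end Groth.Agent.FF

namespace Groth.Agent.FF

variable {k L : Type*} [Field k] [Field L] [Algebra k L]

theorem exists_place' (h : IsFF' k L) (O : ValuationSubring L) (hk : ∀ c, algebraMap k L c ∈ O)
    (hne : O ≠ ⊤) : ∃ P : Place k L, P.O = O := by
  have hc : ∀ c : consts k L, algebraMap (consts k L) L c ∈ O := fun c => by
    let f : k →+* O := (algebraMap k L).codRestrict O hk
    have h2 : IsIntegral O (c : L) :=
      (mem_algebraicClosure_iff'.mp c.2).map_of_comp_eq f (RingHom.id L) rfl
    obtain ⟨d, hd⟩ := IsIntegrallyClosed.isIntegral_iff.mp h2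
    change (c : L) ∈ O
    rw [← hd]
    exact d.2
  obtain ⟨P, hP⟩ := exists_place_of_valuationSubring (isFunctionField_consts h) O hc hne
  exact ⟨(placeConsts (k := k) (L := L)).symm P, hP⟩

end Groth.Agent.FF
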