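import Groth.Prelude.Def_W4bk4goldsch23FF
import Mathlib.RingTheory.AlgebraicIndependent.TranscendenceBasis
import Mathlib.RingTheory.AlgebraicIndependent.Transcendental
import Mathlib.RingTheory.AlgebraicIndependent.AlgebraicClosure
import Mathlib.FieldTheory.IntermediateField.Adjoin.Algebra
import Mathlib.RingTheory.Localization.Module

/-! Function fields: every transcendental element generates a subfield of finite index; linear
independence over `k(x)` from linear independence modulo multiples of `x`. -/

namespace Groth.Agent.FF

open Polynomial IntermediateField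

variable {k K : Type*} [Field k] [Field K] [Algebra k K]

theorem transcendental_of_not_mem (hK : FunFld.IsFunctionField k K) {z : K}
    (hz : z ∉ Set.range (algebraMap k K)) : Transcendental k z :=
  fun h => hz (hK.2 z h)

theorem finiteDimensional_adjoin (hK : FunFld.IsFunctionField k K) {z : K}
    (hz : Transcendental k z) : FiniteDimensional k⟮z⟯ K := by
  obtain ⟨⟨x, hx, hfin⟩, -⟩ := hK
  have hxb : IsTranscendenceBasis k ((↑) : ({x} : Set K) → K) := by
    have ind : AlgebraicIndependent k ((↑) : ({x} : Set K) → K) := by
      have : AlgebraicIndependent k (fun _ : ({x} : Set K) => x) :=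
        algebraicIndependent_unique_type_iff.mpr hx
      convert this using 2 with w
      exact w.2
    rw [ind.isTranscendenceBasis_iff_isAlgebraic, Subtype.range_coe]
    exact IntermediateField.isAlgebraic_adjoin_iff_top.mp (inferInstance : Algebra.IsAlgebraic k⟮x⟯ K)
  have htr : Algebra.trdeg k K = 1 := by
    rw [← hxb.cardinalMk_eq_trdeg]; simp
  have hzi : AlgebraicIndependent k ((↑) : ({z} : Set K) → K) := by
    have : AlgebraicIndependent k (fun _ : ({z} : Set K) => z) :=
      algebraicIndependent_unique_type_iff.mpr hz
    convert this using 2 with w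
    exact w.2
  have hzb : IsTranscendenceBasis k ((↑) : ({z} : Set K) → K) :=
    hzi.isTranscendenceBasis_of_trdeg_le_of_finite (by rw [htr]; simp)
  have halg : Algebra.IsAlgebraic k⟮z⟯ K := by
    have := hzb.isAlgebraic
    rw [Subtype.range_coe] at this
    exact IntermediateField.isAlgebraic_adjoin_iff_top.mpr this
  have h1 : Algebra.EssFiniteType k k⟮x⟯ :=
    IntermediateField.essFiniteType_iff.mpr (fg_adjoin_of_finite (Set.finite_singleton x))
  have h2 : Algebra.EssFiniteType k K := Algebra.EssFiniteType.comp k k⟮x⟯ K
  have : Algebra.EssFiniteType k⟮z⟯ K := Algebra.EssFiniteType.of_comp k k⟮z⟯ K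
  exact Algebra.finite_of_essFiniteType_of_isAlgebraic

open scoped IntermediateField.algebraAdjoinAdjoin in
/-- Elements of an `x`-stable `k`-space `S` whose classes modulo `x • S` are linearly independent over
`k` are linearly independent over `k(x)`. -/
theorem linearIndependent_adjoin_of_mod {x : K} (hx : Transcendental k x) (S : Submodule k K)
    (hS : ∀ s ∈ S, x * s ∈ S) {ι : Type*} (z : ι → K) (hz : ∀ i, z i ∈ S)
    (hind : ∀ (t : Finset ι) (c : ι → k),
      (∃ s ∈ S, ∑ i ∈ t, c i • z i = x * s) → ∀ i ∈ t, c i = 0) :
    LinearIndependent k⟮x⟯ z := by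
  classical
  have hpoly : ∀ (t : Finset ι) (N : ℕ) (p : ι → k[X]), (∀ i ∈ t, (p i).natDegree < N) →
      ∑ i ∈ t, aeval x (p i) * z i = 0 → ∀ i ∈ t, p i = 0 := by
    intro t N
    induction N with
    | zero => intro p hp _ i hi; exact absurd (hp i hi) (Nat.not_lt_zero _)
    | succ N ih =>
      intro p hp hsum
      have hmem : ∀ i, aeval x (p i).divX * z i ∈ S := fun i => by
        induction (p i).divX using Polynomial.induction_on with
        | C a => rw [aeval_C, ← Algebra.smul_def]; exact S.smul_mem a (hz i)
        | add a b ha hb => rw [map_add, add_mul]; exact S.add_mem ha hb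
        | monomial n a ih =>
          rw [pow_succ, ← mul_assoc, map_mul, aeval_X, mul_comm _ x, mul_assoc]
          exact hS _ ih
      have hdec : ∀ i, aeval x (p i) * z i =
          (p i).coeff 0 • z i + x * (aeval x (p i).divX * z i) := fun i => by
        conv_lhs => rw [← divX_mul_X_add (p i)]
        simp [Algebra.smul_def]; ring
      rw [Finset.sum_congr rfl (fun i _ => hdec i), Finset.sum_add_distrib, ← Finset.mul_sum] at hsum
      have h0 : ∀ i ∈ t, (p i).coeff 0 = 0 := by
        refine hind t _ ⟨-∑ i ∈ t, aeval x (p i).divX * z i, ?_, ?_⟩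
        · exact S.neg_mem (S.sum_mem fun i _ => hmem i)
        · linear_combination hsum
      rw [Finset.sum_eq_zero (fun i hi => by rw [h0 i hi, zero_smul]), zero_add, mul_eq_zero] at hsum
      have hx0 : x ≠ 0 := fun h => hx (h ▸ isAlgebraic_zero)
      intro i hi
      have hlt : ∀ j ∈ t, (p j).divX.natDegree < N ∨ (p j).divX = 0 := by
        intro j hj
        rcases Nat.eq_zero_or_pos (p j).natDegree with h | h
        · right
          rw [eq_C_of_natDegree_eq_zero h, divX_C]
        · left
          have := hp j hj
          rw [natDegree_divX_eq_natDegree_tsub_one]; omega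
      rcases Nat.eq_zero_or_pos N with hN | hN
      · have := hp i hi
        rw [eq_C_of_natDegree_eq_zero (by omega : (p i).natDegree = 0), h0 i hi, map_zero]
      · have := ih (fun j => (p j).divX)
          (fun j hj => (hlt j hj).elim id (fun h => by rw [h, natDegree_zero]; exact hN))
          (hsum.resolve_left hx0) i hi
        rw [← divX_mul_X_add (p i), this, h0 i hi, zero_mul, map_zero, add_zero]
  rw [← LinearIndependent.iff_fractionRing (Algebra.adjoin k ({x} : Set K)) k⟮x⟯]
  rw [linearIndependent_iff']
  intro t g hg i hi
  have hp : ∀ j, ∃ q : k[X], aeval x q = (g j : K) := fun j => by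
    simpa [Algebra.adjoin_singleton_eq_range_aeval] using
      (Algebra.adjoin_singleton_eq_range_aeval k x ▸ (g j).2 : (g j : K) ∈ (aeval x).range)
  choose p hp using hp
  have := hpoly t ((t.sup fun j => (p j).natDegree) + 1) p
    (fun j hj => Nat.lt_succ_of_le (Finset.le_sup (f := fun j => (p j).natDegree) hj))
    (by simpa [hp, Algebra.smul_def, Subalgebra.algebraMap_def] using hg) i hi
  ext
  rw [← hp i, this, map_zero]; rfl

end Groth.Agent.FF
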