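import Groth.Agent.FF.ZetaPoly
import Mathlib.RingTheory.PowerSeries.Derivative
import Mathlib.RingTheory.PowerSeries.Inverse

/-! The logarithmic derivative of the zeta series. -/

open FunFld WithZero Module
open scoped Classical

namespace Groth.Agent.FF

variable {k K : Type*} [Field k] [Field K] [Algebra k K]

variable (k K) in
/-- `N_r = ∑_{deg P ∣ r} deg P`, the number of points over the extension of degree `r`. -/
noncomputable def NN (r : ℕ) : ℕ := ∑ᶠ P ∈ {P : Place k K | P.deg ∣ r}, P.deg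

theorem NN_eq_sum [Finite k] (hK : IsFunctionField k K) {r n : ℕ} (hr : r ≠ 0) (hrn : r ≤ n) :
    NN k K r = ∑ P ∈ (finite_places_deg_le hK n).toFinset.filter fun P => P.deg ∣ r, P.deg := by
  rw [NN, finsum_mem_eq_sum_of_inter_support_eq]
  ext P
  simp only [Set.mem_inter_iff, Set.mem_ofPred_eq, Finset.coe_filter, Set.Finite.mem_toFinset]
  exact ⟨fun h => ⟨⟨(Nat.le_of_dvd (Nat.pos_of_ne_zero hr) h.1).trans hrn, h.1⟩, h.2⟩, fun h => ⟨h.1.2, h.2⟩⟩

theorem NN_one [Finite k] (hK : IsFunctionField k K) : NN k K 1 = Nat.card {P : Place k K // P.deg = 1} := by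
  have hfin : {P : Place k K | P.deg = 1}.Finite := (finite_places_deg_le hK 1).subset fun P hP => le_of_eq hP
  rw [NN, show {P : Place k K | P.deg ∣ 1} = {P : Place k K | P.deg = 1} by ext; simp]
  rw [finsum_mem_eq_finite_toFinset_sum _ hfin, Finset.sum_congr rfl fun P hP => (hfin.mem_toFinset.mp hP),
    Finset.sum_const, smul_eq_mul, mul_one]
  exact (Nat.card_eq_card_finite_toFinset hfin).symm

theorem card_effDiv_ge [Finite k] (hK : IsFunctionField k K) (n i : ℕ) (P : Place k K) :
    (Nat.card {D : Divisor k K // (0 ≤ D ∧ D.deg = (n : ℤ)) ∧ (i : ℤ) ≤ D P} : ℤ) =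
      aZ k K ((n : ℤ) - i * P.deg) := by
  rw [aZ]
  split_ifs with h
  · rw [Nat.cast_eq_zero, Nat.card_eq_zero]
    refine Or.inl ⟨fun ⟨D, ⟨hD, hdeg⟩, hi⟩ => ?_⟩
    have h1 := deg_mono (show Finsupp.single P (i : ℤ) ≤ D from fun Q => by
      rw [Finsupp.single_apply]; split_ifs with e
      · rw [← e]; exact hi
      · exact hD Q)
    rw [deg_single, hdeg] at h1
    omega
  · rw [effDivCount, Int.toNat_of_nonneg (not_lt.mp h), Nat.cast_inj]
    refine Nat.card_congr
      { toFun := fun D => ⟨D.1 - Finsupp.single P (i : ℤ), fun Q => ?_, by rw [deg_sub, deg_single, D.2.1.2]⟩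
        invFun := fun E => ⟨E.1 + Finsupp.single P (i : ℤ), ⟨add_nonneg E.2.1 (Finsupp.single_nonneg.mpr (by positivity)),
          by rw [deg_add, deg_single, E.2.2]; ring⟩, ?_⟩
        left_inv := fun D => Subtype.ext (sub_add_cancel _ _)
        right_inv := fun E => Subtype.ext (add_sub_cancel_right _ _) }
    · rw [Finsupp.sub_apply, Finsupp.single_apply, Finsupp.zero_apply]
      split_ifs with e
      · subst e; exact sub_nonneg.mpr D.2.2
      · simpa using D.2.1.1 Q
    · rw [Finsupp.add_apply, Finsupp.single_eq_same]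
      exact le_add_of_nonneg_left (E.2.1 P)

theorem mul_effDivCount [Finite k] (hK : IsFunctionField k K) (n : ℕ) :
    (n : ℤ) * effDivCount k K n = ∑ r ∈ Finset.Icc 1 n, (NN k K r : ℤ) * effDivCount k K (n - r) := by
  have hfin := finite_effDiv hK (n : ℤ)
  have := Fintype.ofFinite {D : Divisor k K // 0 ≤ D ∧ D.deg = (n : ℤ)}
  set S := (finite_places_deg_le hK n).toFinset
  have hsupp : ∀ D : {D : Divisor k K // 0 ≤ D ∧ D.deg = (n : ℤ)}, ∀ P, D.1 P ≠ 0 → P ∈ S ∧ D.1 P * P.deg ≤ n := by
    intro D P hne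
    have h0 : 0 ≤ D.1 P := D.2.1 P
    have h1 := deg_mono (show Finsupp.single P (D.1 P) ≤ D.1 from fun Q => by
      rw [Finsupp.single_apply]; split_ifs with e
      · rw [e]
      · exact D.2.1 Q)
    rw [deg_single, D.2.2] at h1
    refine ⟨?_, h1⟩
    simp only [S, Set.Finite.mem_toFinset, Set.mem_ofPred_eq]
    have : (1 : ℤ) * P.deg ≤ D.1 P * P.deg := mul_le_mul_of_nonneg_right (by omega) (by positivity)
    omega
  have hdeg : ∀ D : {D : Divisor k K // 0 ≤ D ∧ D.deg = (n : ℤ)},
      (n : ℤ) = ∑ P ∈ S, ∑ i ∈ Finset.Icc 1 n, if (i : ℤ) ≤ D.1 P then (P.deg : ℤ) else 0 := by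
    intro D
    conv_lhs => rw [← D.2.2]
    rw [Divisor.deg, Finsupp.sum_of_support_subset D.1 (fun P hP => (hsupp D P (Finsupp.mem_support_iff.mp hP)).1) _ (by simp)]
    refine Finset.sum_congr rfl fun P _ => ?_
    have h0 : 0 ≤ D.1 P := D.2.1 P
    have hn : D.1 P ≤ n := by
      rcases eq_or_ne (D.1 P) 0 with h | h
      · omega
      · have := (hsupp D P h).2
        have : (D.1 P) * 1 ≤ D.1 P * P.deg := mul_le_mul_of_nonneg_left (by have := deg_pos hK P; omega) h0
        omega
    rw [← Finset.sum_filter, Finset.sum_const, show (Finset.Icc 1 n).filter (fun i : ℕ => (i : ℤ) ≤ D.1 P) =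
      Finset.Icc 1 (D.1 P).toNat by ext; simp; omega, Nat.card_Icc, nsmul_eq_mul]
    push_cast
    rw [Int.toNat_of_nonneg h0]
  have hlhs : (n : ℤ) * effDivCount k K n =
      ∑ P ∈ S, (P.deg : ℤ) * ∑ i ∈ Finset.Icc 1 n, aZ k K ((n : ℤ) - i * P.deg) := by
    rw [effDivCount, Nat.card_eq_fintype_card, ← Finset.card_univ, Finset.cast_card, Finset.mul_sum]
    simp only [mul_one]
    rw [Finset.sum_congr rfl fun D _ => hdeg D, Finset.sum_comm]
    refine Finset.sum_congr rfl fun P _ => ?_
    rw [Finset.sum_comm, Finset.mul_sum]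
    refine Finset.sum_congr rfl fun i _ => ?_
    rw [← card_effDiv_ge hK n i P, ← Nat.card_congr (Equiv.subtypeSubtypeEquivSubtypeInter _ _), Nat.card_eq_fintype_card,
      ← Finset.sum_filter, Finset.sum_const, nsmul_eq_mul, Fintype.card_subtype]
    exact mul_comm _ _
  rw [hlhs]
  have hr : ∀ r ∈ Finset.Icc 1 n, (NN k K r : ℤ) * effDivCount k K (n - r) =
      ∑ P ∈ S, if P.deg ∣ r then (P.deg : ℤ) * aZ k K ((n : ℤ) - r) else 0 := fun r hr => by
    obtain ⟨h1, h2⟩ := Finset.mem_Icc.mp hr
    rw [NN_eq_sum hK (by omega) h2, ← Finset.sum_filter, Nat.cast_sum, Finset.sum_mul, ← Nat.cast_sub h2, aZ_natCast]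
  rw [Finset.sum_congr rfl hr, Finset.sum_comm]
  refine Finset.sum_congr rfl fun P _ => ?_
  have hd := deg_pos hK P
  rw [← Finset.sum_filter, Finset.mul_sum,
    ← Finset.sum_subset (s₁ := (Finset.Icc 1 n).filter fun i => i * P.deg ≤ n) (Finset.filter_subset _ _) fun i hi hni => by
      have : n < i * P.deg := not_le.mp fun h => hni (Finset.mem_filter.mpr ⟨hi, h⟩)
      rw [aZ, if_pos (by push_cast; omega), mul_zero]]
  refine Finset.sum_nbij' (fun i => i * P.deg) (fun r => r / P.deg) (fun i hi => ?_) (fun r hr => ?_)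
    (fun i _ => Nat.mul_div_cancel _ hd) (fun r hr => ?_) (fun i _ => by push_cast; rfl)
  · simp only [Finset.mem_filter, Finset.mem_Icc] at hi ⊢
    exact ⟨⟨Nat.one_le_iff_ne_zero.mpr (Nat.mul_ne_zero (by omega) (by omega)), hi.2⟩, Dvd.intro_left _ rfl⟩
  · simp only [Finset.mem_filter, Finset.mem_Icc] at hr ⊢
    obtain ⟨c, hc⟩ := hr.2
    subst hc
    rw [Nat.mul_div_cancel_left _ hd]
    have hc0 : 1 ≤ c := Nat.one_le_iff_ne_zero.mpr fun h => by subst h; omega
    have hcn : c ≤ n := (Nat.le_mul_of_pos_left c hd).trans hr.1.2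
    exact ⟨⟨hc0, hcn⟩, by rw [mul_comm]; exact hr.1.2⟩
  · exact Nat.div_mul_cancel (Finset.mem_filter.mp hr).2

/-! ### The operator `t d/dt` -/

open PowerSeries (X C mk coeff)

/-- The operator `t d/dt`. -/
noncomputable def theta (f : PowerSeries ℂ) : PowerSeries ℂ := mk fun n => (n : ℂ) * coeff n f

theorem theta_eq (f : PowerSeries ℂ) : theta f = X * PowerSeries.derivative ℂ f := by
  refine PowerSeries.ext fun n => ?_
  rcases n with _ | n
  · simp [theta]
  · rw [PowerSeries.coeff_succ_X_mul, PowerSeries.coeff_derivative, theta, PowerSeries.coeff_mk]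
    push_cast; ring

theorem theta_mul (f g : PowerSeries ℂ) : theta (f * g) = theta f * g + f * theta g := by
  rw [theta_eq, theta_eq, theta_eq, Derivation.leibniz, smul_eq_mul, smul_eq_mul]; ring

/-- The series `∑_{r ≥ 1} bʳ tʳ`. -/
noncomputable def geo (b : ℂ) : PowerSeries ℂ := mk fun n => if n = 0 then 0 else b ^ n

/-- The linear factor `1 - b t`. -/
noncomputable def lin (b : ℂ) : PowerSeries ℂ := 1 - C b * X

theorem theta_lin (b : ℂ) : theta (lin b) = -(lin b * geo b) := by
  have h : lin b * geo b = C b * X := by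
    rw [lin, sub_mul, one_mul, mul_assoc]
    refine PowerSeries.ext fun n => ?_
    rw [map_sub, PowerSeries.coeff_C_mul, PowerSeries.coeff_C_mul, PowerSeries.coeff_X]
    rcases n with _ | _ | n
    · simp [geo]
    · simp [geo, PowerSeries.coeff_succ_X_mul]
    · rw [PowerSeries.coeff_succ_X_mul]; simp [geo, pow_succ']
  rw [h]
  refine PowerSeries.ext fun n => ?_
  simp only [theta, lin, PowerSeries.coeff_mk, map_sub, map_neg, PowerSeries.coeff_C_mul, PowerSeries.coeff_X,
    PowerSeries.coeff_one]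
  rcases n with _ | _ | n <;> simp

theorem theta_prod_lin {ι : Type*} (s : Finset ι) (b : ι → ℂ) :
    theta (∏ i ∈ s, lin (b i)) = -((∏ i ∈ s, lin (b i)) * ∑ i ∈ s, geo (b i)) := by
  induction s using Finset.induction with
  | empty => simp only [Finset.prod_empty, Finset.sum_empty]; refine PowerSeries.ext fun n => ?_; rcases n with _ | n <;> simp [theta, PowerSeries.coeff_one]
  | insert a s ha ih => rw [Finset.prod_insert ha, Finset.sum_insert ha, theta_mul, theta_lin, ih]; ring

/-- The expected series of point counts. -/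
noncomputable def cnt (q : ℂ) {N : ℕ} (α : Fin N → ℂ) : PowerSeries ℂ := geo 1 + geo q - ∑ i, geo (α i)

theorem coeff_cnt (q : ℂ) {N : ℕ} (α : Fin N → ℂ) {n : ℕ} (hn : n ≠ 0) :
    coeff n (cnt q α) = q ^ n + 1 - ∑ i, α i ^ n := by
  simp [cnt, geo, hn, add_comm]

theorem theta_of_mul_eq {Z : PowerSeries ℂ} {q : ℂ} {N : ℕ} {α : Fin N → ℂ}
    (h : lin 1 * lin q * Z = ∏ i, lin (α i)) : theta Z = Z * cnt q α := by
  have h1 := congrArg theta h
  rw [theta_mul, theta_mul, theta_lin, theta_lin, theta_prod_lin, ← h] at h1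
  have h0 : lin 1 * lin q ≠ 0 := fun e => by
    have := congrArg PowerSeries.constantCoeff e
    simp [lin] at this
  refine mul_left_cancel₀ h0 ?_
  rw [cnt]
  linear_combination h1

theorem eq_of_theta {Y Z G : PowerSeries ℂ} (hG : PowerSeries.constantCoeff G = 0) (h0 : coeff 0 Y = coeff 0 Z)
    (hY : theta Y = Y * G) (hZ : theta Z = Z * G) : Y = Z := by
  refine PowerSeries.ext fun n => ?_
  induction n using Nat.strong_induction_on with
  | _ n ih =>
    rcases eq_or_ne n 0 with rfl | hn
    · exact h0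
    · have h1 : (n : ℂ) * coeff n Y = coeff n (Y * G) := by rw [← hY]; simp [theta]
      have h2 : (n : ℂ) * coeff n Z = coeff n (Z * G) := by rw [← hZ]; simp [theta]
      refine mul_left_cancel₀ (Nat.cast_ne_zero.mpr hn : (n : ℂ) ≠ 0) ?_
      rw [h1, h2, PowerSeries.coeff_mul, PowerSeries.coeff_mul]
      refine Finset.sum_congr rfl fun p hp => ?_
      rw [Finset.mem_antidiagonal] at hp
      rcases eq_or_ne p.2 0 with e | e
      · rw [e, PowerSeries.coeff_zero_eq_constantCoeff_apply, hG, mul_zero, mul_zero]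
      · rw [ih p.1 (by omega)]

/-! ### The point counts -/

variable (k K) in
/-- The zeta series over `ℂ`. -/
noncomputable def zetaC : PowerSeries ℂ := PowerSeries.map (Int.castRingHom ℂ) (zetaZ k K)

theorem map_numerZ : PowerSeries.map (Int.castRingHom ℂ) (numerZ k K) = lin 1 * lin (Nat.card k : ℂ) * zetaC k K := by
  simp [numerZ, zetaC, lin, map_mul]

theorem coe_prod_lin {N : ℕ} (α : Fin N → ℂ) :
    ((∏ i, (1 - Polynomial.C (α i) * Polynomial.X) : Polynomial ℂ) : PowerSeries ℂ) = ∏ i, lin (α i) := by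
  rw [← Polynomial.coeToPowerSeries.ringHom_apply, map_prod]
  simp [lin]

theorem theta_zetaC [Finite k] (hK : IsFunctionField k K) :
    theta (zetaC k K) = zetaC k K * mk fun n => if n = 0 then 0 else (NN k K n : ℂ) := by
  refine PowerSeries.ext fun n => ?_
  rw [PowerSeries.coeff_mul, theta, PowerSeries.coeff_mk, Finset.Nat.sum_antidiagonal_eq_sum_range_succ_mk,
    ← Finset.sum_range_reflect]
  simp only [zetaC, zetaZ, PowerSeries.coeff_map, PowerSeries.coeff_mk, eq_intCast]
  have h := congrArg (Int.cast : ℤ → ℂ) (mul_effDivCount hK n)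
  push_cast at h ⊢
  rw [h, Finset.sum_range_succ', Finset.range_eq_Ico]
  simp only [Nat.sub_zero, Nat.sub_self, if_true, mul_zero, add_zero]
  rw [show Finset.Icc 1 n = Finset.Ico (0 + 1) (n + 1) by ext; simp, ← Finset.sum_Ico_add']
  refine Finset.sum_congr rfl fun j hj => ?_
  have hj' : j + 1 ≤ n := (Finset.mem_Ico.mp hj).2
  rw [Nat.sub_sub_self hj', if_neg (by omega), mul_comm]

/-- The point counts from the inverse roots. -/
theorem NN_formula [Finite k] (hK : IsFunctionField k K) {N : ℕ} {α : Fin N → ℂ}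
    (hα : PowerSeries.map (Int.castRingHom ℂ) (numerZ k K) =
      ((∏ i, (1 - Polynomial.C (α i) * Polynomial.X) : Polynomial ℂ) : PowerSeries ℂ))
    {r : ℕ} (hr : r ≠ 0) : (NN k K r : ℂ) = (Nat.card k : ℂ) ^ r + 1 - ∑ i, α i ^ r := by
  rw [map_numerZ, coe_prod_lin] at hα
  have h1 := (theta_zetaC hK).symm.trans (theta_of_mul_eq hα)
  have hZ : zetaC k K ≠ 0 := fun e => by
    have h := congrArg PowerSeries.constantCoeff hα
    rw [e] at h
    simp [lin, map_prod] at h
  have h2 := congrArg (coeff r) (mul_left_cancel₀ hZ h1)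
  rw [coeff_cnt _ _ hr] at h2
  simpa [hr] using h2

theorem effDivCount_zero [Finite k] (hK : IsFunctionField k K) : effDivCount k K 0 = 1 := by
  have := numC_zero hK
  simp [numC, aZ] at this
  exact_mod_cast this

/-- The numerator is determined by the point counts. -/
theorem numerZ_of_NN [Finite k] (hK : IsFunctionField k K) {N : ℕ} {α : Fin N → ℂ}
    (h : ∀ r : ℕ, r ≠ 0 → (NN k K r : ℂ) = (Nat.card k : ℂ) ^ r + 1 - ∑ i, α i ^ r) :
    PowerSeries.map (Int.castRingHom ℂ) (numerZ k K) =
      ((∏ i, (1 - Polynomial.C (α i) * Polynomial.X) : Polynomial ℂ) : PowerSeries ℂ) := by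
  rw [map_numerZ, coe_prod_lin]
  set B := lin 1 * lin (Nat.card k : ℂ)
  have hB : PowerSeries.constantCoeff B = 1 := by simp [B, lin]
  set Y := B⁻¹ * ∏ i, lin (α i)
  have hBY : B * Y = ∏ i, lin (α i) := by
    rw [← mul_assoc, PowerSeries.mul_inv_cancel _ (by rw [hB]; exact one_ne_zero), one_mul]
  rw [← hBY]
  congr 1
  refine eq_of_theta (G := cnt (Nat.card k : ℂ) α) (by simp [cnt, geo]) ?_ ?_ (theta_of_mul_eq hBY)
  · have h2 := congrArg PowerSeries.constantCoeff hBY
    rw [map_mul, hB, one_mul] at h2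
    rw [PowerSeries.coeff_zero_eq_constantCoeff_apply, PowerSeries.coeff_zero_eq_constantCoeff_apply, h2,
      ← PowerSeries.coeff_zero_eq_constantCoeff_apply]
    simp [zetaC, zetaZ, effDivCount_zero hK, lin, map_prod]
  · rw [theta_zetaC hK]
    congr 1
    refine PowerSeries.ext fun n => ?_
    rcases eq_or_ne n 0 with rfl | hn
    · simp [cnt, geo]
    · rw [coeff_cnt _ _ hn, PowerSeries.coeff_mk, if_neg hn, h n hn]

theorem alpha_ne_zero [Finite k] (hK : IsFunctionField k K) {α : Fin (2 * genus k K) → ℂ}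
    (hα : PowerSeries.map (Int.castRingHom ℂ) (numerZ k K) =
      ((∏ i, (1 - Polynomial.C (α i) * Polynomial.X) : Polynomial ℂ) : PowerSeries ℂ))
    (i : Fin (2 * genus k K)) : α i ≠ 0 := by
  intro h0
  have h := congrArg (coeff (2 * genus k K)) hα
  rw [PowerSeries.coeff_map, coeff_numerZ, Polynomial.coeff_coe] at h
  push_cast at h
  rw [numC_top hK] at h
  have hdeg : (∏ j, (1 - Polynomial.C (α j) * Polynomial.X) : Polynomial ℂ).natDegree < 2 * genus k K := by
    refine lt_of_le_of_lt (Polynomial.natDegree_prod_le _ _) (lt_of_lt_of_le (Finset.sum_lt_sum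
      (g := fun _ : Fin (2 * genus k K) => 1) (fun j _ => ?_) ⟨i, Finset.mem_univ _, ?_⟩) (by simp))
    · exact (Polynomial.natDegree_sub_le _ _).trans (max_le (by simp) ((Polynomial.natDegree_C_mul_le _ _).trans Polynomial.natDegree_X_le))
    · simp [h0]
  rw [Polynomial.coeff_eq_zero_of_natDegree_lt hdeg] at h
  have := card_base (k := k)
  simp at h
  omega

/-- The genus is read off from the numerator. -/
theorem two_mul_genus_eq [Finite k] (hK : IsFunctionField k K) {N : ℕ} {α : Fin N → ℂ} (h0 : ∀ i, α i ≠ 0)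
    (hα : PowerSeries.map (Int.castRingHom ℂ) (numerZ k K) =
      ((∏ i, (1 - Polynomial.C (α i) * Polynomial.X) : Polynomial ℂ) : PowerSeries ℂ)) :
    2 * genus k K = N := by
  set p : Polynomial ℂ := ∏ i, (1 - Polynomial.C (α i) * Polynomial.X)
  have hc : ∀ n, p.coeff n = (numC k K n : ℂ) := fun n => by
    have := congrArg (coeff n) hα
    rw [PowerSeries.coeff_map, coeff_numerZ, Polynomial.coeff_coe] at this
    exact this.symm
  have hd : p.natDegree = N := by
    have h1 : ∀ i, (1 - Polynomial.C (α i) * Polynomial.X : Polynomial ℂ).natDegree = 1 := fun i => by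
      rw [show (1 - Polynomial.C (α i) * Polynomial.X : Polynomial ℂ) = Polynomial.C (-α i) * Polynomial.X + Polynomial.C 1 by simp; ring,
        Polynomial.natDegree_linear (neg_ne_zero.mpr (h0 i))]
    rw [Polynomial.natDegree_prod _ _ (fun i _ e => by have := h1 i; rw [e] at this; simp at this)]
    simp [h1]
  refine le_antisymm ?_ ?_
  · rw [← hd]
    refine Polynomial.le_natDegree_of_ne_zero ?_
    rw [hc]; push_cast; rw [numC_top hK]
    have := card_base (k := k)
    exact_mod_cast pow_ne_zero _ (by omega : Nat.card k ≠ 0)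
  · rw [← hd]
    refine Polynomial.natDegree_le_iff_coeff_eq_zero.mpr fun n hn => ?_
    rw [hc, numC_of_gt hK (by omega)]; simp

/-- The rational function field has `qʳ + 1` points over the extension of degree `r`. -/
theorem NN_of_genus_zero [Finite k] (hK : IsFunctionField k K) (hg : genus k K = 0) {r : ℕ} (hr : r ≠ 0) :
    NN k K r = Nat.card k ^ r + 1 := by
  obtain ⟨α, -, hα, -⟩ := exists_alpha hK
  have h := NN_formula hK hα hr
  have : IsEmpty (Fin (2 * genus k K)) := by rw [show 2 * genus k K = 0 by omega]; infer_instance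
  rw [Finset.univ_eq_empty, Finset.sum_empty, sub_zero] at h
  exact_mod_cast h

end Groth.Agent.FF
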