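import Groth.Agent.FF.Galois
import Groth.Agent.FF.ZetaCount
import Groth.Agent.FF.Bombieri
import Mathlib.FieldTheory.Finite.GaloisField

/-! Frobenius elements at places of Galois extensions of function fields over finite fields. -/

open FunFld WithZero Module
open scoped Pointwise Classical

namespace Groth.Agent.FF

variable {k K K' : Type*} [Field k] [Field K] [Field K'] [Algebra k K] [Algebra K K'] [Algebra k K']
  [IsScalarTower k K K'] [FiniteDimensional K K']

omit [FiniteDimensional K K'] in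
theorem smul_eq_of_frobAt {q : ℕ} {σ : K' ≃ₐ[K] K'} {Q : Place k K'} (h : FrobAt q σ Q) [FiniteDimensional K K'] :
    σ • Q = Q := by
  have h' : Q = σ⁻¹ • Q := eq_of_le (P := Q) (Q := σ⁻¹ • Q) fun x hx => by
    change Q.1 (σ x) ≤ 1
    rw [← sub_sub_cancel (x ^ q) (σ x)]
    exact (Q.1.map_sub _ _).trans (max_le (by rw [map_pow]; exact pow_le_one' hx q) (h x hx).le)
  conv_lhs => rw [h']
  rw [smul_inv_smul]

omit [FiniteDimensional K K'] in
/-- A place at which some automorphism over `K` is Frobenius for the constant field lies over a rational place. -/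
theorem deg_eq_one_of_frobAt [Finite k] (hK : IsFunctionField k K) {σ : K' ≃ₐ[K] K'} {Q : Place k K'}
    {P : Place k K} (h : IsOver Q P) (hσ : FrobAt (Nat.card k) σ Q) : P.deg = 1 := by
  have := Fintype.ofFinite k
  let FP := IsLocalRing.ResidueField P.O
  let aR : Algebra k FP := Place.algRes P
  have hfd : @FiniteDimensional k FP _ _ (@Algebra.toModule k FP _ _ aR) := finiteDimensional_residue hK P
  have : Finite FP := @Module.finite_of_finite k _ _ _ (@Algebra.toModule k FP _ _ aR) _ hfd
  have := Fintype.ofFinite FP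
  have hpow : ∀ r : FP, r ^ Nat.card k = r := fun r => by
    obtain ⟨a, rfl⟩ := IsLocalRing.residue_surjective r
    rw [← map_pow, ← sub_eq_zero, ← map_sub, residue_eq_zero_iff]
    have ha := (mem_O P).mp a.2
    have h1 := hσ (algebraMap K K' a.1) ((ow_le_one_iff (isOverWith_ramIdx h) _).mpr ha)
    rw [AlgEquiv.commutes, ← map_pow, ← map_sub] at h1
    exact (ow_lt_one_iff (isOverWith_ramIdx h) _).mp h1
  have hle : Nat.card FP ≤ Nat.card k := by
    have hq : 1 < Nat.card k := card_base
    have hne : (Polynomial.X ^ Nat.card k - Polynomial.X : Polynomial FP) ≠ 0 := FiniteField.X_pow_card_sub_X_ne_zero _ hq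
    have := Polynomial.card_le_degree_of_subset_roots (p := (Polynomial.X ^ Nat.card k - Polynomial.X : Polynomial FP))
      (Z := Finset.univ) (fun r _ => by
        rw [Polynomial.mem_roots hne, Polynomial.IsRoot.def, Polynomial.eval_sub, Polynomial.eval_pow, Polynomial.eval_X,
          hpow r, sub_self])
    rwa [FiniteField.X_pow_card_sub_X_natDegree_eq _ hq, Finset.card_univ, ← Nat.card_eq_fintype_card] at this
  rw [show Nat.card FP = Nat.card k ^ P.deg from Module.natCard_eq_pow_finrank (K := k) (V := FP)] at hle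
  refine le_antisymm ?_ (deg_pos hK P)
  exact (Nat.pow_le_pow_iff_right card_base).mp (hle.trans_eq (pow_one _).symm)

theorem card_fibre {G H : Type*} [Group G] [Group H] (f : G →* H) {a : G} {g : H} (ha : f a = g) :
    Nat.card {x : G // f x = g} = Nat.card f.ker :=
  Nat.card_congr
    { toFun := fun x => ⟨a⁻¹ * x.1, MonoidHom.mem_ker.mpr (by rw [map_mul, map_inv, ha, x.2, inv_mul_cancel])⟩
      invFun := fun y => ⟨a * y.1, by rw [map_mul, ha, MonoidHom.mem_ker.mp y.2, mul_one]⟩
      left_inv := fun x => Subtype.ext (mul_inv_cancel_left a x.1)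
      right_inv := fun y => Subtype.ext (inv_mul_cancel_left a y.1) }

/-- The Frobenius elements at `Q` form a coset of the inertia group: there are `e(Q/P)` of them. -/
theorem card_frobAt [Finite k] [IsGalois K K'] (hK : IsFF' k K) {P : Place k K} {Q : Place k K'} {e : ℕ}
    (h : IsOverWith Q P e) :
    Nat.card {σ : K' ≃ₐ[K] K' // FrobAt (Nat.card k ^ P.deg) σ Q} = e := by
  have hQP : IsOver Q P := ⟨e, h⟩
  let FP := IsLocalRing.ResidueField P.O
  let FQ := IsLocalRing.ResidueField Q.O
  let alg : Algebra FP FQ := (resMap hQP).toAlgebra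
  have hcompat : ∀ c : k, @algebraMap k FQ _ _ (Place.algRes Q) c =
      @algebraMap FP FQ _ _ alg (@algebraMap k FP _ _ (Place.algRes P) c) := fun c => by
    change IsLocalRing.residue Q.O _ = IsLocalRing.residue Q.O _
    exact congrArg _ (Subtype.ext (IsScalarTower.algebraMap_apply k K K' c))
  have hfdQ := finiteDimensional_residue' (isFF'_ext hK) Q
  have hfdP := finiteDimensional_residue' hK P
  obtain ⟨hfin, hrank⟩ := @finite_and_finrank_of_compat k FP FQ _ _ _ (Place.algRes P) (Place.algRes Q) alg hcompat hfdQ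
  have hfinP : Finite FP := @Module.finite_of_finite k _ _ _ (@Algebra.toModule k FP _ _ (Place.algRes P)) _ hfdP
  have hfinQ : Finite FQ := @Module.finite_of_finite k _ _ _ (@Algebra.toModule k FQ _ _ (Place.algRes Q)) _ hfdQ
  let aP : Algebra k FP := Place.algRes P
  let aQ : Algebra k FQ := Place.algRes Q
  have hfdP' : FiniteDimensional k FP := hfdP
  have hfdQ' : FiniteDimensional k FQ := hfdQ
  have hcardP : Nat.card FP = Nat.card k ^ P.deg := Module.natCard_eq_pow_finrank (K := k) (V := FP)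
  have := Fintype.ofFinite FP
  have : Algebra.IsAlgebraic k FQ := Algebra.IsAlgebraic.of_finite k FQ
  have hsep : Algebra.IsSeparable k FQ := Algebra.IsAlgebraic.isSeparable_of_perfectField
  have hin : Nat.card ((Q.O).inertiaSubgroup K) = e := @card_inertia k K K' _ _ _ _ _ _ _ _ _ hK P Q e h hsep
  let D := (Q.O).decompositionSubgroup K
  let act : D →* (FQ ≃+* FQ) := MulSemiringAction.toRingAut D FQ
  have hact : ∀ (τ : D) (b : FP), act τ (algebraMap FP FQ b) = algebraMap FP FQ b := fun τ b => by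
    obtain ⟨⟨b, hb⟩, rfl⟩ := IsLocalRing.residue_surjective b
    change IsLocalRing.residue Q.O (τ • ringMap hQP ⟨b, hb⟩) = IsLocalRing.residue Q.O (ringMap hQP ⟨b, hb⟩)
    exact congrArg _ (Subtype.ext (AlgEquiv.commutes τ.1 b))
  let ψ : D →* (FQ ≃ₐ[FP] FQ) :=
    { toFun := fun τ => AlgEquiv.ofRingEquiv (f := act τ) (hact τ)
      map_one' := AlgEquiv.ext fun r => RingEquiv.congr_fun (map_one act) r
      map_mul' := fun a b => AlgEquiv.ext fun r => RingEquiv.congr_fun (map_mul act a b) r }
  have hker : ψ.ker = act.ker := by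
    ext τ
    simp only [MonoidHom.mem_ker]
    exact ⟨fun hτ => RingEquiv.ext fun r => AlgEquiv.congr_fun hτ r, fun hτ => AlgEquiv.ext fun r => RingEquiv.congr_fun hτ r⟩
  have hkcard : Nat.card ψ.ker = e := by rw [hker, ← hin]; rfl
  have : Finite (FQ ≃ₐ[FP] FQ) := Finite.of_injective _ DFunLike.coe_injective
  have he := ow_pos h
  have hsurj : Function.Surjective ψ := by
    have h1 : Nat.card ψ.range * e = Nat.card D := by
      rw [← hkcard, ← Nat.card_congr (QuotientGroup.quotientKerEquivRange ψ).toEquiv]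
      exact (Subgroup.card_eq_card_quotient_mul_card_subgroup ψ.ker).symm
    have h2 := card_decomposition_mul hK h
    rw [← h1, show Q.deg = P.deg * finrank FP FQ from hrank.symm] at h2
    have h3 : Nat.card ψ.range = finrank FP FQ := by
      have hP := deg_pos' hK P
      refine Nat.eq_of_mul_eq_mul_right (Nat.mul_pos he hP) ?_
      rw [← mul_assoc, h2]; ring
    have h4 : Nat.card (FQ ≃ₐ[FP] FQ) = finrank FP FQ := IsGalois.card_aut_eq_finrank FP FQ
    exact MonoidHom.range_eq_top.mp (Subgroup.eq_top_of_card_eq _ (h3.trans h4.symm))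
  have : Algebra.IsAlgebraic FP FQ := Algebra.IsAlgebraic.of_finite FP FQ
  obtain ⟨τ₀, hτ₀⟩ := hsurj (FiniteField.frobeniusAlgEquivOfAlgebraic FP FQ)
  have hψiff : ∀ τ : D, FrobAt (Nat.card k ^ P.deg) τ.1 Q ↔ ψ τ = FiniteField.frobeniusAlgEquivOfAlgebraic FP FQ := by
    intro τ
    have hiff : ∀ a : Q.O, (ψ τ (IsLocalRing.residue Q.O a) = IsLocalRing.residue Q.O a ^ Fintype.card FP) ↔
        Q.1 ((a : K') ^ (Nat.card k ^ P.deg) - τ.1 (a : K')) < 1 := fun a => by
      rw [← hcardP, Nat.card_eq_fintype_card, eq_comm, ← map_pow, ← sub_eq_zero]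
      have : ψ τ (IsLocalRing.residue Q.O a) = IsLocalRing.residue Q.O (τ • a) := rfl
      rw [this, ← map_sub, residue_eq_zero_iff]
      rfl
    constructor
    · intro hτ
      refine AlgEquiv.ext fun r => ?_
      obtain ⟨a, rfl⟩ := IsLocalRing.residue_surjective r
      exact (hiff a).mpr (hτ a.1 ((mem_O Q).mp a.2))
    · intro hτ z hz
      refine (hiff ⟨z, (mem_O Q).mpr hz⟩).mp ?_
      rw [hτ]; rfl
  let eD : {σ : K' ≃ₐ[K] K' // FrobAt (Nat.card k ^ P.deg) σ Q} ≃ {τ : D // FrobAt (Nat.card k ^ P.deg) τ.1 Q} :=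
    { toFun := fun σ => ⟨⟨σ.1, (mem_decomposition_iff σ.1 Q).mpr (smul_eq_of_frobAt σ.2)⟩, σ.2⟩
      invFun := fun τ => ⟨τ.1.1, τ.2⟩
      left_inv := fun _ => rfl
      right_inv := fun _ => rfl }
  rw [Nat.card_congr eD, Nat.card_congr (Equiv.subtypeEquivRight hψiff), card_fibre ψ hτ₀, hkcard]

/-- The weighted number of places at which `σ` is Frobenius. -/
noncomputable def frobSum (σ : K' → K') : ℕ :=
  ∑ᶠ Q ∈ {Q : Place k K' | FrobAt (Nat.card k) σ Q}, Q.deg

theorem finite_frobAt [Finite k] (hK : IsFunctionField k K) (σ : K' ≃ₐ[K] K') :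
    {Q : Place k K' | FrobAt (Nat.card k) σ Q}.Finite := by
  refine (Set.Finite.biUnion (finite_places_deg_le hK 1) fun P _ => finite_over (K' := K')
    (isFF'_of_isFunctionField hK) P).subset fun Q hQ => ?_
  obtain ⟨P, e, -, he⟩ := exists_isOverWith (isFF'_of_isFunctionField hK) Q
  exact Set.mem_biUnion (show P ∈ {P : Place k K | P.deg ≤ 1} from (deg_eq_one_of_frobAt hK ⟨e, he⟩ hQ).le) ⟨e, he⟩

/-- The sum over the Galois group counts rational places below. -/
theorem sum_frobSum [Finite k] [IsGalois K K'] (hK : IsFunctionField k K) :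
    ∑ σ : K' ≃ₐ[K] K', frobSum (k := k) (σ : K' → K') = finrank K K' * NN k K 1 := by
  have hFF := isFF'_of_isFunctionField hK
  have hfin : {P : Place k K | P.deg = 1}.Finite := (finite_places_deg_le hK 1).subset fun P hP => le_of_eq hP
  let T := fun P : Place k K => (finite_over (K' := K') hFF P).toFinset
  let S := hfin.toFinset.biUnion T
  have hS : ∀ Q, Q ∈ S ↔ ∃ P : Place k K, P.deg = 1 ∧ IsOver Q P := fun Q => by simp [S, T]
  have h1 : ∀ σ : K' ≃ₐ[K] K', frobSum (k := k) (σ : K' → K') = ∑ Q ∈ S, if FrobAt (Nat.card k) σ Q then Q.deg else 0 := by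
    intro σ
    rw [frobSum, finsum_mem_eq_finite_toFinset_sum _ (finite_frobAt hK σ), ← Finset.sum_filter]
    refine Finset.sum_congr (Finset.ext fun Q => ?_) fun _ _ => rfl
    simp only [Set.Finite.mem_toFinset, Set.mem_ofPred_eq, Finset.mem_filter, hS]
    refine ⟨fun hQ => ⟨?_, hQ⟩, fun hQ => hQ.2⟩
    obtain ⟨P, e, -, he⟩ := exists_isOverWith hFF Q
    exact ⟨P, deg_eq_one_of_frobAt hK ⟨e, he⟩ hQ, e, he⟩
  rw [Finset.sum_congr rfl fun σ _ => h1 σ, Finset.sum_comm,
    Finset.sum_biUnion fun P _ R _ hne => Finset.disjoint_left.mpr fun Q h h' =>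
      hne (isOver_unique (by simpa [T] using h) (by simpa [T] using h'))]
  rw [NN, show {P : Place k K | P.deg ∣ 1} = {P : Place k K | P.deg = 1} by ext; simp,
    finsum_mem_eq_finite_toFinset_sum _ hfin, Finset.mul_sum]
  refine Finset.sum_congr rfl fun P hP => ?_
  have hP1 : P.deg = 1 := hfin.mem_toFinset.mp hP
  rw [← sum_ramIdx_mul_deg (K' := K') hFF P (T P) (by simp [T])]
  refine Finset.sum_congr rfl fun Q hQ => ?_
  have hQP : IsOver Q P := by simpa [T] using hQ
  have hc := card_frobAt hFF (isOverWith_ramIdx hQP)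
  rw [hP1, pow_one, Nat.card_eq_fintype_card, Fintype.card_subtype] at hc
  rw [← Finset.sum_filter, Finset.sum_const, smul_eq_mul, hc]

end Groth.Agent.FF
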