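import Groth.Agent.FF.Norm
import Mathlib.RingTheory.Valuation.RamificationGroup
import Mathlib.FieldTheory.Galois.Basic
import Mathlib.RingTheory.Norm.Transitivity
import Mathlib.FieldTheory.Fixed
import Mathlib.GroupTheory.GroupAction.Quotient

/-! Places in Galois extensions: transitivity, decomposition and inertia groups. -/

open FunFld WithZero Module
open scoped Pointwise Classical

namespace Groth.Agent.FF

variable {k K K' : Type*} [Field k] [Field K] [Field K'] [Algebra k K] [Algebra K K'] [Algebra k K']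
  [IsScalarTower k K K'] [FiniteDimensional K K']

/-- The image of a place under a `K`-automorphism: `x ↦ v_Q(σ⁻¹ x)`. -/
def moveP (σ : K' ≃ₐ[K] K') (Q : Place k K') : Place k K' :=
  ⟨Q.1.comap ((σ.symm : K' ≃ₐ[K] K') : K' →+* K'), fun c => by
    change Q.1 (σ.symm (algebraMap k K' c)) ≤ 1
    rw [IsScalarTower.algebraMap_apply k K K', AlgEquiv.commutes, ← IsScalarTower.algebraMap_apply]
    exact Q.2.1 c, fun r => by
    obtain ⟨y, hy⟩ := Q.2.2 r
    exact ⟨σ y, by change Q.1 (σ.symm (σ y)) = r; rw [AlgEquiv.symm_apply_apply]; exact hy⟩⟩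

theorem moveP_apply (σ : K' ≃ₐ[K] K') (Q : Place k K') (x : K') : (moveP σ Q).1 x = Q.1 (σ.symm x) := rfl

instance moveAction : MulAction (K' ≃ₐ[K] K') (Place k K') where
  smul := moveP
  one_smul Q := Subtype.ext (Valuation.ext fun _ => rfl)
  mul_smul _ _ Q := Subtype.ext (Valuation.ext fun _ => rfl)

theorem smul_apply (σ : K' ≃ₐ[K] K') (Q : Place k K') (x : K') : (σ • Q).1 x = Q.1 (σ.symm x) := rfl

theorem isOverWith_smul {σ : K' ≃ₐ[K] K'} {Q : Place k K'} {P : Place k K} {e : ℕ} (h : IsOverWith Q P e) :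
    IsOverWith (σ • Q) P e := fun x => by
  rw [smul_apply, AlgEquiv.commutes]; exact h x

theorem O_smul (σ : K' ≃ₐ[K] K') (Q : Place k K') : (σ • Q).O = σ • Q.O := by
  ext x
  rw [ValuationSubring.mem_pointwise_smul_iff_inv_smul_mem, mem_O, mem_O]
  rfl

omit [IsScalarTower k K K'] [FiniteDimensional K K'] in
theorem eq_of_O_eq {Q R : Place k K'} (h : Q.O = R.O) : Q = R :=
  eq_of_le fun x hx => (mem_O R).mp (h ▸ (mem_O Q).mpr hx)

theorem mem_decomposition_iff (σ : K' ≃ₐ[K] K') (Q : Place k K') :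
    σ ∈ (Q.O).decompositionSubgroup K ↔ σ • Q = Q := by
  rw [MulAction.mem_stabilizer_iff, ← O_smul]
  exact ⟨eq_of_O_eq, fun h => by rw [h]⟩

theorem decomposition_eq_stabilizer (Q : Place k K') :
    (Q.O).decompositionSubgroup K = MulAction.stabilizer (K' ≃ₐ[K] K') Q := by
  ext σ; rw [mem_decomposition_iff, MulAction.mem_stabilizer_iff]

theorem deg_smul (σ : K' ≃ₐ[K] K') (Q : Place k K') : (σ • Q).deg = Q.deg := by
  let e : Q.O ≃+* (σ • Q).O :=
    { toFun := fun a => ⟨σ a.1, (mem_O _).mpr (by rw [smul_apply, AlgEquiv.symm_apply_apply]; exact (mem_O Q).mp a.2)⟩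
      invFun := fun a => ⟨σ.symm a.1, (mem_O Q).mpr ((mem_O (σ • Q)).mp a.2)⟩
      left_inv := fun a => Subtype.ext (σ.symm_apply_apply a.1)
      right_inv := fun a => Subtype.ext (σ.apply_symm_apply a.1)
      map_mul' := fun a b => Subtype.ext (map_mul σ a.1 b.1)
      map_add' := fun a b => Subtype.ext (map_add σ a.1 b.1) }
  let f := IsLocalRing.ResidueField.mapEquiv e
  let g : IsLocalRing.ResidueField Q.O ≃ₐ[k] IsLocalRing.ResidueField (σ • Q).O :=
    AlgEquiv.ofRingEquiv (f := f) fun c => by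
      change IsLocalRing.residue (σ • Q).O (e _) = IsLocalRing.residue (σ • Q).O _
      refine congrArg _ (Subtype.ext ?_)
      change σ (algebraMap k K' c) = algebraMap k K' c
      rw [IsScalarTower.algebraMap_apply k K K', AlgEquiv.commutes]
  exact g.toLinearEquiv.finrank_eq.symm

/-- Transitivity on the places over a given place. -/
theorem exists_smul_eq_of_over [IsGalois K K'] (hK : IsFF' k K) {P : Place k K} {Q₁ Q₂ : Place k K'}
    (h₁ : IsOver Q₁ P) (h₂ : IsOver Q₂ P) : ∃ σ : K' ≃ₐ[K] K', σ • Q₁ = Q₂ := by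
  by_contra hc
  push Not at hc
  obtain ⟨y, hy⟩ := exists_approx (finite_over (K' := K') hK P).toFinset
    (fun Q => if Q = Q₂ then 0 else 1) (fun _ => -1)
  have hlt1 : (exp (-1 : ℤ) : WithZero (Multiplicative ℤ)) < 1 := by rw [← exp_zero, exp_lt_exp]; omega
  have hval : ∀ Q : Place k K', IsOver Q P → if Q = Q₂ then Q.1 y < 1 else Q.1 y = 1 := fun Q hQ => by
    have h := hy Q (by simpa using hQ)
    split_ifs with hQ2
    · rw [if_pos hQ2, sub_zero] at h; exact h.trans_lt hlt1
    · rw [if_neg hQ2] at h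
      rw [← sub_add_cancel y 1, Valuation.map_add_eq_of_lt_right _ (by rw [map_one]; exact h.trans_lt hlt1), map_one]
  have hle : ∀ Q : Place k K', IsOver Q P → Q.1 y ≤ 1 := fun Q hQ => by
    have := hval Q hQ
    split_ifs at this with hQ2
    · exact this.le
    · exact this.le
  have hN := Algebra.norm_eq_prod_automorphisms K y
  obtain ⟨e₁, he₁⟩ := h₁
  obtain ⟨e₂, he₂⟩ := h₂
  have hov : ∀ (σ : K' ≃ₐ[K] K') (Q : Place k K') (e : ℕ), IsOverWith Q P e → IsOver (σ • Q) P :=
    fun σ Q e he => ⟨e, isOverWith_smul he⟩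
  have hone : Q₁.1 (algebraMap K K' (Algebra.norm K y)) = 1 := by
    rw [hN, map_prod]
    refine Finset.prod_eq_one fun σ _ => ?_
    have := hval (σ⁻¹ • Q₁) (hov _ _ _ he₁)
    rw [if_neg (hc σ⁻¹)] at this
    exact this
  have hlt : Q₂.1 (algebraMap K K' (Algebra.norm K y)) < 1 := by
    rw [hN, map_prod, ← Finset.mul_prod_erase _ _ (Finset.mem_univ (1 : K' ≃ₐ[K] K'))]
    refine lt_of_le_of_lt (mul_le_of_le_one_right' ?_) ?_
    · exact Finset.prod_le_one' fun σ _ => hle (σ⁻¹ • Q₂) (hov _ _ _ he₂)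
    · have := hval Q₂ ⟨e₂, he₂⟩
      rwa [if_pos rfl] at this
  have h3 : Q₁.1 (algebraMap K K' (Algebra.norm K y)) < 1 :=
    (ow_lt_one_iff he₁ _).mpr ((ow_lt_one_iff he₂ _).mp hlt)
  exact h3.ne hone

theorem over_iff_mem_orbit [IsGalois K K'] (hK : IsFF' k K) {P : Place k K} {Q : Place k K'} (h : IsOver Q P)
    (R : Place k K') : R ∈ MulAction.orbit (K' ≃ₐ[K] K') Q ↔ IsOver R P := by
  constructor
  · rintro ⟨σ, rfl⟩; exact ⟨_, isOverWith_smul (isOverWith_ramIdx h)⟩
  · intro hR; exact exists_smul_eq_of_over hK h hR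

theorem ramIdx_eq_and_deg_eq [IsGalois K K'] (hK : IsFF' k K) {P : Place k K} {Q R : Place k K'} {e : ℕ}
    (h : IsOverWith Q P e) (hR : IsOver R P) : IsOverWith R P e ∧ R.deg = Q.deg := by
  obtain ⟨σ, rfl⟩ := exists_smul_eq_of_over hK ⟨e, h⟩ hR
  exact ⟨isOverWith_smul h, deg_smul σ Q⟩

theorem card_over_mul_card_decomposition [IsGalois K K'] (hK : IsFF' k K) {P : Place k K} {Q : Place k K'}
    (h : IsOver Q P) :
    Nat.card {R : Place k K' // IsOver R P} * Nat.card ((Q.O).decompositionSubgroup K) = finrank K K' := by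
  rw [decomposition_eq_stabilizer, ← IsGalois.card_aut_eq_finrank K K',
    Nat.card_congr (Equiv.subtypeEquivRight fun R => (over_iff_mem_orbit hK h R).symm)]
  have : Finite (MulAction.orbit (K' ≃ₐ[K] K') Q) := (Set.finite_range _).to_subtype
  have := Fintype.ofFinite (MulAction.orbit (K' ≃ₐ[K] K') Q)
  simp only [Nat.card_eq_fintype_card]
  exact MulAction.card_orbit_mul_card_stabilizer_eq_card_group (K' ≃ₐ[K] K') Q

theorem card_decomposition_mul [IsGalois K K'] (hK : IsFF' k K) {P : Place k K} {Q : Place k K'} {e : ℕ}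
    (h : IsOverWith Q P e) : Nat.card ((Q.O).decompositionSubgroup K) * P.deg = e * Q.deg := by
  have hsum := sum_ramIdx_mul_deg (K' := K') hK P (finite_over hK P).toFinset (by simp)
  rw [Finset.sum_congr rfl (g := fun _ => e * Q.deg) (fun R hR => by
    obtain ⟨h1, h2⟩ := ramIdx_eq_and_deg_eq hK h (R := R) (by simpa using hR)
    rw [ow_ramIdx_eq h1, h2]), Finset.sum_const, smul_eq_mul, ← card_over_mul_card_decomposition hK ⟨e, h⟩] at hsum
  rw [show Nat.card {R : Place k K' // IsOver R P} = (finite_over (K' := K') hK P).toFinset.card from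
    Nat.card_eq_card_finite_toFinset (finite_over (K' := K') hK P), mul_assoc] at hsum
  exact (Nat.eq_of_mul_eq_mul_left (Finset.card_pos.mpr ⟨Q, by simpa using ⟨e, h⟩⟩) hsum).symm

/-- The inertia group, as a subgroup of the Galois group. -/
def inertiaG (K : Type*) {k K' : Type*} [Field k] [Field K] [Field K'] [Algebra K K'] [Algebra k K']
    (Q : Place k K') : Set (K' ≃ₐ[K] K') :=
  {σ | ∀ x, Q.1 x ≤ 1 → Q.1 (σ x - x) < 1}

theorem smul_eq_of_mem_inertia {σ : K' ≃ₐ[K] K'} {Q : Place k K'} (h : σ ∈ inertiaG K Q) : σ • Q = Q := by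
  have h' : Q = σ⁻¹ • Q := eq_of_le (P := Q) (Q := σ⁻¹ • Q) fun x hx => by
    change Q.1 (σ x) ≤ 1
    rw [← sub_add_cancel (σ x) x]
    exact (Q.1.map_add _ _).trans (max_le (h x hx).le hx)
  conv_lhs => rw [h']
  rw [smul_inv_smul]

theorem mem_inertia_iff {Q : Place k K'} (σ : K' ≃ₐ[K] K') :
    σ ∈ ((Q.O).inertiaSubgroup K).map ((Q.O).decompositionSubgroup K).subtype ↔ σ ∈ inertiaG K Q := by
  have key : ∀ τ : (Q.O).decompositionSubgroup K, τ ∈ (Q.O).inertiaSubgroup K ↔ τ.1 ∈ inertiaG K Q := fun τ => by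
    rw [ValuationSubring.inertiaSubgroup, MonoidHom.mem_ker]
    constructor
    · intro h x hx
      have h1 := RingEquiv.congr_fun h (IsLocalRing.residue Q.O ⟨x, (mem_O Q).mpr hx⟩)
      have h2 : IsLocalRing.residue Q.O (τ • (⟨x, (mem_O Q).mpr hx⟩ : Q.O)) =
          IsLocalRing.residue Q.O ⟨x, (mem_O Q).mpr hx⟩ := h1
      exact (residue_eq_zero_iff Q).mp (show IsLocalRing.residue Q.O (τ • (⟨x, (mem_O Q).mpr hx⟩ : Q.O) - ⟨x, (mem_O Q).mpr hx⟩) = 0 by
        rw [map_sub, h2, sub_self])
    · intro h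
      refine RingEquiv.ext fun r => ?_
      obtain ⟨⟨x, hx⟩, rfl⟩ := IsLocalRing.residue_surjective r
      change IsLocalRing.residue Q.O (τ • (⟨x, hx⟩ : Q.O)) = IsLocalRing.residue Q.O ⟨x, hx⟩
      rw [← sub_eq_zero, ← map_sub]
      exact (residue_eq_zero_iff Q).mpr (h x ((mem_O Q).mp hx))
  rw [Subgroup.mem_map]
  constructor
  · rintro ⟨τ, hτ, rfl⟩; exact (key τ).mp hτ
  · intro h
    exact ⟨⟨σ, (mem_decomposition_iff σ Q).mpr (smul_eq_of_mem_inertia h)⟩, (key _).mpr h, rfl⟩

theorem card_inertia_eq_card_set (Q : Place k K') :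
    Nat.card ((Q.O).inertiaSubgroup K) = Nat.card (inertiaG K Q) := by
  rw [← Nat.card_congr (Equiv.subtypeEquivRight fun σ => mem_inertia_iff (Q := Q) σ)]
  exact Nat.card_congr (Subgroup.equivMapOfInjective _ _ Subtype.val_injective).toEquiv

theorem isSeparable_of_compat {A B C : Type*} [Field A] [Field B] [Field C] [Algebra A B] [Algebra A C]
    [Algebra B C] (h : ∀ c, algebraMap A C c = algebraMap B C (algebraMap A B c)) [Algebra.IsSeparable A C] :
    Algebra.IsSeparable B C := by
  have := IsScalarTower.of_algebraMap_eq h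
  exact Algebra.isSeparable_tower_top_of_isSeparable A B C

/-- The inertia group has order the ramification index. -/
theorem card_inertia [IsGalois K K'] (hK : IsFF' k K) {P : Place k K} {Q : Place k K'} {e : ℕ}
    (h : IsOverWith Q P e) [Algebra.IsSeparable k (IsLocalRing.ResidueField Q.O)] :
    Nat.card ((Q.O).inertiaSubgroup K) = e := by
  have hQP : IsOver Q P := ⟨e, h⟩
  let FP := IsLocalRing.ResidueField P.O
  let FQ := IsLocalRing.ResidueField Q.O
  let alg : Algebra FP FQ := (resMap hQP).toAlgebra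
  have hcompat : ∀ c : k, @algebraMap k FQ _ _ (Place.algRes Q) c =
      @algebraMap FP FQ _ _ alg (@algebraMap k FP _ _ (Place.algRes P) c) := fun c => by
    change IsLocalRing.residue Q.O _ = IsLocalRing.residue Q.O _
    exact congrArg _ (Subtype.ext (IsScalarTower.algebraMap_apply k K K' c))
  have hfd := finiteDimensional_residue' (isFF'_ext hK) Q
  obtain ⟨hfin, hrank⟩ := @finite_and_finrank_of_compat k FP FQ _ _ _ (Place.algRes P) (Place.algRes Q) alg hcompat hfd
  have hsep : Algebra.IsSeparable FP FQ :=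
    @isSeparable_of_compat k FP FQ _ _ _ (Place.algRes P) (Place.algRes Q) alg hcompat ‹Algebra.IsSeparable k (IsLocalRing.ResidueField Q.O)›
  let D := (Q.O).decompositionSubgroup K
  let act : D →* (FQ ≃+* FQ) := MulSemiringAction.toRingAut D FQ
  let H := act.range
  have hH : Nat.card H * Nat.card ((Q.O).inertiaSubgroup K) = Nat.card D := by
    rw [← Nat.card_congr (QuotientGroup.quotientKerEquivRange act).toEquiv]
    exact (Subgroup.card_eq_card_quotient_mul_card_subgroup act.ker).symm
  have : Finite H := Finite.of_surjective act.rangeRestrict act.rangeRestrict_surjective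
  have := Fintype.ofFinite H
  -- the fixed field of the image
  have hfix : ∀ r : FQ, r ∈ FixedPoints.subfield H FQ ↔ r ∈ (algebraMap FP FQ).range := by
    intro r
    constructor
    · intro hr
      rcases eq_or_ne r 0 with rfl | hr0
      · exact zero_mem _
      obtain ⟨⟨c₀, hc₀⟩, rfl⟩ := IsLocalRing.residue_surjective r
      obtain ⟨c, hc⟩ := exists_approx (finite_over (K' := K') hK P).toFinset
        (fun R => if R = Q then c₀ else 0) (fun _ => -1)
      have hlt1 : (exp (-1 : ℤ) : WithZero (Multiplicative ℤ)) < 1 := by rw [← exp_zero, exp_lt_exp]; omega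
      have hcQ : Q.1 (c - c₀) < 1 := by
        have := hc Q (by simpa using hQP); rw [if_pos rfl] at this; exact this.trans_lt hlt1
      have hcR : ∀ R, IsOver R P → R ≠ Q → R.1 c < 1 := fun R hR hne => by
        have := hc R (by simpa using hR); rw [if_neg hne, sub_zero] at this; exact this.trans_lt hlt1
      have hov : ∀ σ : K' ≃ₐ[K] K', ∀ R, IsOver R P → IsOver (σ • R) P := fun σ R hR =>
        ⟨_, isOverWith_smul (isOverWith_ramIdx hR)⟩
      have hcQ1 : Q.1 c ≤ 1 := by
        rw [← sub_add_cancel c c₀]; exact (Q.1.map_add _ _).trans (max_le hcQ.le ((mem_O Q).mp hc₀))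
      have hcint : ∀ R, IsOver R P → R.1 c ≤ 1 := fun R hR => by
        by_cases hRQ : R = Q
        · exact hRQ ▸ hcQ1
        · exact (hcR R hR hRQ).le
      have hσint : ∀ (σ : K' ≃ₐ[K] K'), σ c ∈ Q.O := fun σ => (mem_O Q).mpr (hcint (σ⁻¹ • Q) (hov _ _ hQP))
      -- the product over the Galois group
      let pO : Polynomial Q.O := ∏ σ : K' ≃ₐ[K] K', (Polynomial.X - Polynomial.C ⟨σ c, hσint σ⟩)
      let pK : Polynomial K' := ∏ σ : K' ≃ₐ[K] K', (Polynomial.X - Polynomial.C (σ c))
      have hpK : pO.map Q.O.subtype = pK := by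
        simp [pO, pK, Polynomial.map_prod]
      have hcoef : ∀ i, ∃ a : K, algebraMap K K' a = pK.coeff i := fun i => by
        have hmem : pK.coeff i ∈ IntermediateField.fixedField (⊤ : Subgroup (K' ≃ₐ[K] K')) := by
          rintro ⟨τ, -⟩
          have : pK.map (τ : K' →+* K') = pK := by
            simp only [pK, Polynomial.map_prod, Polynomial.map_sub, Polynomial.map_X, Polynomial.map_C]
            exact Fintype.prod_equiv (Equiv.mulLeft τ) _ _ fun σ => rfl
          have h2 := congrArg (fun q => Polynomial.coeff q i) this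
          simp only [Polynomial.coeff_map] at h2
          exact h2
        rw [IsGalois.fixedField_top] at hmem
        exact IntermediateField.mem_bot.mp hmem
      choose a ha using hcoef
      have ha1 : ∀ i, P.1 (a i) ≤ 1 := fun i => (ow_le_one_iff h _).mp (by
        rw [ha i, ← hpK, Polynomial.coeff_map]; exact (mem_O Q).mp (pO.coeff i).2)
      let q : Polynomial FQ := pO.map (IsLocalRing.residue Q.O)
      have hqlift : q ∈ Polynomial.lifts (algebraMap FP FQ) := by
        rw [Polynomial.lifts_iff_coeff_lifts]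
        intro i
        refine ⟨IsLocalRing.residue P.O ⟨a i, (mem_O P).mpr (ha1 i)⟩, ?_⟩
        rw [Polynomial.coeff_map]
        refine congrArg (IsLocalRing.residue Q.O) (Subtype.ext ?_)
        change algebraMap K K' (a i) = _
        rw [ha i, ← hpK, Polynomial.coeff_map]; rfl
      set r : FQ := IsLocalRing.residue Q.O ⟨c₀, hc₀⟩
      have hroots : ∀ σ : K' ≃ₐ[K] K', IsLocalRing.residue Q.O ⟨σ c, hσint σ⟩ = r ∨
          IsLocalRing.residue Q.O ⟨σ c, hσint σ⟩ = 0 := fun σ => by
        by_cases hσ : σ⁻¹ • Q = Q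
        · left
          have hσD : σ ∈ D := (mem_decomposition_iff σ Q).mpr (by
            conv_lhs => rw [← hσ]
            rw [smul_inv_smul])
          have h1 : act ⟨σ, hσD⟩ r = r := hr ⟨act ⟨σ, hσD⟩, ⟨σ, hσD⟩, rfl⟩
          refine Eq.trans ?_ h1
          change _ = IsLocalRing.residue Q.O ((⟨σ, hσD⟩ : D) • (⟨c₀, hc₀⟩ : Q.O))
          rw [← sub_eq_zero, ← map_sub]
          refine (residue_eq_zero_iff Q).mpr ?_
          change Q.1 (σ c - σ c₀) < 1
          rw [← map_sub]
          have : (σ⁻¹ • Q).1 (c - c₀) < 1 := by rw [hσ]; exact hcQ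
          exact this
        · right
          exact (residue_eq_zero_iff Q).mpr (hcR _ (hov _ _ hQP) hσ)
      have hq : q = ∏ σ : K' ≃ₐ[K] K', (Polynomial.X - Polynomial.C (IsLocalRing.residue Q.O ⟨σ c, hσint σ⟩)) := by
        simp [q, pO, Polynomial.map_prod]
      have hqr : q.eval r = 0 := by
        rw [hq, Polynomial.eval_prod]
        refine Finset.prod_eq_zero (Finset.mem_univ (1 : K' ≃ₐ[K] K')) ?_
        simp only [Polynomial.eval_sub, Polynomial.eval_X, Polynomial.eval_C, sub_eq_zero]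
        refine Eq.symm ?_
        rw [← sub_eq_zero, ← map_sub]
        refine (residue_eq_zero_iff Q).mpr ?_
        exact hcQ
      obtain ⟨q0, hq0⟩ := Polynomial.mem_lifts q |>.mp hqlift
      have hint : IsIntegral FP r := IsIntegral.of_finite FP r
      have hdvd : (minpoly FP r).map (algebraMap FP FQ) ∣ q := by
        rw [← hq0]
        refine Polynomial.map_dvd _ (minpoly.dvd FP r ?_)
        rw [Polynomial.aeval_def, Polynomial.eval₂_eq_eval_map, hq0, hqr]
      have hsplit : ((minpoly FP r).map (algebraMap FP FQ)).Splits := by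
        refine Polynomial.Splits.of_dvd ?_ ?_ hdvd
        · rw [hq]; exact Polynomial.Splits.prod fun σ _ => Polynomial.Splits.X_sub_C _
        · rw [hq]; exact Finset.prod_ne_zero_iff.mpr fun σ _ => Polynomial.X_sub_C_ne_zero _
      have hrs : (minpoly FP r).rootSet FQ ⊆ {r} := by
        intro z hz
        rw [Polynomial.mem_rootSet] at hz
        have hz' : q.eval z = 0 := by
          obtain ⟨w, hw⟩ := hdvd
          rw [hw, Polynomial.eval_mul, ← Polynomial.eval₂_eq_eval_map, ← Polynomial.aeval_def, hz.2, zero_mul]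
        rw [hq, Polynomial.eval_prod, Finset.prod_eq_zero_iff] at hz'
        obtain ⟨σ, -, hσz⟩ := hz'
        rw [Polynomial.eval_sub, Polynomial.eval_X, Polynomial.eval_C, sub_eq_zero] at hσz
        rcases hroots σ with h1 | h1
        · exact hσz.trans h1
        · exfalso
          rw [hσz, h1] at hz
          have h0 := hz.2
          rw [← Polynomial.coeff_zero_eq_aeval_zero', map_eq_zero] at h0
          exact hr0 ((minpoly.coeff_zero_eq_zero hint).mp h0)
      have hdeg : (minpoly FP r).natDegree = 1 := by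
        have h1 := Polynomial.card_rootSet_eq_natDegree (K := FQ) (Algebra.IsSeparable.isSeparable FP r) hsplit
        have h2 : Fintype.card ((minpoly FP r).rootSet FQ) ≤ 1 := by
          rw [Fintype.card_le_one_iff_subsingleton]
          exact ⟨fun u v => Subtype.ext ((hrs u.2 : u.1 = r).trans (hrs v.2 : v.1 = r).symm)⟩
        have := minpoly.natDegree_pos hint
        omega
      exact minpoly.natDegree_eq_one_iff.mp hdeg
    · rintro ⟨b, rfl⟩ ⟨τ, σ, rfl⟩
      obtain ⟨⟨b, hb⟩, rfl⟩ := IsLocalRing.residue_surjective b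
      change IsLocalRing.residue Q.O (σ • ringMap hQP ⟨b, hb⟩) = IsLocalRing.residue Q.O (ringMap hQP ⟨b, hb⟩)
      refine congrArg _ (Subtype.ext ?_)
      exact AlgEquiv.commutes σ.1 b
  have hfrk : finrank FP FQ = Nat.card H := by
    have h1 : finrank (FixedPoints.subfield H FQ) FQ = Fintype.card H := FixedPoints.finrank_eq_card H FQ
    rw [Nat.card_eq_fintype_card, ← h1]
    let e : FP ≃+* FixedPoints.subfield H FQ :=
      RingEquiv.ofBijective ((algebraMap FP FQ).codRestrict (FixedPoints.subfield H FQ) fun b => (hfix _).mpr ⟨b, rfl⟩)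
        ⟨fun a b hab => (algebraMap FP FQ).injective (congrArg Subtype.val hab), fun r => by
          obtain ⟨b, hb⟩ := (hfix r.1).mp r.2
          exact ⟨b, Subtype.ext hb⟩⟩
    exact Algebra.finrank_eq_of_equiv_equiv e (RingEquiv.refl FQ) (by ext b; rfl)
  have hmul := card_decomposition_mul hK h
  have hdegQ : P.deg * Nat.card H = Q.deg := by rw [← hfrk]; exact hrank
  rw [← hH, ← hdegQ, mul_comm (Nat.card H), mul_assoc, mul_comm (Nat.card H), mul_comm P.deg] at hmul
  have hpos : 0 < P.deg * Nat.card H := hdegQ ▸ deg_pos' (isFF'_ext hK) Q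
  exact Nat.eq_of_mul_eq_mul_right (by rwa [mul_comm] at hpos) hmul

end Groth.Agent.FF

namespace Groth.Agent.FF

variable {k K K' : Type*} [Field k] [Field K] [Field K'] [Algebra k K] [Algebra K K'] [Algebra k K']
  [IsScalarTower k K K'] [FiniteDimensional K K']

theorem mem_range_comap_iff {Q : Place k K'} {P : Place k K} {e : ℕ} (h : IsOverWith Q P e)
    (v : WithZero (Multiplicative ℤ)) :
    v ∈ Set.range (Q.1.comap (algebraMap K K')) ↔ v = 0 ∨ ∃ n : ℤ, v = exp ((e : ℤ) * n) := by
  constructor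
  · rintro ⟨x, rfl⟩
    rcases eq_or_ne x 0 with rfl | hx
    · exact Or.inl (map_zero _)
    · refine Or.inr ⟨-P.ord x, ?_⟩
      rw [Valuation.comap_apply, h x, val_eq_exp_neg_ord P hx, ← exp_nsmul, nsmul_eq_mul]
  · rintro (rfl | ⟨n, rfl⟩)
    · exact ⟨0, map_zero _⟩
    · obtain ⟨t, ht0, ht⟩ := exists_uniformizer P
      refine ⟨t ^ (-n), ?_⟩
      rw [Valuation.comap_apply, h, map_zpow₀, ht, ← exp_zsmul, ← exp_nsmul, smul_eq_mul, nsmul_eq_mul]
      congr 1; ring

theorem surjective_comap_iff {Q : Place k K'} {P : Place k K} {e : ℕ} (h : IsOverWith Q P e) :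
    Function.Surjective (Q.1.comap (algebraMap K K')) ↔ e = 1 := by
  constructor
  · intro hs
    rcases (mem_range_comap_iff h (exp 1)).mp (hs _) with h1 | ⟨n, h1⟩
    · exact absurd h1 exp_ne_zero
    · rw [exp_inj] at h1
      have := Int.eq_one_of_mul_eq_one_right (by positivity) h1.symm
      omega
  · rintro rfl v
    refine (mem_range_comap_iff h v).mpr ?_
    rcases eq_or_ne v 0 with hv | hv
    · exact Or.inl hv
    · exact Or.inr ⟨v.log, by rw [Nat.cast_one, one_mul, exp_log hv]⟩

omit [Algebra k K] [IsScalarTower k K K'] in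
/-- Inertia in a subextension is the intersection. -/
theorem card_inertia_tower (E : IntermediateField K K') (Q : Place k K') :
    Nat.card (inertiaG E Q) = Nat.card {σ : K' ≃ₐ[K] K' // σ ∈ inertiaG K Q ∧ σ ∈ E.fixingSubgroup} := by
  refine Nat.card_congr
    { toFun := fun σ => ⟨σ.1.restrictScalars K, fun x hx => σ.2 x hx,
        (IntermediateField.mem_fixingSubgroup_iff _ _).mpr fun x hx => σ.1.commutes ⟨x, hx⟩⟩
      invFun := fun σ => ⟨{ σ.1 with
        commutes' := fun x => (IntermediateField.mem_fixingSubgroup_iff _ _).mp σ.2.2 x.1 x.2 },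
        fun x hx => σ.2.1 x hx⟩
      left_inv := fun _ => rfl
      right_inv := fun _ => rfl }

theorem ramIdx_tower_iff [IsGalois K K'] (hK : IsFF' k K) {Q : Place k K'} {P : Place k K} {e : ℕ}
    (h : IsOverWith Q P e) [Algebra.IsSeparable k (IsLocalRing.ResidueField Q.O)] (E : IntermediateField K K')
    {QE : Place k E} {e' : ℕ} (hE : IsOverWith Q QE e') :
    e' = Nat.card {σ : K' ≃ₐ[K] K' // σ ∈ inertiaG K Q ∧ σ ∈ E.fixingSubgroup} ∧
      (e' = e ↔ E ≤ IntermediateField.fixedField
        (((Q.O).inertiaSubgroup K).map ((Q.O).decompositionSubgroup K).subtype)) := by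
  have : IsGalois E K' := IsGalois.tower_top_of_isGalois K E K'
  have : IsScalarTower k E K' := IsScalarTower.of_algebraMap_eq fun c => rfl
  have h1 : e' = Nat.card {σ : K' ≃ₐ[K] K' // σ ∈ inertiaG K Q ∧ σ ∈ E.fixingSubgroup} := by
    rw [← card_inertia_tower, ← card_inertia_eq_card_set]
    exact (card_inertia (isFF'_ext hK) hE).symm
  refine ⟨h1, ?_⟩
  have h2 : Nat.card (inertiaG K Q) = e := by rw [← card_inertia_eq_card_set]; exact card_inertia hK h
  rw [IntermediateField.le_iff_le, h1, ← h2]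
  constructor
  · intro hcard σ hσ
    have hinj : Function.Injective fun s : {σ : K' ≃ₐ[K] K' // σ ∈ inertiaG K Q ∧ σ ∈ E.fixingSubgroup} =>
        (⟨s.1, s.2.1⟩ : inertiaG K Q) := fun a b hab => by
      simpa [Subtype.ext_iff] using hab
    obtain ⟨s, hs⟩ := ((Nat.bijective_iff_injective_and_card _).mpr ⟨hinj, hcard⟩).2 ⟨σ, (mem_inertia_iff σ).mp hσ⟩
    have : s.1 = σ := congrArg Subtype.val hs
    exact this ▸ s.2.2
  · intro hle
    refine Nat.card_congr (Equiv.subtypeEquivRight fun σ => ?_)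
    exact ⟨fun hσ => hσ.1, fun hσ => ⟨hσ, hle ((mem_inertia_iff σ).mpr hσ)⟩⟩

end Groth.Agent.FF
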