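import Groth.Agent.FF.InvolutionFixed

/-! Involutions: even orders of invariant functions at fixed places; pencils of degree two and their involution. -/

open FunFld WithZero Module
open scoped Classical IntermediateField

namespace Groth.Agent.FF

variable {k K : Type*} [Field k] [Field K] [Algebra k K]

/-- The involution of a quadratic subfield in characteristic not two. -/
theorem exists_involution (h2 : (2 : k) ≠ 0) (F : IntermediateField k K) (hF : finrank F K = 2) :
    ∃ φ : K ≃ₐ[k] K, (∀ a ∈ F, φ a = a) ∧ (∀ z, φ (φ z) = z) ∧ φ ≠ AlgEquiv.refl := by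
  haveI : FiniteDimensional F K := Module.finite_of_finrank_eq_succ hF
  have h2K : (2 : K) ≠ 0 := by
    rw [← map_ofNat (algebraMap k K) 2]; exact (_root_.map_ne_zero _).mpr h2
  obtain ⟨z, hz⟩ : ∃ z : K, z ∉ F := by
    by_contra hall
    push Not at hall
    have htop : F = ⊤ := top_le_iff.mp fun z _ => hall z
    rw [IntermediateField.finrank_eq_one_iff_eq_top.mpr htop] at hF
    exact absurd hF (by norm_num)
  obtain ⟨c₀, d₀, hz2⟩ := exists_decomp (K := F) (z := z) hF (fun ⟨c, hc⟩ => hz (by rw [← hc]; exact c.2)) (z ^ 2)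
  have h2F : (2 : K) ∈ F := by simpa using F.algebraMap_mem (2 : k)
  set y := z - (d₀ : K) / 2 with hyd
  have hy : y ∉ F := fun h => hz (by
    have := add_mem h (div_mem d₀.2 h2F)
    rwa [hyd, sub_add_cancel] at this)
  change z ^ 2 = (c₀ : K) + (d₀ : K) * z at hz2
  have hyF : y ^ 2 ∈ F := by
    rw [show y ^ 2 = (c₀ : K) + ((d₀ : K) / 2) ^ 2 by rw [hyd]; field_simp; linear_combination (4 : K) * hz2]
    exact add_mem c₀.2 (pow_mem (div_mem d₀.2 h2F) 2)
  have hdec : ∀ w : K, ∃ c d : F, w = (c : K) + (d : K) * y := fun w =>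
    exists_decomp (K := F) hF (fun ⟨c, hc⟩ => hy (by rw [← hc]; exact c.2)) w
  choose c d hcd using hdec
  have huniq : ∀ a b a' b' : F, (a : K) + b * y = a' + b' * y → a = a' ∧ b = b' := by
    intro a b a' b' he
    by_cases hb : b = b'
    · subst hb; exact ⟨Subtype.ext (by linear_combination he), rfl⟩
    · refine absurd ?_ hy
      have hne : ((b : K) - b') ≠ 0 := sub_ne_zero.2 fun h => hb (Subtype.ext h)
      rw [show y = ((a' : K) - a) / (b - b') by rw [eq_div_iff hne]; linear_combination he]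
      exact div_mem (sub_mem a'.2 a.2) (sub_mem b.2 b'.2)
  let f : K → K := fun w => (c w : K) - d w * y
  have hf : ∀ a b : F, f ((a : K) + b * y) = a - b * y := fun a b => by
    obtain ⟨h1, h2⟩ := huniq _ _ _ _ (hcd ((a : K) + b * y))
    simp only [f, ← h1, ← h2]
  have hff : ∀ w, f (f w) = w := fun w => by
    conv_rhs => rw [hcd w]
    show f ((c w : K) - d w * y) = _
    rw [sub_eq_add_neg, ← neg_mul, ← NegMemClass.coe_neg, hf]
    push_cast; ring
  have hfadd : ∀ a b, f (a + b) = f a + f b := fun a b => by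
    conv_lhs => rw [hcd a, hcd b, show ((c a : K) + d a * y) + (c b + d b * y) =
      ((c a + c b : F) : K) + ((d a + d b : F) : K) * y by push_cast; ring, hf]
    simp only [f]; push_cast; ring
  have hfmul : ∀ a b, f (a * b) = f a * f b := fun a b => by
    conv_lhs => rw [hcd a, hcd b, show ((c a : K) + d a * y) * (c b + d b * y) =
      ((c a * c b + d a * d b * ⟨_, hyF⟩ : F) : K) + ((c a * d b + d a * c b : F) : K) * y by push_cast; ring, hf]
    simp only [f]; push_cast; ring
  have hfk : ∀ a : F, f a = a := fun a => by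
    have := hf a 0
    simpa using this
  let φ : K ≃ₐ[k] K :=
    { toFun := f
      invFun := f
      left_inv := hff
      right_inv := hff
      map_mul' := hfmul
      map_add' := hfadd
      commutes' := fun r => hfk ⟨_, F.algebraMap_mem r⟩ }
  refine ⟨φ, fun a ha => hfk ⟨a, ha⟩, hff, fun h => hy ?_⟩
  have hfy : φ y = -y := by
    have := hf 0 1
    simp only [ZeroMemClass.coe_zero, OneMemClass.coe_one, zero_add, one_mul, zero_sub] at this
    exact this
  rw [h] at hfy
  change y = -y at hfy
  have : y = 0 := (mul_eq_zero.1 (show (2 : K) * y = 0 by linear_combination hfy)).resolve_left h2K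
  rw [this]; exact zero_mem _

variable [IsAlgClosed k] (hK : IsFunctionField k K)

include hK

theorem val_sub_lt_of_fixed (σ : K ≃ₐ[k] K) {Q : Place k K} (hfix : pullPlace σ Q = Q) {v : K} (hv : Q.1 v ≤ 1) :
    Q.1 (σ v - v) < 1 := by
  obtain ⟨c, hc⟩ := exists_const_near hK Q hv
  rw [show σ v - v = (σ : K →ₐ[k] K) (v - algebraMap k K c) - (v - algebraMap k K c) by simp]
  exact (Q.1.map_sub _ _).trans_lt (max_lt ((pullPlace_eq_iff hK σ Q).mp hfix _ hc) hc)

/-- An invariant function has even order at a fixed place of a nontrivial involution. -/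
theorem even_ord_of_fixed (h2 : (2 : k) ≠ 0) (σ : K ≃ₐ[k] K) (hσ : ∀ x, σ (σ x) = x) (hσ1 : σ ≠ AlgEquiv.refl)
    {Q : Place k K} (hfix : pullPlace σ Q = Q) {u : K} (hu : σ u = u) (hu0 : u ≠ 0) : Even (Q.ord u) := by
  have h2v : Q.1 (2 : K) = 1 := by rw [← map_ofNat (algebraMap k K) 2]; exact val_algebraMap Q h2
  have hord : ∀ x, Q.1 (σ x) = Q.1 x := fun x => by
    rw [← pullPlace_apply, hfix]
  -- no unit is anti-invariant
  have hno : ∀ v : K, Q.1 v = 1 → σ v ≠ -v := fun v hv h => by
    have := val_sub_lt_of_fixed hK σ hfix hv.le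
    rw [h, show -v - v = -(2 * v) by ring, Valuation.map_neg, map_mul, h2v, hv, one_mul] at this
    exact lt_irrefl _ this
  obtain ⟨s, hs0, hs⟩ := exists_uniformizer Q
  have hanti : ∃ w : K, σ w = -w ∧ Q.ord w = 1 := by
    by_contra hne
    push Not at hne
    set a := σ s / s with had
    have hσs0 : σ s ≠ 0 := (_root_.map_ne_zero σ).mpr hs0
    have hav : Q.1 a = 1 := by rw [had, map_div₀, hord, div_self ((_root_.map_ne_zero _).mpr hs0)]
    have haa : σ a * a = 1 := by
      rw [had, map_div₀, hσ, div_mul_div_comm, mul_comm, div_self (mul_ne_zero hσs0 hs0)]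
    -- residue of `a` is one
    have ha1 : Q.1 (a - 1) < 1 := by
      have hsub := val_sub_lt_of_fixed hK σ hfix hav.le
      have h3 : Q.1 ((a - 1) * (a + 1)) < 1 := by
        rw [show (a - 1) * (a + 1) = -((σ a - a) * a) by linear_combination haa, Valuation.map_neg, map_mul, hav, mul_one]
        exact hsub
      by_contra hge
      have hge1 : Q.1 (a + 1) < 1 := by
        by_contra hge'
        rw [map_mul] at h3
        exact absurd h3 (not_lt.mpr (one_le_mul (not_lt.mp hge) (not_lt.mp hge')))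
      have hwv : Q.1 (s - σ s) = Q.1 s := by
        rw [show s - σ s = s * (2 - (a + 1)) by rw [had]; field_simp; ring, map_mul,
          Valuation.map_sub_eq_of_lt_left _ (by rw [h2v]; exact hge1), h2v, mul_one]
      exact hne (s - σ s) (by rw [map_sub, hσ]; ring) (ord_eq_of_val Q (n := 1) (by rw [hwv, hs]))
    obtain ⟨x, hx⟩ : ∃ x, σ x ≠ x := by
      by_contra hc; push Not at hc; exact hσ1 (AlgEquiv.ext hc)
    set w := σ x - x with hw
    have hw0 : w ≠ 0 := sub_ne_zero.mpr hx
    have hσw : σ w = -w := by rw [hw, map_sub, hσ]; ring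
    set n := Q.ord w
    set v := w / s ^ n with hvd
    have hvv : Q.1 v = 1 := by
      rw [hvd, map_div₀, map_zpow₀, hs, val_eq_exp_neg_ord Q hw0, ← exp_zsmul, ← exp_sub, ← exp_zero]
      congr 1; simp [n]
    have hσv : σ v = -v * (a ^ n)⁻¹ := by
      rw [hvd, map_div₀, hσw, map_zpow₀, had, div_zpow, inv_div, neg_div, neg_mul]
      have := zpow_ne_zero n hs0
      have := zpow_ne_zero n hσs0
      field_simp
    have han : Q.1 (a ^ n - 1) < 1 := by
      have hp : ∀ b : K, Q.1 (b - 1) < 1 → ∀ m : ℕ, Q.1 (b ^ m - 1) < 1 := fun b hb m => by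
        have hb1 : Q.1 b ≤ 1 := by
          rw [show b = (b - 1) + 1 by ring]
          exact (Q.1.map_add _ _).trans (max_le hb.le (by rw [map_one]))
        induction m with
        | zero => simp
        | succ m ih =>
          rw [show b ^ (m + 1) - 1 = (b ^ m - 1) * b + (b - 1) by ring]
          refine (Q.1.map_add _ _).trans_lt (max_lt ?_ hb)
          rw [map_mul]
          exact (mul_le_of_le_one_right' hb1).trans_lt ih
      obtain ⟨m, hm | hm⟩ := n.eq_nat_or_neg
      · rw [hm, zpow_natCast]; exact hp a ha1 m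
      · rw [hm, zpow_neg, zpow_natCast, show (a ^ m)⁻¹ - 1 = -((a ^ m - 1) * (a ^ m)⁻¹) by
          have : a ^ m ≠ 0 := pow_ne_zero _ (fun e => by rw [e, map_zero] at hav; exact zero_ne_one hav)
          field_simp; ring, Valuation.map_neg, map_mul, map_inv₀, map_pow, hav, one_pow, inv_one, mul_one]
        exact hp a ha1 m
    have hvs := val_sub_lt_of_fixed hK σ hfix hvv.le
    have hane : a ^ n ≠ 0 := zpow_ne_zero _ (fun e => by rw [e, map_zero] at hav; exact zero_ne_one hav)
    rw [hσv, show -v * (a ^ n)⁻¹ - v = -(v * (a ^ n)⁻¹ * (2 + (a ^ n - 1))) by field_simp; ring, Valuation.map_neg,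
      map_mul, map_mul, map_inv₀, map_zpow₀, hav, one_zpow, inv_one, hvv, mul_one, one_mul,
      Valuation.map_add_eq_of_lt_left _ (by rw [h2v]; exact han), h2v] at hvs
    exact lt_irrefl _ hvs
  obtain ⟨w, hσw, hw⟩ := hanti
  have hw0 : w ≠ 0 := fun e => by rw [e, ord_zero] at hw; exact zero_ne_one hw
  by_contra hodd
  rw [Int.not_even_iff_odd] at hodd
  set n := Q.ord u
  refine hno (u / w ^ n) ?_ ?_
  · rw [map_div₀, map_zpow₀, val_eq_exp_neg_ord Q hu0, val_eq_exp_neg_ord Q hw0, hw, ← exp_zsmul, ← exp_sub, ← exp_zero]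
    congr 1; simp [n]
  · rw [map_div₀, hu, map_zpow₀, hσw, hodd.neg_zpow, div_neg]

/-- The poles of an invariant function of degree two form one orbit. -/
theorem poles_eq_orbit (h2 : (2 : k) ≠ 0) (σ : K ≃ₐ[k] K) (hσ : ∀ x, σ (σ x) = x) (hσ1 : σ ≠ AlgEquiv.refl)
    {u : K} (hu : σ u = u) (hdeg : (poles (k := k) u).deg = 2) {Q : Place k K} (hQ : 1 < Q.1 u) :
    poles (k := k) u = Finsupp.single Q 1 + Finsupp.single (pullPlace σ Q) 1 := by
  have hu0 : u ≠ 0 := fun h => by rw [h, map_zero] at hQ; exact not_lt_zero' hQ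
  have hneg : Q.ord u < 0 := by
    by_contra h
    exact absurd hQ (not_lt.2 ((val_le_one_iff Q hu0).2 (not_lt.1 h)))
  have hpos : 0 < poles (k := k) u Q := by rw [poles_apply hK]; omega
  have hle : Finsupp.single Q (1 : ℤ) + Finsupp.single (pullPlace σ Q) (1 : ℤ) ≤ poles (k := k) u := fun R => by
    rw [Finsupp.add_apply, Finsupp.single_apply, Finsupp.single_apply, poles_apply hK]
    have hsame : (pullPlace σ Q).ord u = Q.ord u := by simp only [Place.ord, pullPlace_apply, hu]
    by_cases h1 : Q = R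
    · subst h1
      by_cases hfix : pullPlace σ Q = Q
      · obtain ⟨m, hm⟩ := even_ord_of_fixed hK h2 σ hσ hσ1 hfix hu hu0
        rw [if_pos rfl, if_pos hfix]; omega
      · rw [if_pos rfl, if_neg hfix]; omega
    · rw [if_neg h1]
      by_cases h3 : pullPlace σ Q = R
      · subst h3; rw [if_pos rfl, hsame]; omega
      · rw [if_neg h3]; omega
  have hd0 := deg_nonneg (sub_nonneg.mpr hle : (0 : Divisor k K) ≤ _)
  have hz : (poles (k := k) u - (Finsupp.single Q (1 : ℤ) + Finsupp.single (pullPlace σ Q) (1 : ℤ))).deg = 0 := by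
    rw [deg_sub, deg_add, deg_single, deg_single, deg_eq_one hK, deg_eq_one hK, hdeg]; norm_num
  refine sub_eq_zero.mp (Finsupp.ext fun R => ?_)
  set E := poles (k := k) u - (Finsupp.single Q (1 : ℤ) + Finsupp.single (pullPlace σ Q) (1 : ℤ))
  have hE : (0 : Divisor k K) ≤ E := sub_nonneg.mpr hle
  have h4 : Finsupp.single R (E R) ≤ E := fun S => by
    rw [Finsupp.single_apply]; split_ifs with e
    · rw [e]
    · exact hE S
  have h5 := deg_mono h4
  rw [deg_single, hz, deg_eq_one hK] at h5
  have h6 : 0 ≤ E R := hE R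
  simp only [Finsupp.coe_zero, Pi.zero_apply]
  omega

end Groth.Agent.FF
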