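import Mathlib.FieldTheory.PurelyInseparable.Basic
import Mathlib.FieldTheory.PurelyInseparable.PerfectClosure
import Mathlib.FieldTheory.IntermediateField.Algebraic

/-! Purely inseparable subextensions of a separably generated field of transcendence degree one. -/

open Module Polynomial
open scoped IntermediateField

namespace Groth.Agent.FF

/-- A subfield over which `L` is purely inseparable of degree `p ^ r` is generated by the `p ^ r`-th powers. -/
theorem exists_range_eq_adjoin_pow {k K L : Type*} [Field k] [Field K] [Field L] [Algebra k K] [Algebra k L]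
    [Algebra K L] [IsScalarTower k K L] (p : ℕ) [Fact p.Prime] [CharP k p] {t : L} [Algebra.IsSeparable k⟮t⟯ L]
    [IsPurelyInseparable K L] [FiniteDimensional K L] :
    ∃ r : ℕ, finrank K L = p ^ r ∧
      (IsScalarTower.toAlgHom k K L).fieldRange = IntermediateField.adjoin k (Set.range fun z : L => z ^ p ^ r) := by
  haveI : CharP L p := charP_of_injective_algebraMap (algebraMap k L).injective p
  haveI : CharP K p := charP_of_injective_algebraMap (algebraMap k K).injective p
  haveI hp : Fact p.Prime := inferInstance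
  haveI : ExpChar K p := ExpChar.prime hp.out
  haveI : ExpChar L p := ExpChar.prime hp.out
  obtain ⟨r, hr⟩ := IsPurelyInseparable.finrank_eq_pow K L p
  refine ⟨r, hr, ?_⟩
  set F := (IsScalarTower.toAlgHom k K L).fieldRange
  set G := IntermediateField.adjoin k (Set.range fun z : L => z ^ p ^ r) with hG
  -- powers lie in the subfield
  have hpow : ∀ z : L, z ^ p ^ r ∈ F := fun z => by
    obtain ⟨n, y, hn⟩ := IsPurelyInseparable.minpoly_eq_X_pow_sub_C K p z
    have hdvd : (minpoly K z).natDegree ∣ finrank K L := minpoly.degree_dvd (IsIntegral.of_finite K z)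
    rw [hn, natDegree_X_pow_sub_C, hr] at hdvd
    have hle : n ≤ r := (Nat.pow_dvd_pow_iff_le_right hp.out.one_lt).1 hdvd
    have hz : z ^ p ^ n = algebraMap K L y := by
      have := minpoly.aeval K z
      rw [hn, map_sub, map_pow, aeval_X, aeval_C, sub_eq_zero] at this
      exact this
    refine ⟨y ^ p ^ (r - n), ?_⟩
    show algebraMap K L _ = _
    rw [map_pow, ← hz, ← pow_mul, ← pow_add, Nat.add_sub_cancel' hle]
  have hGF : G ≤ F := IntermediateField.adjoin_le_iff.2 (by rintro _ ⟨z, rfl⟩; exact hpow z)
  -- the top is generated by `t` over `G`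
  have htop : (G⟮t⟯ : IntermediateField G L) = ⊤ := by
    refine eq_top_iff.2 fun z _ => ?_
    set M : IntermediateField G L := G⟮t⟯
    have hkt : ∀ a ∈ k⟮t⟯, a ∈ M := fun a ha =>
      (IntermediateField.adjoin_simple_le_iff (K := M.restrictScalars k)).2 (IntermediateField.mem_adjoin_simple_self G t) ha
    let ι : k⟮t⟯ →+* M := { toFun := fun a => ⟨a, hkt a a.2⟩, map_one' := rfl, map_mul' := fun _ _ => rfl,
                             map_zero' := rfl, map_add' := fun _ _ => rfl }
    have hsep : IsSeparable M z := by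
      refine Polynomial.Separable.of_dvd (Polynomial.Separable.map (f := ι) (Algebra.IsSeparable.isSeparable k⟮t⟯ z)) (minpoly.dvd M z ?_)
      rw [aeval_def, eval₂_map]
      exact minpoly.aeval k⟮t⟯ z
    have hzq : z ^ p ^ r ∈ M := by
      have h : z ^ p ^ r ∈ G := IntermediateField.subset_adjoin k _ ⟨z, rfl⟩
      exact M.algebraMap_mem ⟨_, h⟩
    haveI : CharP M p := charP_of_injective_algebraMap (algebraMap k M).injective p
    haveI : ExpChar M p := ExpChar.prime hp.out
    have h1 := IntermediateField.adjoin_simple_eq_adjoin_pow_expChar_pow_of_isSeparable M L hsep p r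
    have h2 : (M⟮z ^ p ^ r⟯ : IntermediateField M L) = ⊥ :=
      IntermediateField.adjoin_simple_eq_bot_iff.2 (IntermediateField.mem_bot.2 ⟨⟨_, hzq⟩, rfl⟩)
    obtain ⟨w, hw⟩ := IntermediateField.mem_bot.1 (h2 ▸ h1 ▸ IntermediateField.mem_adjoin_simple_self M z)
    rw [← hw]; exact w.2
  have htq : t ^ p ^ r ∈ G := IntermediateField.subset_adjoin k _ ⟨t, rfl⟩
  have hroot : aeval t (X ^ p ^ r - C (⟨_, htq⟩ : G)) = 0 := by simp
  have hmon : (X ^ p ^ r - C (⟨_, htq⟩ : G)).Monic := monic_X_pow_sub_C _ (pow_ne_zero _ hp.out.ne_zero)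
  have hint : IsIntegral G t := ⟨_, hmon, by rwa [← aeval_def]⟩
  haveI : FiniteDimensional G (G⟮t⟯ : IntermediateField G L) := IntermediateField.adjoin.finiteDimensional hint
  have hGfin : FiniteDimensional G L := by
    rw [htop] at *
    exact IntermediateField.topEquiv.toLinearEquiv.finiteDimensional
  have hdeg : finrank G L ≤ p ^ r := by
    rw [← IntermediateField.finrank_top' (F := G) (E := L), ← htop, IntermediateField.adjoin.finrank hint]
    refine (natDegree_le_of_dvd (minpoly.dvd G t hroot) hmon.ne_zero).trans ?_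
    rw [natDegree_X_pow_sub_C]
  have hF : finrank F L = p ^ r := by
    rw [← hr]
    let e : K ≃+* F := RingEquiv.ofBijective (IsScalarTower.toAlgHom k K L).rangeRestrict.toRingHom
      ⟨fun a b h => (algebraMap K L).injective (congrArg Subtype.val h), fun ⟨_, a, ha⟩ => ⟨a, Subtype.ext ha⟩⟩
    exact (Algebra.finrank_eq_of_equiv_equiv e (RingEquiv.refl L) (RingHom.ext fun a => rfl)).symm
  exact (IntermediateField.eq_of_le_of_finrank_le' hGF (hdeg.trans hF.ge)).symm

end Groth.Agent.FF
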