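import Groth.Agent.FF.ConstExtFin
import Groth.Agent.FF.Rational
import Mathlib.FieldTheory.SeparablyGenerated
import Mathlib.FieldTheory.Finite.Extension
import Mathlib.FieldTheory.Normal.Closure
import Mathlib.FieldTheory.Minpoly.IsIntegrallyClosed
import Mathlib.Analysis.SpecificLimits.Basic

/-! The Riemann hypothesis for curves over finite fields, after Bombieri. -/

open FunFld WithZero Module
open scoped Classical IntermediateField

namespace Groth.Agent.FF

universe v

/-! ### Constant extensions, as stated in the problem -/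

section constExt

variable {k K k' K' : Type*} [Field k] [Finite k] [Field K] [Algebra k K] [Field k'] [Finite k'] [Field K']
  [Algebra k k'] [Algebra K K'] [Algebra k' K'] [Algebra k K'] [IsScalarTower k K K'] [IsScalarTower k k' K']

/-- The numerator of a constant extension. -/
theorem numerZ_constExt (hK : IsFunctionField k K) (hK' : IsFunctionField k' K')
    (hgen : Algebra.adjoin K (Set.range (algebraMap k' K')) = ⊤) (hrk : finrank K K' = finrank k k')
    {N : ℕ} {α : Fin N → ℂ}
    (hα : PowerSeries.map (Int.castRingHom ℂ) (numerZ k K) =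
      ((∏ i, (1 - Polynomial.C (α i) * Polynomial.X) : Polynomial ℂ) : PowerSeries ℂ)) :
    PowerSeries.map (Int.castRingHom ℂ) (numerZ k' K') =
      ((∏ i, (1 - Polynomial.C (α i ^ finrank k k') * Polynomial.X) : Polynomial ℂ) : PowerSeries ℂ) := by
  have : FiniteDimensional k k' := Module.Finite.of_finite
  have : FiniteDimensional K K' := Module.finite_of_finrank_pos (hrk ▸ Module.finrank_pos)
  refine numerZ_of_NN hK' fun r hr => ?_
  rw [NN_constExt hK hgen hrk hr, NN_formula hK hα (Nat.mul_ne_zero hr Module.finrank_pos.ne'),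
    Module.natCard_eq_pow_finrank (K := k) (V := k')]
  push_cast
  simp only [← pow_mul, mul_comm r]

theorem genus_constExt (hK : IsFunctionField k K) (hK' : IsFunctionField k' K')
    (hgen : Algebra.adjoin K (Set.range (algebraMap k' K')) = ⊤) (hrk : finrank K K' = finrank k k') :
    genus k' K' = genus k K := by
  obtain ⟨α, -, hα, hpair⟩ := exists_alpha hK
  have h := two_mul_genus_eq hK' (fun i => pow_ne_zero _ (alpha_ne_zero hK hα i)) (numerZ_constExt hK hK' hgen hrk hα)
  omega

end constExt

/-! ### Adjoining constants inside a big field -/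

section adjoinConst

variable {k F k' L : Type*} [Field k] [Finite k] [Field F] [Algebra k F] [Field k'] [Finite k'] [Field L]
  [Algebra k k'] [Algebra F L] [Algebra k' L] [Algebra k L] [IsScalarTower k F L] [IsScalarTower k k' L]

variable (F k' L) in
/-- The subfield generated over `F` by the constants `k'`. -/
abbrev withConst : IntermediateField F L := IntermediateField.adjoin F (Set.range (algebraMap k' L))

noncomputable instance algWithConst : Algebra k' (withConst F k' L) :=
  ((algebraMap k' L).codRestrict (withConst F k' L) fun c =>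
    IntermediateField.subset_adjoin F _ ⟨c, rfl⟩).toAlgebra

/-- The properties of `F · k'`. -/
theorem withConst_props (hF : IsFunctionField k F) :
    IsFunctionField k' (withConst F k' L) ∧
      (∀ r : ℕ, r ≠ 0 → NN k' (withConst F k' L) r = NN k F (r * finrank k k')) ∧
      genus k' (withConst F k' L) = genus k F ∧ finrank F (withConst F k' L) = finrank k k' := by
  have : FiniteDimensional k k' := Module.Finite.of_finite
  have : IsScalarTower k F (withConst F k' L) := IsScalarTower.of_algebraMap_eq fun c =>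
    Subtype.ext (IsScalarTower.algebraMap_apply k F L c)
  have : IsScalarTower k k' (withConst F k' L) := IsScalarTower.of_algebraMap_eq fun c =>
    Subtype.ext (IsScalarTower.algebraMap_apply k k' L c)
  obtain ⟨a, ha⟩ := exists_algebra_gen (k := k) (k' := k')
  have hint : IsIntegral k a := IsIntegral.of_finite k a
  set b := algebraMap k' L a with hb
  have hbint : IsIntegral F b := (hint.algebraMap (B := L)).tower_top
  have hrange : ∀ c : k', algebraMap k' L c ∈ Algebra.adjoin F {b} := fun c => by
    have h : c ∈ Algebra.adjoin k {a} := ha ▸ Algebra.mem_top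
    have h2 : algebraMap k' L c ∈ (Algebra.adjoin k {a}).map (IsScalarTower.toAlgHom k k' L) := ⟨c, h, rfl⟩
    rw [AlgHom.map_adjoin, Set.image_singleton] at h2
    exact (Algebra.adjoin_le Algebra.subset_adjoin : Algebra.adjoin k {b} ≤ (Algebra.adjoin F {b}).restrictScalars k) h2
  have hsimple : withConst F k' L = F⟮b⟯ := by
    refine le_antisymm (IntermediateField.adjoin_le_iff.mpr ?_) (IntermediateField.adjoin.mono F _ _ (by rintro _ rfl; exact ⟨a, rfl⟩))
    rintro _ ⟨c, rfl⟩
    exact IntermediateField.algebra_adjoin_le_adjoin F _ (hrange c)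
  have hfd : FiniteDimensional F (withConst F k' L) := by
    rw [hsimple]; exact IntermediateField.adjoin.finiteDimensional hbint
  have hrk : finrank F (withConst F k' L) = finrank k k' := by
    rw [hsimple, IntermediateField.adjoin.finrank hbint,
      ← minpoly.eq_of_irreducible_of_monic (irreducible_map_of_const hF (minpoly.monic hint) (minpoly.irreducible hint))
        (by rw [Polynomial.aeval_map_algebraMap, hb, Polynomial.aeval_algebraMap_apply, minpoly.aeval, map_zero])
        ((minpoly.monic hint).map _),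
      Polynomial.natDegree_map, ← IntermediateField.adjoin.finrank hint]
    rw [show IntermediateField.adjoin k {a} = ⊤ from IntermediateField.toSubalgebra_injective
      ((IntermediateField.adjoin_simple_toSubalgebra_of_isAlgebraic hint.isAlgebraic).trans ha)]
    exact IntermediateField.finrank_top'
  have hgen : Algebra.adjoin F (Set.range (algebraMap k' (withConst F k' L))) = ⊤ := by
    refine eq_top_iff.mpr fun z _ => ?_
    have hz : z.1 ∈ Algebra.adjoin F ({b} : Set L) := by
      rw [← IntermediateField.adjoin_simple_toSubalgebra_of_isAlgebraic hbint.isAlgebraic]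
      exact hsimple.le z.2
    have h2 : z.1 ∈ (Algebra.adjoin F (Set.range (algebraMap k' (withConst F k' L)))).map (withConst F k' L).val := by
      rw [AlgHom.map_adjoin]
      exact Algebra.adjoin_mono (by rintro _ rfl; exact ⟨algebraMap k' _ a, ⟨a, rfl⟩, rfl⟩) hz
    obtain ⟨y, hy, hyz⟩ := h2
    have : y = z := Subtype.ext hyz
    exact this ▸ hy
  have hFF := isFunctionField_constExt hF hrk
  exact ⟨hFF, fun r hr => NN_constExt hF hgen hrk hr, genus_constExt hF hFF hgen hrk, hrk⟩

end adjoinConst

/-! ### The sandwich -/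

/-- Bombieri's two-sided bound for an intermediate field of a Galois extension. -/
theorem sandwich {k F K E : Type*} [Field k] [Finite k] [Field F] [Algebra k F] [Field K] [Algebra k K] [Field E]
    [Algebra k E] [Algebra F E] [Algebra K E] [IsScalarTower k F E] [IsScalarTower k K E] [FiniteDimensional F E]
    [FiniteDimensional K E] [IsGalois F E] [IsGalois K E]
    (hF : IsFunctionField k F) (hK : IsFunctionField k K) (hE : IsFunctionField k E)
    (hsub : Set.range (algebraMap F E) ⊆ Set.range (algebraMap K E))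
    (hN : NN k F 1 = Nat.card k + 1) (hP : 0 < NN k E 1) {p a : ℕ} [Fact p.Prime] [CharP E p]
    (hq : Nat.card k = p ^ a * p ^ a) (hbig : (genus k E + 1) ^ 2 < p ^ a) :
    |(NN k K 1 : ℤ) - Nat.card k - 1| ≤ finrank F E * ((2 * genus k E + 1) * (p ^ a : ℕ)) := by
  obtain ⟨⟨P, hP1⟩⟩ : Nonempty {P : Place k E // P.deg = 1} := (Nat.card_pos_iff.mp (by rwa [← NN_one hE])).1
  set B : ℤ := (2 * genus k E + 1) * (p ^ a : ℕ)
  have hB : 0 ≤ B := by positivity
  set c : ℤ := (Nat.card k : ℤ) + 1
  have hupper : ∀ σ : E ≃ₐ[F] E, (frobSum (k := k) (σ : E → E) : ℤ) ≤ c + B := fun σ => by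
    have h := bombieri hE (σ.restrictScalars k) hP1 hq hbig (finite_frobAt hF σ).toFinset
      fun Q hQ => (finite_frobAt hF σ).mem_toFinset.mp hQ
    rw [frobSum, finsum_mem_eq_finite_toFinset_sum _ (finite_frobAt hF σ)]
    have h' := (Nat.cast_le (α := ℤ)).mpr h
    push_cast at h' ⊢
    simp only [c, B]
    push_cast
    linarith
  set G := finrank F E
  have hG : (Fintype.card (E ≃ₐ[F] E) : ℤ) = G := by
    rw [← Nat.card_eq_fintype_card, IsGalois.card_aut_eq_finrank]
  have htot : ∑ σ : E ≃ₐ[F] E, ((frobSum (k := k) (σ : E → E) : ℤ) - c) = 0 := by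
    have h := congrArg (Nat.cast : ℕ → ℤ) (sum_frobSum (K' := E) hF)
    rw [hN] at h
    push_cast at h
    rw [Finset.sum_sub_distrib, h, Finset.sum_const, Finset.card_univ, nsmul_eq_mul, hG]
    simp only [c, G]
    ring
  have hlower : ∀ σ : E ≃ₐ[F] E, -((G : ℤ) * B) ≤ (frobSum (k := k) (σ : E → E) : ℤ) - c := fun σ => by
    rw [← Finset.add_sum_erase _ _ (Finset.mem_univ σ)] at htot
    have : ∑ τ ∈ Finset.univ.erase σ, ((frobSum (k := k) (τ : E → E) : ℤ) - c) ≤ G * B := by
      refine (Finset.sum_le_card_nsmul _ _ B fun τ _ => by linarith [hupper τ]).trans ?_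
      rw [nsmul_eq_mul]
      refine mul_le_mul_of_nonneg_right ?_ hB
      rw [← hG]
      exact_mod_cast (Finset.card_erase_le.trans_eq Finset.card_univ)
    linarith
  have hG1 : (1 : ℤ) ≤ G := by
    have : 0 < finrank F E := Module.finrank_pos
    exact_mod_cast this
  have hτ : ∀ τ : E ≃ₐ[K] E, ∃ σ : E ≃ₐ[F] E, (σ : E → E) = τ := fun τ =>
    ⟨AlgEquiv.ofRingEquiv (f := τ.toRingEquiv) fun x => by
      obtain ⟨y, hy⟩ := hsub ⟨x, rfl⟩
      rw [← hy]; exact τ.commutes y, rfl⟩
  set H := finrank K E
  have hH : (Fintype.card (E ≃ₐ[K] E) : ℤ) = H := by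
    rw [← Nat.card_eq_fintype_card, IsGalois.card_aut_eq_finrank]
  have hsum := congrArg (Nat.cast : ℕ → ℤ) (sum_frobSum (K' := E) hK)
  push_cast at hsum
  have h1 : ∑ τ : E ≃ₐ[K] E, ((frobSum (k := k) (τ : E → E) : ℤ) - c) = H * ((NN k K 1 : ℤ) - c) := by
    rw [Finset.sum_sub_distrib, hsum, Finset.sum_const, Finset.card_univ, nsmul_eq_mul, hH]
    ring
  have hHpos : (0 : ℤ) < H := by
    have : 0 < finrank K E := Module.finrank_pos
    exact_mod_cast this
  have hle : |(H : ℤ) * ((NN k K 1 : ℤ) - c)| ≤ H * (G * B) := by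
    rw [← h1, ← hH, ← nsmul_eq_mul, ← Finset.card_univ]
    refine (Finset.abs_sum_le_sum_abs _ _).trans (Finset.sum_le_card_nsmul _ _ _ fun τ _ => abs_le.mpr ?_)
    obtain ⟨σ, hσ⟩ := hτ τ
    rw [← hσ]
    refine ⟨hlower σ, ?_⟩
    have := hupper σ
    have : B ≤ G * B := le_mul_of_one_le_left hB hG1
    linarith
  rw [abs_mul, abs_of_pos hHpos] at hle
  rw [sub_sub]
  exact le_of_mul_le_mul_left hle hHpos

/-- The bound over the extension of degree `n`. -/
theorem point_bound {k : Type*} {F K E : Type v} [Field k] [Finite k] [Field F] [Algebra k F] [Field K] [Algebra k K] [Field E]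
    [Algebra k E] [Algebra F E] [Algebra K E] [IsScalarTower k F E] [IsScalarTower k K E] [FiniteDimensional F E]
    [FiniteDimensional K E] [IsGalois F E] [IsGalois K E]
    (hF : IsFunctionField k F) (hK : IsFunctionField k K) (hE : IsFunctionField k E)
    (hsub : Set.range (algebraMap F E) ⊆ Set.range (algebraMap K E)) (hgF : genus k F = 0)
    {n : ℕ} (hn : n ≠ 0) (hP : 0 < NN k E n) {p a : ℕ} [Fact p.Prime] [CharP k p]
    (hq : Nat.card k ^ n = p ^ a * p ^ a) (hbig : (genus k E + 1) ^ 2 < p ^ a) :
    |(NN k K n : ℤ) - (Nat.card k : ℤ) ^ n - 1| ≤ finrank F E * ((2 * genus k E + 1) * (p ^ a : ℕ)) := by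
  have : NeZero n := ⟨hn⟩
  let k' := FiniteField.Extension k p n
  have hk' : finrank k k' = n := FiniteField.finrank_extension k p n
  obtain ⟨a₀, ha⟩ := exists_algebra_gen (k := k) (k' := k')
  have hint : IsIntegral k a₀ := IsIntegral.of_finite k a₀
  let g := (minpoly k a₀).map (algebraMap k E)
  have : Fact (Irreducible g) := ⟨irreducible_map_of_const hE (minpoly.monic hint) (minpoly.irreducible hint)⟩
  have hgm : g.Monic := (minpoly.monic hint).map _
  let L := AdjoinRoot g
  let pb := PowerBasis.ofAdjoinEqTop' hint ha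
  have hroot : Polynomial.aeval (AdjoinRoot.root g) (minpoly k pb.gen) = 0 := by
    rw [PowerBasis.ofAdjoinEqTop'_gen, Polynomial.aeval_def, IsScalarTower.algebraMap_eq k E L, ← Polynomial.eval₂_map]
    exact AdjoinRoot.eval₂_root g
  let ι : k' →ₐ[k] L := pb.lift (AdjoinRoot.root g) hroot
  have hιa : ι a₀ = AdjoinRoot.root g := by
    have := pb.lift_gen (AdjoinRoot.root g) hroot
    rwa [PowerBasis.ofAdjoinEqTop'_gen] at this
  let : Algebra k' L := ι.toRingHom.toAlgebra
  have : IsScalarTower k k' L := IsScalarTower.of_algebraMap_eq fun c => (ι.commutes c).symm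
  have : FiniteDimensional E L := (AdjoinRoot.powerBasis hgm.ne_zero).finite
  have hgenE : Algebra.adjoin E (Set.range (algebraMap k' L)) = ⊤ := by
    refine top_le_iff.mp ((AdjoinRoot.adjoinRoot_eq_top (f := g)) ▸ Algebra.adjoin_mono ?_)
    rintro _ rfl
    exact ⟨a₀, hιa⟩
  have hrkE : finrank E L = finrank k k' := by
    rw [(AdjoinRoot.powerBasis hgm.ne_zero).finrank, AdjoinRoot.powerBasis_dim, Polynomial.natDegree_map,
      PowerBasis.finrank pb, PowerBasis.ofAdjoinEqTop'_dim]
  have hL : IsFunctionField k' L := isFunctionField_constExt hE hrkE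
  have hgL : genus k' L = genus k E := genus_constExt hE hL hgenE hrkE
  have hNL : NN k' L 1 = NN k E n := by rw [NN_constExt hE hgenE hrkE one_ne_zero, one_mul, hk']
  have galois : ∀ (M : Type v) [Field M] [Algebra k M] [Algebra M E] [IsScalarTower k M E] [FiniteDimensional M E]
      [IsGalois M E], IsFunctionField k M → IsGalois (withConst M k' L) L ∧ FiniteDimensional (withConst M k' L) L ∧
        finrank (withConst M k' L) L = finrank M E := by
    intro M _ _ _ _ _ _ hM
    have : IsScalarTower k M L := IsScalarTower.of_algebraMap_eq fun c => by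
      rw [IsScalarTower.algebraMap_apply M E L, ← IsScalarTower.algebraMap_apply k M E, ← IsScalarTower.algebraMap_apply k E L]
    obtain ⟨-, -, -, hrk⟩ := withConst_props (L := L) (k' := k') hM
    have hfdL : FiniteDimensional M L := Module.Finite.trans E L
    have hfd : FiniteDimensional (withConst M k' L) L := Module.Finite.of_restrictScalars_finite M _ L
    have hdim : finrank (withConst M k' L) L = finrank M E := by
      have h1 := Module.finrank_mul_finrank M (withConst M k' L) L
      rw [← Module.finrank_mul_finrank M E L, hrkE, hrk, mul_comm (finrank M E)] at h1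
      exact Nat.eq_of_mul_eq_mul_left Module.finrank_pos h1
    refine ⟨IsGalois.of_card_aut_eq_finrank _ _ ?_, hfd, hdim⟩
    have hcomp : ∀ σ : E ≃ₐ[M] E, ((algebraMap E L).comp (σ : E →+* E)).comp (algebraMap k E) = algebraMap k L := fun σ =>
      RingHom.ext fun c => by
        change algebraMap E L (σ (algebraMap k E c)) = _
        rw [IsScalarTower.algebraMap_apply k M E, σ.commutes, ← IsScalarTower.algebraMap_apply k M E,
          ← IsScalarTower.algebraMap_apply k E L]
    let φ : (E ≃ₐ[M] E) → (L →+* L) := fun σ =>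
      AdjoinRoot.lift ((algebraMap E L).comp (σ : E →+* E)) (AdjoinRoot.root g) (by
        rw [Polynomial.eval₂_map, hcomp, IsScalarTower.algebraMap_eq k E L, ← Polynomial.eval₂_map]
        exact AdjoinRoot.eval₂_root g)
    have hφE : ∀ σ (x : E), φ σ (algebraMap E L x) = algebraMap E L (σ x) := fun σ x => AdjoinRoot.lift_of _
    have hφr : ∀ σ, φ σ (AdjoinRoot.root g) = AdjoinRoot.root g := fun σ => AdjoinRoot.lift_root _
    have hφM : ∀ σ (x : L), x ∈ withConst M k' L → φ σ x = x := by
      intro σ x hx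
      induction hx using IntermediateField.adjoin_induction with
      | mem x hx =>
        obtain ⟨c, rfl⟩ := hx
        have h : c ∈ Algebra.adjoin k {a₀} := ha ▸ Algebra.mem_top
        induction h using Algebra.adjoin_induction with
        | mem y hy => cases hy; change φ σ (ι a₀) = ι a₀; rw [hιa, hφr]
        | algebraMap r =>
          rw [← IsScalarTower.algebraMap_apply k k' L, IsScalarTower.algebraMap_apply k E L, hφE,
            IsScalarTower.algebraMap_apply k M E, σ.commutes]
        | add y z _ _ hy hz => rw [map_add, map_add, hy, hz]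
        | mul y z _ _ hy hz => rw [map_mul, map_mul, hy, hz]
      | algebraMap r => rw [IsScalarTower.algebraMap_apply M E L, hφE, σ.commutes]
      | add x y _ _ hx hy => rw [map_add, hx, hy]
      | inv x _ hx => rw [map_inv₀, hx]
      | mul x y _ _ hx hy => rw [map_mul, hx, hy]
    let ψ : (E ≃ₐ[M] E) → (L ≃ₐ[withConst M k' L] L) := fun σ =>
      AlgEquiv.ofBijective ({ φ σ with commutes' := fun x => hφM σ _ x.2 } : L →ₐ[withConst M k' L] L)
        (Algebra.IsAlgebraic.algHom_bijective _)
    have hψ : Function.Injective ψ := fun σ τ h => AlgEquiv.ext fun x => (algebraMap E L).injective (by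
      rw [← hφE, ← hφE]; exact AlgEquiv.congr_fun h (algebraMap E L x))
    refine le_antisymm ?_ ?_
    · rw [Nat.card_eq_fintype_card]; exact AlgEquiv.card_le
    · rw [hdim, ← IsGalois.card_aut_eq_finrank M E]
      exact Nat.card_le_card_of_injective ψ hψ
  have : IsScalarTower k F L := IsScalarTower.of_algebraMap_eq fun c => by
    rw [IsScalarTower.algebraMap_apply F E L, ← IsScalarTower.algebraMap_apply k F E, ← IsScalarTower.algebraMap_apply k E L]
  have : IsScalarTower k K L := IsScalarTower.of_algebraMap_eq fun c => by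
    rw [IsScalarTower.algebraMap_apply K E L, ← IsScalarTower.algebraMap_apply k K E, ← IsScalarTower.algebraMap_apply k E L]
  obtain ⟨hF', hNF, -, -⟩ := withConst_props (L := L) (k' := k') hF
  obtain ⟨hK', hNK, -, -⟩ := withConst_props (L := L) (k' := k') hK
  obtain ⟨_, _, hdimF⟩ := galois F hF
  obtain ⟨_, _, -⟩ := galois K hK
  have : IsScalarTower k' (withConst F k' L) L := IsScalarTower.of_algebraMap_eq fun _ => rfl
  have : IsScalarTower k' (withConst K k' L) L := IsScalarTower.of_algebraMap_eq fun _ => rfl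
  have hsub' : Set.range (algebraMap (withConst F k' L) L) ⊆ Set.range (algebraMap (withConst K k' L) L) := by
    rintro _ ⟨x, rfl⟩
    have hle : (withConst F k' L).toSubfield ≤ (withConst K k' L).toSubfield := by
      rw [IntermediateField.adjoin_toSubfield, Subfield.closure_le]
      rintro z (⟨y, rfl⟩ | hz)
      · obtain ⟨w, hw⟩ := hsub ⟨y, rfl⟩
        rw [IsScalarTower.algebraMap_apply F E L, ← hw, ← IsScalarTower.algebraMap_apply K E L]
        exact (withConst K k' L).algebraMap_mem w
      · exact IntermediateField.subset_adjoin K _ hz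
    exact ⟨⟨x.1, hle x.2⟩, rfl⟩
  have hcard : Nat.card k' = Nat.card k ^ n := FiniteField.natCard_extension k p n
  have : CharP L p := charP_of_injective_algebraMap (algebraMap k L).injective p
  have h := sandwich hF' hK' hL hsub' (by rw [hNF 1 one_ne_zero, one_mul, hk', NN_of_genus_zero hF hgF hn, hcard])
    (by rw [hNL]; exact hP) (p := p) (a := a) (by rw [hcard, hq]) (by rw [hgL]; exact hbig)
  rw [hNK 1 one_ne_zero, one_mul, hk', hcard, hgL, hdimF] at h
  push_cast at h ⊢
  exact h

/-! ### Power sums -/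

/-- If the power sums are `O(Rʲ)` then every term has absolute value at most `R`. -/
theorem norm_le_of_powerSum_bound {ι : Type*} [Fintype ι] (β : ι → ℂ) {R C : ℝ} (hR : 0 < R) {j₀ : ℕ}
    (h : ∀ j, j₀ ≤ j → ‖∑ i, β i ^ j‖ ≤ C * R ^ j) (i₀ : ι) : ‖β i₀‖ ≤ R := by
  by_contra hlt
  push Not at hlt
  let Q : Polynomial ℂ := ∏ b ∈ (Finset.univ.image β).erase (β i₀), (Polynomial.X - Polynomial.C b)
  have hQ0 : ∀ i, β i ≠ β i₀ → Q.eval (β i) = 0 := fun i hi => by
    rw [Polynomial.eval_prod]
    exact Finset.prod_eq_zero (Finset.mem_erase.mpr ⟨hi, Finset.mem_image_of_mem _ (Finset.mem_univ i)⟩) (by simp)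
  have hQ1 : Q.eval (β i₀) ≠ 0 := by
    rw [Polynomial.eval_prod, Finset.prod_ne_zero_iff]
    intro b hb
    simp only [Polynomial.eval_sub, Polynomial.eval_X, Polynomial.eval_C, ne_eq, sub_eq_zero]
    exact fun e => (Finset.mem_erase.mp hb).1 e.symm
  set w := (Finset.univ.filter fun i => β i = β i₀).card
  have hw : w ≠ 0 := (Finset.card_pos.mpr ⟨i₀, by simp⟩).ne'
  have hid : ∀ j, ∑ l ∈ Finset.range (Q.natDegree + 1), Q.coeff l * ∑ i, β i ^ (j + l) = w * β i₀ ^ j * Q.eval (β i₀) := by
    intro j
    simp only [Finset.mul_sum]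
    rw [Finset.sum_comm]
    have hterm : ∀ i, ∑ l ∈ Finset.range (Q.natDegree + 1), Q.coeff l * β i ^ (j + l) = β i ^ j * Q.eval (β i) := fun i => by
      rw [Polynomial.eval_eq_sum_range, Finset.mul_sum]
      exact Finset.sum_congr rfl fun l _ => by rw [pow_add]; ring
    rw [Finset.sum_congr rfl fun i _ => hterm i, ← Finset.sum_filter_add_sum_filter_not _ (fun i => β i = β i₀),
      Finset.sum_eq_zero (s := Finset.univ.filter fun i => ¬ β i = β i₀) (fun i hi => by
        rw [hQ0 i (Finset.mem_filter.mp hi).2, mul_zero]), add_zero,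
      Finset.sum_congr rfl fun i (hi : i ∈ Finset.univ.filter fun i => β i = β i₀) => by rw [(Finset.mem_filter.mp hi).2],
      Finset.sum_const, nsmul_eq_mul, mul_assoc]
  set K₀ := ∑ l ∈ Finset.range (Q.natDegree + 1), ‖Q.coeff l‖ * (C * R ^ l)
  set c₀ := (w : ℝ) * ‖Q.eval (β i₀)‖
  have hc0 : 0 < c₀ := by positivity
  have hbound : ∀ j, j₀ ≤ j → c₀ * ‖β i₀‖ ^ j ≤ K₀ * R ^ j := fun j hj => by
    have h1 : c₀ * ‖β i₀‖ ^ j = ‖(w : ℂ) * β i₀ ^ j * Q.eval (β i₀)‖ := by
      rw [norm_mul, norm_mul, norm_pow, Complex.norm_natCast]; ring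
    rw [h1, ← hid j, Finset.sum_mul]
    refine (norm_sum_le _ _).trans (Finset.sum_le_sum fun l _ => ?_)
    rw [norm_mul]
    refine (mul_le_mul_of_nonneg_left (h (j + l) (by omega)) (norm_nonneg _)).trans_eq ?_
    rw [pow_add]; ring
  obtain ⟨j, hj⟩ := pow_unbounded_of_one_lt (|K₀| / c₀ + 1) ((one_lt_div hR).mpr hlt)
  have hge : (‖β i₀‖ / R) ^ j ≤ (‖β i₀‖ / R) ^ max j j₀ := pow_le_pow_right₀ ((one_lt_div hR).mpr hlt).le (le_max_left _ _)
  have h2 := hbound _ (le_max_right j j₀)
  have h3 : (‖β i₀‖ / R) ^ max j j₀ ≤ |K₀| / c₀ := by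
    rw [div_pow, div_le_div_iff₀ (pow_pos hR _) hc0, mul_comm]
    exact h2.trans (mul_le_mul_of_nonneg_right (le_abs_self _) (pow_nonneg hR.le _))
  linarith

/-! ### A separating element -/

theorem exists_separating {k K : Type*} [Field k] [PerfectField k] [Field K] [Algebra k K] (hK : IsFunctionField k K) :
    ∃ x : K, Transcendental k x ∧ FiniteDimensional k⟮x⟯ K ∧ Algebra.IsSeparable k⟮x⟯ K := by
  obtain ⟨⟨x, hx, hfin⟩, -⟩ := id hK
  have hxb : IsTranscendenceBasis k ((↑) : ({x} : Set K) → K) := by
    have ind : AlgebraicIndependent k ((↑) : ({x} : Set K) → K) := by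
      have : AlgebraicIndependent k (fun _ : ({x} : Set K) => x) := algebraicIndependent_unique_type_iff.mpr hx
      convert this using 2 with w
      exact w.2
    rw [ind.isTranscendenceBasis_iff_isAlgebraic, Subtype.range_coe]
    exact IntermediateField.isAlgebraic_adjoin_iff_top.mp (inferInstance : Algebra.IsAlgebraic k⟮x⟯ K)
  have h1 : Algebra.EssFiniteType k k⟮x⟯ :=
    IntermediateField.essFiniteType_iff.mpr (IntermediateField.fg_adjoin_of_finite (Set.finite_singleton x))
  have h2 : Algebra.EssFiniteType k K := Algebra.EssFiniteType.comp k k⟮x⟯ K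
  obtain ⟨s, hs, hsep⟩ := exists_isTranscendenceBasis_and_isSeparable_of_perfectField k K
  have hcard := hs.cardinalMk_eq hxb
  have hs1 : s.card = 1 := by
    have h := hcard
    simp only [Cardinal.mk_fintype, Fintype.card_coe, Set.card_singleton, Nat.cast_one] at h
    exact_mod_cast h
  obtain ⟨y, rfl⟩ := Finset.card_eq_one.mp hs1
  rw [Finset.coe_singleton] at hsep
  have hy : Transcendental k y := (hs.1.transcendental ⟨y, Finset.mem_singleton_self y⟩)
  exact ⟨y, hy, finiteDimensional_adjoin hK hy, hsep⟩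

/-! ### The theorem -/

/-- `|N_r - q^r - 1| ≤ C q^{r/2}` along an arithmetic progression. -/
theorem exists_count_bound {k : Type*} {K : Type v} [Field k] [Finite k] [Field K] [Algebra k K] (hK : IsFunctionField k K) :
    ∃ (r₀ C j₀ : ℕ), 0 < r₀ ∧ ∀ j, j₀ ≤ j →
      |(NN k K (2 * r₀ * j) : ℤ) - (Nat.card k : ℤ) ^ (2 * r₀ * j) - 1| ≤ C * (Nat.card k : ℤ) ^ (r₀ * j) := by
  have hFF := isFF'_of_isFunctionField hK
  obtain ⟨x, hx, hfin, hsep⟩ := exists_separating hK
  let F₀ := k⟮x⟯
  let E := IntermediateField.normalClosure F₀ K (AlgebraicClosure K)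
  have : IsScalarTower k F₀ E := IsScalarTower.of_algebraMap_eq fun c => by
    apply Subtype.ext
    exact IsScalarTower.algebraMap_apply k F₀ (AlgebraicClosure K) c
  have : IsAlgClosure F₀ (AlgebraicClosure K) := ⟨inferInstance, Algebra.IsAlgebraic.trans F₀ K (AlgebraicClosure K)⟩
  have : Normal F₀ (AlgebraicClosure K) := IsAlgClosure.normal F₀ _
  have : IsGalois F₀ E := by
    refine { to_isSeparable := ?_, to_normal := inferInstance }
    have hf : ∀ f : K →ₐ[F₀] AlgebraicClosure K, Algebra.IsSeparable F₀ f.fieldRange := fun f =>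
      AlgEquiv.Algebra.isSeparable (AlgEquiv.ofInjectiveField f)
    exact IntermediateField.isSeparable_iSup F₀ (AlgebraicClosure K)
  have : FiniteDimensional K E := Module.Finite.of_restrictScalars_finite F₀ K E
  have : IsScalarTower k K E := IsScalarTower.of_algebraMap_eq fun c => by
    rw [IsScalarTower.algebraMap_apply k F₀ E, IsScalarTower.algebraMap_apply F₀ K E, ← IsScalarTower.algebraMap_apply k F₀ K]
  have hE' : IsFF' k E := isFF'_ext hFF
  have := finiteDimensional_consts hE'
  let ke := consts k E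
  have : Finite ke := Module.finite_of_finite k
  have hE : IsFunctionField ke E := isFunctionField_consts hE'
  -- the field `K · kₑ`
  let K₁ := withConst K ke E
  obtain ⟨hK₁, hNK, -, -⟩ := withConst_props (L := E) (k' := ke) hK
  let aK₁ : Algebra ke K₁ := algWithConst
  let : SMul ke K₁ := aK₁.toSMul
  let : Module ke K₁ := aK₁.toModule
  have : IsScalarTower ke K₁ E := IsScalarTower.of_algebraMap_eq fun _ => rfl
  -- the rational field
  have hF₀ : IsFunctionField k F₀ := by
    refine ⟨⟨⟨x, IntermediateField.mem_adjoin_simple_self k x⟩, fun h => hx ?_, ?_⟩, fun y hy => ?_⟩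
    · exact h.algebraMap (A := K)
    · have htop : IntermediateField.adjoin k {(⟨x, IntermediateField.mem_adjoin_simple_self k x⟩ : F₀)} = ⊤ := by
        refine IntermediateField.map_injective F₀.val ?_
        rw [IntermediateField.adjoin_map, Set.image_singleton, ← AlgHom.fieldRange_eq_map, IntermediateField.fieldRange_val]
        rfl
      rw [htop]
      exact Module.Finite.of_surjective (Algebra.linearMap _ _) fun z => ⟨⟨z, trivial⟩, rfl⟩
    · obtain ⟨c, hc⟩ := hK.2 (y : K) (hy.algebraMap (A := K))
      exact ⟨c, Subtype.ext hc⟩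
  have hgF₀ : genus k F₀ = 0 := by
    have htop : IntermediateField.adjoin k {(⟨x, IntermediateField.mem_adjoin_simple_self k x⟩ : F₀)} = ⊤ := by
      refine IntermediateField.map_injective F₀.val ?_
      rw [IntermediateField.adjoin_map, Set.image_singleton, ← AlgHom.fieldRange_eq_map, IntermediateField.fieldRange_val]
      rfl
    obtain ⟨-, -, -, -, h⟩ := genus_zero_of_adjoin_eq_top hF₀ htop (transcendental_of_adjoin_eq_top hF₀ htop)
    exact h
  let F₁ := withConst F₀ ke E
  obtain ⟨hF₁, -, hgF, -⟩ := withConst_props (L := E) (k' := ke) hF₀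
  let aF₁ : Algebra ke F₁ := algWithConst
  let : SMul ke F₁ := aF₁.toSMul
  let : Module ke F₁ := aF₁.toModule
  have : IsScalarTower ke F₁ E := IsScalarTower.of_algebraMap_eq fun _ => rfl
  have : IsGalois K E := IsGalois.tower_top_of_isGalois F₀ K E
  have : IsGalois K₁ E := IsGalois.tower_top_of_isGalois K K₁ E
  have : IsScalarTower F₀ F₁ E := IntermediateField.isScalarTower_mid' F₁
  have : IsGalois F₁ E := IsGalois.tower_top_of_isGalois F₀ F₁ E
  have : FiniteDimensional K₁ E := Module.Finite.of_restrictScalars_finite K K₁ E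
  have : FiniteDimensional F₁ E := Module.Finite.of_restrictScalars_finite F₀ F₁ E
  have hsub : Set.range (algebraMap F₁ E) ⊆ Set.range (algebraMap K₁ E) := by
    rintro _ ⟨z, rfl⟩
    have hle : F₁.toSubfield ≤ K₁.toSubfield := by
      rw [IntermediateField.adjoin_toSubfield, Subfield.closure_le]
      rintro w (⟨y, rfl⟩ | hw)
      · rw [IsScalarTower.algebraMap_apply F₀ K E]; exact K₁.algebraMap_mem _
      · exact IntermediateField.subset_adjoin K _ hw
    exact ⟨⟨z.1, hle z.2⟩, rfl⟩
  obtain ⟨P₀⟩ := nonempty_place hE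
  set d₀ := P₀.deg
  have hd₀ : 0 < d₀ := deg_pos hE P₀
  set e := finrank k ke
  have he : 0 < e := Module.finrank_pos
  obtain ⟨p, hp⟩ := CharP.exists k
  have : Fact p.Prime := ⟨CharP.char_is_prime k p⟩
  have : CharP ke p := charP_of_injective_algebraMap (algebraMap k ke).injective p
  have hqe : Nat.card ke = Nat.card k ^ e := Module.natCard_eq_pow_finrank
  obtain ⟨s, hs⟩ : ∃ s, Nat.card k = p ^ s := by
    have := Fintype.ofFinite k
    obtain ⟨s, -, hs⟩ := FiniteField.card k p
    exact ⟨s, by rw [Nat.card_eq_fintype_card, hs]⟩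
  set gE := genus ke E
  refine ⟨e * d₀, finrank F₁ E * (2 * gE + 1), (gE + 1) ^ 2 + 1, Nat.mul_pos he hd₀, fun j hj => ?_⟩
  have hj0 : 0 < j := by omega
  have hP : 0 < NN ke E (2 * d₀ * j) := by
    rw [NN_eq_sum hE (by positivity) le_rfl]
    refine Finset.sum_pos' (fun _ _ => Nat.zero_le _) ⟨P₀, ?_, hd₀⟩
    simp only [Finset.mem_filter, Set.Finite.mem_toFinset, Set.mem_ofPred_eq]
    have hdvd : d₀ ∣ 2 * d₀ * j := ⟨2 * j, by ring⟩
    exact ⟨Nat.le_of_dvd (by positivity) hdvd, hdvd⟩
  have hr : Nat.card k ^ (e * d₀ * j) = p ^ (s * (e * d₀ * j)) := by rw [hs, ← pow_mul]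
  have hbig : (gE + 1) ^ 2 < p ^ (s * (e * d₀ * j)) := by
    rw [← hr]
    refine lt_of_lt_of_le (lt_of_lt_of_le (b := j) (by omega) ?_)
      (Nat.pow_le_pow_right (by have := card_base (k := k); omega) (Nat.le_mul_of_pos_left j (Nat.mul_pos he hd₀)))
    exact (Nat.lt_pow_self card_base).le
  have h := point_bound hF₁ hK₁ hE hsub (by rw [hgF, hgF₀]) (n := 2 * d₀ * j) (by positivity) hP (p := p)
    (a := s * (e * d₀ * j)) (by rw [hqe, hs, ← pow_mul, ← pow_mul, ← pow_add]; congr 1; ring) hbig
  have hNK' : NN ke K₁ (2 * d₀ * j) = NN k K (2 * (e * d₀) * j) := by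
    rw [hNK _ (by positivity)]
    congr 1; ring
  rw [hNK', hqe, ← hr] at h
  push_cast at h ⊢
  rw [← pow_mul, show e * (2 * d₀ * j) = 2 * (e * d₀) * j by ring] at h
  refine h.trans_eq ?_
  ring

/-- The Riemann hypothesis: the inverse roots have absolute value `√q`. -/
theorem norm_sq_alpha {k : Type*} {K : Type v} [Field k] [Finite k] [Field K] [Algebra k K] (hK : IsFunctionField k K)
    {α : Fin (2 * genus k K) → ℂ}
    (hα : PowerSeries.map (Int.castRingHom ℂ) (numerZ k K) =
      ((∏ i, (1 - Polynomial.C (α i) * Polynomial.X) : Polynomial ℂ) : PowerSeries ℂ))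
    (i : Fin (2 * genus k K)) : ‖α i‖ ^ 2 = Nat.card k := by
  obtain ⟨r₀, C, j₀, hr₀, hbound⟩ := exists_count_bound hK
  have hq : (1 : ℝ) < Nat.card k := by exact_mod_cast card_base (k := k)
  have hle : ∀ (β : Fin (2 * genus k K) → ℂ), PowerSeries.map (Int.castRingHom ℂ) (numerZ k K) =
      ((∏ i, (1 - Polynomial.C (β i) * Polynomial.X) : Polynomial ℂ) : PowerSeries ℂ) →
      ∀ i, ‖β i‖ ^ 2 ≤ Nat.card k := by
    intro β hβ i
    have h := norm_le_of_powerSum_bound (fun l => β l ^ (2 * r₀)) (R := (Nat.card k : ℝ) ^ r₀) (C := (C : ℝ))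
      (j₀ := max j₀ 1) (by positivity) (fun j hj => ?_) i
    · rw [norm_pow, pow_mul] at h
      exact le_of_pow_le_pow_left₀ hr₀.ne' (by positivity) h
    · have h1 := hbound j ((le_max_left _ _).trans hj)
      have hr : 2 * r₀ * j ≠ 0 := Nat.mul_ne_zero (by omega) (by have := (le_max_right j₀ 1).trans hj; omega)
      have h2 := NN_formula hK hβ hr
      have h3 : ∑ l, (β l ^ (2 * r₀)) ^ j =
          ((-((NN k K (2 * r₀ * j) : ℤ) - (Nat.card k : ℤ) ^ (2 * r₀ * j) - 1) : ℤ) : ℂ) := by
        push_cast
        rw [h2]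
        simp only [← pow_mul]
        ring
      rw [h3, Complex.norm_intCast, Int.cast_neg, abs_neg, ← Int.cast_abs, ← pow_mul]
      exact_mod_cast h1
  obtain ⟨β, -, hβ, hpair⟩ := exists_alpha hK
  have hpoly : (∏ i, (1 - Polynomial.C (α i) * Polynomial.X) : Polynomial ℂ) = ∏ i, (1 - Polynomial.C (β i) * Polynomial.X) :=
    Polynomial.coe_injective ℂ (hα.symm.trans hβ)
  have hα0 := alpha_ne_zero hK hα i
  have hroot : Polynomial.eval (α i)⁻¹ (∏ i, (1 - Polynomial.C (β i) * Polynomial.X)) = 0 := by
    rw [← hpoly, Polynomial.eval_prod]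
    exact Finset.prod_eq_zero (Finset.mem_univ i) (by simp [hα0])
  rw [Polynomial.eval_prod, Finset.prod_eq_zero_iff] at hroot
  obtain ⟨l, -, hl⟩ := hroot
  simp only [Polynomial.eval_sub, Polynomial.eval_one, Polynomial.eval_mul, Polynomial.eval_C, Polynomial.eval_X, sub_eq_zero] at hl
  have hαl : α i = β l := by
    have := congrArg (· * α i) hl
    simpa [hα0] using this
  rw [hαl]
  refine le_antisymm (hle β hβ l) ?_
  have h1 := hle β hβ (Fin.rev l)
  have h2 : ‖β l‖ * ‖β (Fin.rev l)‖ = Nat.card k := by rw [← norm_mul, hpair, Complex.norm_natCast]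
  nlinarith [norm_nonneg (β l), norm_nonneg (β (Fin.rev l)), mul_le_mul_of_nonneg_left h1 (sq_nonneg ‖β l‖)]

end Groth.Agent.FF
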