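import Groth.Agent.FF.FixedPts
import Groth.Agent.FF.HyperGenus
import Groth.Agent.FF.Rational
import Groth.Agent.FF.WeilRH
import Groth.Agent.FF.PurelyInsep
import Groth.Agent.FF.InvolutionOrbits
import Mathlib.FieldTheory.Galois.Basic

/-! In genus one any two distinct places are exchanged by an automorphism, in every characteristic. -/

open FunFld WithZero Module Polynomial
open scoped Classical IntermediateField

namespace Groth.Agent.FF

variable {k K : Type*} [Field k] [Field K] [Algebra k K]

/-- Polynomials in `t` at a pole of `t`. -/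
theorem val_aeval_of_pole (P : Place k K) {t : K} (ht : 1 < P.1 t) :
    ∀ (n : ℕ) (r : k[X]), r.natDegree ≤ n → r ≠ 0 → P.1 (aeval t r) = P.1 t ^ r.natDegree := by
  intro n
  induction n with
  | zero =>
    intro r hr hr0
    obtain ⟨c, rfl⟩ := natDegree_eq_zero.1 (Nat.le_zero.1 hr)
    rw [aeval_C, natDegree_C, pow_zero, val_algebraMap P (by rintro rfl; exact hr0 C_0)]
  | succ n ih =>
    intro r hr hr0
    rcases eq_or_ne r.natDegree 0 with h0 | h0
    · obtain ⟨c, rfl⟩ := natDegree_eq_zero.1 h0
      rw [aeval_C, natDegree_C, pow_zero, val_algebraMap P (by rintro rfl; exact hr0 C_0)]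
    · have hd : r.divX.natDegree = r.natDegree - 1 := natDegree_divX_eq_natDegree_tsub_one
      have hd0 : r.divX ≠ 0 := fun e => by
        have := divX_mul_X_add r
        rw [e, zero_mul, zero_add] at this
        rw [← this, natDegree_C] at h0
        exact h0 rfl
      have hv : P.1 (aeval t r.divX * t) = P.1 t ^ r.natDegree := by
        rw [map_mul, ih _ (by omega) hd0, ← pow_succ, hd, Nat.sub_add_cancel (Nat.one_le_iff_ne_zero.2 h0)]
      conv_lhs => rw [← divX_mul_X_add r, map_add, map_mul, aeval_X, aeval_C]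
      rw [Valuation.map_add_eq_of_lt_left _ ?_, hv]
      rw [hv]
      exact (P.2.1 _).trans_lt (one_lt_pow₀ ht h0)

/-- In genus one two distinct places are exchanged by an automorphism. -/
theorem exists_swap_of_ne [IsAlgClosed k] (hK : IsFunctionField k K) (hg : genus k K = 1) {p q : Place k K}
    (hpq : p ≠ q) : ∃ ψ : K ≃ₐ[k] K, pullPlace ψ p = q := by
  let D : Divisor k K := Finsupp.single p 1 + Finsupp.single q 1
  obtain ⟨C, hC⟩ := exists_isCanonical hK
  have hRR := riemann_roch' hK hC D
  have hDd : D.deg = 2 := by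
    simp only [D, deg_add, deg_single, deg_eq_one hK]; norm_num
  obtain ⟨t, htD, htc⟩ : ∃ t ∈ L D, t ∉ Set.range (algebraMap k K) := by
    by_contra hc
    push Not at hc
    have hle : L D ≤ Submodule.span k {(1 : K)} := fun x hx => by
      obtain ⟨c, rfl⟩ := hc x hx
      exact Submodule.mem_span_singleton.mpr ⟨c, by rw [Algebra.smul_def, mul_one]⟩
    have hl : ell D ≤ 1 := (Submodule.finrank_mono hle).trans (finrank_span_singleton one_ne_zero).le
    omega
  have htr : Transcendental k t := transcendental_of_not_mem hK htc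
  have ht0 : t ≠ 0 := fun e => htr (e ▸ isAlgebraic_zero)
  have hpd : poles (k := k) t ≤ D := fun R => by
    have h := htD R
    rw [val_le_exp_iff R ht0] at h
    rw [poles_apply hK]
    have h0 : 0 ≤ D R := by
      simp only [D, Finsupp.add_apply, Finsupp.single_apply]; split_ifs <;> norm_num
    omega
  have hdeg : (poles (k := k) t).deg = 2 := by
    have h1 := deg_mono hpd
    rw [hDd] at h1
    have h3 := deg_poles hK htr
    have h4 : finrank k⟮t⟯ K ≠ 1 := fun h => by
      obtain ⟨-, -, -, -, h5⟩ := genus_zero_of_adjoin_eq_top hK (IntermediateField.finrank_eq_one_iff_eq_top.mp h) htr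
      omega
    have h6 : finrank k⟮t⟯ K ≠ 0 := fun h => by
      obtain ⟨R, hR⟩ := HyperGenus.exists_place_pole hK htr
      have h7 : Finsupp.single R (1 : ℤ) ≤ poles (k := k) t := fun S => by
        rw [Finsupp.single_apply]; split_ifs with e
        · subst e
          rw [poles_apply hK]
          have : ¬ 0 ≤ R.ord t := fun h8 => absurd hR (not_lt.2 ((val_le_one_iff R ht0).2 h8))
          omega
        · exact poles_nonneg t S
      have h8 := deg_mono h7
      rw [h3, h, deg_single, deg_eq_one hK] at h8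
      norm_num at h8
    omega
  have hfin : finrank k⟮t⟯ K = 2 := by
    have h3 := deg_poles hK htr
    rw [hdeg] at h3
    exact_mod_cast h3.symm
  have hpolesD : poles (k := k) t = D := by
    have hE : (0 : Divisor k K) ≤ D - poles (k := k) t := sub_nonneg.mpr hpd
    exact (sub_eq_zero.mp (eq_zero_of_nonneg_of_deg_eq_zero hK hE (by rw [deg_sub, hDd, hdeg, sub_self]))).symm
  have hDp : D p = 1 := by simp [D, Finsupp.single_apply, hpq.symm]
  have hDq : D q = 1 := by simp [D, Finsupp.single_apply, hpq]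
  have hordp : p.ord t = -1 := by
    have := hDp; rw [← hpolesD, poles_apply hK] at this; omega
  have hordq : q.ord t = -1 := by
    have := hDq; rw [← hpolesD, poles_apply hK] at this; omega
  haveI : FiniteDimensional k⟮t⟯ K := Module.finite_of_finrank_eq_succ hfin
  haveI hquad : Algebra.IsQuadraticExtension k⟮t⟯ K := { finrank_eq_two' := hfin }
  haveI hsep : Algebra.IsSeparable k⟮t⟯ K := by
    by_contra hns
    obtain _ | ⟨c, hc, hck⟩ := CharP.exists' k
    · haveI : CharZero k⟮t⟯ := charZero_of_injective_algebraMap (algebraMap k k⟮t⟯).injective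
      exact hns inferInstance
    haveI : Fact c.Prime := hc
    haveI : CharP k⟮t⟯ c := charP_of_injective_algebraMap (algebraMap k k⟮t⟯).injective c
    haveI : ExpChar k⟮t⟯ c := ExpChar.prime hc.out
    let S := separableClosure k⟮t⟯ K
    have hS : finrank k⟮t⟯ S = 1 := by
      have h1 := Module.finrank_mul_finrank k⟮t⟯ S K
      rw [hfin] at h1
      rcases (Nat.dvd_prime Nat.prime_two).1 (Dvd.intro _ h1) with h | h
      · exact h
      · exact absurd ((separableClosure.eq_top_iff k⟮t⟯ K).1 (IntermediateField.eq_of_le_of_finrank_le le_top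
          (by rw [IntermediateField.finrank_top', hfin, h]))) hns
    haveI : IsPurelyInseparable k⟮t⟯ K := by
      rw [← separableClosure.eq_bot_iff]
      exact IntermediateField.finrank_eq_one_iff.1 hS
    obtain ⟨t', -, -, hsep'⟩ := exists_separating hK
    obtain ⟨r, hr, hrange⟩ := exists_range_eq_adjoin_pow (k := k) (K := k⟮t⟯) (L := K) c (t := t')
    rw [hfin] at hr
    have hc2 : c = 2 ∧ r = 1 := by
      rcases Nat.eq_zero_or_pos r with hr0 | hr0
      · rw [hr0, pow_zero] at hr; exact absurd hr (by norm_num)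
      · have hdvd : c ∣ 2 := hr ▸ dvd_pow_self c hr0.ne'
        have hc2 : c = 2 := (Nat.prime_dvd_prime_iff_eq hc.out Nat.prime_two).1 hdvd
        subst hc2
        exact ⟨rfl, (Nat.pow_right_injective le_rfl (hr.symm.trans (pow_one 2).symm))⟩
    obtain ⟨rfl, rfl⟩ := hc2
    haveI : CharP K 2 := charP_of_injective_algebraMap (algebraMap k K).injective 2
    let R : IntermediateField k K :=
      { (frobenius K 2).fieldRange with
        algebraMap_mem' := fun a => by
          obtain ⟨b, hb⟩ := IsAlgClosed.exists_pow_nat_eq a two_pos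
          exact ⟨algebraMap k K b, by rw [frobenius_def, ← map_pow, hb]⟩ }
    have hle : IntermediateField.adjoin k (Set.range fun z : K => z ^ 2 ^ 1) ≤ R :=
      IntermediateField.adjoin_le_iff.2 (by rintro _ ⟨z, rfl⟩; exact ⟨z, by rw [frobenius_def]; simp⟩)
    obtain ⟨s, hs⟩ := hle (show t ∈ _ from hrange ▸ ⟨⟨t, IntermediateField.mem_adjoin_simple_self k t⟩, rfl⟩)
    have hs0 : s ≠ 0 := fun e => ht0 (by rw [← hs, e]; simp)
    have h5 : p.ord t = 2 * p.ord s := by
      rw [← hs, show (frobenius K 2) s = s ^ 2 from frobenius_def 2 s, ord_pow' p s 2]; norm_num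
    omega
  haveI : IsGalois k⟮t⟯ K := inferInstance
  haveI : Nontrivial Gal(K/k⟮t⟯) := Finite.one_lt_card_iff_nontrivial.1 (by
    rw [IsGalois.card_aut_eq_finrank, hfin]; norm_num)
  obtain ⟨τ, hτ⟩ := exists_ne (1 : Gal(K/k⟮t⟯))
  let ψ : K ≃ₐ[k] K := τ.restrictScalars k
  have hψF : ∀ a ∈ k⟮t⟯, ψ a = a := fun a ha => τ.commutes ⟨a, ha⟩
  have hττ : ∀ z, τ (τ z) = z := fun z => by
    have h2 : τ ^ 2 = 1 := by
      rw [show (2 : ℕ) = Nat.card Gal(K/k⟮t⟯) by rw [IsGalois.card_aut_eq_finrank, hfin]]
      exact pow_card_eq_one'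
    have := DFunLike.congr_fun h2 z
    rwa [sq] at this
  have hmem : ∀ R : Place k K, 0 < D R → R = p ∨ R = q := fun R hR => by
    by_contra h
    push Not at h
    simp [D, Finsupp.single_apply, h.1.symm, h.2.symm] at hR
  have himg : ∀ R : Place k K, (R = p ∨ R = q) → (pullPlace ψ R = p ∨ pullPlace ψ R = q) := fun R hR => hmem _ (by
    rw [← hpolesD, poles_apply hK]
    have : (pullPlace ψ R).ord t = R.ord t := by
      simp only [Place.ord, pullPlace_apply, hψF t (IntermediateField.mem_adjoin_simple_self k t)]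
    rcases hR with rfl | rfl <;> omega)
  refine ⟨ψ, (himg p (Or.inl rfl)).resolve_left fun hfp => ?_⟩
  have hfq : pullPlace ψ q = q := (himg q (Or.inr rfl)).resolve_left fun h =>
    hpq (pullPlace_injective ψ (hfp.trans h.symm))
  obtain ⟨b, hb1, hb2⟩ := exists_val_gt_one (P := p) (Q := q) hpq
  have hb0 : b ≠ 0 := fun e => by rw [e, map_zero] at hb2; exact not_lt_zero' hb2
  have hnp : p.1 (b * ψ b) < 1 := by
    rw [map_mul, ← pullPlace_apply ψ p, hfp]
    exact (mul_le_of_le_one_right' hb1.le).trans_lt hb1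
  have hnq : 1 < q.1 (b * ψ b) := by
    rw [map_mul, ← pullPlace_apply ψ q, hfq]
    exact one_lt_mul'' hb2 hb2
  have hnF : b * ψ b ∈ k⟮t⟯ := by
    have hfix : ∀ g : Gal(K/k⟮t⟯), g (b * ψ b) = b * ψ b := by
      intro g
      have h2 : Nat.card Gal(K/k⟮t⟯) = 2 := by rw [IsGalois.card_aut_eq_finrank, hfin]
      obtain ⟨x, y, hxy, huniv⟩ := Nat.card_eq_two_iff.1 h2
      have hor : g = 1 ∨ g = τ := by
        have h1 : (1 : Gal(K/k⟮t⟯)) ∈ ({x, y} : Set _) := huniv ▸ Set.mem_univ _
        have h3 : τ ∈ ({x, y} : Set _) := huniv ▸ Set.mem_univ _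
        have h4 : g ∈ ({x, y} : Set _) := huniv ▸ Set.mem_univ _
        simp only [Set.mem_insert_iff, Set.mem_singleton_iff] at h1 h3 h4
        rcases h1 with h1 | h1 <;> rcases h3 with h3 | h3 <;> rcases h4 with h4 | h4 <;> simp_all
      rcases hor with rfl | rfl
      · rfl
      · show g (b * g b) = b * g b
        rw [map_mul, hττ, mul_comm]
    obtain ⟨w, hw⟩ := (IsGalois.mem_range_algebraMap_iff_fixed _).2 hfix
    rw [← hw]; exact w.2
  obtain ⟨r₁, r₂, hn⟩ := (IntermediateField.mem_adjoin_simple_iff k _).1 hnF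
  have hn0 : b * ψ b ≠ 0 := mul_ne_zero hb0 ((_root_.map_ne_zero ψ).mpr hb0)
  have hr1 : r₁ ≠ 0 := fun e => hn0 (by rw [hn, e, map_zero, zero_div])
  have hr2 : r₂ ≠ 0 := fun e => hn0 (by rw [hn, e, map_zero, div_zero])
  have hval : ∀ R : Place k K, R.ord t = -1 → R.1 (b * ψ b) = exp (1 : ℤ) ^ r₁.natDegree / exp (1 : ℤ) ^ r₂.natDegree := by
    intro R hR
    have hRt : R.1 t = exp (1 : ℤ) := by rw [val_eq_exp_neg_ord R ht0, hR, neg_neg]
    have h1t : 1 < R.1 t := by rw [hRt, ← exp_zero]; exact exp_lt_exp.2 one_pos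
    rw [hn, map_div₀, val_aeval_of_pole R h1t _ r₁ le_rfl hr1, val_aeval_of_pole R h1t _ r₂ le_rfl hr2, hRt]
  rw [hval p hordp] at hnp
  rw [hval q hordq] at hnq
  exact lt_asymm hnp hnq

end Groth.Agent.FF
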