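import Groth.Agent.FF.Geometric
import Groth.Agent.FF.Extension
import Groth.Agent.FF.DiffDegree

/-! Subfields of geometric function fields; local parameters at separable places. -/

universe u v

namespace Groth.Agent.FF

open FunFld IntermediateField WithZero
open scoped TensorProduct

variable {k : Type u} {K : Type v} [Field k] [Field K] [Algebra k K]

theorem isFunctionField_intermediate (hK : IsFunctionField k K) (K₀ : IntermediateField k K)
    (h₀ : ∃ x ∈ K₀, Transcendental k x) : IsFunctionField k K₀ := by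
  obtain ⟨x, hx₀, hx⟩ := h₀
  refine ⟨⟨⟨x, hx₀⟩, fun h => hx h.algebraMap, ?_⟩, fun y hy => ?_⟩
  · have := finiteDimensional_adjoin hK hx
    have hle : k⟮x⟯ ≤ K₀ := adjoin_simple_le_iff.mpr hx₀
    have h1 : k⟮(⟨x, hx₀⟩ : K₀)⟯ = IntermediateField.restrict hle := by
      refine IntermediateField.map_injective K₀.val ?_
      rw [adjoin_map, Set.image_singleton]
      exact (lift_restrict hle).symm
    rw [h1]
    let := (IntermediateField.inclusion hle).toRingHom.toAlgebra
    have : IsScalarTower k⟮x⟯ K₀ K := IsScalarTower.of_algebraMap_eq fun _ => rfl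
    have : FiniteDimensional k⟮x⟯ K₀ :=
      Module.Finite.of_injective (IsScalarTower.toAlgHom k⟮x⟯ K₀ K).toLinearMap (RingHom.injective _)
    exact Module.Finite.of_equiv_equiv (IntermediateField.restrictAlgEquiv hle).toRingEquiv (RingEquiv.refl K₀) rfl
  · obtain ⟨c, hc⟩ := hK.2 y (hy.algebraMap (A := K))
    exact ⟨c, Subtype.ext hc⟩

theorem isGeometric_intermediate (hg : IsGeometric k K) (K₀ : IntermediateField k K) : IsGeometric k K₀ := by
  intro k' _ _ hfd
  let := (hg k' hfd).toField
  let f : k' ⊗[k] K₀ →ₐ[k] k' ⊗[k] K := Algebra.TensorProduct.map (AlgHom.id k k') K₀.val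
  have hf : Function.Injective f :=
    Module.Flat.lTensor_preserves_injective_linearMap K₀.val.toLinearMap Subtype.val_injective
  have : IsDomain (k' ⊗[k] K₀) := hf.isDomain f.toRingHom
  exact Algebra.TensorProduct.isField_of_isAlgebraic k k' K₀ (.inl inferInstance)

/-- A local parameter at a separable place is a separating variable. -/
theorem D_uniformizer_ne_zero (hK : IsFunctionField k K) (hg : IsGeometric k K) (Q : Place k K)
    [Algebra.IsSeparable k (IsLocalRing.ResidueField Q.O)] (t : K) (ht : Q.1 t = exp (-1 : ℤ)) :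
    KaehlerDifferential.D k K t ≠ 0 := by
  have htr : Transcendental k t := transcendental_of_not_mem hK fun ⟨c, hc⟩ => by
    have h1 := Q.2.1 c
    rcases eq_or_ne c 0 with rfl | hc0
    · rw [map_zero] at hc; rw [← hc, map_zero] at ht; exact exp_ne_zero ht.symm
    · rw [← hc, val_algebraMap Q hc0, ← exp_zero, exp_inj] at ht; omega
  obtain _ | ⟨p, hp, hpk⟩ := CharP.exists' k
  · have := finiteDimensional_adjoin hK htr
    exact (isSeparable_iff_D_ne_zero hK hg t).mp inferInstance
  intro h0
  have : Fact p.Prime := hp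
  have : CharP K p := .of_ringHom_of_ne_zero (algebraMap k K) p hp.out.ne_zero
  have htM := (mem_powField_iff p hK hg t).mpr h0
  let M := powField k K p
  have hM := isFunctionField_intermediate hK M ⟨t, htM, htr⟩
  have hFF := isFF'_of_isFunctionField hM
  have : FiniteDimensional M K :=
    Module.finite_of_finrank_pos (by rw [finrank_powField p hK hg]; exact hp.out.pos)
  obtain ⟨P, e, he, hQP⟩ := exists_isOverWith (K := M) hFF Q
  have he1 : e = 1 := by
    have h := ow_ord_eq hQP ⟨t, htM⟩
    rw [show algebraMap M K ⟨t, htM⟩ = t from rfl, ord_eq_of_val Q ht] at h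
    exact_mod_cast Int.eq_one_of_mul_eq_one_right (by positivity) h.symm
  have hall : ∀ Q' : Place k K, Q' ∈ ({Q} : Finset (Place k K)) ↔ IsOver Q' P := fun Q' => by
    rw [Finset.mem_singleton]
    refine ⟨fun h => h ▸ ⟨e, hQP⟩, fun ⟨e', he'⟩ => eq_of_le fun y hy => ?_⟩
    have h1 : Q'.1 (y ^ p) ≤ 1 := by rw [map_pow]; exact pow_le_one' hy p
    rw [← pow_le_one_iff hp.out.ne_zero, ← map_pow]
    exact (ow_le_one_iff hQP ⟨_, pow_mem_powField p y⟩).mpr
      ((ow_le_one_iff he' ⟨_, pow_mem_powField p y⟩).mp h1)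
  have hsum := sum_ramIdx_mul_deg hFF P {Q} hall
  rw [Finset.sum_singleton, ow_ramIdx_eq hQP, he1, one_mul, finrank_powField p hK hg] at hsum
  let f : P.O →+* Q.O := ((algebraMap M K).comp P.O.subtype).codRestrict Q.O fun x =>
    (mem_O Q).mpr ((ow_le_one_iff hQP _).mpr ((mem_O P).mp x.2))
  have : IsLocalHom f := ⟨fun a ha => by
    by_contra hna
    have hz : IsLocalRing.residue Q.O (f a) = 0 := (residue_eq_zero_iff Q).mpr ((ow_lt_one_iff hQP _).mpr
      ((residue_eq_zero_iff P).mp (by rwa [IsLocalRing.residue_eq_zero_iff, IsLocalRing.mem_maximalIdeal, mem_nonunits_iff])))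
    exact (ha.map (IsLocalRing.residue Q.O)).ne_zero hz⟩
  let fbar : IsLocalRing.ResidueField P.O →ₐ[k] IsLocalRing.ResidueField Q.O :=
    { IsLocalRing.ResidueField.map f with
      commutes' := fun c => by rfl }
  have : ExpChar (IsLocalRing.ResidueField Q.O) p := by
    have : ExpChar k p := .prime hp.out
    exact expChar_of_injective_algebraMap (algebraMap k _).injective p
  have : ExpChar k p := .prime hp.out
  have hsur : fbar.fieldRange = ⊤ := by
    have hall := adjoin_eq_adjoin_pow_expChar_of_isSeparable' (F := k) (E := IsLocalRing.ResidueField Q.O) Set.univ p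
    rw [adjoin_univ] at hall
    rw [eq_top_iff, hall, adjoin_le_iff]
    rintro _ ⟨z, -, rfl⟩
    obtain ⟨y, rfl⟩ := IsLocalRing.residue_surjective z
    refine ⟨IsLocalRing.residue P.O ⟨⟨(y : K) ^ p, pow_mem_powField p _⟩, (mem_O P).mpr ((ow_le_one_iff hQP _).mp ?_)⟩, ?_⟩
    · change Q.1 ((y : K) ^ p) ≤ 1
      rw [map_pow]; exact pow_le_one' ((mem_O Q).mp y.2) p
    · change IsLocalRing.residue Q.O _ = IsLocalRing.residue Q.O y ^ p
      exact (congrArg (IsLocalRing.residue Q.O) (Subtype.ext rfl : _ = y ^ p)).trans (map_pow _ _ _)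
  have hdeg : Q.deg = P.deg := by
    let e := AlgEquiv.ofBijective fbar ⟨fbar.toRingHom.injective, fun z => (hsur ▸ IntermediateField.mem_top : z ∈ fbar.fieldRange)⟩
    exact e.toLinearEquiv.finrank_eq.symm
  rw [hdeg] at hsum
  have := deg_pos hM P
  have h2 := hp.out.two_le
  nlinarith

end Groth.Agent.FF
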