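import Groth.Agent.FF.CanonicalSeparating
import Groth.Agent.FF.Galois
import Groth.Agent.FF.GeometricSub
import Mathlib.FieldTheory.Galois.Basic

/-!
# Separable double covers of genus zero function fields

The trace to a genus zero field kills regular differentials, so the involution acts on them by `-1`,
the canonical ratios are invariant, and there is only one such subfield in genus at least two.
-/

set_option autoImplicit false

open FunFld WithZero Module IntermediateField
open scoped Classical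

universe u v

namespace Groth.Agent.FF

variable {k : Type u} {K₁ K' : Type v} [Field k] [Field K₁] [Field K'] [Algebra k K₁] [Algebra K₁ K']
  [Algebra k K'] [IsScalarTower k K₁ K'] [FiniteDimensional K₁ K'] [Algebra.IsSeparable K₁ K']

/-- Ratios of regular differentials come from a genus zero subfield of index two. -/
theorem mul_inv_mem_range_of_genus_zero (hK₁ : IsFunctionField k K₁) (hK' : IsFunctionField k K')
    (hg₁ : genus k K₁ = 0) (h2 : finrank K₁ K' = 2) {C : Divisor k K'} (hC : IsCanonical k K' C)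
    {x y : K'} (hx : x ∈ L C) (hy : y ∈ L C) (hy0 : y ≠ 0) : x * y⁻¹ ∈ Set.range (algebraMap K₁ K') := by
  haveI : Algebra.IsQuadraticExtension K₁ K' := { finrank_eq_two' := h2 }
  haveI : IsGalois K₁ K' := inferInstance
  have hF₁ := isFF'_of_isFunctionField hK₁
  -- the involution
  have hcard : Nat.card (K' ≃ₐ[K₁] K') = 2 := by rw [IsGalois.card_aut_eq_finrank, h2]
  haveI : Finite (K' ≃ₐ[K₁] K') := Nat.finite_of_card_ne_zero (by omega)
  obtain ⟨σ, hσ1⟩ : ∃ σ : K' ≃ₐ[K₁] K', σ ≠ 1 := by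
    by_contra h
    push Not at h
    haveI : Subsingleton (K' ≃ₐ[K₁] K') := ⟨fun a b => (h a).trans (h b).symm⟩
    rw [Nat.card_of_subsingleton (1 : K' ≃ₐ[K₁] K')] at hcard
    omega
  have hall : ∀ τ : K' ≃ₐ[K₁] K', τ = 1 ∨ τ = σ := fun τ => by
    by_contra h
    push Not at h
    haveI := Fintype.ofFinite (K' ≃ₐ[K₁] K')
    have h3 : ({1, σ, τ} : Finset (K' ≃ₐ[K₁] K')).card = 3 := by
      rw [Finset.card_insert_of_notMem (by simp [Ne.symm hσ1, Ne.symm h.1]), Finset.card_pair (Ne.symm h.2)]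
    have h4 := Finset.card_le_univ ({1, σ, τ} : Finset (K' ≃ₐ[K₁] K'))
    rw [← Nat.card_eq_fintype_card, hcard, h3] at h4
    omega
  have hsq : ∀ z, σ (σ z) = z := fun z => by
    rcases hall (σ * σ) with h | h
    · exact AlgEquiv.congr_fun h z
    · exact absurd (mul_left_cancel (a := σ) (h.trans (mul_one σ).symm)) hσ1
  have hfix : ∀ z, σ z = z → z ∈ Set.range (algebraMap K₁ K') := fun z hz =>
    (IsGalois.mem_range_algebraMap_iff_fixed z).mpr fun τ => by
      rcases hall τ with rfl | rfl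
      · rfl
      · exact hz
  have hsymm : ∀ z, σ.symm z = σ z := fun z => by rw [AlgEquiv.symm_apply_eq, hsq]
  -- below
  choose below e he hbe using fun Q : Place k K' => exists_isOverWith (K' := K') hF₁ Q
  have hbσ : ∀ Q, below (σ • Q) = below Q := fun Q =>
    isOver_unique ⟨_, hbe (σ • Q)⟩ ⟨_, isOverWith_smul (σ := σ) (hbe Q)⟩
  have hval : ∀ (Q : Place k K') z, Q.1 (σ z) = (σ • Q).1 z := fun Q z => by rw [smul_apply, hsymm]
  have hss : ∀ Q : Place k K', σ • σ • Q = Q := fun Q =>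
    Subtype.ext (Valuation.ext fun z => by rw [smul_apply, smul_apply, hsymm, hsymm, hsq])
  let σA : (Place k K' → K') → (Place k K' → K') := fun a Q => σ (a (σ • Q))
  have hσA : ∀ a ∈ adele k K', σA a ∈ adele k K' := fun a ha => by
    refine Filter.mem_cofinite.mpr (((Filter.mem_cofinite.mp ha).image fun Q => σ • Q).subset fun Q hQ => ?_)
    refine ⟨σ • Q, fun h => hQ ?_, hss Q⟩
    show Q.1 (σ (a (σ • Q))) ≤ 1
    rw [hval]; exact h
  -- the pullback of repartitions
  let ι : (Place k K₁ → K₁) →ₗ[k] (Place k K' → K') :=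
    { toFun := fun b Q => algebraMap K₁ K' (b (below Q))
      map_add' := fun b b' => funext fun Q => map_add _ _ _
      map_smul' := fun c b => funext fun Q => by
        simp only [Pi.smul_apply, RingHom.id_apply, Algebra.smul_def, map_mul,
          ← IsScalarTower.algebraMap_apply k K₁ K'] }
  have hιA : ∀ b ∈ adele k K₁, ι b ∈ adele k K' := fun b hb => by
    refine Filter.mem_cofinite.mpr (((Filter.mem_cofinite.mp hb).biUnion fun P _ => finite_over (K' := K') hF₁ P).subset
      fun Q hQ => Set.mem_biUnion (x := below Q) (fun h => hQ ((ow_le_one_iff (hbe Q) _).mpr h)) ⟨_, hbe Q⟩)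
  obtain ⟨ω, hω0, hω⟩ := hC
  let ωy : Module.Dual k (adele k K') := mulW y (smul_mem_adele hK' y) ω
  have hω0y : ωy ∈ WD (0 : Divisor k K') := by
    have := mulW_mem_WD' hy (smul_mem_adele hK' y) ((hω C).mpr le_rfl)
    rwa [sub_self] at this
  have hωy : ωy ≠ 0 := fun h => hω0 (mulW_eq_zero hK' hy0 h)
  -- the trace kills regular differentials
  have hkill : ∀ ν ∈ WD (0 : Divisor k K'), ∀ (b : Place k K₁ → K₁) (hb : b ∈ adele k K₁),
      ν ⟨ι b, hιA b hb⟩ = 0 := fun ν hν b hb => by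
    let ψ : Module.Dual k (adele k K₁) := ν ∘ₗ ι.restrict hιA
    have hψ : ψ ∈ WD (0 : Divisor k K₁) := by
      rw [mem_WD] at hν ⊢
      intro a ha
      refine hν _ ?_
      obtain ⟨u, hu, v, ⟨z, rfl⟩, huv⟩ := Submodule.mem_sup.mp ha
      change ι (a : Place k K₁ → K₁) ∈ _
      rw [← huv, map_add]
      refine Submodule.add_mem_sup (fun Q => ?_) ⟨algebraMap K₁ K' z, rfl⟩
      show Q.1 (algebraMap K₁ K' (u (below Q))) ≤ exp ((0 : Divisor k K') Q)
      rw [Finsupp.coe_zero, Pi.zero_apply, exp_zero, ow_le_one_iff (hbe Q)]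
      exact (hu (below Q)).trans (by rw [Finsupp.coe_zero, Pi.zero_apply, exp_zero])
    obtain ⟨hfin, hrk⟩ := finrank_WD' hK₁ (0 : Divisor k K₁)
    rw [hg₁, defect, (finrank_L_zero hK₁).2, deg_zero] at hrk
    haveI := hfin
    have h0 : Module.finrank k (WD (0 : Divisor k K₁)) = 0 := by push_cast at hrk; omega
    have hz : ψ = 0 := by
      rwa [Submodule.finrank_eq_zero.mp h0, Submodule.mem_bot] at hψ
    exact LinearMap.congr_fun hz ⟨b, hb⟩
  -- the involution acts by -1
  have hneg : ∀ ν ∈ WD (0 : Divisor k K'), ∀ (a : Place k K' → K') (ha : a ∈ adele k K'),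
      ν ⟨σA a, hσA a ha⟩ = -ν ⟨a, ha⟩ := fun ν hν a ha => by
    have hbad : {P : Place k K₁ | ∃ Q, below Q = P ∧ ¬ Q.1 (a Q) ≤ 1}.Finite :=
      ((Filter.mem_cofinite.mp ha).image below).subset fun P ⟨Q, h1, h2⟩ => ⟨Q, h2, h1⟩
    choose yP hyP using fun P : Place k K₁ =>
      exists_approx (finite_over (K' := K') hF₁ P).toFinset a fun _ => (0 : ℤ)
    let b : Place k K₁ → K' := fun P => if ∃ Q, below Q = P ∧ ¬ Q.1 (a Q) ≤ 1 then yP P else 0
    let a' : Place k K' → K' := fun Q => b (below Q)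
    have hdiff : ∀ Q, Q.1 (a Q - a' Q) ≤ exp ((0 : Divisor k K') Q) := fun Q => by
      rw [Finsupp.coe_zero, Pi.zero_apply, exp_zero]
      simp only [a', b]
      split_ifs with h
      · rw [Valuation.map_sub_swap]
        exact (hyP (below Q) Q ((finite_over hF₁ (below Q)).mem_toFinset.mpr ⟨_, hbe Q⟩)).trans_eq exp_zero
      · push Not at h
        rw [sub_zero]; exact h Q rfl
    have ha' : a' ∈ adele k K' := by
      have h1 : a - a' ∈ adele k K' := AD_le_adele 0 hdiff
      simpa using sub_mem ha h1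
    have hkey : ν ⟨a, ha⟩ = ν ⟨a', ha'⟩ := by
      rw [← sub_eq_zero, ← map_sub]
      exact (mem_WD.mp hν) _ (Submodule.mem_sup_left (show a - a' ∈ AD (0 : Divisor k K') from hdiff))
    have hkeyσ : ν ⟨σA a, hσA a ha⟩ = ν ⟨σA a', hσA a' ha'⟩ := by
      rw [← sub_eq_zero, ← map_sub]
      refine (mem_WD.mp hν) _ (Submodule.mem_sup_left ?_)
      intro Q
      show Q.1 (σ (a (σ • Q)) - σ (a' (σ • Q))) ≤ _
      rw [← map_sub, hval, Finsupp.coe_zero, Pi.zero_apply]
      have := hdiff (σ • Q)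
      rwa [Finsupp.coe_zero, Pi.zero_apply] at this
    choose c hc using fun P => hfix (b P + σ (b P)) (by rw [map_add, hsq, add_comm])
    have hsum : a' + σA a' = ι c := funext fun Q => by
      show b (below Q) + σ (b (below (σ • Q))) = algebraMap K₁ K' (c (below Q))
      rw [hbσ, hc]
    have hcA : c ∈ adele k K₁ := by
      have hs : a' + σA a' ∈ adele k K' := add_mem ha' (hσA a' ha')
      refine Filter.mem_cofinite.mpr (((Filter.mem_cofinite.mp hs).image below).subset fun P hP => ?_)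
      obtain ⟨Q, hQ⟩ := exists_over (K' := K') hF₁ P
      have hbQ : below Q = P := isOver_unique ⟨_, hbe Q⟩ hQ
      refine ⟨Q, fun h => hP ?_, hbQ⟩
      show P.1 (c P) ≤ 1
      rw [← hbQ, ← ow_le_one_iff (hbe Q)]
      rw [hsum] at h
      exact h
    rw [hkey, hkeyσ, eq_neg_iff_add_eq_zero, ← map_add]
    have := hkill ν hν c hcA
    rw [← this]
    exact congrArg ν (Subtype.ext ((add_comm _ _).trans hsum))
  -- conclusion
  set r := x * y⁻¹ with hr
  have hrA : ∀ z : K', ∀ a ∈ adele k K', z • a ∈ adele k K' := fun z => smul_mem_adele hK' z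
  have hω0x : mulW r (hrA r) ωy ∈ WD (0 : Divisor k K') := by
    rw [mulW_mulW _ _ (hrA _)]
    have := mulW_mem_WD' hx (hrA x) ((hω C).mpr le_rfl)
    rw [sub_self] at this
    simpa only [hr, inv_mul_cancel_right₀ hy0] using this
  refine hfix r ?_
  by_contra hne
  refine hωy (mulW_eq_zero hK' (x := r - σ r) (sub_ne_zero.mpr (Ne.symm hne)) (LinearMap.ext fun a => ?_))
  rw [mulW_apply, LinearMap.zero_apply]
  have h1 := hneg _ hω0x (σA a) (hσA a a.2)
  have h2 := hneg ωy hω0y (σ r • (a : Place k K' → K')) (hrA _ a a.2)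
  rw [mulW_apply, mulW_apply] at h1
  have e1 : σA (σA a) = (a : Place k K' → K') := funext fun Q => by
    show σ (σ ((a : Place k K' → K') (σ • σ • Q))) = _
    rw [hsq, hss]
  have e2 : σA (σ r • (a : Place k K' → K')) = r • σA a := funext fun Q => by
    show σ (σ r * (a : Place k K' → K') (σ • Q)) = r * σ ((a : Place k K' → K') (σ • Q))
    rw [map_mul, hsq]
  simp only [e1] at h1
  simp only [e2] at h2
  have e3 : (⟨(r - σ r) • (a : Place k K' → K'), hrA _ a a.2⟩ : adele k K') =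
      ⟨r • (a : Place k K' → K'), hrA _ a a.2⟩ - ⟨σ r • (a : Place k K' → K'), hrA _ a a.2⟩ :=
    Subtype.ext (sub_smul _ _ _)
  refine (congrArg ωy e3).trans ?_
  rw [map_sub, sub_eq_zero]
  calc ωy ⟨r • (a : Place k K' → K'), _⟩ = -ωy ⟨r • σA a, hrA _ _ (hσA a a.2)⟩ := h1
    _ = _ := by rw [h2, neg_neg]

/-- An effective canonical series made of ratios of regular differentials. -/
theorem exists_canonical_ratio_series (hK' : IsFunctionField k K') (hg : 0 < genus k K') :
    ∃ (C E : Divisor k K') (y : K'), IsCanonical k K' C ∧ y ∈ L C ∧ y ≠ 0 ∧ 0 ≤ E ∧ ell E = genus k K' ∧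
      E.deg = 2 * genus k K' - 2 ∧ ∀ z ∈ L E, y * z ∈ L C := by
  obtain ⟨C, hC⟩ := exists_isCanonical hK'
  obtain ⟨h1, h2⟩ := ell_canonical hK' hC
  obtain ⟨y, hy0, hy⟩ := exists_of_ell_pos (D := C) (by omega)
  refine ⟨C, C + div k y, y, hC, hy, hy0, (mem_L_iff hK' hy0).mp hy, (ell_add_div hK' C hy0).trans h1, ?_,
    fun z hz => (mul_mem_L_iff hK' hy0).mpr hz⟩
  rw [deg_add, deg_div_eq_zero hK', add_zero, h2]

variable {K₂ : Type v} [Field K₂] [Algebra k K₂] [Algebra K₂ K'] [IsScalarTower k K₂ K']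
  [FiniteDimensional K₂ K'] [Algebra.IsSeparable K₂ K']

/-- In genus at least two there is only one separable genus zero subfield of index two. -/
theorem range_eq_of_genus_zero (hK₁ : IsFunctionField k K₁) (hK₂ : IsFunctionField k K₂)
    (hK' : IsFunctionField k K') (hg : 2 ≤ genus k K') (hg₁ : genus k K₁ = 0) (hg₂ : genus k K₂ = 0)
    (h₁ : finrank K₁ K' = 2) (h₂ : finrank K₂ K' = 2) :
    Set.range (algebraMap K₁ K') = Set.range (algebraMap K₂ K') := by
  obtain ⟨C, E, y, hC, hy, hy0, hE, hl, hd, hmem⟩ := exists_canonical_ratio_series hK' (by omega)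
  let F₁ := (IsScalarTower.toAlgHom k K₁ K').fieldRange
  let F₂ := (IsScalarTower.toAlgHom k K₂ K').fieldRange
  have hin : ∀ z ∈ L E, z ∈ F₁ ⊓ F₂ := fun z hz => by
    have e : y * z * y⁻¹ = z := by field_simp
    exact ⟨e ▸ mul_inv_mem_range_of_genus_zero hK₁ hK' hg₁ h₁ hC (hmem z hz) hy hy0,
      e ▸ mul_inv_mem_range_of_genus_zero hK₂ hK' hg₂ h₂ hC (hmem z hz) hy hy0⟩
  obtain ⟨z₀, hz₀, hzc⟩ := exists_mem_not_range hK' (E := E) (by omega)
  have hz₀t := transcendental_of_not_mem hK' hzc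
  have hM := isFunctionField_intermediate hK' (F₁ ⊓ F₂) ⟨z₀, hin z₀ hz₀, hz₀t⟩
  haveI := finiteDimensional_adjoin hK' hz₀t
  have hle₀ : k⟮z₀⟯ ≤ F₁ ⊓ F₂ := adjoin_simple_le_iff.mpr (hin z₀ hz₀)
  have hfin : ∀ F : IntermediateField k K', k⟮z₀⟯ ≤ F → FiniteDimensional F K' := fun F hF => by
    letI := (IntermediateField.inclusion hF).toRingHom.toAlgebra
    haveI : IsScalarTower k⟮z₀⟯ F K' := IsScalarTower.of_algebraMap_eq fun _ => rfl
    exact FiniteDimensional.right k⟮z₀⟯ F K'
  haveI := hfin _ hle₀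
  have hrk : ∀ (L₀ : Type v) [Field L₀] [Algebra k L₀] [Algebra L₀ K'] [IsScalarTower k L₀ K'],
      finrank (IsScalarTower.toAlgHom k L₀ K').fieldRange K' = finrank L₀ K' := fun L₀ _ _ _ _ => by
    let e : L₀ ≃+* (IsScalarTower.toAlgHom k L₀ K').fieldRange :=
      RingEquiv.ofBijective (IsScalarTower.toAlgHom k L₀ K').rangeRestrict.toRingHom
        ⟨fun a b h => (algebraMap L₀ K').injective (congrArg Subtype.val h), fun ⟨_, a, ha⟩ => ⟨a, Subtype.ext ha⟩⟩
    exact (Algebra.finrank_eq_of_equiv_equiv e (RingEquiv.refl K') (RingHom.ext fun a => rfl)).symm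
  have h₁' : finrank F₁ K' = 2 := (hrk K₁).trans h₁
  have h₂' : finrank F₂ K' = 2 := (hrk K₂).trans h₂
  rcases lt_or_ge (finrank (F₁ ⊓ F₂ : IntermediateField k K') K') 3 with hlt | hge
  · have e1 : F₁ ⊓ F₂ = F₁ := IntermediateField.eq_of_le_of_finrank_le' inf_le_left (by rw [h₁']; omega)
    have e2 : F₁ ⊓ F₂ = F₂ := IntermediateField.eq_of_le_of_finrank_le' inf_le_right (by rw [h₂']; omega)
    exact congrArg (fun F : IntermediateField k K' => (F : Set K')) (e1.symm.trans e2)
  · obtain ⟨z, hz, hzn⟩ := exists_not_mem_range_of_three_le hK' hM hg hge hE hl hd.le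
    exact absurd ⟨⟨z, hin z hz⟩, rfl⟩ hzn

end Groth.Agent.FF
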