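import Groth.Agent.FF.GeometricSub

/-! Constant extensions of geometric function fields. -/

universe u v

namespace Groth.Agent.FF

open FunFld IntermediateField
open scoped TensorProduct

variable {k k' : Type u} {K K' : Type v} [Field k] [Field k'] [Field K] [Field K']
  [Algebra k k'] [Algebra k K] [Algebra K K'] [Algebra k' K'] [Algebra k K']
  [IsScalarTower k k' K'] [IsScalarTower k K K']

/-- Separability over `k(t)` propagates to `k'(t)` in `K'` when `K'/K` is separable over `k' K`. -/
theorem isSeparable_adjoin_of_adjoin_top {t : K} [Algebra.IsSeparable k⟮t⟯ K]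
    (htop : IntermediateField.adjoin k' (Set.range (algebraMap K K')) = ⊤) :
    Algebra.IsSeparable k'⟮algebraMap K K' t⟯ K' := by
  set t' := algebraMap K K' t with ht'
  have hmem : ∀ z : k⟮t⟯, algebraMap K K' z ∈ k'⟮t'⟯ := by
    rintro ⟨z, hz⟩
    show algebraMap K K' z ∈ _
    induction hz using IntermediateField.adjoin_induction with
    | mem z hz => exact IntermediateField.subset_adjoin _ _ (by rw [Set.mem_singleton_iff.mp hz]; rfl)
    | algebraMap r =>
      rw [← IsScalarTower.algebraMap_apply, IsScalarTower.algebraMap_apply k k' K']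
      exact IntermediateField.algebraMap_mem _ _
    | add a b _ _ ha hb => rw [map_add]; exact add_mem ha hb
    | inv a _ ha => rw [map_inv₀]; exact inv_mem ha
    | mul a b _ _ ha hb => rw [map_mul]; exact mul_mem ha hb
  let f : k⟮t⟯ →+* k'⟮t'⟯ := ((algebraMap K K').comp (algebraMap k⟮t⟯ K)).codRestrict _ hmem
  let := f.toAlgebra
  have : IsScalarTower k⟮t⟯ k'⟮t'⟯ K' := IsScalarTower.of_algebraMap_eq fun _ => rfl
  rw [← separableClosure.eq_top_iff, ← (restrictScalars_injective k').eq_iff, restrictScalars_top, eq_top_iff,
    ← htop, IntermediateField.adjoin_le_iff]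
  rintro _ ⟨y, rfl⟩
  have h1 : IsSeparable k⟮t⟯ y := Algebra.IsSeparable.isSeparable _ y
  have h2 : IsSeparable k⟮t⟯ (algebraMap K K' y) := by
    rwa [IsSeparable, minpoly.algebraMap_eq (algebraMap K K').injective]
  exact mem_separableClosure_iff.mpr (IsSeparable.tower_top k'⟮t'⟯ h2)

variable (h : Function.Bijective (Algebra.TensorProduct.productMap
      (IsScalarTower.toAlgHom k k' K') (IsScalarTower.toAlgHom k K K')))

omit [Algebra k' K'] [IsScalarTower k k' K'] in
theorem finiteDimensional_and_finrank [FiniteDimensional k k'] [Algebra k' K'] [IsScalarTower k k' K']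
    (h : Function.Bijective (Algebra.TensorProduct.productMap
      (IsScalarTower.toAlgHom k k' K') (IsScalarTower.toAlgHom k K K'))) :
    FiniteDimensional K K' ∧ Module.finrank K K' = Module.finrank k k' ∧
      IntermediateField.adjoin k' (Set.range (algebraMap K K')) = ⊤ := by
  let ψ : K ⊗[k] k' →ₐ[K] K' := Algebra.TensorProduct.lift (Algebra.ofId K K') (IsScalarTower.toAlgHom k k' K')
    fun _ _ => Commute.all _ _
  have hψ : ⇑ψ = Algebra.TensorProduct.productMap (IsScalarTower.toAlgHom k k' K') (IsScalarTower.toAlgHom k K K') ∘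
      Algebra.TensorProduct.comm k K k' := by
    funext x
    induction x with
    | zero => simp
    | tmul a c => simp [ψ, Algebra.ofId_apply, mul_comm]
    | add x y hx hy => rw [map_add, hx, hy, Function.comp_apply, Function.comp_apply, Function.comp_apply, map_add, map_add]
  have hbij : Function.Bijective ψ := by
    rw [hψ]; exact h.comp (Algebra.TensorProduct.comm k K k').bijective
  let e := (AlgEquiv.ofBijective ψ hbij).toLinearEquiv
  refine ⟨Module.Finite.equiv e, by rw [← e.finrank_eq, Module.finrank_baseChange], ?_⟩
  suffices ∀ x, ψ x ∈ IntermediateField.adjoin k' (Set.range (algebraMap K K')) from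
    eq_top_iff.mpr fun z _ => by obtain ⟨x, rfl⟩ := hbij.2 z; exact this x
  intro x
  induction x with
  | zero => simp
  | tmul a c =>
    have : ψ (a ⊗ₜ c) = algebraMap K K' a * algebraMap k' K' c := by simp [ψ, Algebra.ofId_apply]
    rw [this]
    exact mul_mem (IntermediateField.subset_adjoin _ _ ⟨a, rfl⟩) (IntermediateField.algebraMap_mem _ _)
  | add x y hx hy => rw [map_add]; exact add_mem hx hy

include h

/-- The scalar extension of a geometric function field is a geometric function field over the new constants. -/
theorem isFunctionField_and_isGeometric_scalar [FiniteDimensional k k']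
    (hK : IsFunctionField k K) (hg : IsGeometric k K) :
    IsFunctionField k' K' ∧ IsGeometric k' K' := by
  obtain ⟨hfd, hrank, htop⟩ := finiteDimensional_and_finrank h
  obtain ⟨t, ht, htfd, _⟩ := exists_separating_of_isGeometric hK hg
  set t' := algebraMap K K' t with ht'
  have htk : Transcendental k t' := fun h => ht ((isAlgebraic_algebraMap_iff (algebraMap K K').injective).mp h)
  have htk' : Transcendental k' t' := fun h => htk (h.restrictScalars k)
  have hclosed : ∀ y : K', IsAlgebraic k' y → y ∈ Set.range (algebraMap k' K') := by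
    intro y hy
    let g := minpoly k' y
    have := Fact.mk (minpoly.irreducible hy.isIntegral)
    have : Module.Finite k' (AdjoinRoot g) := (AdjoinRoot.powerBasis (minpoly.ne_zero hy.isIntegral)).finite
    have : Module.Finite k (AdjoinRoot g) := Module.Finite.trans k' _
    let j : AdjoinRoot g →ₐ[k] K' := (AdjoinRoot.liftAlgHom g (Algebra.ofId k' K') y (minpoly.aeval k' y)).restrictScalars k
    have hF := (Algebra.TensorProduct.comm k (AdjoinRoot g) K).symm.toMulEquiv.isField (hg (AdjoinRoot g) inferInstance)
    let ψ : K ⊗[k] AdjoinRoot g →ₐ[K] K' := Algebra.TensorProduct.lift (Algebra.ofId K K') j fun _ _ => Commute.all _ _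
    have hinj : Function.Injective ψ := by
      let := hF.toField
      exact ψ.toRingHom.injective
    have hle := LinearMap.finrank_le_finrank_of_injective (f := ψ.toLinearMap) hinj
    rw [Module.finrank_baseChange, hrank, ← Module.finrank_mul_finrank k k' (AdjoinRoot g),
      (AdjoinRoot.powerBasis (minpoly.ne_zero hy.isIntegral)).finrank, AdjoinRoot.powerBasis_dim] at hle
    have hpos : 0 < Module.finrank k k' := Module.finrank_pos
    have h1 : g.natDegree = 1 := by
      have h2 := minpoly.natDegree_pos hy.isIntegral
      have : g.natDegree ≤ 1 := Nat.le_of_mul_le_mul_left (by simpa using hle) hpos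
      change 0 < g.natDegree at h2
      omega
    exact minpoly.natDegree_eq_one_iff.mp h1
  have := isSeparable_adjoin_of_adjoin_top (k := k) (k' := k') (t := t) htop
  have hFF : IsFF' k K' := isFF'_ext (isFF'_of_isFunctionField hK)
  have hfd' : FiniteDimensional k'⟮t'⟯ K' := by
    have : Algebra.EssFiniteType k K' := by
      obtain ⟨x, hx, hxfd⟩ := hFF
      have h1 : Algebra.EssFiniteType k k⟮x⟯ :=
        IntermediateField.essFiniteType_iff.mpr (IntermediateField.fg_adjoin_of_finite (Set.finite_singleton x))
      exact Algebra.EssFiniteType.comp k k⟮x⟯ K'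
    have : Algebra.EssFiniteType k' K' := Algebra.EssFiniteType.of_comp k k' K'
    have : Algebra.EssFiniteType k'⟮t'⟯ K' := Algebra.EssFiniteType.of_comp k' k'⟮t'⟯ K'
    exact Algebra.finite_of_essFiniteType_of_isAlgebraic
  have hFK : IsFunctionField k' K' := ⟨⟨t', htk', hfd'⟩, hclosed⟩
  exact ⟨hFK, isGeometric_of_separating hFK htk'⟩

end Groth.Agent.FF
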