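import Groth.Prelude.Def_LocRes
import Groth.Agent.FF.WeilRH
import Mathlib

/-! Total Hasse derivatives: uniqueness, existence, separability of the variable. -/

namespace Groth.Agent.FF

open FunFld IntermediateField LocRes
open scoped Classical

/-- Two homomorphisms into a ring with a local homomorphism to a field, congruent modulo it and agreeing at `t`,
agree when `K` is separable over `k(t)`. -/
theorem hom_ext_of_separable {k K A B : Type*} [Field k] [Field K] [Algebra k K] [CommRing A] [Algebra k A]
    [Field B] (π : A →+* B) [IsLocalHom π] {t : K} [Algebra.IsSeparable k⟮t⟯ K]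
    (f g : K →ₐ[k] A) (hπ : ∀ z, π (f z) = π (g z)) (ht : f t = g t) : f = g := by
  have hF : ∀ x ∈ k⟮t⟯, f x = g x := fun x hx => by
    induction hx using IntermediateField.adjoin_induction with
    | mem x hx => rw [Set.mem_singleton_iff.mp hx, ht]
    | algebraMap r => rw [f.commutes, g.commutes]
    | add x y _ _ hx hy => rw [map_add, map_add, hx, hy]
    | mul x y _ _ hx hy => rw [map_mul, map_mul, hx, hy]
    | inv x _ hx =>
      rcases eq_or_ne x 0 with rfl | hx0
      · simp
      · exact (hx0.isUnit.map f).mul_right_cancel (b := f x)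
          (by rw [← map_mul, hx, ← map_mul, inv_mul_cancel₀ hx0, map_one, map_one])
  ext z
  let f₀ : k⟮t⟯ →+* A := (f : K →+* A).comp (algebraMap k⟮t⟯ K)
  have hfg : f₀ = (g : K →+* A).comp (algebraMap k⟮t⟯ K) := RingHom.ext fun x => hF x x.2
  let p := (minpoly k⟮t⟯ z).map f₀
  have hev : ∀ h : K →ₐ[k] A, (h : K →+* A).comp (algebraMap k⟮t⟯ K) = f₀ → ∀ q : Polynomial k⟮t⟯,
      (q.map f₀).eval (h z) = h (Polynomial.aeval z q) := fun h hh q => by
    rw [← hh, ← Polynomial.map_map, Polynomial.eval_map, ← RingHom.coe_coe, Polynomial.eval₂_hom,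
      Polynomial.eval_map, ← Polynomial.aeval_def]
  have hpf : p.eval (f z) = 0 := by rw [hev f rfl, minpoly.aeval, map_zero]
  have hpg : p.eval (g z) = 0 := by rw [hev g hfg.symm, minpoly.aeval, map_zero]
  have hu : IsUnit (p.derivative.eval (f z)) := by
    rw [Polynomial.derivative_map, hev f rfl]
    exact ((Algebra.IsSeparable.isSeparable k⟮t⟯ z).aeval_derivative_ne_zero (minpoly.aeval _ _)).isUnit.map f
  obtain ⟨c, hc⟩ := p.binomExpansion (f z) (g z - f z)
  rw [show f z + (g z - f z) = g z by ring, hpf, hpg, zero_add] at hc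
  have hu' : IsUnit (p.derivative.eval (f z) + c * (g z - f z)) := by
    apply isUnit_of_map_unit π
    rw [map_add, map_mul, map_sub, hπ z, sub_self, mul_zero, add_zero]
    exact hu.map π
  have h0 : (g z - f z) * (p.derivative.eval (f z) + c * (g z - f z)) = 0 := by linear_combination -hc
  exact (sub_eq_zero.mp (hu'.mul_left_eq_zero.mp h0)).symm

variable {k K : Type*} [Field k] [Field K] [Algebra k K]

theorem transcendental_of_hasse {t : K} {H : K →ₐ[k] PowerSeries K} (hH : IsHasseFamily t H)
    (hK : IsFunctionField k K) : Transcendental k t := by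
  refine transcendental_of_not_mem hK ?_
  rintro ⟨c, rfl⟩
  have h := congrArg (PowerSeries.coeff 1) hH.1
  rw [H.commutes] at h
  simp [PowerSeries.algebraMap_apply] at h

theorem hasseD_zero {t : K} {H : K →ₐ[k] PowerSeries K} (hH : IsHasseFamily t H) (y : K) :
    hasseD H 0 y = y := by
  rw [hasseD_apply, PowerSeries.coeff_zero_eq_constantCoeff_apply, hH.2]

theorem hasseD_one_self {t : K} {H : K →ₐ[k] PowerSeries K} (hH : IsHasseFamily t H) :
    hasseD H 1 t = 1 := by
  rw [hasseD_apply, hH.1]; simp

theorem hasseD_one_mul {t : K} {H : K →ₐ[k] PowerSeries K} (hH : IsHasseFamily t H) (a b : K) :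
    hasseD H 1 (a * b) = a * hasseD H 1 b + b * hasseD H 1 a := by
  rw [hasseD_apply, map_mul, PowerSeries.coeff_mul, Finset.Nat.antidiagonal_succ]
  simp only [hasseD_apply, Finset.sum_cons, Finset.Nat.antidiagonal_zero, Finset.map_singleton, Finset.sum_singleton]
  simp [PowerSeries.coeff_zero_eq_constantCoeff, hH.2]
  ring

/-- The first Hasse derivative as a derivation. -/
noncomputable def hasseDer {t : K} {H : K →ₐ[k] PowerSeries K} (hH : IsHasseFamily t H) : Derivation k K K where
  toFun y := hasseD H 1 y
  map_add' a b := by simp [hasseD_apply]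
  map_smul' c a := by simp [hasseD_apply]
  map_one_eq_zero' := by simp [hasseD_apply]
  leibniz' a b := hasseD_one_mul hH a b

/-- A derivation is determined by its value at a separating element. -/
theorem derivation_ext_separable {M : Type*} [AddCommGroup M] [Module K M] [Module k M] [IsScalarTower k K M]
    {x : K} [Algebra.IsSeparable k⟮x⟯ K] (d₁ d₂ : Derivation k K M) (h : d₁ x = d₂ x) : d₁ = d₂ := by
  let := Module.compHom M ((RingHom.id K).fromOpposite fun _ _ => Commute.all _ _)
  have : IsCentralScalar K M := ⟨fun _ _ => rfl⟩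
  have : IsScalarTower k Kᵐᵒᵖ M := ⟨fun c a m => by
    change (c • a).unop • m = c • a.unop • m
    rw [MulOpposite.unop_smul, smul_assoc]⟩
  let φ : Derivation k K M → (K →ₐ[k] TrivSqZeroExt K M) := fun d =>
    { toFun := fun a => TrivSqZeroExt.inl a + TrivSqZeroExt.inr (d a)
      map_one' := by simp
      map_mul' := fun a b => by
        refine TrivSqZeroExt.ext ?_ ?_
        · simp
        · simp [op_smul_eq_smul, add_comm]
      map_zero' := by simp
      map_add' := fun a b => by
        refine TrivSqZeroExt.ext ?_ ?_ <;> simp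
      commutes' := fun c => by
        refine TrivSqZeroExt.ext ?_ ?_ <;> simp [TrivSqZeroExt.algebraMap_eq_inl'] }
  have : IsLocalHom (TrivSqZeroExt.fstHom k K M).toRingHom :=
    ⟨fun a ha => TrivSqZeroExt.isUnit_iff_isUnit_fst.mpr ha⟩
  have := hom_ext_of_separable (TrivSqZeroExt.fstHom k K M).toRingHom (t := x) (φ d₁) (φ d₂)
    (fun z => by simp [φ]) (by simp [φ, h])
  refine Derivation.ext fun z => ?_
  simpa [φ] using congrArg TrivSqZeroExt.snd (AlgHom.congr_fun this z)

/-- The substitution `k(t) → K[[T]]`, `t ↦ t + T`. -/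
theorem exists_shift {t : K} (ht : Transcendental k t) :
    ∃ ι : k⟮t⟯ →ₐ[k] PowerSeries K, ι (AdjoinSimple.gen k t) = PowerSeries.C t + PowerSeries.X ∧
      ∀ x, PowerSeries.constantCoeff (ι x) = (x : K) := by
  let q : Polynomial k →ₐ[k] PowerSeries K := Polynomial.aeval (PowerSeries.C t + PowerSeries.X)
  have hqc : ∀ p, PowerSeries.constantCoeff (q p) = Polynomial.aeval t p := fun p => by
    induction p using Polynomial.induction_on with
    | C a => simp [q, PowerSeries.algebraMap_apply]
    | add p r hp hr => simp [hp, hr]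
    | monomial n a _ => simp [q, PowerSeries.algebraMap_apply]
  have hq : ∀ p : nonZeroDivisors (Polynomial k), IsUnit (q p) := fun p => by
    rw [PowerSeries.isUnit_iff_constantCoeff, hqc]
    exact (show Polynomial.aeval t (p : Polynomial k) ≠ 0 from
      fun h => nonZeroDivisors.ne_zero p.2 ((transcendental_iff.mp ht) _ h)).isUnit
  let L : RatFunc k →ₐ[k] PowerSeries K :=
    IsLocalization.liftAlgHom (M := nonZeroDivisors (Polynomial k)) (S := RatFunc k) (f := q) hq
  have hL : ∀ p, L (algebraMap (Polynomial k) (RatFunc k) p) = q p := fun p => IsLocalization.lift_eq _ p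
  let e := RatFunc.algEquivOfTranscendental t ht
  refine ⟨L.comp e.symm.toAlgHom, ?_, fun x => ?_⟩
  · have : e.symm (AdjoinSimple.gen k t) = algebraMap (Polynomial k) (RatFunc k) Polynomial.X := by
      rw [AlgEquiv.symm_apply_eq, RatFunc.algEquivOfTranscendental_algebraMap, Polynomial.aeval_X]
    rw [AlgHom.comp_apply, AlgEquiv.toAlgHom_apply, this, hL]
    exact Polynomial.aeval_X _
  · obtain ⟨r, rfl⟩ := e.surjective x
    rw [AlgHom.comp_apply, AlgEquiv.toAlgHom_apply, e.symm_apply_apply]
    have hcomp : (PowerSeries.constantCoeff.comp (L : RatFunc k →+* PowerSeries K)) =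
        ((algebraMap k⟮t⟯ K).comp (e : RatFunc k →+* k⟮t⟯)) := by
      refine IsLocalization.ringHom_ext (nonZeroDivisors (Polynomial k)) (RingHom.ext fun p => ?_)
      simp only [RingHom.comp_apply, RingHom.coe_coe]
      rw [hL, hqc, RatFunc.algEquivOfTranscendental_algebraMap]
      exact (Polynomial.aeval_algebraMap_apply K (AdjoinSimple.gen k t) p)
    exact RingHom.congr_fun hcomp r

/-- Existence of the total Hasse derivative at a separating element. -/
theorem exists_hasse {t : K} (ht : Transcendental k t) [FiniteDimensional k⟮t⟯ K] [Algebra.IsSeparable k⟮t⟯ K] :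
    ∃ H : K →ₐ[k] PowerSeries K, IsHasseFamily t H := by
  obtain ⟨ι, hιt, hι⟩ := exists_shift ht
  obtain ⟨α, hα⟩ := Field.exists_primitive_element k⟮t⟯ K
  have hint : IsIntegral k⟮t⟯ α := Algebra.IsIntegral.isIntegral α
  let p := (minpoly k⟮t⟯ α).map (ι : k⟮t⟯ →+* PowerSeries K)
  have hp : p.Monic := (minpoly.monic hint).map _
  have hcc : ∀ q : Polynomial k⟮t⟯,
      PowerSeries.constantCoeff ((q.map (ι : k⟮t⟯ →+* PowerSeries K)).eval (PowerSeries.C α)) = Polynomial.aeval α q := by
    intro q
    rw [Polynomial.eval_map, Polynomial.hom_eval₂, PowerSeries.constantCoeff_C, Polynomial.aeval_def]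
    congr 1
    exact RingHom.ext hι
  obtain ⟨β, hβ, hβα⟩ := HenselianRing.is_henselian (I := Ideal.span {(PowerSeries.X : PowerSeries K)}) p hp
    (PowerSeries.C α) (by rw [Ideal.mem_span_singleton, PowerSeries.X_dvd_iff, hcc, minpoly.aeval]) (by
      refine (PowerSeries.isUnit_iff_constantCoeff.mpr ?_).map _
      rw [Polynomial.derivative_map, hcc]
      exact ((Algebra.IsSeparable.isSeparable k⟮t⟯ α).aeval_derivative_ne_zero (minpoly.aeval _ _)).isUnit)
  have hβc : PowerSeries.constantCoeff β = α := by
    have := hβα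
    rw [Ideal.mem_span_singleton, PowerSeries.X_dvd_iff, map_sub, PowerSeries.constantCoeff_C, sub_eq_zero] at this
    exact this
  let u : AdjoinRoot (minpoly k⟮t⟯ α) →+* K :=
    AdjoinRoot.lift (algebraMap k⟮t⟯ K) α (minpoly.aeval k⟮t⟯ α)
  have : Fact (Irreducible (minpoly k⟮t⟯ α)) := ⟨minpoly.irreducible hint⟩
  have hus : Function.Surjective u := fun z => by
    have hz : z ∈ Algebra.adjoin k⟮t⟯ ({α} : Set K) := by
      rw [← IntermediateField.adjoin_simple_toSubalgebra_of_isAlgebraic hint.isAlgebraic, hα]
      trivial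
    rw [Algebra.adjoin_singleton_eq_range_aeval] at hz
    obtain ⟨q, hq⟩ := hz
    exact ⟨AdjoinRoot.mk _ q, by rw [AdjoinRoot.lift_mk]; exact hq⟩
  let e := RingEquiv.ofBijective u ⟨u.injective, hus⟩
  let v : AdjoinRoot (minpoly k⟮t⟯ α) →+* PowerSeries K :=
    AdjoinRoot.lift (ι : k⟮t⟯ →+* PowerSeries K) β (by rw [← Polynomial.eval_map]; exact hβ)
  let H₀ : K →+* PowerSeries K := v.comp e.symm.toRingHom
  have hof : ∀ x : k⟮t⟯, H₀ x = ι x := fun x => by
    have : e.symm (x : K) = AdjoinRoot.of _ x := by
      rw [RingEquiv.symm_apply_eq]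
      exact (AdjoinRoot.lift_of (minpoly.aeval k⟮t⟯ α)).symm
    change v (e.symm (x : K)) = _
    rw [this]; exact AdjoinRoot.lift_of _
  let H : K →ₐ[k] PowerSeries K :=
    { H₀ with
      commutes' := fun c => (hof (algebraMap k k⟮t⟯ c)).trans (ι.commutes c) }
  refine ⟨H, (hof (AdjoinSimple.gen k t)).trans hιt, fun y => ?_⟩
  obtain ⟨r, rfl⟩ := hus y
  change PowerSeries.constantCoeff (v (e.symm (e r))) = u r
  rw [e.symm_apply_apply]
  induction r using AdjoinRoot.induction_on with
  | ih q =>
    rw [AdjoinRoot.lift_mk, AdjoinRoot.lift_mk, Polynomial.hom_eval₂, hβc]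
    congr 1
    exact RingHom.ext hι

/-- Over a perfect field an element admitting a Hasse derivative is separating. -/
theorem isSeparable_of_hasse [PerfectField k] (hK : IsFunctionField k K) {t : K} {H : K →ₐ[k] PowerSeries K}
    (hH : IsHasseFamily t H) : Algebra.IsSeparable k⟮t⟯ K := by
  obtain ⟨x, hx, hfin, hsep⟩ := exists_separating hK
  obtain ⟨Hx, hHx⟩ := exists_hasse (t := x) hx
  have htr := transcendental_of_hasse hH hK
  have := finiteDimensional_adjoin hK htr
  have hne : hasseD Hx 1 t ≠ 0 := fun h0 => by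
    have he : hasseDer hH = (hasseD H 1 x) • hasseDer hHx := by
      refine derivation_ext_separable (x := x) _ _ ?_
      change hasseD H 1 x = hasseD H 1 x * hasseD Hx 1 x
      rw [hasseD_one_self hHx, mul_one]
    have := Derivation.congr_fun he t
    change hasseD H 1 t = hasseD H 1 x * hasseD Hx 1 t at this
    rw [hasseD_one_self hH, h0, mul_zero] at this
    exact one_ne_zero this
  rw [← Algebra.FormallyUnramified.iff_isSeparable]
  refine ⟨?_⟩
  let d : Derivation k K (KaehlerDifferential k⟮t⟯ K) := (KaehlerDifferential.D k⟮t⟯ K).restrictScalars k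
  have hd : ∀ z, d z = hasseD Hx 1 z • d x := by
    have he : d = (LinearMap.toSpanSingleton K _ (d x)).compDer (hasseDer hHx) := by
      refine derivation_ext_separable (x := x) _ _ ?_
      change d x = hasseD Hx 1 x • d x
      rw [hasseD_one_self hHx, one_smul]
    exact fun z => Derivation.congr_fun he z
  have h0 : d x = 0 := by
    have := hd t
    rw [show d t = 0 from (KaehlerDifferential.D k⟮t⟯ K).map_algebraMap (AdjoinSimple.gen k t)] at this
    exact (smul_eq_zero.mp this.symm).resolve_left hne
  refine subsingleton_of_forall_eq 0 fun w => ?_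
  have htop : (⊤ : Submodule K (KaehlerDifferential k⟮t⟯ K)) ≤ ⊥ := by
    rw [← KaehlerDifferential.span_range_derivation, Submodule.span_le]
    rintro _ ⟨z, rfl⟩
    change d z = 0
    rw [hd z, h0, smul_zero]
  exact htop trivial

end Groth.Agent.FF
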