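import Groth.Agent.FF.Extension
import Mathlib.RingTheory.LocalRing.ResidueField.Ideal
import Mathlib.RingTheory.IntegralClosure.IntegrallyClosed

/-! Adapted bases over the local ring of a place: integral closures are finite free. -/

open FunFld WithZero Module
open scoped Classical

namespace Groth.Agent.FF

variable {k K K' : Type*} [Field k] [Field K] [Field K'] [Algebra k K] [Algebra K K'] [Algebra k K']
  [IsScalarTower k K K']

theorem isOver_val_le {Q : Place k K'} {P : Place k K} (h : IsOver Q P) {x : K} (hx : P.1 x ≤ 1) :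
    Q.1 (algebraMap K K' x) ≤ 1 := (ow_le_one_iff (isOverWith_ramIdx h) x).mpr hx

theorem isOver_val_le_exp {Q : Place k K'} {P : Place k K} (h : IsOver Q P) {x : K} (hx : P.1 x < 1) :
    Q.1 (algebraMap K K' x) ≤ exp (-(ramIdx Q P : ℤ)) := by
  rw [isOverWith_ramIdx h x]
  refine (pow_le_pow_left₀ zero_le (?_ : P.1 x ≤ exp (-1)) _).trans_eq ?_
  · simpa using pow_le_exp_neg hx 1
  · rw [← exp_nsmul]; congr 1; simp

/-- The map of valuation rings. -/
def ringMap {Q : Place k K'} {P : Place k K} (h : IsOver Q P) : P.O →+* Q.O :=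
  ((algebraMap K K').comp P.O.subtype).codRestrict Q.O fun a =>
    (mem_O Q).mpr (isOver_val_le h ((mem_O P).mp a.2))

theorem ringMap_isLocal {Q : Place k K'} {P : Place k K} (h : IsOver Q P) : IsLocalHom (ringMap h) := by
  refine ⟨fun a ha => ?_⟩
  by_contra hna
  have h1 : P.1 (a : K) < 1 := (residue_eq_zero_iff P).mp ((IsLocalRing.residue_eq_zero_iff _).mpr hna)
  have h2 : Q.1 (ringMap h a : K') < 1 := (ow_lt_one_iff (isOverWith_ramIdx h) _).mpr h1
  exact (IsLocalRing.residue_eq_zero_iff _).mp ((residue_eq_zero_iff Q).mpr h2) ha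

/-- The map of residue fields. -/
noncomputable def resMap {Q : Place k K'} {P : Place k K} (h : IsOver Q P) :
    IsLocalRing.ResidueField P.O →+* IsLocalRing.ResidueField Q.O :=
  haveI := ringMap_isLocal h
  IsLocalRing.ResidueField.map (ringMap h)

theorem resMap_residue {Q : Place k K'} {P : Place k K} (h : IsOver Q P) (a : P.O) :
    resMap h (IsLocalRing.residue P.O a) = IsLocalRing.residue Q.O (ringMap h a) := rfl

theorem finite_and_finrank_of_compat {A B C : Type*} [Field A] [Field B] [Field C] [Algebra A B] [Algebra A C]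
    [Algebra B C] (h : ∀ c, algebraMap A C c = algebraMap B C (algebraMap A B c)) [FiniteDimensional A C] :
    FiniteDimensional B C ∧ finrank A B * finrank B C = finrank A C := by
  have := IsScalarTower.of_algebraMap_eq h
  exact ⟨Module.Finite.of_restrictScalars_finite A B C, Module.finrank_mul_finrank A B C⟩

/-- A residual basis at one place. -/
theorem exists_residual_basis (hFF : IsFF' k K') (hK : IsFF' k K) {Q : Place k K'} {P : Place k K}
    (h : IsOver Q P) :
    ∃ (f : ℕ) (u : Fin f → K'), f * P.deg = Q.deg ∧ (∀ i, Q.1 (u i) ≤ 1) ∧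
      ∀ a : Fin f → K, (∀ i, P.1 (a i) ≤ 1) → Q.1 (∑ i, algebraMap K K' (a i) * u i) < 1 →
        ∀ i, P.1 (a i) < 1 := by
  let FP := IsLocalRing.ResidueField P.O
  let FQ := IsLocalRing.ResidueField Q.O
  let alg : Algebra FP FQ := (resMap h).toAlgebra
  have hcompat : ∀ c : k, @algebraMap k FQ _ _ (Place.algRes Q) c =
      @algebraMap FP FQ _ _ alg (@algebraMap k FP _ _ (Place.algRes P) c) := fun c => by
    change IsLocalRing.residue Q.O _ = IsLocalRing.residue Q.O _
    refine congrArg _ (Subtype.ext ?_)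
    exact IsScalarTower.algebraMap_apply k K K' c
  have hfd := finiteDimensional_residue' hFF Q
  obtain ⟨hfin, hrank⟩ := @finite_and_finrank_of_compat k FP FQ _ _ _ (Place.algRes P) (Place.algRes Q) alg hcompat hfd
  let b := Module.finBasis FP FQ
  choose u hu using fun i => IsLocalRing.residue_surjective (R := Q.O) (b i)
  refine ⟨finrank FP FQ, fun i => (u i : K'), ?_, fun i => (mem_O Q).mp (u i).2, fun a ha hlt => ?_⟩
  · rw [mul_comm]; exact hrank
  let a' : Fin (finrank FP FQ) → P.O := fun i => ⟨a i, (mem_O P).mpr (ha i)⟩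
  have h0 : ∑ i, IsLocalRing.residue P.O (a' i) • b i = 0 := by
    have e : ∀ i, IsLocalRing.residue P.O (a' i) • b i = IsLocalRing.residue Q.O (ringMap h (a' i) * u i) :=
      fun i => by
        rw [map_mul, hu i]
        rfl
    rw [Finset.sum_congr rfl fun i _ => e i, ← map_sum]
    refine (residue_eq_zero_iff Q).mpr ?_
    change Q.1 (Q.O.subtype _) < 1
    rw [map_sum]
    exact hlt
  intro i
  have := Fintype.linearIndependent_iff.mp b.linearIndependent _ h0 i
  exact (residue_eq_zero_iff P).mp this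

/-- Layers at one place: coefficient vanishing. -/
theorem layer_lt {Q : Place k K'} {P : Place k K} (h : IsOver Q P) {f : ℕ} {u : Fin f → K'}
    (huind : ∀ a : Fin f → K, (∀ i, P.1 (a i) ≤ 1) → Q.1 (∑ i, algebraMap K K' (a i) * u i) < 1 →
      ∀ i, P.1 (a i) < 1) (hu : ∀ i, Q.1 (u i) ≤ 1) {π : K'} (hπ : Q.1 π = exp (-1))
    (a : Fin (ramIdx Q P) → Fin f → K) (ha : ∀ j i, P.1 (a j i) ≤ 1) (m : ℕ) (hm : m ≤ ramIdx Q P)
    (hlt : Q.1 (∑ j : Fin (ramIdx Q P), π ^ (j : ℕ) * ∑ i, algebraMap K K' (a j i) * u i) ≤ exp (-(m : ℤ))) :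
    ∀ j : Fin (ramIdx Q P), (j : ℕ) < m → ∀ i, P.1 (a j i) < 1 := by
  intro j
  induction hn : (j : ℕ) using Nat.strong_induction_on generalizing j with
  | _ n ih =>
    subst hn
    intro hjm
    set s : Fin (ramIdx Q P) → K' := fun l => π ^ (l : ℕ) * ∑ i, algebraMap K K' (a l i) * u i
    have hle : ∀ l, l ≠ j → Q.1 (s l) ≤ exp (-((j : ℕ) + 1 : ℤ)) := fun l hl => by
      have hsum : Q.1 (∑ i, algebraMap K K' (a l i) * u i) ≤ 1 :=
        Q.1.map_sum_le fun i _ => by rw [map_mul]; exact mul_le_one' (isOver_val_le h (ha l i)) (hu i)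
      rw [map_mul, map_pow, hπ, ← exp_nsmul]
      rcases lt_or_gt_of_ne (Fin.val_ne_of_ne hl) with hlj | hlj
      · have hlow := ih l hlj l rfl (by omega)
        have hsum' : Q.1 (∑ i, algebraMap K K' (a l i) * u i) ≤ exp (-(ramIdx Q P : ℤ)) :=
          Q.1.map_sum_le fun i _ => by
            rw [map_mul]
            exact (mul_le_mul' (isOver_val_le_exp h (hlow i)) (hu i)).trans_eq (mul_one _)
        refine (mul_le_mul' le_rfl hsum').trans ?_
        rw [← exp_add, exp_le_exp, nsmul_eq_mul]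
        have := j.2
        omega
      · refine (mul_le_mul' le_rfl hsum).trans ?_
        rw [mul_one, exp_le_exp, nsmul_eq_mul]
        omega
    have hj : Q.1 (s j) ≤ exp (-((j : ℕ) + 1 : ℤ)) := by
      have e : s j = (∑ l, s l) - ∑ l ∈ Finset.univ.erase j, s l := by
        rw [← Finset.add_sum_erase _ _ (Finset.mem_univ j)]; ring
      rw [e]
      refine (Q.1.map_sub _ _).trans (max_le (hlt.trans (exp_le_exp.mpr (show -(m : ℤ) ≤ -((j : ℕ) + 1 : ℤ) by omega))) ?_)
      exact Q.1.map_sum_le fun l hl => hle l (Finset.ne_of_mem_erase hl)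
    refine huind (a j) (ha j) ?_
    rw [map_mul, map_pow, hπ, ← exp_nsmul] at hj
    by_contra hge
    push Not at hge
    have := (mul_le_mul' (le_refl (exp (((j : ℕ)) • (-1 : ℤ)))) hge).trans hj
    rw [mul_one, exp_le_exp, nsmul_eq_mul] at this
    omega

variable [FiniteDimensional K K']

/-- An adapted basis of `K'` over `K` at the place `P`, with `Q₀` distinguished. -/
theorem exists_adapted_basis (hK : IsFF' k K) (P : Place k K) :
    ∃ (ι : Type) (_ : Fintype ι) (ω : Basis ι K K'),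
      (∀ l, ∀ Q : Place k K', IsOver Q P → Q.1 (ω l) ≤ 1) ∧
      (∀ z, (∀ Q : Place k K', IsOver Q P → Q.1 z ≤ 1) → ∀ l, P.1 (ω.repr z l) ≤ 1) ∧
      ∀ Q : Place k K', IsOver Q P → ∃ S : Finset ι, S.card * P.deg = Q.deg ∧
        ∀ z, (∀ R : Place k K', IsOver R P → R.1 z ≤ 1) → Q.1 z < 1 → ∀ l ∈ S, P.1 (ω.repr z l) < 1 := by
  have hFF : IsFF' k K' := isFF'_ext hK
  let T := (finite_over (K' := K') hK P).toFinset
  have hT : ∀ Q, Q ∈ T ↔ IsOver Q P := fun Q => by simp [T]
  let n := T.card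
  let eT : Fin n ≃ T := T.equivFin.symm
  let Qf : Fin n → Place k K' := fun i => (eT i : Place k K')
  have hQf : ∀ i, IsOver (Qf i) P := fun i => (hT _).mp (eT i).2
  have hQsurj : ∀ Q, IsOver Q P → ∃ i, Qf i = Q := fun Q hQ => ⟨eT.symm ⟨Q, (hT Q).mpr hQ⟩, by simp [Qf]⟩
  have hQinj : Function.Injective Qf := Subtype.val_injective.comp eT.injective
  choose f u hf hu huind using fun q => exists_residual_basis hFF hK (hQf q)
  choose π hπ0 hπ using fun q => exists_uniformizer (Qf q)
  let ι := Σ q : Fin n, Fin (ramIdx (Qf q) P) × Fin (f q)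
  -- approximating elements
  have hex : ∀ l : ι, ∃ w : K', ∀ q, (Qf q).1 (w - if q = l.1 then π l.1 ^ (l.2.1 : ℕ) * u l.1 l.2.2 else 0) ≤
      exp (-(ramIdx (Qf q) P : ℤ)) := fun l => by
    obtain ⟨w, hw⟩ := exists_approx (T : Finset (Place k K'))
      (fun Q => if Q = Qf l.1 then π l.1 ^ (l.2.1 : ℕ) * u l.1 l.2.2 else 0)
      (fun Q => -(ramIdx Q P : ℤ))
    refine ⟨w, fun q => ?_⟩
    have := hw (Qf q) (eT q).2
    simpa [hQinj.eq_iff] using this
  choose w hw using hex
  have hw1 : ∀ l, ∀ Q : Place k K', IsOver Q P → Q.1 (w l) ≤ 1 := fun l Q hQ => by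
    obtain ⟨q, rfl⟩ := hQsurj Q hQ
    rw [← sub_add_cancel (w l) (if q = l.1 then π l.1 ^ (l.2.1 : ℕ) * u l.1 l.2.2 else 0)]
    refine ((Qf q).1.map_add _ _).trans (max_le ((hw l q).trans ?_) ?_)
    · exact le_of_le_of_eq (exp_le_exp.mpr (by omega : -(ramIdx (Qf q) P : ℤ) ≤ 0)) exp_zero
    · split_ifs with hq
      · subst hq
        rw [map_mul, map_pow, hπ]
        exact mul_le_one' (pow_le_one₀ zero_le (le_of_le_of_eq (exp_le_exp.mpr (by omega : (-1 : ℤ) ≤ 0)) exp_zero)) (hu _ _)
      · simp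
  -- coefficient vanishing
  have key : ∀ (a : ι → K), (∀ l, P.1 (a l) ≤ 1) → ∀ q (m : ℕ), m ≤ ramIdx (Qf q) P →
      (Qf q).1 (∑ l, algebraMap K K' (a l) * w l) ≤ exp (-(m : ℤ)) →
      ∀ l : ι, l.1 = q → (l.2.1 : ℕ) < m → P.1 (a l) < 1 := by
    intro a ha q m hm hle
    set main := ∑ j : Fin (ramIdx (Qf q) P), π q ^ (j : ℕ) * ∑ i, algebraMap K K' (a ⟨q, j, i⟩) * u q i
    have hdiff : (Qf q).1 ((∑ l, algebraMap K K' (a l) * w l) - main) ≤ exp (-(ramIdx (Qf q) P : ℤ)) := by
      have e : main = ∑ l : ι, algebraMap K K' (a l) *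
          (if q = l.1 then π l.1 ^ (l.2.1 : ℕ) * u l.1 l.2.2 else 0) := by
        rw [Fintype.sum_sigma, Finset.sum_eq_single q]
        · rw [Fintype.sum_prod_type]
          refine Finset.sum_congr rfl fun j _ => ?_
          rw [Finset.mul_sum]
          exact Finset.sum_congr rfl fun i _ => by rw [if_pos rfl]; ring
        · exact fun q' _ hne => Finset.sum_eq_zero fun p _ => by rw [if_neg (Ne.symm hne), mul_zero]
        · simp
      rw [e, ← Finset.sum_sub_distrib]
      refine (Qf q).1.map_sum_le fun l _ => ?_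
      rw [← mul_sub, map_mul]
      exact (mul_le_mul' (isOver_val_le (hQf q) (ha l)) (hw l q)).trans_eq (one_mul _)
    have hmain : (Qf q).1 main ≤ exp (-(m : ℤ)) := by
      rw [← sub_sub_cancel (∑ l, algebraMap K K' (a l) * w l) main]
      exact ((Qf q).1.map_sub _ _).trans (max_le hle (hdiff.trans (exp_le_exp.mpr (by omega))))
    have := layer_lt (hQf q) (huind q) (hu q) (hπ q) (fun j i => a ⟨q, j, i⟩) (fun j i => ha _) m hm hmain
    rintro ⟨q', j, i⟩ rfl hj
    exact this j hj i
  obtain ⟨t, ht0, ht⟩ := exists_uniformizer P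
  -- scaling
  have scale : ∀ (a : ι → K) (l₀ : ι), a l₀ ≠ 0 → (∀ l, P.1 (a l) ≤ P.1 (a l₀)) →
      ∃ q, (exp (-(ramIdx (Qf q) P : ℤ)) : WithZero (Multiplicative ℤ)) <
        (Qf q).1 (∑ l, algebraMap K K' (a l / a l₀) * w l) := by
    intro a l₀ h0 hmax
    by_contra hc
    push Not at hc
    have hb : ∀ l, P.1 (a l / a l₀) ≤ 1 := fun l => by
      rw [map_div₀]; exact (div_le_one₀ (zero_lt_iff.mpr ((map_ne_zero _).mpr h0))).mpr (hmax l)
    have := key (fun l => a l / a l₀) hb l₀.1 _ le_rfl (hc _) l₀ rfl l₀.2.1.2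
    rw [div_self h0, map_one] at this
    exact lt_irrefl _ this
  have hli : LinearIndependent K w := by
    rw [Fintype.linearIndependent_iff]
    intro a hsum l
    by_contra hl
    obtain ⟨l₀, -, hl₀⟩ := Finset.exists_max_image Finset.univ (fun l => P.1 (a l)) ⟨l, Finset.mem_univ l⟩
    have h0 : a l₀ ≠ 0 := fun e => hl ((map_eq_zero P.1).mp (le_antisymm (by
      have := hl₀ l (Finset.mem_univ l); rwa [e, map_zero] at this) zero_le))
    obtain ⟨q, hq⟩ := scale a l₀ h0 fun l => hl₀ l (Finset.mem_univ l)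
    have e : ∑ l, algebraMap K K' (a l / a l₀) * w l = 0 := by
      have h2 : (a l₀)⁻¹ • ∑ l, a l • w l = 0 := by rw [hsum, smul_zero]
      rw [Finset.smul_sum] at h2
      refine Eq.trans (Finset.sum_congr rfl fun l _ => ?_) h2
      rw [smul_smul, Algebra.smul_def, div_eq_inv_mul]
    rw [e, map_zero] at hq
    exact not_lt.mpr zero_le hq
  have hcard : Fintype.card ι = finrank K K' := by
    have hs := sum_ramIdx_mul_deg (K' := K') hK P T hT
    rw [← Finset.sum_coe_sort T, ← Equiv.sum_comp eT] at hs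
    have hι : Fintype.card ι = ∑ q, ramIdx (Qf q) P * f q := by simp [ι]
    refine Nat.eq_of_mul_eq_mul_right (deg_pos' hK P) ?_
    rw [hι, Finset.sum_mul, ← hs]
    exact Finset.sum_congr rfl fun q _ => by rw [mul_assoc, hf q]
  have : Nonempty ι := by
    rw [← Fintype.card_pos_iff, hcard]; exact finrank_pos
  let B := basisOfLinearIndependentOfCardEqFinrank hli hcard
  have hB : ∀ l, B l = w l := fun l => by simp [B]
  have hrepr : ∀ z : K', ∑ l, algebraMap K K' (B.repr z l) * w l = z := fun z => by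
    conv_rhs => rw [← B.sum_repr z]
    exact Finset.sum_congr rfl fun l _ => by rw [hB, Algebra.smul_def]
  have hint : ∀ z, (∀ Q : Place k K', IsOver Q P → Q.1 z ≤ 1) → ∀ l, P.1 (B.repr z l) ≤ 1 := by
    intro z hz
    obtain ⟨l₀, -, hl₀⟩ := Finset.exists_max_image Finset.univ (fun l => P.1 (B.repr z l)) Finset.univ_nonempty
    intro l
    refine (hl₀ l (Finset.mem_univ l)).trans ?_
    by_contra hgt
    push Not at hgt
    have h0 : B.repr z l₀ ≠ 0 := fun e => by rw [e, map_zero] at hgt; exact not_lt.mpr zero_le hgt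
    obtain ⟨q, hq⟩ := scale (fun l => B.repr z l) l₀ h0 fun l => hl₀ l (Finset.mem_univ l)
    have e : ∑ l, algebraMap K K' (B.repr z l / B.repr z l₀) * w l = algebraMap K K' (B.repr z l₀)⁻¹ * z := by
      refine Eq.trans ?_ (congrArg (fun y => algebraMap K K' (B.repr z l₀)⁻¹ * y) (hrepr z))
      rw [Finset.mul_sum]
      exact Finset.sum_congr rfl fun l _ => by rw [← mul_assoc, ← map_mul, ← div_eq_inv_mul]
    rw [e, map_mul] at hq
    refine not_le.mpr hq ((mul_le_mul' (isOver_val_le_exp (hQf q) ?_) (hz _ (hQf q))).trans_eq (mul_one _))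
    rw [map_inv₀]
    exact inv_lt_one_of_one_lt₀ hgt
  refine ⟨ι, inferInstance, B, fun l Q hQ => by rw [hB]; exact hw1 l Q hQ, hint, fun Q hQ => ?_⟩
  obtain ⟨q, rfl⟩ := hQsurj Q hQ
  have hpos : 0 < ramIdx (Qf q) P := ramIdx_pos (hQf q)
  refine ⟨Finset.univ.image fun i : Fin (f q) => (⟨q, ⟨0, hpos⟩, i⟩ : ι), ?_, fun z hz hlt l hl => ?_⟩
  · have hinj : Function.Injective fun i : Fin (f q) => (⟨q, ⟨0, hpos⟩, i⟩ : ι) := fun i j e =>
      (Prod.ext_iff.mp (eq_of_heq (Sigma.mk.inj e).2)).2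
    rw [Finset.card_image_of_injective _ hinj, Finset.card_univ, Fintype.card_fin, hf q]
  · obtain ⟨i, -, rfl⟩ := Finset.mem_image.mp hl
    refine key (fun l => B.repr z l) (hint z hz) q 1 hpos ?_ _ rfl Nat.one_pos
    rw [hrepr]
    simpa using pow_le_exp_neg hlt 1

/-- Integrality over the local ring of a place. -/
theorem isIntegral_iff_forall_place (hK : IsFF' k K) (P : Place k K) [Algebra P.O K']
    [IsScalarTower P.O K K'] (z : K') :
    IsIntegral P.O z ↔ ∀ Q : Place k K', IsOver Q P → Q.1 z ≤ 1 := by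
  constructor
  · intro hz Q hQ
    have h2 : IsIntegral Q.O z := hz.map_of_comp_eq (ringMap hQ) (RingHom.id K') (by
      ext a; exact (IsScalarTower.algebraMap_apply P.O K K' a).symm)
    obtain ⟨d, hd⟩ := IsIntegrallyClosed.isIntegral_iff.mp h2
    exact hd ▸ (mem_O Q).mp d.2
  · intro hz
    obtain ⟨ι, _, ω, hω, hrepr, -⟩ := exists_adapted_basis (K' := K') hK P
    let S : Subalgebra P.O K' :=
      { carrier := {y | ∀ Q : Place k K', IsOver Q P → Q.1 y ≤ 1}
        mul_mem' := fun {a b} ha hb Q hQ => by rw [map_mul]; exact mul_le_one' (ha Q hQ) (hb Q hQ)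
        add_mem' := fun {a b} ha hb Q hQ => (Q.1.map_add a b).trans (max_le (ha Q hQ) (hb Q hQ))
        algebraMap_mem' := fun a Q hQ => by
          rw [IsScalarTower.algebraMap_apply P.O K K']; exact isOver_val_le hQ ((mem_O P).mp a.2) }
    refine IsIntegral.of_mem_of_fg S ?_ z hz
    refine ⟨Finset.univ.image ω, le_antisymm ?_ fun y hy => ?_⟩
    · rw [Submodule.span_le]
      intro y hy
      obtain ⟨l, -, rfl⟩ := Finset.mem_image.mp (Finset.mem_coe.mp hy)
      exact hω l
    · rw [← ω.sum_repr y]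
      refine Submodule.sum_mem _ fun l _ => ?_
      have : ω.repr y l • ω l = (⟨_, (mem_O P).mpr (hrepr y hy l)⟩ : P.O) • ω l := by
        rw [Algebra.smul_def, Algebra.smul_def, IsScalarTower.algebraMap_apply P.O K K']; rfl
      rw [this]
      exact Submodule.smul_mem _ _ (Submodule.subset_span (by simp))

theorem finite_integralClosure_O (hK : IsFF' k K) (P : Place k K) [Algebra P.O K']
    [IsScalarTower P.O K K'] : Module.Finite P.O (integralClosure P.O K') := by
  obtain ⟨ι, _, ω, hω, hrepr, -⟩ := exists_adapted_basis (K' := K') hK P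
  refine Module.Finite.iff_fg.mpr (show (Subalgebra.toSubmodule (integralClosure P.O K')).FG from
    ⟨Finset.univ.image ω, le_antisymm ?_ fun y hy => ?_⟩)
  · rw [Submodule.span_le]
    intro y hy
    obtain ⟨l, -, rfl⟩ := Finset.mem_image.mp (Finset.mem_coe.mp hy)
    exact (isIntegral_iff_forall_place hK P _).mpr (hω l)
  · rw [← ω.sum_repr y]
    refine Submodule.sum_mem _ fun l _ => ?_
    have : ω.repr y l • ω l =
        (⟨_, (mem_O P).mpr (hrepr y ((isIntegral_iff_forall_place hK P y).mp hy) l)⟩ : P.O) • ω l := by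
      rw [Algebra.smul_def, Algebra.smul_def, IsScalarTower.algebraMap_apply P.O K K']; rfl
    rw [this]
    exact Submodule.smul_mem _ _ (Submodule.subset_span (by simp))

theorem det_val_le (P : Place k K) {n : Type*} [Fintype n] [DecidableEq n] (M : Matrix n n K)
    (hM : ∀ i j, P.1 (M i j) ≤ 1) (S : Finset n) (hS : ∀ i ∈ S, ∀ j, P.1 (M i j) ≤ exp (-1)) :
    P.1 M.det ≤ exp (-(S.card : ℤ)) := by
  rw [Matrix.det_apply]
  refine P.1.map_sum_le fun σ _ => ?_
  have hs : ∀ y : K, P.1 (Equiv.Perm.sign σ • y) = P.1 y := fun y => by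
    rcases Int.units_eq_one_or (Equiv.Perm.sign σ) with h | h
    · rw [h, one_smul]
    · rw [h, Units.neg_smul, one_smul, Valuation.map_neg]
  rw [hs, map_prod]
  calc ∏ i, P.1 (M (σ i) i) = ∏ i, P.1 (M i (σ.symm i)) := by
        rw [← Equiv.prod_comp σ.symm]; simp
    _ ≤ ∏ i, if i ∈ S then exp (-1 : ℤ) else (1 : WithZero (Multiplicative ℤ)) :=
        Finset.prod_le_prod (fun _ _ => zero_le) fun i _ => by
          split_ifs with h
          · exact hS i h _
          · exact hM i _
    _ = exp (-(S.card : ℤ)) := by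
        rw [Finset.prod_ite, Finset.prod_const, Finset.prod_const, one_pow, mul_one, ← exp_nsmul,
          Finset.filter_mem_eq_inter, Finset.univ_inter]
        simp

end Groth.Agent.FF
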