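import Groth.Agent.FF.FixedPts
import Groth.Agent.FF.HyperGenus
import Groth.Agent.FF.LinEquiv

/-! Involutions with `2g + 2` fixed places, and fixed places of quadratic equations. -/

open FunFld WithZero Module Polynomial
open scoped Classical IntermediateField

namespace Groth.Agent.FF

variable {k K : Type*} [Field k] [Field K] [Algebra k K] [IsAlgClosed k] (hK : IsFunctionField k K)

include hK

omit [IsAlgClosed k] in
theorem ell_le_one_of_deg_zero {D : Divisor k K} (hd : D.deg = 0) : ell D ≤ 1 := by
  rcases Nat.eq_zero_or_pos (ell D) with h | h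
  · omega
  · rw [← (linEq_zero_of_ell_pos hK hd h).ell_eq hK, ell, L_zero_eq hK]
    exact (finrank_span_singleton one_ne_zero).le

/-- A place where `σ` fixes a function with a double pole is fixed, or the function has two simple poles. -/
theorem fixed_or_ord_eq (σ : K ≃ₐ[k] K) {t u : K} (hu : σ u = u) (hadj : k⟮u⟯ = k⟮t⟯)
    (ht : finrank k⟮t⟯ K = 2) (htr : Transcendental k u) {Q : Place k K} (hQ : 1 < Q.1 u) :
    pullPlace σ Q = Q ∨ Q.ord u = -1 := by
  by_cases hfix : pullPlace σ Q = Q
  · exact Or.inl hfix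
  · refine Or.inr ?_
    have hdeg : (poles (k := k) u).deg = 2 := by
      rw [deg_poles hK htr, hadj, ht]; norm_num
    have hu0 : u ≠ 0 := fun h => by rw [h, map_zero] at hQ; exact not_lt_zero' hQ
    have hneg : Q.ord u < 0 := by
      by_contra h
      exact absurd hQ (not_lt.2 ((val_le_one_iff Q hu0).2 (not_lt.1 h)))
    have hsame : (pullPlace σ Q).ord u = Q.ord u := by
      simp only [Place.ord, pullPlace_apply, hu]
    have hle : Finsupp.single Q (-Q.ord u) + Finsupp.single (pullPlace σ Q) (-Q.ord u) ≤ poles (k := k) u := by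
      intro R
      rw [Finsupp.add_apply, Finsupp.single_apply, Finsupp.single_apply, poles_apply hK]
      rcases eq_or_ne Q R with rfl | h1
      · rw [if_pos rfl, if_neg hfix]; omega
      · rw [if_neg h1]
        rcases eq_or_ne (pullPlace σ Q) R with rfl | h2
        · rw [if_pos rfl, hsame]; omega
        · rw [if_neg h2]; omega
    have h := deg_mono hle
    rw [deg_add, deg_single, deg_single, deg_eq_one hK, deg_eq_one hK, hdeg] at h
    omega

/-- `y² = p(t)` with `p` squarefree: at least `deg p` rounded up to even fixed places of `y ↦ -y`. -/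
theorem exists_fixed_places {t y : K} {p : k[X]} (ht : finrank k⟮t⟯ K = 2) (htr : Transcendental k t)
    (hy : y ^ 2 = aeval t p) (hp : Squarefree p) (σ : K ≃ₐ[k] K) (hσt : σ t = t) :
    ∃ S : Finset (Place k K), (∀ Q ∈ S, pullPlace σ Q = Q) ∧ p.natDegree + p.natDegree % 2 ≤ S.card := by
  have hp0 : p ≠ 0 := hp.ne_zero
  have hy0 : y ≠ 0 := by
    intro h
    rw [h, zero_pow two_ne_zero] at hy
    exact hp0 ((transcendental_iff_injective.mp htr) (by rw [← hy, map_zero]))
  have hord2 : ∀ Q : Place k K, Q.ord (aeval t p) = 2 * Q.ord y := fun Q => by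
    rw [← hy, sq, ord_mul Q hy0 hy0]; ring
  have htc : ∀ a : k, Transcendental k (t - algebraMap k K a) := fun a h => htr (by
    simpa using h.add (isAlgebraic_algebraMap a))
  have key : ∀ a ∈ p.roots.toFinset, ∃ Q : Place k K, pullPlace σ Q = Q ∧ Q.1 (t - algebraMap k K a) < 1 := by
    intro a ha
    rw [Multiset.mem_toFinset, mem_roots hp0] at ha
    obtain ⟨Q, hQ⟩ := exists_val_lt_one hK (htc a)
    refine ⟨Q, ?_, hQ⟩
    have hne : t - algebraMap k K a ≠ 0 := fun h => htc a (h ▸ isAlgebraic_zero)
    have hu : σ (t - algebraMap k K a)⁻¹ = (t - algebraMap k K a)⁻¹ := by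
      rw [map_inv₀, map_sub, hσt, AlgEquiv.commutes]
    have hadj : k⟮(t - algebraMap k K a)⁻¹⟯ = k⟮t⟯ := by
      refine le_antisymm (IntermediateField.adjoin_simple_le_iff.mpr (inv_mem (sub_mem
        (IntermediateField.mem_adjoin_simple_self k t) (IntermediateField.algebraMap_mem _ a))))
        (IntermediateField.adjoin_simple_le_iff.mpr ?_)
      have := add_mem (inv_mem (IntermediateField.mem_adjoin_simple_self k (t - algebraMap k K a)⁻¹))
        (IntermediateField.algebraMap_mem k⟮(t - algebraMap k K a)⁻¹⟯ a)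
      simpa using this
    have htr' : Transcendental k (t - algebraMap k K a)⁻¹ := fun h => htc a (by simpa using h.inv)
    have hQ' : 1 < Q.1 (t - algebraMap k K a)⁻¹ := by
      rw [map_inv₀]; exact one_lt_inv₀ (zero_lt_iff.mpr ((_root_.map_ne_zero _).mpr hne)) |>.mpr hQ
    rcases fixed_or_ord_eq hK σ hu hadj ht htr' hQ' with h | h
    · exact h
    exfalso
    rw [ord_inv] at h
    obtain ⟨r, hr⟩ := dvd_iff_isRoot.mpr ha
    have hra : r.eval a ≠ 0 := fun h0 => by
      obtain ⟨s, hs⟩ := dvd_iff_isRoot.mpr (show r.IsRoot a from h0)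
      exact not_isUnit_X_sub_C a (hp (X - C a) ⟨s, by rw [hr, hs]; ring⟩)
    have ht1 : Q.1 t ≤ 1 := by
      have := Q.1.map_add (t - algebraMap k K a) (algebraMap k K a)
      rw [sub_add_cancel] at this
      exact this.trans (max_le hQ.le (Q.2.1 a))
    obtain ⟨s, hs⟩ := dvd_iff_isRoot.mpr (show (r - C (r.eval a)).IsRoot a by simp)
    have hrv : Q.1 (aeval t r) = 1 := by
      rw [show r = C (r.eval a) + (X - C a) * s by rw [← hs]; ring, map_add, aeval_C, map_mul, map_sub, aeval_X, aeval_C]
      rw [Valuation.map_add_eq_of_lt_left]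
      · exact val_algebraMap Q hra
      · rw [val_algebraMap Q hra, map_mul]
        exact (mul_le_of_le_one_right' (HyperGenus.val_aeval_le_one Q ht1 s)).trans_lt hQ
    have hr0 : aeval t r ≠ 0 := fun e => by rw [e, map_zero] at hrv; exact zero_ne_one hrv
    have h2 := hord2 Q
    rw [hr, map_mul, map_sub, aeval_X, aeval_C, ord_mul Q hne hr0,
      ord_eq_of_val Q (n := 0) (x := aeval t r) (by rw [hrv]; simp)] at h2
    omega
  haveI : Nonempty (Place k K) := ⟨(HyperGenus.exists_place_pole hK htr).choose⟩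
  choose! Qf hQf hQv using key
  have hcard : p.roots.toFinset.card = p.natDegree := by
    rw [Multiset.toFinset_card_of_nodup (nodup_roots (PerfectField.separable_iff_squarefree.mpr hp)),
      (IsAlgClosed.splits p).natDegree_eq_card_roots]
  have hinj : Set.InjOn Qf p.roots.toFinset := fun a ha b hb hab => by
    by_contra hne
    have h := (Qf a).1.map_sub (t - algebraMap k K a) (t - algebraMap k K b)
    rw [show t - algebraMap k K a - (t - algebraMap k K b) = algebraMap k K (b - a) by rw [map_sub]; ring,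
      val_algebraMap _ (sub_ne_zero.mpr (Ne.symm hne))] at h
    exact absurd (h.trans_lt (max_lt (hQv a ha) (hab ▸ hQv b hb))) (lt_irrefl _)
  rcases Nat.even_or_odd p.natDegree with he | ho
  · refine ⟨p.roots.toFinset.image Qf, fun Q hQ => ?_, ?_⟩
    · obtain ⟨a, ha, rfl⟩ := Finset.mem_image.mp hQ
      exact hQf a ha
    · rw [Finset.card_image_of_injOn hinj, hcard, Nat.even_iff.mp he, add_zero]
  · obtain ⟨Qi, hQi⟩ := HyperGenus.exists_place_pole hK htr
    have hfix : pullPlace σ Qi = Qi := by
      rcases fixed_or_ord_eq hK σ hσt rfl ht htr hQi with h | h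
      · exact h
      exfalso
      have ht0 : t ≠ 0 := fun e => htr (e ▸ isAlgebraic_zero)
      have h2 := hord2 Qi
      rw [ord_eq_of_val Qi (n := -(p.natDegree : ℤ)) (x := aeval t p) (by
        rw [HyperGenus.val_aeval_eq Qi hQi hp0, val_eq_exp_neg_ord Qi ht0, h, ← exp_nsmul]; simp)] at h2
      obtain ⟨m, hm⟩ := ho
      omega
    refine ⟨insert Qi (p.roots.toFinset.image Qf), fun Q hQ => ?_, ?_⟩
    · rcases Finset.mem_insert.mp hQ with rfl | hQ
      · exact hfix
      · obtain ⟨a, ha, rfl⟩ := Finset.mem_image.mp hQ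
        exact hQf a ha
    · rw [Finset.card_insert_of_notMem, Finset.card_image_of_injOn hinj, hcard, Nat.odd_iff.mp ho]
      intro h
      obtain ⟨a, ha, rfl⟩ := Finset.mem_image.mp h
      have h1 := (Qf a).1.map_add (t - algebraMap k K a) (algebraMap k K a)
      rw [sub_add_cancel] at h1
      exact absurd hQi (not_lt.mpr (h1.trans (max_le (hQv a ha).le ((Qf a).2.1 a))))

/-- An involution with `2g + 2` fixed places is hyperelliptic: some `P + σP` moves in a pencil. -/
theorem exists_pencil_of_fixed (h2 : (2 : k) ≠ 0) (σ : K ≃ₐ[k] K) (hσ : ∀ x, σ (σ x) = x) (hσ1 : σ ≠ AlgEquiv.refl)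
    (S : Finset (Place k K)) (hS : ∀ Q ∈ S, pullPlace σ Q = Q) (hcard : 2 * genus k K + 2 ≤ S.card) :
    ∃ P : Place k K, pullPlace σ P ≠ P ∧
      2 ≤ ell (Finsupp.single P (1 : ℤ) + Finsupp.single (pullPlace σ P) (1 : ℤ)) := by
  obtain ⟨P, hP⟩ := exists_not_fixed hK hσ1
  refine ⟨P, hP, ?_⟩
  set P' := pullPlace σ P
  have hP' : pullPlace σ P' = P := Subtype.ext (Valuation.ext fun x => by
    simp [P', pullPlace_apply, hσ])
  let D : ℕ → Divisor k K := fun n => Finsupp.single P (n : ℤ) + Finsupp.single P' (n : ℤ)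
  have hstab : ∀ n, ∀ x ∈ L (D n), σ x ∈ L (D n) := fun n x hx Q => by
    have h := hx (pullPlace σ Q)
    rw [pullPlace_apply] at h
    refine h.trans_eq (congrArg exp ?_)
    simp only [D, Finsupp.add_apply, Finsupp.single_apply]
    by_cases h1 : P = Q
    · subst h1; rw [if_pos rfl, if_neg hP, if_neg hP.symm, if_pos rfl]; omega
    · by_cases h2 : P' = Q
      · subst h2; rw [hP', if_pos rfl, if_neg h1, if_neg hP, if_pos rfl]; omega
      · rw [if_neg h1, if_neg h2, if_neg, if_neg]
        · intro h3
          apply h1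
          exact (pullPlace_injective σ h3)
        · intro h3
          apply h2
          exact pullPlace_injective σ (hP'.trans h3)
  let A : ℕ → Submodule k K := fun n => L (D n) ⊓ LinearMap.ker (σ.toLinearMap - LinearMap.id)
  let B : ℕ → Submodule k K := fun n => L (D n) ⊓ LinearMap.ker (σ.toLinearMap + LinearMap.id)
  have hmemA : ∀ {n x}, x ∈ A n ↔ x ∈ L (D n) ∧ σ x = x := fun {n x} => by
    simp [A, Submodule.mem_inf, LinearMap.mem_ker, sub_eq_zero]
  have hmemB : ∀ {n x}, x ∈ B n ↔ x ∈ L (D n) ∧ σ x = -x := fun {n x} => by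
    simp [B, Submodule.mem_inf, LinearMap.mem_ker, add_eq_zero_iff_eq_neg]
  haveI : ∀ n, FiniteDimensional k (L (D n)) := fun n => finiteDimensional_L hK _
  have h2K : (2 : K) ≠ 0 := by
    rw [← map_ofNat (algebraMap k K) 2]; exact (_root_.map_ne_zero _).mpr h2
  -- the pencil
  set g := genus k K
  obtain ⟨S', hS'S, hS'c⟩ := Finset.exists_subset_card_eq hcard
  let E : Divisor k K := D (g + 1) - ∑ Q ∈ S', Finsupp.single Q (1 : ℤ)
  have hEd : E.deg = 0 := by
    have hs : Divisor.deg (∑ Q ∈ S', Finsupp.single Q (1 : ℤ) : Divisor k K) = (S'.card : ℤ) := by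
      rw [← degHom_apply, map_sum]
      simp [degHom_apply, deg_single, deg_eq_one hK]
    simp only [E, D, deg_sub, deg_add, deg_single, deg_eq_one hK, hs, hS'c]
    push_cast; ring
  have hB : B (g + 1) ≤ L E := by
    intro x hx Q
    obtain ⟨hxL, hxσ⟩ := hmemB.mp hx
    have hQ := hxL Q
    simp only [E, D, Finsupp.sub_apply, Finsupp.add_apply, Finsupp.finsetSum_apply, Finsupp.single_apply,
      Finset.sum_ite_eq'] at hQ ⊢
    by_cases hQS : Q ∈ S'
    · have hfix := hS Q (hS'S hQS)
      have hQP : P ≠ Q := fun h => hP (by subst h; exact hfix)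
      have hQP' : P' ≠ Q := fun h => hP (by rw [← h, hP'] at hfix; exact hfix.symm)
      rw [if_neg hQP, if_neg hQP', add_zero, exp_zero] at hQ
      rw [if_neg hQP, if_neg hQP', if_pos hQS]
      rcases eq_or_ne x 0 with rfl | hx0
      · simp
      refine (val_le_exp_iff Q hx0).mpr ?_
      obtain ⟨c, hc⟩ := exists_const_near hK Q hQ
      have h3 := (pullPlace_eq_iff hK σ Q).mp hfix _ hc
      have h4 : Q.1 ((σ : K →ₐ[k] K) (x - algebraMap k K c) - (x - algebraMap k K c)) < 1 :=
        (Q.1.map_sub _ _).trans_lt (max_lt h3 hc)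
      rw [show (σ : K →ₐ[k] K) (x - algebraMap k K c) - (x - algebraMap k K c) = -(algebraMap k K 2 * x) by
        simp [hxσ, map_ofNat]; ring, Valuation.map_neg, map_mul, val_algebraMap Q h2, one_mul] at h4
      have := (val_lt_one_iff Q hx0).mp h4
      omega
    · rw [if_neg hQS, sub_zero]; exact hQ
  have hsum : ell (D (g + 1)) ≤ finrank k (A (g + 1)) + ell E := by
    let V := L (D (g + 1))
    let φ : V →ₗ[k] A (g + 1) :=
      { toFun := fun x => ⟨x.1 + σ x.1, hmemA.mpr ⟨add_mem x.2 (hstab _ _ x.2), by rw [map_add, hσ, add_comm]⟩⟩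
        map_add' := fun a b => Subtype.ext (by simp [add_add_add_comm])
        map_smul' := fun c a => Subtype.ext (by simp) }
    haveI : FiniteDimensional k (A (g + 1)) := Submodule.finiteDimensional_of_le inf_le_left
    haveI := finiteDimensional_L hK E
    have h1 := φ.finrank_range_add_finrank_ker
    have h3 : finrank k (LinearMap.ker φ) ≤ ell E := by
      refine LinearMap.finrank_le_finrank_of_injective (f :=
        { toFun := fun x : LinearMap.ker φ => (⟨x.1.1, hB (hmemB.mpr ⟨x.1.2, ?_⟩)⟩ : L E)
          map_add' := fun a b => rfl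
          map_smul' := fun c a => rfl }) fun a b h => Subtype.ext (Subtype.ext (congrArg Subtype.val h :))
      have hx := congrArg Subtype.val (LinearMap.mem_ker.mp x.2)
      exact eq_neg_of_add_eq_zero_right hx
    have h4 := (LinearMap.range φ).finrank_le
    change finrank k V ≤ _
    omega
  obtain ⟨C, hC⟩ := exists_isCanonical hK
  have hRR := riemann_roch' hK hC (D (g + 1))
  have hDd : ∀ n : ℕ, (D n).deg = 2 * n := fun n => by
    simp only [D, deg_add, deg_single, deg_eq_one hK]; push_cast; ring
  rw [hDd] at hRR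
  have hE1 := ell_le_one_of_deg_zero hK hEd
  have hA : g + 2 ≤ finrank k (A (g + 1)) := by push_cast at hRR; omega
  have hstep : ∀ n : ℕ, finrank k (A (n + 1)) ≤ finrank k (A n) + 1 := by
    intro n
    haveI : ∀ m, FiniteDimensional k (A m) := fun m => Submodule.finiteDimensional_of_le inf_le_left
    have hdrop : ∀ x ∈ A (n + 1), P.1 x ≤ exp (n : ℤ) → x ∈ A n := by
      intro x hx hxP
      obtain ⟨hxL, hxσ⟩ := hmemA.mp hx
      refine hmemA.mpr ⟨fun Q => ?_, hxσ⟩
      simp only [D, Finsupp.add_apply, Finsupp.single_apply]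
      by_cases h1 : P = Q
      · subst h1; rw [if_pos rfl, if_neg hP, add_zero]; exact hxP
      · by_cases h2 : P' = Q
        · subst h2
          rw [if_neg h1, if_pos rfl, zero_add]
          show P.1 (σ x) ≤ _
          rw [hxσ]; exact hxP
        · have := hxL Q
          simp only [D, Finsupp.add_apply, Finsupp.single_apply, if_neg h1, if_neg h2] at this ⊢
          exact this
    by_cases hall : ∀ x ∈ A (n + 1), P.1 x ≤ exp (n : ℤ)
    · exact (Submodule.finrank_mono fun x hx => hdrop x hx (hall x hx)).trans (Nat.le_succ _)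
    push Not at hall
    obtain ⟨f, hf, hfP⟩ := hall
    have hle : A (n + 1) ≤ A n ⊔ k ∙ f := by
      intro x hx
      have hf0 : f ≠ 0 := fun e => by rw [e, map_zero] at hfP; exact not_lt_zero' hfP
      have hbound : ∀ z ∈ A (n + 1), P.1 z ≤ exp ((n + 1 : ℕ) : ℤ) := fun z hz => by
        have := (hmemA.mp hz).1 P
        simpa [D, Finsupp.single_apply, hP] using this
      have hfv : P.1 f = exp ((n + 1 : ℕ) : ℤ) := by
        refine le_antisymm (hbound f hf) ?_
        rw [val_eq_exp_neg_ord P hf0, exp_lt_exp] at hfP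
        rw [val_eq_exp_neg_ord P hf0, exp_le_exp]; push_cast; omega
      obtain ⟨c, hc⟩ := exists_const_near hK P (x := x / f) (by
        rw [map_div₀, div_le_one₀ (zero_lt_iff.mpr ((_root_.map_ne_zero _).mpr hf0)), hfv]; exact hbound x hx)
      have hsub : x - c • f ∈ A (n + 1) := sub_mem hx (Submodule.smul_mem _ c hf)
      have hsmall : P.1 (x - c • f) ≤ exp (n : ℤ) := by
        rcases eq_or_ne (x - c • f) 0 with e | e
        · simp [e]
        rw [show x - c • f = (x / f - algebraMap k K c) * f by rw [Algebra.smul_def, sub_mul, div_mul_cancel₀ _ hf0]]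
        have hz : x / f - algebraMap k K c ≠ 0 := fun h => e (by
          rw [sub_eq_zero, div_eq_iff hf0] at h
          rw [h, Algebra.smul_def, sub_self])
        have h5 := (val_lt_one_iff P hz).mp hc
        rw [map_mul, hfv, val_eq_exp_neg_ord P hz, ← exp_add, exp_le_exp]
        push_cast; omega
      exact Submodule.mem_sup.mpr ⟨_, hdrop _ hsub hsmall, _, Submodule.smul_mem _ c (Submodule.mem_span_singleton_self f),
        sub_add_cancel _ _⟩
    refine (Submodule.finrank_mono hle).trans ((Submodule.finrank_add_le_finrank_add_finrank _ _).trans ?_)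
    exact Nat.add_le_add_left (finrank_span_singleton (fun e => by rw [e, map_zero] at hfP; exact not_lt_zero' hfP)).le _
  have hind : ∀ j : ℕ, finrank k (A (1 + j)) ≤ finrank k (A 1) + j := fun j => by
    induction j with
    | zero => rfl
    | succ j ih => have := hstep (1 + j); rw [← add_assoc]; omega
  have hle1 : finrank k (A 1) ≤ ell (D 1) := Submodule.finrank_mono inf_le_left
  have h5 := hind g
  rw [add_comm] at h5
  show 2 ≤ ell (D 1)
  omega

end Groth.Agent.FF
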