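import Groth.Agent.FF.OrdersAt
import Groth.Agent.FF.DiffGenus
import Groth.Agent.FF.Extension

/-! The Weierstrass divisor of a tuple: invariance, effectivity and degree. -/

namespace Groth.Agent.FF

open FunFld LocRes WithZero Submodule Module
open scoped Classical

variable {k K : Type*} [Field k] [Field K] [Algebra k K]

section MapDiv

variable {ι : Type*} [Fintype ι] [Nonempty ι]

theorem val_le_exp_mapDiv (hK : IsFunctionField k K) {φ : ι → K} (P : Place k K) (i : ι) :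
    P.1 (φ i) ≤ exp (mapDiv k φ P) := by
  rcases eq_or_ne (φ i) 0 with h | h
  · rw [h, map_zero]; exact zero_le
  · rw [val_eq_exp_neg_ord P h, exp_le_exp, mapDiv_apply' hK.1, neg_le_neg_iff]
    exact Finset.inf'_le (fun i => P.ord (φ i)) (Finset.mem_univ i)

theorem exists_val_eq_exp_mapDiv (hK : IsFunctionField k K) {φ : ι → K} (hne : ∀ i, φ i ≠ 0) (P : Place k K) :
    ∃ i, P.1 (φ i) = exp (mapDiv k φ P) := by
  obtain ⟨i, -, hi⟩ := Finset.exists_mem_eq_inf' Finset.univ_nonempty (fun i => P.ord (φ i))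
  exact ⟨i, by rw [val_eq_exp_neg_ord P (hne i), mapDiv_apply' hK.1, hi]⟩

theorem mapDiv_le_of_val (hK : IsFunctionField k K) {φ : ι → K} (hne : ∀ i, φ i ≠ 0) (P : Place k K) {m : ℤ}
    (h : ∀ i, P.1 (φ i) ≤ exp m) : mapDiv k φ P ≤ m := by
  obtain ⟨i, hi⟩ := exists_val_eq_exp_mapDiv hK hne P
  exact exp_le_exp.mp (hi ▸ h i)

theorem val_le_of_mem_span' (hK : IsFunctionField k K) {φ : ι → K} (P : Place k K) {f : K}
    (hf : f ∈ span k (Set.range φ)) : P.1 f ≤ exp (mapDiv k φ P) := by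
  induction hf using span_induction with
  | mem x hx => obtain ⟨i, rfl⟩ := hx; exact val_le_exp_mapDiv hK P i
  | zero => rw [map_zero]; exact zero_le
  | add x y _ _ hx hy => exact P.1.map_add_le hx hy
  | smul c x _ hx =>
    rw [Algebra.smul_def, map_mul]
    exact le_trans (mul_le_of_le_one_left zero_le (P.2.1 c)) hx

theorem mapDiv_congr_span (hK : IsFunctionField k K) {φ ψ : ι → K} (hφ : ∀ i, φ i ≠ 0) (hψ : ∀ i, ψ i ≠ 0)
    (h : span k (Set.range ψ) = span k (Set.range φ)) : mapDiv k ψ = mapDiv k φ := by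
  ext P
  exact le_antisymm
    (mapDiv_le_of_val hK hψ P fun i => val_le_of_mem_span' hK P (h ▸ subset_span ⟨i, rfl⟩))
    (mapDiv_le_of_val hK hφ P fun i => val_le_of_mem_span' hK P (h.symm ▸ subset_span ⟨i, rfl⟩))

theorem mapDiv_smul (hK : IsFunctionField k K) {φ : ι → K} (hne : ∀ i, φ i ≠ 0) {y : K} (hy : y ≠ 0)
    (P : Place k K) : mapDiv k (y • φ) P = mapDiv k φ P - P.ord y := by
  refine le_antisymm (mapDiv_le_of_val hK (fun i => mul_ne_zero hy (hne i)) P fun i => ?_) ?_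
  · change P.1 (y * φ i) ≤ _
    rw [map_mul, val_eq_exp_neg_ord P hy, sub_eq_add_neg, add_comm, exp_add]
    exact mul_le_mul' le_rfl (val_le_exp_mapDiv hK P i)
  · rw [sub_le_iff_le_add]
    refine mapDiv_le_of_val hK hne P fun i => ?_
    have := val_le_exp_mapDiv hK (φ := y • φ) P i
    rw [Pi.smul_apply, smul_eq_mul, map_mul, val_eq_exp_neg_ord P hy] at this
    have h2 := mul_le_mul' (le_refl (exp (P.ord y))) this
    rwa [← mul_assoc, ← exp_add, add_neg_cancel, exp_zero, one_mul, ← exp_add, add_comm] at h2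

theorem mapDiv_nonneg_of_one_mem (hK : IsFunctionField k K) {φ : ι → K} (P : Place k K)
    (h1 : (1 : K) ∈ span k (Set.range φ)) : 0 ≤ mapDiv k φ P := by
  have := val_le_of_mem_span' hK P h1
  rwa [map_one, ← exp_zero, exp_le_exp] at this

theorem mapDiv_eq_zero_of (hK : IsFunctionField k K) {φ : ι → K} (hne : ∀ i, φ i ≠ 0) (P : Place k K)
    (hle : ∀ i, P.1 (φ i) ≤ 1) (h1 : (1 : K) ∈ span k (Set.range φ)) : mapDiv k φ P = 0 :=
  le_antisymm (mapDiv_le_of_val hK hne P fun i => (hle i).trans_eq exp_zero.symm)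
    (mapDiv_nonneg_of_one_mem hK P h1)

end MapDiv

/-- The degree of a tuple is multiplied by the degree of an endomorphism. -/
theorem deg_mapDiv_tau (hK : IsFunctionField k K) (τ : K →ₐ[k] K) {ι : Type*} [Fintype ι] [Nonempty ι]
    (φ : ι → K) :
    (mapDiv k (τ ∘ φ)).deg = (finrank τ.fieldRange K : ℤ) * (mapDiv k φ).deg ∧ 0 < finrank τ.fieldRange K := by
  obtain ⟨⟨x, hx, -⟩, -⟩ := id hK
  have hτx : Transcendental k (τ x) := fun h => hx ((isAlgebraic_algHom_iff τ τ.injective).mp h)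
  have hle : IntermediateField.adjoin k ({τ x} : Set K) ≤ τ.fieldRange :=
    IntermediateField.adjoin_simple_le_iff.mpr ⟨x, rfl⟩
  have hfd : FiniteDimensional τ.fieldRange K := by
    have := finiteDimensional_adjoin hK hτx
    let := (IntermediateField.inclusion hle).toRingHom.toAlgebra
    have : IsScalarTower (IntermediateField.adjoin k ({τ x} : Set K)) τ.fieldRange K :=
      IsScalarTower.of_algebraMap_eq fun z => rfl
    exact Module.Finite.of_restrictScalars_finite (IntermediateField.adjoin k ({τ x} : Set K)) τ.fieldRange K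
  refine ⟨?_, finrank_pos⟩
  let e : K →ₐ[k] τ.fieldRange := τ.rangeRestrict
  have hconorm : ∀ {K₁ K₂ : Type _} [Field K₁] [Field K₂] [Algebra k K₁] [Algebra k K₂] [Algebra K₁ K₂]
      [IsScalarTower k K₁ K₂] [FiniteDimensional K₁ K₂], IsFF' k K₁ → ∀ ψ : ι → K₁,
      mapDiv k (algebraMap K₁ K₂ ∘ ψ) = conorm K₂ (mapDiv k ψ) := by
    intro K₁ K₂ _ _ _ _ _ _ _ h1 ψ
    ext Q
    obtain ⟨P, m, -, hm⟩ := exists_isOverWith h1 Q
    rw [conorm_apply h1 _ ⟨m, hm⟩, ow_ramIdx_eq hm, mapDiv_apply' (isFF'_ext h1), mapDiv_apply' h1,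
      mul_neg, neg_inj]
    simp only [Function.comp_apply, ow_ord_eq hm]
    obtain ⟨i, -, hi⟩ := Finset.exists_mem_eq_inf' Finset.univ_nonempty (fun i => P.ord (ψ i))
    refine le_antisymm ?_ (Finset.le_inf' _ _ fun j _ => ?_)
    · rw [hi]; exact Finset.inf'_le (fun i => (m : ℤ) * P.ord (ψ i)) (Finset.mem_univ i)
    · exact mul_le_mul_of_nonneg_left (Finset.inf'_le _ (Finset.mem_univ j)) (Int.natCast_nonneg m)
  have hF : IsFF' k τ.fieldRange ∧ (mapDiv k (e ∘ φ)).deg = (mapDiv k φ).deg := by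
    let := e.toRingHom.toAlgebra
    have : IsScalarTower k K τ.fieldRange := IsScalarTower.of_algebraMap_eq fun z => (e.commutes z).symm
    have hs : Function.Surjective (Algebra.linearMap K τ.fieldRange) := by
      rintro ⟨_, z, rfl⟩; exact ⟨z, rfl⟩
    have : FiniteDimensional K τ.fieldRange := Module.Finite.of_surjective _ hs
    have hr : finrank K τ.fieldRange = 1 := by
      rw [← LinearEquiv.finrank_eq (LinearEquiv.ofBijective _ ⟨(algebraMap K τ.fieldRange).injective, hs⟩), finrank_self]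
    refine ⟨isFF'_ext hK.1, ?_⟩
    rw [show mapDiv k (e ∘ φ) = mapDiv k (algebraMap K τ.fieldRange ∘ φ) from rfl, hconorm hK.1 φ,
      deg_conorm hK.1, hr, Nat.cast_one, one_mul]
  rw [show mapDiv k (τ ∘ φ) = mapDiv k (algebraMap τ.fieldRange K ∘ (e ∘ φ)) from rfl, hconorm hF.1,
    deg_conorm hF.1, hF.2]

theorem ord_pow_nat (P : Place k K) {x : K} (hx : x ≠ 0) (m : ℕ) : P.ord (x ^ m) = m * P.ord x := by
  induction m with
  | zero => simpa using ord_eq_of_val P (n := 0) (by simp : P.1 (1 : K) = exp (-0))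
  | succ m ih => rw [pow_succ, ord_mul P (pow_ne_zero _ hx) hx, ih]; push_cast; ring

section Wronskian

variable [IsAlgClosed k] (hK : IsFunctionField k K) {n : ℕ} (τ : K →ₐ[k] K)

theorem isOrders_unique {R M : Type*} [Semiring R] [AddCommMonoid M] [Module R M] {c : ℕ → M}
    {J J' : Fin n → ℕ} (hJ : IsOrders R c J) (hJ' : IsOrders R c J') : J = J' :=
  (hJ.1.range_inj hJ'.1).mp (Set.ext fun j => (hJ.2 j).trans (hJ'.2 j).symm)

include hK in
theorem det_ne_zero_of_orders {φ : Fin (n + 1) → K} (hφ : LinearIndependent k φ) {s : K}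
    {H : K →ₐ[k] PowerSeries K} (hH : IsHasseFamily s H) {J : Fin n → ℕ} (hJ : IsOrders K (hcol τ H φ) J) :
    (wrMat τ H φ J).det ≠ 0 := by
  obtain ⟨J', hJ', hdet⟩ := exists_orders hK hφ τ hH
  rwa [isOrders_unique hJ hJ']

include hK in
theorem wDiv_apply {φ : Fin (n + 1) → K} {s : K} {H : K →ₐ[k] PowerSeries K} (hH : IsHasseFamily s H)
    (J : Fin n → ℕ) {Φ : Place k K → (K →ₐ[k] LaurentSeries k)} (hΦ : ∀ P : Place k K, IsExpansionAt P.1 (Φ P))
    (P : Place k K) :
    wDiv τ H Φ s φ J P = P.ord (wrMat τ H φ J).det + mapDiv k (τ ∘ φ) P + n * mapDiv k φ P +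
      (∑ l, (J l : ℤ)) * ordDiff (Φ P) 1 s := by
  simp [wDiv, div_apply hK, (divDiff_props hK hH Φ hΦ).1]

theorem ne_zero_tau {φ : Fin (n + 1) → K} (hne : ∀ i, φ i ≠ 0) : ∀ i, (τ ∘ φ) i ≠ 0 := fun i =>
  (map_ne_zero_iff τ τ.injective).mpr (hne i)

theorem one_mem_span_tau {φ : Fin (n + 1) → K} (h1 : (1 : K) ∈ span k (Set.range φ)) :
    (1 : K) ∈ span k (Set.range (τ ∘ φ)) := by
  have := Submodule.mem_map_of_mem (f := τ.toLinearMap) h1
  rwa [Submodule.map_span, ← Set.range_comp, AlgHom.toLinearMap_apply, map_one] at this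

include hK in
theorem ord_hasseD_one_comp {s t u : K} {Hs Ht Hu : K →ₐ[k] PowerSeries K} (hHs : IsHasseFamily s Hs)
    (hHt : IsHasseFamily t Ht) (hHu : IsHasseFamily u Hu) (P : Place k K) :
    P.ord (hasseD Hu 1 s) = P.ord (hasseD Ht 1 s) + P.ord (hasseD Hu 1 t) := by
  rw [← ord_mul P (hasseD_one_ne_zero hK hHs hHt) (hasseD_one_ne_zero hK hHt hHu)]
  congr 1
  have := isSeparable_of_hasse hK hHt
  have he : hasseDer hHu = hasseD Hu 1 t • hasseDer hHt := by
    refine derivation_ext_separable (x := t) _ _ ?_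
    change hasseD Hu 1 t = hasseD Hu 1 t * hasseD Ht 1 t
    rw [hasseD_one_self hHt, mul_one]
  have := Derivation.congr_fun he s
  change hasseD Hu 1 s = hasseD Hu 1 t * hasseD Ht 1 s at this
  rw [this, mul_comm]

/-- Linear change of the coordinates. -/
theorem orders_linear {φ : Fin (n + 1) → K} (H : K →ₐ[k] PowerSeries K)
    (A : Matrix (Fin (n + 1)) (Fin (n + 1)) k) (hA : A.det ≠ 0) :
    (∀ J : Fin n → ℕ, IsOrders K (hcol τ H (fun i => ∑ j, A i j • φ j)) J ↔ IsOrders K (hcol τ H φ) J) ∧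
    ∀ J : Fin n → ℕ, (wrMat τ H (fun i => ∑ j, A i j • φ j) J).det = algebraMap k K A.det * (wrMat τ H φ J).det := by
  let A' := A.map (algebraMap k K)
  have hA' : A'.det = algebraMap k K A.det := ((algebraMap k K).map_det A).symm
  have hcol' : ∀ j, hcol τ H (fun i => ∑ j, A i j • φ j) j = A'.mulVecLin (hcol τ H φ j) := fun j => by
    ext i
    match j with
    | 0 => simp [A', hcol, Matrix.mulVec, dotProduct, Algebra.smul_def]
    | j + 1 =>
      simp only [hcol, A', Matrix.mulVecLin_apply, Matrix.mulVec, dotProduct, Matrix.map_apply, hasseD_apply,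
        map_sum, map_smul, PowerSeries.coeff_smul]
      exact Finset.sum_congr rfl fun _ _ => Algebra.smul_def _ _
  have hinj : Function.Injective A'.mulVecLin := by
    rw [Matrix.coe_mulVecLin, Matrix.mulVec_injective_iff_isUnit, Matrix.isUnit_iff_isUnit_det, isUnit_iff_ne_zero, hA']
    simpa using hA
  have hjump : ∀ j, IsJump K (hcol τ H (fun i => ∑ j, A i j • φ j)) j ↔ IsJump K (hcol τ H φ) j := fun j => by
    rw [IsJump, IsJump, funext hcol', ← Set.image_image A'.mulVecLin (hcol τ H φ), ← Submodule.map_span]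
    exact not_congr ⟨fun ⟨x, hx, he⟩ => hinj he ▸ hx, fun h => ⟨_, h, rfl⟩⟩
  refine ⟨fun J => by simp only [IsOrders, hjump], fun J => ?_⟩
  have hm : wrMat τ H (fun i => ∑ j, A i j • φ j) J = A' * wrMat τ H φ J := by
    ext i e
    have h1 : wrMat τ H (fun i => ∑ j, A i j • φ j) J i e = hcol τ H (fun i => ∑ j, A i j • φ j) (idx J e) i :=
      congrFun (wrMat_col τ H _ J e) i
    rw [h1, hcol', Matrix.mul_apply, Matrix.mulVecLin_apply, Matrix.mulVec, dotProduct]
    exact Finset.sum_congr rfl fun j _ => by rw [← congrFun (wrMat_col τ H φ J e) j]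
  rw [hm, Matrix.det_mul, hA']

theorem linearIndependent_linear {φ : Fin (n + 1) → K} (hφ : LinearIndependent k φ)
    (A : Matrix (Fin (n + 1)) (Fin (n + 1)) k) (hA : A.det ≠ 0) :
    LinearIndependent k (fun i => ∑ j, A i j • φ j) ∧
      span k (Set.range fun i => ∑ j, A i j • φ j) = span k (Set.range φ) := by
  have hli : LinearIndependent k (fun i => ∑ j, A i j • φ j) := by
    rw [Fintype.linearIndependent_iff]
    intro g hg
    simp only [Finset.smul_sum, smul_smul] at hg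
    rw [Finset.sum_comm] at hg
    simp only [← Finset.sum_smul] at hg
    exact congrFun (Matrix.eq_zero_of_vecMul_eq_zero hA (funext (Fintype.linearIndependent_iff.mp hφ _ hg)))
  refine ⟨hli, ?_⟩
  have hle : span k (Set.range fun i => ∑ j, A i j • φ j) ≤ span k (Set.range φ) := span_le.mpr (by
    rintro _ ⟨i, rfl⟩
    exact sum_mem fun j _ => smul_mem _ _ (subset_span ⟨j, rfl⟩))
  have : FiniteDimensional k (span k (Set.range φ)) := FiniteDimensional.span_of_finite k (Set.finite_range φ)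
  refine Submodule.eq_of_le_of_finrank_le hle ?_
  rw [finrank_span_eq_card hli, finrank_span_eq_card hφ]

include hK in
/-- The Weierstrass divisor does not depend on the variable, the basis or the normalisation. -/
theorem wDiv_invariant {φ : Fin (n + 1) → K} (hφ : LinearIndependent k φ) {s : K} {Hs : K →ₐ[k] PowerSeries K}
    (hHs : IsHasseFamily s Hs) {t : K} {Ht : K →ₐ[k] PowerSeries K} (hHt : IsHasseFamily t Ht)
    {J : Fin n → ℕ} (hJ : IsOrders K (hcol τ Hs φ) J)
    (A : Matrix (Fin (n + 1)) (Fin (n + 1)) k) (hA : A.det ≠ 0) {y : K} (hy : y ≠ 0)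
    {φ' : Fin (n + 1) → K} (hφ' : ∀ i, φ' i = y * ∑ j, A i j • φ j)
    {Φ : Place k K → (K →ₐ[k] LaurentSeries k)} (hΦ : ∀ P : Place k K, IsExpansionAt P.1 (Φ P)) :
    IsOrders K (hcol τ Ht φ') J ∧ wDiv τ Ht Φ t φ' J = wDiv τ Hs Φ s φ J := by
  obtain rfl : φ' = y • fun i => ∑ j, A i j • φ j := funext hφ'
  obtain ⟨hli, hspan⟩ := linearIndependent_linear hφ A hA
  let ψ := fun i => ∑ j, A i j • φ j
  have hJt : IsOrders K (hcol τ Ht φ) J := ((orders_change hK τ hHs hHt φ).1 J).mpr hJ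
  have hJψ : IsOrders K (hcol τ Ht ψ) J := ((orders_linear τ Ht A hA).1 J).mpr hJt
  refine ⟨((orders_smul τ hHt ψ hy).1 J).mpr hJψ, ?_⟩
  have hne := hφ.ne_zero
  have hψne := hli.ne_zero
  have hτy : τ y ≠ 0 := (map_ne_zero_iff τ τ.injective).mpr hy
  have hτψ : mapDiv k (τ ∘ ψ) = mapDiv k (τ ∘ φ) := by
    refine mapDiv_congr_span hK (ne_zero_tau τ hne) (ne_zero_tau τ hψne) ?_
    have := congrArg (Submodule.map τ.toLinearMap) hspan
    simpa [ψ, Submodule.map_span, ← Set.range_comp, Function.comp_def] using this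
  ext P
  obtain ⟨u, hu0, hu⟩ := exists_uniformizer P
  obtain ⟨Hu, hHu⟩ := exists_hasse_uniformizer hK P hu
  have hdet := det_ne_zero_of_orders hK τ hφ hHs hJ
  have hDt := hasseD_one_ne_zero hK hHs hHt
  rw [wDiv_apply hK τ hHt J hΦ, wDiv_apply hK τ hHs J hΦ, (orders_smul τ hHt ψ hy).2 J hJψ,
    (orders_linear τ Ht A hA).2, (orders_change hK τ hHs hHt φ).2 J hJ]
  have hc : algebraMap k K A.det ≠ 0 := (map_ne_zero _).mpr hA
  have hoc : P.ord (algebraMap k K A.det) = 0 := ord_eq_of_val P (by rw [val_algebraMap P hA]; simp)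
  rw [show τ ∘ (y • ψ) = τ y • (τ ∘ ψ) from funext fun i => by simp,
    mapDiv_smul hK (ne_zero_tau τ hψne) hτy, mapDiv_smul hK hψne hy, hτψ,
    mapDiv_congr_span hK hne hψne hspan, ord_mul P (by simp [hτy, hy]) (mul_ne_zero hc (mul_ne_zero (pow_ne_zero _ hDt) hdet)),
    ord_mul P hτy (pow_ne_zero _ hy), ord_mul P hc (mul_ne_zero (pow_ne_zero _ hDt) hdet),
    ord_mul P (pow_ne_zero _ hDt) hdet, ord_pow_nat P hy, ord_pow_nat P hDt, hoc,
    ordDiff_eq hK P hu hHu (hΦ P), ordDiff_eq hK P hu hHu (hΦ P), ord_hasseD_one_comp hK hHs hHt hHu]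
  push_cast
  ring

include hK in
/-- At a place, at a uniformizer, for a normalised tuple. -/
theorem wDiv_normalised {φ : Fin (n + 1) → K} (hφ : LinearIndependent k φ) (P : Place k K)
    (h1 : (1 : K) ∈ span k (Set.range φ)) (hnorm : ∀ i, P.1 (φ i) ≤ 1) {t : K} (ht : P.1 t = exp (-1 : ℤ))
    {Ht : K →ₐ[k] PowerSeries K} (hHt : IsHasseFamily t Ht) {J : Fin n → ℕ} (hJ : IsOrders K (hcol τ Ht φ) J)
    {Φ : Place k K → (K →ₐ[k] LaurentSeries k)} (hΦ : ∀ P : Place k K, IsExpansionAt P.1 (Φ P)) :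
    0 ≤ wDiv τ Ht Φ t φ J P ∧
      (IsFixedPt τ P → wDiv τ Ht Φ t φ J P = P.ord (wrMat τ Ht φ J).det) := by
  have hdet := det_ne_zero_of_orders hK τ hφ hHt hJ
  have h0 : ordDiff (Φ P) 1 t = 0 := by
    rw [ordDiff_eq hK P ht hHt (hΦ P), hasseD_one_self hHt]
    exact ord_eq_of_val P (by simp)
  rw [wDiv_apply hK τ hHt J hΦ, h0, mul_zero, add_zero, mapDiv_eq_zero_of hK hφ.ne_zero P hnorm h1, mul_zero, add_zero]
  refine ⟨?_, fun hP => ?_⟩
  · have hle : P.1 (wrMat τ Ht φ J).det ≤ exp (mapDiv k (τ ∘ φ) P) := by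
      rw [Matrix.det_apply]
      refine P.1.map_sum_le fun σ _ => ?_
      have hs : P.1 (Equiv.Perm.sign σ • ∏ i, wrMat τ Ht φ J (σ i) i) = P.1 (∏ i, wrMat τ Ht φ J (σ i) i) := by
        rcases Int.units_eq_one_or (Equiv.Perm.sign σ) with h | h <;> simp [h]
      rw [hs, map_prod, Fin.prod_univ_succ]
      calc _ ≤ exp (mapDiv k (τ ∘ φ) P) * 1 := mul_le_mul' (val_le_exp_mapDiv hK (φ := τ ∘ φ) P (σ 0))
            (Finset.prod_le_one' fun l _ => val_hasseD_le hK P ht hHt (hnorm _) (J l))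
        _ = _ := mul_one _
    rw [val_le_exp_iff P hdet] at hle
    omega
  · rw [mapDiv_eq_zero_of hK (ne_zero_tau τ hφ.ne_zero) P (fun i => val_tau_le hK τ P hP (hnorm i))
      (one_mem_span_tau τ h1), add_zero]

include hK in
theorem exists_normalisation {φ : Fin (n + 1) → K} (hφ : LinearIndependent k φ) (P : Place k K) :
    ∃ y : K, y ≠ 0 ∧ LinearIndependent k (y • φ) ∧ (1 : K) ∈ span k (Set.range (y • φ)) ∧
      ∀ i, P.1 ((y • φ) i) ≤ 1 := by
  obtain ⟨i, hi⟩ := exists_val_eq_exp_mapDiv hK hφ.ne_zero P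
  have hne := hφ.ne_zero i
  refine ⟨(φ i)⁻¹, inv_ne_zero hne, ?_, subset_span ⟨i, by simp [hne]⟩, fun j => ?_⟩
  · exact hφ.map' (LinearMap.mulLeft k (φ i)⁻¹) (LinearMap.ker_eq_bot.mpr (mul_right_injective₀ (inv_ne_zero hne)))
  · change P.1 ((φ i)⁻¹ * φ j) ≤ 1
    rw [map_mul, map_inv₀, hi, ← exp_neg]
    calc _ ≤ exp (-mapDiv k φ P) * exp (mapDiv k φ P) := mul_le_mul' le_rfl (val_le_exp_mapDiv hK P j)
      _ = 1 := by rw [← exp_add, neg_add_cancel, exp_zero]

include hK in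
theorem wDiv_nonneg_and_deg {φ : Fin (n + 1) → K} (hφ : LinearIndependent k φ) {s : K}
    {H : K →ₐ[k] PowerSeries K} (hH : IsHasseFamily s H) {J : Fin n → ℕ} (hJ : IsOrders K (hcol τ H φ) J)
    {Φ : Place k K → (K →ₐ[k] LaurentSeries k)} (hΦ : ∀ P : Place k K, IsExpansionAt P.1 (Φ P)) :
    0 ≤ wDiv τ H Φ s φ J ∧
      (wDiv τ H Φ s φ J).deg = ((finrank τ.fieldRange K : ℤ) + n) * (mapDiv k φ).deg +
        (2 * (genus k K : ℤ) - 2) * ∑ l, (J l : ℤ) := by
  constructor
  · intro P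
    obtain ⟨y, hy, hli, h1, hnorm⟩ := exists_normalisation hK hφ P
    obtain ⟨t, -, ht⟩ := exists_uniformizer P
    obtain ⟨Ht, hHt⟩ := exists_hasse_uniformizer hK P ht
    have := wDiv_invariant hK τ hφ hH hHt hJ 1 (by simp) hy (φ' := y • φ)
      (fun i => by simp [Matrix.one_apply]) hΦ
    rw [← this.2]
    exact (wDiv_normalised hK τ hli P h1 hnorm ht hHt this.1 hΦ).1
  · rw [wDiv, deg_add, deg_add, deg_add, deg_div_eq_zero hK, (deg_mapDiv_tau hK τ φ).1, deg_zsmul, deg_zsmul,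
      (divDiff_props hK hH Φ hΦ).2]
    ring

end Wronskian

end Groth.Agent.FF
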