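import Groth.Agent.FF.PlaneSmooth
import Groth.Agent.FF.WDiv
import Groth.Agent.FF.DiffDegree

/-! The local ring of a projective map at a place, its fibres, and criteria for nonsingularity. -/

namespace Groth.Agent.FF

open FunFld WithZero Module Submodule
open scoped Classical

variable {k K : Type*} [Field k] [Field K] [Algebra k K] {ι : Type*} {φ : ι → K} {P Q : Place k K}

/-- An entry of least order. -/
def IsMax (φ : ι → K) (P : Place k K) (j : ι) : Prop := φ j ≠ 0 ∧ ∀ i, P.1 (φ i) ≤ P.1 (φ j)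

/-- The algebra of the ratios with denominator `φ j`. -/
abbrev ratioAlg (k : Type*) {K : Type*} [Field k] [Field K] [Algebra k K] {ι : Type*} (φ : ι → K) (j : ι) :
    Subalgebra k K := Algebra.adjoin k (Set.range fun i => φ i / φ j)

/-- The valuation ring of a place as a subalgebra. -/
def valSub (P : Place k K) : Subalgebra k K where
  carrier := {z | P.1 z ≤ 1}
  mul_mem' {a b} ha hb := by
    show P.1 (a * b) ≤ 1
    rw [map_mul]; exact mul_le_one' ha hb
  add_mem' {a b} ha hb := (P.1.map_add a b).trans (max_le ha hb)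
  algebraMap_mem' c := P.2.1 c

theorem exists_isMax [Fintype ι] (hne : ∃ i, φ i ≠ 0) (P : Place k K) : ∃ j, IsMax φ P j := by
  obtain ⟨i₀, h0⟩ := hne
  have : Nonempty ι := ⟨i₀⟩
  obtain ⟨j, -, hj⟩ := Finset.exists_max_image Finset.univ (fun i => P.1 (φ i)) Finset.univ_nonempty
  refine ⟨j, fun e => ?_, fun i => hj i (Finset.mem_univ i)⟩
  have := hj i₀ (Finset.mem_univ i₀)
  rw [e, map_zero] at this
  exact h0 ((map_eq_zero P.1).mp (le_antisymm this zero_le))

theorem IsMax.pos {j : ι} (h : IsMax φ P j) : 0 < P.1 (φ j) :=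
  zero_lt_iff.mpr ((map_ne_zero P.1).mpr h.1)

theorem IsMax.val_le_one {j : ι} (h : IsMax φ P j) {u : K} (hu : u ∈ ratioAlg k φ j) : P.1 u ≤ 1 := by
  have : ratioAlg k φ j ≤ valSub P := Algebra.adjoin_le (by
    rintro _ ⟨i, rfl⟩
    show P.1 (φ i / φ j) ≤ 1
    rw [map_div₀, div_le_one₀ h.pos]
    exact h.2 i)
  exact this hu

theorem div_mem_ratioAlg (j : ι) {f : K} (hf : f ∈ span k (Set.range φ)) : f / φ j ∈ ratioAlg k φ j := by
  induction hf using Submodule.span_induction with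
  | mem z hz => obtain ⟨i, rfl⟩ := hz; exact Algebra.subset_adjoin ⟨i, rfl⟩
  | zero => simp
  | add x y _ _ hx hy => rw [add_div]; exact add_mem hx hy
  | smul c x _ hx => rw [smul_div_assoc]; exact Subalgebra.smul_mem _ hx c

theorem inLocRing_of_max {j : ι} (h : IsMax φ P j) {z u w : K} (hu : u ∈ ratioAlg k φ j)
    (hw : w ∈ ratioAlg k φ j) (hw1 : P.1 w = 1) (hz : z * w = u) : InLocRing φ P z :=
  ⟨j, h.1, h.2, u, hu, w, hw, hw1, hz⟩

theorem inLocRing_of_mem {j : ι} (h : IsMax φ P j) {z : K} (hz : z ∈ ratioAlg k φ j) : InLocRing φ P z :=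
  inLocRing_of_max h hz (one_mem _) (map_one _) (mul_one z)

/-- The local ring may be computed with any entry of least order. -/
theorem exists_rep {z : K} (hz : InLocRing φ P z) {j : ι} (h : IsMax φ P j) :
    ∃ u ∈ ratioAlg k φ j, ∃ w ∈ ratioAlg k φ j, P.1 w = 1 ∧ z * w = u := by
  obtain ⟨i, hi0, himax, u, hu, w, hw, hw1, hzw⟩ := hz
  obtain ⟨N, hN⟩ := exists_degree_bound φ hi0 hu
  obtain ⟨N', hN'⟩ := exists_degree_bound φ hi0 hw
  refine ⟨u * φ i ^ (N + N') / φ j ^ (N + N'), div_pow_mem_adjoin φ h.1 _ _ (hN _ (by omega)),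
    w * φ i ^ (N + N') / φ j ^ (N + N'), div_pow_mem_adjoin φ h.1 _ _ (hN' _ (by omega)), ?_, ?_⟩
  · have e : P.1 (φ i) = P.1 (φ j) := le_antisymm (h.2 i) (himax j)
    rw [map_div₀, map_mul, map_pow, map_pow, hw1, one_mul, e, div_self (pow_ne_zero _ h.pos.ne')]
  · rw [← hzw, mul_div_assoc, mul_div_assoc, mul_assoc]

theorem inLocRing_val_le_one {z : K} (hz : InLocRing φ P z) : P.1 z ≤ 1 := by
  obtain ⟨j, hj0, hjmax, u, hu, w, hw, hw1, hzw⟩ := hz
  have h := IsMax.val_le_one (P := P) ⟨hj0, hjmax⟩ hu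
  rwa [← hzw, map_mul, hw1, mul_one] at h

theorem inLocRing_mul {a b : K} (ha : InLocRing φ P a) (hb : InLocRing φ P b) : InLocRing φ P (a * b) := by
  obtain ⟨j, hj0, hjmax, u, hu, w, hw, hw1, hzw⟩ := ha
  obtain ⟨u', hu', w', hw', hw1', hzw'⟩ := exists_rep hb ⟨hj0, hjmax⟩
  exact inLocRing_of_max ⟨hj0, hjmax⟩ (mul_mem hu hu') (mul_mem hw hw')
    (by rw [map_mul, hw1, hw1', one_mul]) (by rw [← hzw, ← hzw']; ring)

theorem inLocRing_add {a b : K} (ha : InLocRing φ P a) (hb : InLocRing φ P b) : InLocRing φ P (a + b) := by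
  obtain ⟨j, hj0, hjmax, u, hu, w, hw, hw1, hzw⟩ := ha
  obtain ⟨u', hu', w', hw', hw1', hzw'⟩ := exists_rep hb ⟨hj0, hjmax⟩
  exact inLocRing_of_max ⟨hj0, hjmax⟩ (add_mem (mul_mem hu hw') (mul_mem hu' hw)) (mul_mem hw hw')
    (by rw [map_mul, hw1, hw1', one_mul]) (by rw [← hzw, ← hzw']; ring)

theorem inLocRing_inv {a : K} (ha : InLocRing φ P a) (h1 : P.1 a = 1) : InLocRing φ P a⁻¹ := by
  obtain ⟨j, hj0, hjmax, u, hu, w, hw, hw1, hzw⟩ := ha
  have ha0 : a ≠ 0 := fun e => by rw [e, map_zero] at h1; exact zero_ne_one h1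
  refine inLocRing_of_max ⟨hj0, hjmax⟩ hw hu (by rw [← hzw, map_mul, h1, hw1, one_mul]) ?_
  rw [← hzw, ← mul_assoc, inv_mul_cancel₀ ha0, one_mul]

theorem inLocRing_algebraMap [Fintype ι] (hne : ∃ i, φ i ≠ 0) (P : Place k K) (c : k) :
    InLocRing φ P (algebraMap k K c) := by
  obtain ⟨j, hj⟩ := exists_isMax hne P
  exact inLocRing_of_mem hj (Subalgebra.algebraMap_mem _ c)

/-- A ratio-closed predicate. -/
theorem inLocRing_of_subalgebra {j : ι} (h : IsMax φ P j) {S : Subalgebra k K}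
    (hgen : ∀ i, φ i / φ j ∈ S) {z : K} (hz : InLocRing φ P z) :
    ∃ u ∈ S, ∃ w ∈ S, P.1 w = 1 ∧ z * w = u := by
  obtain ⟨u, hu, w, hw, hw1, hzw⟩ := exists_rep hz h
  have : ratioAlg k φ j ≤ S := Algebra.adjoin_le (by rintro _ ⟨i, rfl⟩; exact hgen i)
  exact ⟨u, this hu, w, this hw, hw1, hzw⟩

/-- Elements congruent to a constant modulo `m^n`. -/
def constMod (P : Place k K) (n : ℕ) : Subalgebra k K where
  carrier := {z | ∃ c : k, P.1 (z - algebraMap k K c) ≤ exp (-(n : ℤ))}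
  mul_mem' {a b} := by
    rintro ⟨c, hc⟩ ⟨d, hd⟩
    refine ⟨c * d, ?_⟩
    have hb : P.1 b ≤ 1 := by
      rw [← sub_add_cancel b (algebraMap k K d)]
      exact P.1.map_add_le (hd.trans (exp_zero (M := ℤ) ▸ exp_le_exp.mpr (by omega))) (P.2.1 d)
    rw [map_mul, show a * b - algebraMap k K c * algebraMap k K d =
      (a - algebraMap k K c) * b + algebraMap k K c * (b - algebraMap k K d) by ring]
    refine P.1.map_add_le ?_ ?_
    · rw [map_mul]; exact (mul_le_mul' hc hb).trans (mul_one _).le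
    · rw [map_mul]; exact (mul_le_mul' (P.2.1 c) hd).trans (one_mul _).le
  add_mem' {a b} := by
    rintro ⟨c, hc⟩ ⟨d, hd⟩
    exact ⟨c + d, by rw [map_add, add_sub_add_comm]; exact P.1.map_add_le hc hd⟩
  algebraMap_mem' c := ⟨c, by rw [sub_self, map_zero]; exact zero_le⟩

/-- Pairs of places with common constants. -/
def constPair (P Q : Place k K) : Subalgebra k K where
  carrier := {z | ∃ c : k, P.1 (z - algebraMap k K c) < 1 ∧ Q.1 (z - algebraMap k K c) < 1}
  mul_mem' {a b} := by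
    rintro ⟨c, hc, hc'⟩ ⟨d, hd, hd'⟩
    refine ⟨c * d, ?_⟩
    have key : ∀ R : Place k K, R.1 (a - algebraMap k K c) < 1 → R.1 (b - algebraMap k K d) < 1 →
        R.1 (a * b - algebraMap k K (c * d)) < 1 := fun R h1 h2 => by
      rw [map_mul, show a * b - algebraMap k K c * algebraMap k K d =
        (a - algebraMap k K c) * (b - algebraMap k K d) + (a - algebraMap k K c) * algebraMap k K d +
          algebraMap k K c * (b - algebraMap k K d) by ring]
      refine R.1.map_add_lt (R.1.map_add_lt ?_ ?_) ?_ <;> rw [map_mul]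
      · exact (mul_le_of_le_one_right' h2.le).trans_lt h1
      · exact (mul_le_of_le_one_right' (R.2.1 d)).trans_lt h1
      · exact (mul_le_of_le_one_left' (R.2.1 c)).trans_lt h2
    exact ⟨key P hc hd, key Q hc' hd'⟩
  add_mem' {a b} := by
    rintro ⟨c, hc, hc'⟩ ⟨d, hd, hd'⟩
    refine ⟨c + d, ?_, ?_⟩ <;> rw [map_add, add_sub_add_comm]
    · exact P.1.map_add_lt hc hd
    · exact Q.1.map_add_lt hc' hd'
  algebraMap_mem' c := ⟨c, by simp, by simp⟩

theorem val_lt_iff_const {R : Place k K} {z : K} {c : k} (h : R.1 (z - algebraMap k K c) < 1) :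
    R.1 z < 1 ↔ c = 0 := by
  constructor
  · intro hz
    by_contra hc
    have := R.1.map_sub_lt hz h
    rw [sub_sub_cancel, val_algebraMap R hc] at this
    exact lt_irrefl _ this
  · rintro rfl
    simpa using h

theorem val_eq_one_of_const {R : Place k K} {z : K} {c : k} (h : R.1 (z - algebraMap k K c) < 1) (hc : c ≠ 0) :
    R.1 z = 1 := by
  rw [show z = algebraMap k K c + (z - algebraMap k K c) by ring,
    Valuation.map_add_eq_of_lt_left _ (by rwa [val_algebraMap R hc]), val_algebraMap R hc]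

theorem val_le_one_of_const {R : Place k K} {z : K} {c : k} (h : R.1 (z - algebraMap k K c) < 1) :
    R.1 z ≤ 1 := by
  rw [show z = algebraMap k K c + (z - algebraMap k K c) by ring]
  exact R.1.map_add_le (R.2.1 c) h.le

theorem sameImage_locRing (h : SameImage φ P Q) {z : K} (hz : InLocRing φ P z) :
    Q.1 z ≤ 1 ∧ (Q.1 z < 1 ↔ P.1 z < 1) := by
  obtain ⟨j, hj0, hP, -, hc⟩ := h
  obtain ⟨u, ⟨c, huP, huQ⟩, w, ⟨d, hwP, hwQ⟩, hw1, hzw⟩ :=
    inLocRing_of_subalgebra (S := constPair P Q) ⟨hj0, hP⟩ hc hz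
  have hd : d ≠ 0 := fun e => by
    have := (val_lt_iff_const hwP).mpr e
    rw [hw1] at this; exact lt_irrefl _ this
  have hQw := val_eq_one_of_const hwQ hd
  have eQ : Q.1 z = Q.1 u := by rw [← hzw, map_mul, hQw, mul_one]
  have eP : P.1 z = P.1 u := by rw [← hzw, map_mul, hw1, mul_one]
  exact ⟨eQ ▸ val_le_one_of_const huQ, by rw [eQ, eP, val_lt_iff_const huQ, val_lt_iff_const huP]⟩

variable [IsAlgClosed k]

theorem sameImage_iff_forall_le (hK : IsFunctionField k K) [Fintype ι] (hne : ∃ i, φ i ≠ 0) :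
    SameImage φ P Q ↔ ∀ z, InLocRing φ P z → Q.1 z ≤ 1 := by
  refine ⟨fun h z hz => (sameImage_locRing h hz).1, fun h => ?_⟩
  obtain ⟨j, hj⟩ := exists_isMax hne P
  have hrat : ∀ i, InLocRing φ P (φ i / φ j) := fun i => inLocRing_of_mem hj (Algebra.subset_adjoin ⟨i, rfl⟩)
  refine ⟨j, hj.1, hj.2, fun i => ?_, fun i => ?_⟩
  · have := h _ (hrat i)
    rwa [map_div₀, div_le_one₀ (zero_lt_iff.mpr ((map_ne_zero Q.1).mpr hj.1))] at this
  obtain ⟨c, hc⟩ := exists_const_near hK P (inLocRing_val_le_one (hrat i))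
  refine ⟨c, hc, ?_⟩
  set z := φ i / φ j - algebraMap k K c with hzdef
  have hz : InLocRing φ P z := inLocRing_of_mem hj
    (sub_mem (Algebra.subset_adjoin ⟨i, rfl⟩) (Subalgebra.algebraMap_mem _ c))
  obtain ⟨d, hd⟩ := exists_const_near hK Q (h z hz)
  rw [val_lt_iff_const hd]
  by_contra hd0
  have hz' : InLocRing φ P (z - algebraMap k K d) := by
    rw [sub_eq_add_neg, ← map_neg]; exact inLocRing_add hz (inLocRing_algebraMap hne P _)
  have hP1 : P.1 (z - algebraMap k K d) = 1 := by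
    rw [sub_eq_add_neg, Valuation.map_add_eq_of_lt_right _ (by rwa [P.1.map_neg, val_algebraMap P hd0]),
      P.1.map_neg, val_algebraMap P hd0]
  have := h _ (inLocRing_inv hz' hP1)
  rw [map_inv₀] at this
  have h0 : (0 : WithZero (Multiplicative ℤ)) < Q.1 (z - algebraMap k K d) :=
    zero_lt_iff.mpr ((map_ne_zero _).mpr fun e => by rw [e, map_zero] at hP1; exact zero_ne_one hP1)
  exact not_lt.mpr this ((one_lt_inv₀ h0).mpr hd)

theorem sameImage_refl (hK : IsFunctionField k K) [Fintype ι] (hne : ∃ i, φ i ≠ 0) (P : Place k K) :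
    SameImage φ P P := (sameImage_iff_forall_le hK hne).mpr fun _ => inLocRing_val_le_one

theorem exists_uniformizer_loc_iff (hK : IsFunctionField k K) {j : ι} (hj : IsMax φ P j) :
    (∃ t, InLocRing φ P t ∧ P.1 t = exp (-1 : ℤ)) ↔
      ∃ s ∈ span k (Set.range φ), P.1 s = P.1 (φ j) * exp (-1 : ℤ) := by
  constructor
  · rintro ⟨t, ht, htv⟩
    by_contra hc
    push Not at hc
    have hgen : ∀ i, φ i / φ j ∈ constMod P 2 := fun i => by
      obtain ⟨c, hc'⟩ := exists_const_near hK P (hj.val_le_one (Algebra.subset_adjoin ⟨i, rfl⟩))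
      refine ⟨c, ?_⟩
      have h1 := val_le_of_lt_one P hc'
      have hs : φ i - c • φ j ∈ span k (Set.range φ) :=
        sub_mem (subset_span ⟨i, rfl⟩) (smul_mem _ _ (subset_span ⟨j, rfl⟩))
      have h2 := hc _ hs
      have e : φ i - c • φ j = φ j * (φ i / φ j - algebraMap k K c) := by
        rw [mul_sub, mul_div_cancel₀ _ hj.1, Algebra.smul_def]; ring
      rw [e, map_mul] at h2
      rcases eq_or_ne (φ i / φ j - algebraMap k K c) 0 with h0 | h0
      · rw [h0, map_zero]; exact zero_le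
      rw [val_eq_exp_neg_ord P h0] at h1 h2 ⊢
      rw [exp_le_exp] at h1 ⊢
      have h3 : -P.ord (φ i / φ j - algebraMap k K c) ≠ -1 := fun e' => h2 (by rw [e'])
      push_cast
      omega
    obtain ⟨u, ⟨c, hu⟩, w, -, hw1, htw⟩ := inLocRing_of_subalgebra hj hgen ht
    have hu1 : P.1 u = exp (-1 : ℤ) := by rw [← htw, map_mul, htv, hw1, mul_one]
    have hlt : P.1 (u - algebraMap k K c) < 1 :=
      hu.trans_lt (by rw [← exp_zero, exp_lt_exp]; norm_num)
    have hc0 : c = 0 := (val_lt_iff_const hlt).mp (by rw [hu1, ← exp_zero, exp_lt_exp]; norm_num)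
    rw [hc0, map_zero, sub_zero, hu1, exp_le_exp] at hu
    norm_num at hu
  · rintro ⟨s, hs, hsv⟩
    refine ⟨s / φ j, inLocRing_of_mem hj (div_mem_ratioAlg j hs), ?_⟩
    rw [map_div₀, hsv, mul_comm, mul_div_assoc, div_self hj.pos.ne', mul_one]

section MapDiv

variable [Fintype ι] [Nonempty ι]

theorem isBpf_mapDiv (hK : IsFunctionField k K) (hne : ∀ i, φ i ≠ 0) :
    IsBpf (span k (Set.range φ)) (mapDiv k φ) where
  le _ hf P := val_le_of_mem_span' hK P hf
  exists_exact P := by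
    obtain ⟨i, hi⟩ := exists_val_eq_exp_mapDiv hK hne P
    exact ⟨φ i, subset_span ⟨i, rfl⟩, hi⟩

theorem isMax_val (hK : IsFunctionField k K) (hne : ∀ i, φ i ≠ 0) {j : ι} (hj : IsMax φ P j) :
    P.1 (φ j) = exp (mapDiv k φ P) :=
  val_eq_exp_of_forall_le (isBpf_mapDiv hK hne) hj.2

/-- Two places with different images are separated by the span. -/
theorem exists_separating_mem (hK : IsFunctionField k K) (hne : ∀ i, φ i ≠ 0) (h : ¬ SameImage φ P Q) :
    ∃ s ∈ span k (Set.range φ), P.1 s < exp (mapDiv k φ P) ∧ IsExact (mapDiv k φ) Q s := by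
  obtain ⟨i, hi⟩ := exists_isMax ⟨_, hne (Classical.arbitrary ι)⟩ Q
  rcases lt_or_eq_of_le (val_le_exp_mapDiv hK (φ := φ) P i) with hlt | heq
  · exact ⟨φ i, subset_span ⟨i, rfl⟩, hlt, isMax_val hK hne hi⟩
  have hP : ∀ l, P.1 (φ l) ≤ P.1 (φ i) := fun l => heq ▸ val_le_exp_mapDiv hK P l
  have hmem : ∀ l, ∀ c : k, φ l - c • φ i ∈ span k (Set.range φ) := fun l c =>
    sub_mem (subset_span ⟨l, rfl⟩) (smul_mem _ _ (subset_span ⟨i, rfl⟩))
  have hfac : ∀ l, ∀ c : k, φ l - c • φ i = φ i * (φ l / φ i - algebraMap k K c) := fun l c => by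
    rw [mul_sub, mul_div_cancel₀ _ hi.1, Algebra.smul_def]; ring
  by_contra hcon
  refine h ⟨i, hi.1, hP, hi.2, fun l => ?_⟩
  obtain ⟨c, hc⟩ := exists_const_near hK P
    (IsMax.val_le_one ⟨hi.1, hP⟩ (Algebra.subset_adjoin ⟨l, rfl⟩))
  refine ⟨c, hc, ?_⟩
  by_contra hQ
  refine hcon ⟨_, hmem l c, ?_, ?_⟩
  · rw [hfac, map_mul, ← heq]
    calc P.1 (φ i) * P.1 (φ l / φ i - algebraMap k K c) < P.1 (φ i) * 1 :=
          mul_lt_mul_of_pos_left hc (IsMax.pos (P := P) ⟨hi.1, hP⟩)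
      _ = _ := mul_one _
  · have h1 : Q.1 (φ l / φ i - algebraMap k K c) = 1 := by
      refine le_antisymm ?_ (not_lt.mp hQ)
      exact (valSub Q).sub_mem (hi.val_le_one (Algebra.subset_adjoin ⟨l, rfl⟩)) (Q.2.1 c)
    rw [IsExact, hfac, map_mul, h1, mul_one, isMax_val hK hne hi]

theorem isNonsingularAt_iff (hK : IsFunctionField k K) (hne : ∀ i, φ i ≠ 0) (P : Place k K) :
    IsNonsingularAt φ P ↔ (∀ Q, SameImage φ P Q → Q = P) ∧
      ∃ s ∈ span k (Set.range φ), P.1 s = exp (mapDiv k φ P - 1) := by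
  obtain ⟨j, hj⟩ := exists_isMax ⟨_, hne (Classical.arbitrary ι)⟩ P
  constructor
  · intro h
    refine ⟨fun Q hQ => (eq_of_le fun z hz => (sameImage_locRing hQ (h z hz)).1).symm, ?_⟩
    obtain ⟨t, -, ht⟩ := exists_uniformizer P
    obtain ⟨s, hs, hsv⟩ := (exists_uniformizer_loc_iff hK hj).mp
      ⟨t, h t (by rw [ht, ← exp_zero, exp_le_exp]; norm_num), ht⟩
    exact ⟨s, hs, by rw [hsv, isMax_val hK hne hj, ← exp_add]; rfl⟩
  · rintro ⟨h1, h2⟩
    exact isNonsingularAt_of_separates hK φ _ (isBpf_mapDiv hK hne) P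
      (fun Q hQ => exists_separating_mem hK hne fun h => hQ (h1 Q h)) h2

end MapDiv

/-- Removing one point drops the dimension by one exactly when some member is exact there. -/
theorem finrank_inf_sub_single (hK : IsFunctionField k K) (W : Submodule k K) [FiniteDimensional k W]
    (E : Divisor k K) (Q : Place k K) :
    ((∃ s ∈ W ⊓ L E, Q.1 s = exp (E Q)) →
      finrank k ↥(W ⊓ L (E - Finsupp.single Q 1)) + 1 = finrank k ↥(W ⊓ L E)) ∧
    ((¬ ∃ s ∈ W ⊓ L E, Q.1 s = exp (E Q)) →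
      finrank k ↥(W ⊓ L (E - Finsupp.single Q 1)) = finrank k ↥(W ⊓ L E)) := by
  have hsub : E - Finsupp.single Q 1 ≤ E := sub_le_self E (Finsupp.single_nonneg.mpr zero_le_one)
  have hle : W ⊓ L (E - Finsupp.single Q 1) ≤ W ⊓ L E := inf_le_inf_left _ (L_mono hsub)
  have : FiniteDimensional k ↥(W ⊓ L E) := Submodule.finiteDimensional_of_le inf_le_left
  constructor
  · rintro ⟨s, hs, hsv⟩
    have hlt : W ⊓ L (E - Finsupp.single Q 1) < W ⊓ L E := by
      refine lt_of_le_of_ne hle fun e => ?_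
      exact not_le_of_exact hsv (mem_L_sub_single.mp (e ▸ hs : s ∈ W ⊓ L (E - Finsupp.single Q 1)).2).2
    have h1 := Submodule.finrank_lt_finrank_of_lt hlt
    obtain ⟨e, he, hrel⟩ := hasRelDim_L hK hsub
    obtain ⟨e', he', hrel'⟩ := hrel.inf_right W
    have : FiniteDimensional k ↥(L (E - Finsupp.single Q 1) ⊓ W) :=
      Submodule.finiteDimensional_of_le inf_le_right
    have h2 := (hrel'.finiteDimensional_iff this).2
    rw [inf_comm, inf_comm (L (E - Finsupp.single Q 1))] at h2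
    have he1 : (e : ℤ) ≤ 1 := by
      rw [deg_sub, deg_single, deg_eq_one hK] at he; push_cast at he; omega
    omega
  · intro h
    rw [show W ⊓ L (E - Finsupp.single Q 1) = W ⊓ L E from le_antisymm hle fun s hs =>
      ⟨hs.1, mem_L_sub_single.mpr ⟨hs.2, by_contra fun hn => h ⟨s, hs, exact_of_not_le hs.2 hn⟩⟩⟩]

end Groth.Agent.FF
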