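import Groth.Prelude.Def_W4bk4goldsch45p2
import Groth.Agent.FF.Expansion

/-! Order sequences and Wronskians. -/

namespace Groth.Agent.FF

open FunFld LocRes WithZero Submodule
open scoped Classical

section Columns

variable {R M : Type*} [Field R] [AddCommGroup M] [Module R M]

theorem span_Iio_succ (c : ℕ → M) (j : ℕ) :
    span R (c '' Set.Iio (j + 1)) = span R (c '' Set.Iio j) ⊔ span R {c j} := by
  rw [show Set.Iio (j + 1) = Set.Iio j ∪ {j} by ext; simp, Set.image_union, Set.image_singleton, span_union]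

theorem span_Iio_congr {c c' : ℕ → M} {a : ℕ → R} (ha : ∀ j, a j ≠ 0)
    (h : ∀ j, c' j - a j • c j ∈ span R (c '' Set.Iio j)) (j : ℕ) :
    span R (c' '' Set.Iio j) = span R (c '' Set.Iio j) := by
  induction j with
  | zero => simp
  | succ j ih =>
    rw [span_Iio_succ, span_Iio_succ, ih]
    refine le_antisymm (sup_le le_sup_left ?_) (sup_le le_sup_left ?_) <;>
      rw [span_singleton_le_iff_mem]
    · rw [show c' j = (c' j - a j • c j) + a j • c j by abel]
      exact add_mem (le_sup_left (b := span R {c j}) (h j))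
        (le_sup_right (a := span R (c '' Set.Iio j)) (smul_mem _ _ (mem_span_singleton_self _)))
    · rw [show c j = (a j)⁻¹ • (c' j - (c' j - a j • c j)) by rw [sub_sub_cancel, inv_smul_smul₀ (ha j)]]
      exact smul_mem _ _ (sub_mem (le_sup_right (a := span R (c '' Set.Iio j)) (mem_span_singleton_self _))
        (le_sup_left (b := span R {c' j}) (h j)))

theorem isJump_iff_span (c : ℕ → M) (j : ℕ) :
    IsJump R c j ↔ span R (c '' Set.Iio (j + 1)) ≠ span R (c '' Set.Iio j) := by
  rw [IsJump, ne_eq, span_Iio_succ, sup_eq_left, span_singleton_le_iff_mem]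

theorem isOrders_congr {c c' : ℕ → M} (h : ∀ j, span R (c' '' Set.Iio j) = span R (c '' Set.Iio j))
    {n : ℕ} (J : Fin n → ℕ) : IsOrders R c' J ↔ IsOrders R c J := by
  simp only [IsOrders, isJump_iff_span, h]

theorem span_jumps (c : ℕ → M) (m : ℕ) :
    span R (c '' Set.Iio m) = span R (c '' {i | i < m ∧ IsJump R c i}) := by
  refine le_antisymm ?_ (span_mono (Set.image_mono fun i hi => hi.1))
  induction m with
  | zero => simp
  | succ m ih =>
    have hmono : span R (c '' {i | i < m ∧ IsJump R c i}) ≤ span R (c '' {i | i < m + 1 ∧ IsJump R c i}) :=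
      span_mono (Set.image_mono fun i hi => ⟨by have := hi.1; omega, hi.2⟩)
    rw [span_Iio_succ]
    refine sup_le (ih.trans hmono) ?_
    rw [span_singleton_le_iff_mem]
    by_cases hm : IsJump R c m
    · exact subset_span ⟨m, ⟨by omega, hm⟩, rfl⟩
    · exact hmono (ih (not_not.mp hm))

/-- Column indices selected by an order sequence. -/
def idx {n : ℕ} (J : Fin n → ℕ) : Fin (n + 1) → ℕ := Fin.cases 0 (fun l => J l + 1)

theorem idx_strictMono {n : ℕ} {J : Fin n → ℕ} (hJ : StrictMono J) : StrictMono (idx J) := by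
  intro a b hab
  induction b using Fin.cases with
  | zero => exact absurd hab (by simp)
  | succ b =>
    induction a using Fin.cases with
    | zero => simp [idx]
    | succ a => simpa [idx] using hJ (Fin.succ_lt_succ_iff.mp hab)

theorem exists_idx_of_isJump {c : ℕ → M} {n : ℕ} {J : Fin n → ℕ} (hJ : IsOrders R c J) {i : ℕ}
    (hi : IsJump R c i) : ∃ e, idx J e = i := by
  match i with
  | 0 => exact ⟨0, rfl⟩
  | i + 1 =>
    obtain ⟨l, hl⟩ := (hJ.2 i).mpr hi
    exact ⟨l.succ, by simp [idx, hl]⟩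

theorem span_idx {c : ℕ → M} {n : ℕ} {J : Fin n → ℕ} (hJ : IsOrders R c J) (m : ℕ) :
    span R (c '' Set.Iio m) ≤ span R ((fun e => c (idx J e)) '' {e | idx J e < m}) := by
  rw [span_jumps]
  refine span_mono ?_
  rintro _ ⟨i, ⟨him, hi⟩, rfl⟩
  obtain ⟨e, rfl⟩ := exists_idx_of_isJump hJ hi
  exact ⟨e, him, rfl⟩

theorem linearIndependent_jumps (c : ℕ → M) :
    LinearIndependent R (fun i : {i | IsJump R c i} => c i) := by
  rw [linearIndependent_iff']
  intro s g hg
  by_contra hne
  push Not at hne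
  have hne' : (s.filter fun i => g i ≠ 0).Nonempty := by
    obtain ⟨i, hi, hgi⟩ := hne
    exact ⟨i, Finset.mem_filter.mpr ⟨hi, hgi⟩⟩
  let m := (s.filter fun i => g i ≠ 0).max' hne'
  obtain ⟨hms, hgm⟩ := Finset.mem_filter.mp ((s.filter fun i => g i ≠ 0).max'_mem hne')
  refine m.2 ?_
  rw [← Finset.add_sum_erase s (fun i => g i • c i) hms, add_eq_zero_iff_eq_neg] at hg
  rw [show c m = (g m)⁻¹ • (g m • c m) from (inv_smul_smul₀ hgm _).symm, hg]
  refine smul_mem _ _ (neg_mem (sum_mem fun i hi => ?_))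
  by_cases hgi : g i = 0
  · rw [hgi, zero_smul]; exact zero_mem _
  · obtain ⟨hne'', his⟩ := Finset.mem_erase.mp hi
    refine smul_mem _ _ (subset_span ⟨i.1, ?_, rfl⟩)
    exact lt_of_le_of_ne ((s.filter fun i => g i ≠ 0).le_max' i (Finset.mem_filter.mpr ⟨his, hgi⟩) : i ≤ m)
      fun e => hne'' e

variable {N : ℕ}

/-- A full column sequence with non-zero leading column has exactly `N` orders. -/
theorem exists_isOrders {c : ℕ → Fin (N + 1) → R} (h0 : c 0 ≠ 0) (hfull : span R (Set.range c) = ⊤) :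
    ∃ J : Fin N → ℕ, IsOrders R c J ∧ LinearIndependent R (fun e => c (idx J e)) := by
  have hli := linearIndependent_jumps (R := R) c
  have hfin : Finite {i | IsJump R c i} := hli.finite
  have hsp : span R (Set.range fun i : {i | IsJump R c i} => c i) = ⊤ := by
    rw [eq_top_iff, ← hfull, span_le]
    rintro _ ⟨i, rfl⟩
    have : c i ∈ span R (c '' Set.Iio (i + 1)) := subset_span ⟨i, Nat.lt_succ_self i, rfl⟩
    rw [span_jumps] at this
    exact span_mono (by rintro _ ⟨j, hj, rfl⟩; exact ⟨⟨j, hj.2⟩, rfl⟩) this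
  have : Fintype {i | IsJump R c i} := Fintype.ofFinite _
  have hcard : Fintype.card {i | IsJump R c i} = N + 1 := by
    rw [← Module.finrank_eq_card_basis (Module.Basis.mk hli hsp.ge), Module.finrank_fin_fun]
  let S : Finset ℕ := Set.toFinset {i | IsJump R c i}
  let e := S.orderEmbOfFin (k := N + 1) (by rw [Set.toFinset_card, hcard])
  have hrange : ∀ i, IsJump R c i ↔ ∃ a, e a = i := fun i => by
    rw [← Set.mem_range, Finset.range_orderEmbOfFin]
    simp [S]
  have he0 : e 0 = 0 := by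
    obtain ⟨a, ha⟩ := (hrange 0).mp (by simpa [IsJump] using h0)
    exact Nat.le_zero.mp ((e.monotone (Fin.zero_le a)).trans_eq ha)
  have hpos : ∀ l : Fin N, 0 < e l.succ := fun l => he0 ▸ e.strictMono (Fin.succ_pos l)
  let J : Fin N → ℕ := fun l => e l.succ - 1
  have hidx : ∀ a, idx J a = e a := Fin.cases (by simp [idx, he0]) fun l => by
    have := hpos l
    simp [idx, J]; omega
  have hmem : ∀ a, IsJump R c (idx J a) := fun a => (hrange _).mpr ⟨a, (hidx a).symm⟩
  have hJ : StrictMono J := fun a b hab => by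
    have := e.strictMono (Fin.succ_lt_succ_iff.mpr hab)
    have := hpos a
    simp only [J]; omega
  refine ⟨J, ⟨hJ, fun j => ⟨?_, fun hj => ?_⟩⟩, hli.comp (fun a => (⟨idx J a, hmem a⟩ : {i | IsJump R c i}))
    fun a b h => (idx_strictMono hJ).injective (congrArg Subtype.val h)⟩
  · rintro ⟨l, rfl⟩
    simpa [idx] using hmem l.succ
  · obtain ⟨a, ha⟩ := (hrange _).mp hj
    obtain ⟨l, rfl⟩ : ∃ l : Fin N, l.succ = a := Fin.exists_succ_eq.mpr fun h => by rw [h, he0] at ha; omega
    exact ⟨l, by simp [J, ha]⟩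

theorem orders_le {c : ℕ → Fin (N + 1) → R} {J J' : Fin N → ℕ} (hJ : IsOrders R c J) (hJ' : StrictMono J')
    (hli : LinearIndependent R (fun e => c (idx J' e))) (l : Fin N) : J l ≤ J' l := by
  by_contra hlt
  push Not at hlt
  let A : Finset (Fin (N + 1)) := Finset.Iic l.succ
  have hsub : (fun e => c (idx J' e)) '' A ⊆ span R (c '' Set.Iio (J' l + 2)) := by
    rintro _ ⟨e, he, rfl⟩
    refine subset_span ⟨_, ?_, rfl⟩
    have := (idx_strictMono hJ').monotone (show e ≤ l.succ from Finset.mem_Iic.mp he)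
    simp only [idx, Fin.cases_succ] at this ⊢
    rw [Set.mem_Iio]
    omega
  let B : Finset (Fin (N + 1)) := Finset.Iio l.succ
  have hle : span R (c '' Set.Iio (J' l + 2)) ≤ span R ((fun e => c (idx J e)) '' B) :=
    (span_idx hJ _).trans (span_mono (Set.image_mono fun e he => by
      rw [Finset.mem_coe, Finset.mem_Iio]
      by_contra hge
      have := (idx_strictMono hJ.1).monotone (not_lt.mp hge)
      simp only [idx, Fin.cases_succ] at this
      have h2 : idx J e < J' l + 2 := he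
      simp only [idx] at h2
      omega))
  have h1 : Module.finrank R (span R ((fun e => c (idx J' e)) '' A)) = A.card := by
    rw [← Fintype.card_coe, ← finrank_span_eq_card (hli.comp ((↑) : A → Fin (N + 1)) Subtype.val_injective)]
    rw [Set.range_comp, show Set.range ((↑) : A → Fin (N + 1)) = (A : Set (Fin (N + 1))) from Subtype.range_coe]
  have h2 : Module.finrank R (span R ((fun e => c (idx J e)) '' B)) ≤ B.card := by
    rw [← Finset.coe_image]
    exact (finrank_span_finset_le_card _).trans Finset.card_image_le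
  have h3 := Submodule.finrank_mono ((span_le.mpr hsub).trans hle)
  rw [h1] at h3
  have := h3.trans h2
  simp [A, B] at this

theorem det_triangular {M M' : Matrix (Fin N) (Fin N) R} {a : Fin N → R}
    (h : ∀ l, (fun i => M' i l) - a l • (fun i => M i l) ∈ span R ((fun e i => M i e) '' Set.Iio l)) :
    M'.det = (∏ l, a l) * M.det := by
  have hex : ∀ l, ∃ f : Fin N → R, (∀ e, ¬ e < l → f e = 0) ∧
      (fun i => M' i l) = a l • (fun i => M i l) + ∑ e, f e • (fun i => M i e) := fun l => by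
    obtain ⟨f, hf, hsum⟩ := (Finsupp.mem_span_image_iff_linearCombination R).mp (h l)
    refine ⟨f, fun e he => by
      by_contra hne
      exact he (hf (Finsupp.mem_support_iff.mpr hne)), ?_⟩
    rw [Finsupp.linearCombination_apply, Finsupp.sum_fintype _ _ (by simp)] at hsum
    rw [hsum]; abel
  choose f hf hM using hex
  let T : Matrix (Fin N) (Fin N) R := Matrix.of fun e l => (if e = l then a l else 0) + f l e
  have hT : T.IsUpperTriangular := fun i j hij => by
    have hji : ¬ i < j := not_lt.mpr (le_of_lt hij)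
    simp [T, hf j i hji, (ne_of_gt hij : i ≠ j)]
  have hMT : M' = M * T := by
    ext i l
    have := congrFun (hM l) i
    simp only [Pi.add_apply, Pi.smul_apply, Finset.sum_apply, smul_eq_mul] at this
    rw [this]
    simp [Matrix.mul_apply, T, mul_add, Finset.sum_add_distrib, mul_comm]
  rw [hMT, Matrix.det_mul, Matrix.det_of_isUpperTriangular hT, mul_comm]
  congr 1
  exact Finset.prod_congr rfl fun l _ => by simp [T, hf l l (lt_irrefl l)]

end Columns

variable {k K : Type*} [Field k] [Field K] [Algebra k K]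

theorem wrMat_col {n : ℕ} (τ : K →ₐ[k] K) (H : K →ₐ[k] PowerSeries K) (φ : Fin (n + 1) → K) (I : Fin n → ℕ)
    (e : Fin (n + 1)) : (fun i => wrMat τ H φ I i e) = hcol τ H φ (idx I e) := by
  induction e using Fin.cases with
  | zero => rfl
  | succ l => rfl

theorem det_ne_zero_iff {n : ℕ} (τ : K →ₐ[k] K) (H : K →ₐ[k] PowerSeries K) (φ : Fin (n + 1) → K) (I : Fin n → ℕ) :
    (wrMat τ H φ I).det ≠ 0 ↔ LinearIndependent K (fun e => hcol τ H φ (idx I e)) := by
  rw [← isUnit_iff_ne_zero, ← Matrix.isUnit_iff_isUnit_det, ← Matrix.linearIndependent_cols_iff_isUnit]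
  rw [show (wrMat τ H φ I).col = fun e => hcol τ H φ (idx I e) from funext (wrMat_col τ H φ I)]

/-- Triangular change of columns: same orders, and the Wronskian is multiplied by the diagonal. -/
theorem orders_and_det_of_triangular {n : ℕ} {τ : K →ₐ[k] K} {H H' : K →ₐ[k] PowerSeries K}
    {φ φ' : Fin (n + 1) → K} {a : ℕ → K} (ha : ∀ j, a j ≠ 0)
    (h : ∀ j, hcol τ H' φ' j - a j • hcol τ H φ j ∈ span K (hcol τ H φ '' Set.Iio j)) :
    (∀ J : Fin n → ℕ, IsOrders K (hcol τ H' φ') J ↔ IsOrders K (hcol τ H φ) J) ∧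
    ∀ J : Fin n → ℕ, IsOrders K (hcol τ H φ) J →
      (wrMat τ H' φ' J).det = (a 0 * ∏ l, a (J l + 1)) * (wrMat τ H φ J).det := by
  refine ⟨fun J => isOrders_congr (span_Iio_congr ha h) J, fun J hJ => ?_⟩
  rw [det_triangular (M := wrMat τ H φ J) (M' := wrMat τ H' φ' J) (a := fun e => a (idx J e)) fun e => ?_,
    Fin.prod_univ_succ]
  · simp [idx]
  · rw [wrMat_col, wrMat_col]
    simp only [funext (wrMat_col τ H φ J)]
    refine (span_idx hJ (idx J e)).trans (span_mono (Set.image_mono fun e' he' => ?_)) (h (idx J e))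
    exact (idx_strictMono hJ.1).lt_iff_lt.mp he'

theorem hasseD_mul_eq (H : K →ₐ[k] PowerSeries K) (j : ℕ) (y z : K) :
    hasseD H j (y * z) = ∑ i ∈ Finset.range (j + 1), hasseD H (j - i) y * hasseD H i z := by
  rw [hasseD_apply, map_mul, mul_comm, PowerSeries.coeff_mul,
    Finset.Nat.sum_antidiagonal_eq_sum_range_succ (fun a b => PowerSeries.coeff a (H z) * PowerSeries.coeff b (H y))]
  exact Finset.sum_congr rfl fun i _ => mul_comm _ _

theorem hcol_smul_triangular {n : ℕ} (τ : K →ₐ[k] K) {s : K} {H : K →ₐ[k] PowerSeries K} (hH : IsHasseFamily s H)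
    (φ : Fin (n + 1) → K) (y : K) (j : ℕ) :
    hcol τ H (y • φ) j - (if j = 0 then τ y else y) • hcol τ H φ j ∈ span K (hcol τ H φ '' Set.Iio j) := by
  match j with
  | 0 =>
    have : hcol τ H (y • φ) 0 - τ y • hcol τ H φ 0 = 0 := by ext i; simp [hcol]
    rw [if_pos rfl, this]; exact zero_mem _
  | j + 1 =>
    have : hcol τ H (y • φ) (j + 1) - y • hcol τ H φ (j + 1) =
        ∑ i ∈ Finset.range j, hasseD H (j - i) y • hcol τ H φ (i + 1) := by
      ext r
      simp only [hcol, Pi.sub_apply, Pi.smul_apply, smul_eq_mul, Finset.sum_apply, hasseD_mul_eq,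
        Finset.sum_range_succ, Nat.sub_self, hasseD_zero hH, add_sub_cancel_right]
    rw [if_neg (Nat.succ_ne_zero j), this]
    exact sum_mem fun i hi => smul_mem _ _ (subset_span ⟨i + 1, by simp at hi ⊢; omega, rfl⟩)

theorem orders_smul {n : ℕ} (τ : K →ₐ[k] K) {s : K} {H : K →ₐ[k] PowerSeries K} (hH : IsHasseFamily s H)
    (φ : Fin (n + 1) → K) {y : K} (hy : y ≠ 0) :
    (∀ J : Fin n → ℕ, IsOrders K (hcol τ H (y • φ)) J ↔ IsOrders K (hcol τ H φ) J) ∧
    ∀ J : Fin n → ℕ, IsOrders K (hcol τ H φ) J →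
      (wrMat τ H (y • φ) J).det = τ y * y ^ n * (wrMat τ H φ J).det := by
  have := orders_and_det_of_triangular (H := H) (H' := H) (φ := φ) (φ' := y • φ)
    (a := fun j => if j = 0 then τ y else y)
    (fun j => by split_ifs <;> simp [hy]) (hcol_smul_triangular τ hH φ y)
  refine ⟨this.1, fun J hJ => ?_⟩
  rw [this.2 J hJ]; simp

theorem hasseD_one_ne_zero [PerfectField k] (hK : IsFunctionField k K) {s t : K} {Hs Ht : K →ₐ[k] PowerSeries K}
    (hHs : IsHasseFamily s Hs) (hHt : IsHasseFamily t Ht) : hasseD Ht 1 s ≠ 0 := by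
  intro h0
  have := isSeparable_of_hasse hK hHs
  have he : hasseDer hHt = (hasseD Ht 1 s) • hasseDer hHs := by
    refine derivation_ext_separable (x := s) _ _ ?_
    change hasseD Ht 1 s = hasseD Ht 1 s * hasseD Hs 1 s
    rw [hasseD_one_self hHs, mul_one]
  have := Derivation.congr_fun he t
  change hasseD Ht 1 t = hasseD Ht 1 s * hasseD Hs 1 t at this
  rw [hasseD_one_self hHt, h0, zero_mul] at this
  exact one_ne_zero this

theorem hcol_change_triangular [PerfectField k] (hK : IsFunctionField k K) {n : ℕ} (τ : K →ₐ[k] K)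
    {s t : K} {Hs Ht : K →ₐ[k] PowerSeries K} (hHs : IsHasseFamily s Hs) (hHt : IsHasseFamily t Ht)
    (φ : Fin (n + 1) → K) (j : ℕ) :
    hcol τ Ht φ j - (hasseD Ht 1 s ^ (j - 1)) • hcol τ Hs φ j ∈ span K (hcol τ Hs φ '' Set.Iio j) := by
  have := isSeparable_of_hasse hK hHs
  let g : PowerSeries K := Ht s - PowerSeries.C s
  have hg0 : PowerSeries.constantCoeff g = 0 := by simp [g, hHt.2]
  have hsub : PowerSeries.HasSubst g := PowerSeries.HasSubst.of_constantCoeff_zero' hg0
  have hg1 : PowerSeries.coeff 1 g = hasseD Ht 1 s := by simp [g, PowerSeries.coeff_C]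
  let A : K →ₐ[k] PowerSeries K := ((PowerSeries.substAlgHom hsub).restrictScalars k).comp Hs
  have hcoeff : ∀ z j, hasseD Ht j z = ∑ d ∈ Finset.range (j + 1), hasseD Hs d z * PowerSeries.coeff j (g ^ d) := by
    intro z j
    have hlow : ∀ d, j < d → PowerSeries.coeff j (g ^ d) = 0 := fun d hd =>
      PowerSeries.X_pow_dvd_iff.mp (pow_dvd_pow_of_dvd (PowerSeries.X_dvd_iff.mpr hg0) d) j hd
    have hcs : ∀ z j, PowerSeries.coeff j (A z) = ∑ᶠ d, hasseD Hs d z * PowerSeries.coeff j (g ^ d) := fun z j => by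
      change PowerSeries.coeff j (PowerSeries.substAlgHom hsub (Hs z)) = _
      rw [PowerSeries.coe_substAlgHom, PowerSeries.coeff_subst' hsub]
      rfl
    have : IsLocalHom (PowerSeries.constantCoeff : PowerSeries K →+* K) :=
      ⟨fun a ha => PowerSeries.isUnit_iff_constantCoeff.mpr ha⟩
    have hA : Ht = A := hom_ext_of_separable (t := s) (PowerSeries.constantCoeff : PowerSeries K →+* K) Ht A
      (fun w => by
        rw [hHt.2]
        have := hcs w 0
        rw [PowerSeries.coeff_zero_eq_constantCoeff_apply, finsum_eq_single _ 0 (fun d hd => ?_)] at this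
        · rw [this, hasseD_zero hHs]; simp
        · simp [hg0, zero_pow hd])
      (by
        change Ht s = PowerSeries.substAlgHom hsub (Hs s)
        rw [hHs.1, map_add, PowerSeries.substAlgHom_X, ← PowerSeries.algebraMap_eq, AlgHom.commutes]
        simp [g])
    rw [hasseD_apply, hA, hcs]
    refine finsum_eq_sum_of_support_subset _ fun d hd => ?_
    rw [Finset.coe_range, Set.mem_Iio]
    by_contra hlt
    exact hd (by simp only [hlow d (by omega), mul_zero])
  match j with
  | 0 =>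
    have : hcol τ Ht φ 0 - (hasseD Ht 1 s ^ (0 - 1)) • hcol τ Hs φ 0 = 0 := by ext i; simp [hcol]
    rw [this]; exact zero_mem _
  | j + 1 =>
    have hdiag : PowerSeries.coeff j (g ^ j) = hasseD Ht 1 s ^ j := by
      obtain ⟨u, hu⟩ := PowerSeries.X_dvd_iff.mpr hg0
      have hu0 : PowerSeries.constantCoeff u = hasseD Ht 1 s := by
        rw [← hg1, hu, PowerSeries.coeff_succ_X_mul, PowerSeries.coeff_zero_eq_constantCoeff_apply]
      rw [hu, mul_pow]
      have := PowerSeries.coeff_X_pow_mul (u ^ j) j 0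
      rw [zero_add] at this
      rw [this, PowerSeries.coeff_zero_eq_constantCoeff_apply, map_pow, hu0]
    have : hcol τ Ht φ (j + 1) - (hasseD Ht 1 s ^ (j + 1 - 1)) • hcol τ Hs φ (j + 1) =
        ∑ d ∈ Finset.range j, PowerSeries.coeff j (g ^ d) • hcol τ Hs φ (d + 1) := by
      ext r
      simp only [hcol, Pi.sub_apply, Pi.smul_apply, smul_eq_mul, Finset.sum_apply, hcoeff (φ r) j,
        Finset.sum_range_succ, hdiag, Nat.add_sub_cancel]
      rw [mul_comm (hasseD Hs j (φ r)), add_sub_cancel_right]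
      exact Finset.sum_congr rfl fun _ _ => mul_comm _ _
    rw [this]
    exact sum_mem fun i hi => smul_mem _ _ (subset_span ⟨i + 1, by simp at hi ⊢; omega, rfl⟩)

theorem orders_change [PerfectField k] (hK : IsFunctionField k K) {n : ℕ} (τ : K →ₐ[k] K)
    {s t : K} {Hs Ht : K →ₐ[k] PowerSeries K} (hHs : IsHasseFamily s Hs) (hHt : IsHasseFamily t Ht)
    (φ : Fin (n + 1) → K) :
    (∀ J : Fin n → ℕ, IsOrders K (hcol τ Ht φ) J ↔ IsOrders K (hcol τ Hs φ) J) ∧
    ∀ J : Fin n → ℕ, IsOrders K (hcol τ Hs φ) J →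
      (wrMat τ Ht φ J).det = hasseD Ht 1 s ^ (∑ l, J l) * (wrMat τ Hs φ J).det := by
  have hne := hasseD_one_ne_zero hK hHs hHt
  have := orders_and_det_of_triangular (H := Hs) (H' := Ht) (φ := φ) (φ' := φ)
    (a := fun j => hasseD Ht 1 s ^ (j - 1)) (fun j => pow_ne_zero _ hne) (hcol_change_triangular hK τ hHs hHt φ)
  refine ⟨this.1, fun J hJ => ?_⟩
  rw [this.2 J hJ]; simp [Finset.prod_pow_eq_pow_sum]

section Rational

variable [IsAlgClosed k]

theorem exists_val_hasseD_eq_one (hK : IsFunctionField k K) (P : Place k K) {t : K} (ht : P.1 t = exp (-1 : ℤ))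
    {H : K →ₐ[k] PowerSeries K} (hH : IsHasseFamily t H) {f : K} (hf0 : f ≠ 0) (hf : P.1 f ≤ 1) :
    P.1 (hasseD H (P.ord f).toNat f) = 1 := by
  refine le_antisymm (val_hasseD_le hK P ht hH hf _) (not_lt.mp fun hlt => ?_)
  have := isSeparable_of_hasse hK hH
  obtain ⟨φ, hφ, hφt, hps⟩ := exists_expansion hK P ht
  obtain ⟨g, hg⟩ := hps f hf
  have h0 : 0 ≤ P.ord f := (val_le_one_iff P hf0).mp hf
  set m := (P.ord f).toNat with hm
  have hv : Valued.v (φ f) = exp (-(m : ℤ)) := by
    rw [hφ.1, val_eq_exp_neg_ord P hf0, hm, Int.toNat_of_nonneg h0]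
  have hz : ∀ i < (m : ℤ), (φ f).coeff i = 0 := (LaurentSeries.valuation_le_iff_coeff_lt_eq_zero k).mp hv.le
  have hne : (φ f).coeff m ≠ 0 := fun h => by
    have : Valued.v (φ f) ≤ exp (-((m : ℤ) + 1)) := (LaurentSeries.valuation_le_iff_coeff_lt_eq_zero k).mpr fun i hi => by
      rcases eq_or_lt_of_le (show i ≤ m by omega) with rfl | hi'
      · exact h
      · exact hz i hi'
    rw [hv, exp_le_exp] at this; omega
  have hlt' : Valued.v (φ (hasseD H m f)) ≤ exp (-(1 : ℤ)) := by
    rw [hφ.1]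
    rcases eq_or_ne (hasseD H m f) 0 with h | h
    · rw [h, map_zero]; exact zero_le
    · rw [val_lt_one_iff P h] at hlt; rw [val_le_exp_iff P h]; omega
  have := (LaurentSeries.valuation_le_iff_coeff_lt_eq_zero k).mp hlt' 0 (by omega)
  rw [expansion_hasseD hH φ hφt g hg, LaurentSeries.hasseDeriv_coeff, zero_add, Ring.choose_natCast,
    Nat.choose_self, Nat.cast_one, one_smul] at this
  exact hne this

/-- A combination of a linearly independent integral tuple with unit coefficient has a unit Hasse derivative. -/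
theorem exists_val_comb_eq_one (hK : IsFunctionField k K) (P : Place k K) {t : K} (ht : P.1 t = exp (-1 : ℤ))
    {H : K →ₐ[k] PowerSeries K} (hH : IsHasseFamily t H) {ι : Type*} [Fintype ι] {φ : ι → K}
    (hφ : LinearIndependent k φ) (hint : ∀ i, P.1 (φ i) ≤ 1) {a : ι → K} (ha : ∀ i, P.1 (a i) ≤ 1)
    (ha1 : ∃ i, P.1 (a i) = 1) : ∃ j, P.1 (∑ i, a i * hasseD H j (φ i)) = 1 := by
  choose c hc using fun i => exists_const_near hK P (ha i)
  have hc0 : ∃ i, c i ≠ 0 := by
    obtain ⟨i, hi⟩ := ha1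
    refine ⟨i, fun h => ?_⟩
    have := hc i
    rw [h, map_zero, sub_zero, hi] at this
    exact lt_irrefl _ this
  let f := ∑ i, c i • φ i
  have hf0 : f ≠ 0 := fun h => by
    obtain ⟨i, hi⟩ := hc0
    exact hi (Fintype.linearIndependent_iff.mp hφ c h i)
  have hf : P.1 f ≤ 1 := P.1.map_sum_le fun i _ => by
    rw [Algebra.smul_def, map_mul]; exact mul_le_one' (P.2.1 _) (hint i)
  refine ⟨(P.ord f).toNat, ?_⟩
  set j := (P.ord f).toNat
  have e : ∑ i, a i * hasseD H j (φ i) = hasseD H j f + ∑ i, (a i - algebraMap k K (c i)) * hasseD H j (φ i) := by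
    simp only [f, hasseD_apply, map_sum, map_smul, PowerSeries.coeff_smul, smul_eq_mul]
    simp only [Algebra.smul_def, sub_mul, Finset.sum_sub_distrib]
    ring
  rw [e, Valuation.map_add_eq_of_lt_left _ ?_, exists_val_hasseD_eq_one hK P ht hH hf0 hf]
  rw [exists_val_hasseD_eq_one hK P ht hH hf0 hf]
  refine P.1.map_sum_lt one_ne_zero fun i _ => ?_
  rw [map_mul]
  exact (mul_le_mul' le_rfl (val_hasseD_le hK P ht hH (hint i) j)).trans_lt (by rw [mul_one]; exact hc i)

/-- The Hasse derivatives of a linearly independent tuple span everything. -/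
theorem span_hasseD_eq_top (hK : IsFunctionField k K) {n : ℕ} {φ : Fin (n + 1) → K} (hφ : LinearIndependent k φ)
    {s : K} {H : K →ₐ[k] PowerSeries K} (hH : IsHasseFamily s H) :
    span K (Set.range fun j => fun i => hasseD H j (φ i)) = ⊤ := by
  obtain ⟨P⟩ := nonempty_place hK
  obtain ⟨t, ht0, ht⟩ := exists_uniformizer P
  obtain ⟨Ht, hHt⟩ := exists_hasse_uniformizer hK P ht
  -- normalise at `P`
  obtain ⟨i₀, -, hi₀⟩ := Finset.exists_max_image Finset.univ (fun i => P.1 (φ i)) Finset.univ_nonempty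
  have hy : φ i₀ ≠ 0 := hφ.ne_zero i₀
  set ψ : Fin (n + 1) → K := (φ i₀)⁻¹ • φ with hψdef
  have hψ : LinearIndependent k ψ := by
    rw [Fintype.linearIndependent_iff] at hφ ⊢
    intro g hg
    refine hφ g ?_
    have : (φ i₀)⁻¹ * ∑ i, g i • φ i = 0 := by
      rw [Finset.mul_sum, ← hg]
      exact Finset.sum_congr rfl fun i _ => by simp [ψ, mul_smul_comm]
    simpa [hy] using this
  have hint : ∀ i, P.1 (ψ i) ≤ 1 := fun i => by
    rw [hψdef, Pi.smul_apply, smul_eq_mul, map_mul, map_inv₀]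
    have hne := zero_lt_iff.mpr ((map_ne_zero P.1).mpr hy)
    rw [← div_eq_inv_mul, div_le_one₀ hne]
    exact hi₀ i (Finset.mem_univ i)
  have htop : span K (Set.range fun j => fun i => hasseD Ht j (ψ i)) = ⊤ := by
    by_contra hne
    obtain ⟨ℓ, hℓ0, hℓ⟩ := exists_le_ker_of_lt_top _ (lt_top_iff_ne_top.mpr hne)
    let a : Fin (n + 1) → K := fun i => ℓ (Pi.single i 1)
    have hℓa : ∀ v, ℓ v = ∑ i, v i * a i := fun v => by
      conv_lhs => rw [pi_eq_sum_univ' v]
      simp [a, map_sum, smul_eq_mul]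
    obtain ⟨i₁, -, hi₁⟩ := Finset.exists_max_image Finset.univ (fun i => P.1 (a i)) Finset.univ_nonempty
    have ha0 : a i₁ ≠ 0 := fun h => hℓ0 (LinearMap.ext fun v => by
      rw [hℓa, LinearMap.zero_apply]
      refine Finset.sum_eq_zero fun i _ => ?_
      have := hi₁ i (Finset.mem_univ i)
      rw [h, map_zero, le_zero_iff, map_eq_zero] at this
      rw [this, mul_zero])
    have hpos := zero_lt_iff.mpr ((map_ne_zero P.1).mpr ha0)
    obtain ⟨j, hj⟩ := exists_val_comb_eq_one hK P ht hHt hψ hint (a := fun i => a i / a i₁)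
      (fun i => by rw [map_div₀, div_le_one₀ hpos]; exact hi₁ i (Finset.mem_univ i))
      ⟨i₁, by rw [map_div₀, div_self hpos.ne']⟩
    have h0 : ℓ (fun i => hasseD Ht j (ψ i)) = 0 := hℓ (subset_span ⟨j, rfl⟩)
    rw [hℓa] at h0
    have : ∑ i, a i / a i₁ * hasseD Ht j (ψ i) = 0 := by
      rw [← zero_div (a i₁), ← h0, Finset.sum_div]
      exact Finset.sum_congr rfl fun i _ => by ring
    rw [this, map_zero] at hj
    exact zero_ne_one hj
  have hcols : ∀ (H : K →ₐ[k] PowerSeries K) {s : K}, IsHasseFamily s H → ∀ χ : Fin (n + 1) → K,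
      span K (Set.range fun j => fun i => hasseD H j (χ i)) =
        ⨆ m, span K (hcol (AlgHom.id k K) H χ '' Set.Iio m) := fun H _ hH χ => by
    refine le_antisymm (span_le.mpr ?_) (iSup_le fun m => span_le.mpr ?_)
    · rintro _ ⟨j, rfl⟩
      exact le_iSup (fun m => span K (hcol (AlgHom.id k K) H χ '' Set.Iio m)) (j + 2)
        (subset_span ⟨j + 1, Nat.lt_succ_self _, rfl⟩)
    · rintro _ ⟨j, -, rfl⟩
      match j with
      | 0 => exact subset_span ⟨0, funext fun i => by simp [hcol, hH.2]⟩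
      | j + 1 => exact subset_span ⟨j, rfl⟩
  rw [hcols Ht hHt] at htop
  rw [hcols H hH, ← htop]
  refine iSup_congr fun m => ?_
  rw [span_Iio_congr (c := hcol (AlgHom.id k K) Ht φ) (c' := hcol (AlgHom.id k K) Ht ψ)
      (a := fun j => if j = 0 then (AlgHom.id k K) (φ i₀)⁻¹ else (φ i₀)⁻¹)
      (fun j => by split_ifs <;> simp [hy]) (hcol_smul_triangular _ hHt φ _) m,
    span_Iio_congr (c := hcol (AlgHom.id k K) H φ) (c' := hcol (AlgHom.id k K) Ht φ)
      (a := fun j => hasseD Ht 1 s ^ (j - 1)) (fun j => pow_ne_zero _ (hasseD_one_ne_zero hK hH hHt))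
      (hcol_change_triangular hK _ hH hHt φ) m]

theorem exists_orders (hK : IsFunctionField k K) {n : ℕ} {φ : Fin (n + 1) → K} (hφ : LinearIndependent k φ)
    (τ : K →ₐ[k] K) {s : K} {H : K →ₐ[k] PowerSeries K} (hH : IsHasseFamily s H) :
    ∃ J : Fin n → ℕ, IsOrders K (hcol τ H φ) J ∧ (wrMat τ H φ J).det ≠ 0 := by
  have h0 : hcol τ H φ 0 ≠ 0 := fun h => by
    have := congrFun h 0
    simp [hcol, hφ.ne_zero 0] at this
  have hfull : span K (Set.range (hcol τ H φ)) = ⊤ := by
    rw [eq_top_iff, ← span_hasseD_eq_top hK hφ hH, span_le]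
    rintro _ ⟨j, rfl⟩
    exact subset_span ⟨j + 1, rfl⟩
  obtain ⟨J, hJ, hli⟩ := exists_isOrders h0 hfull
  exact ⟨J, hJ, (det_ne_zero_iff τ H φ J).mpr hli⟩

end Rational

end Groth.Agent.FF
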