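import Groth.Agent.FF.Orders

/-! The `τ`-orders of a birational tuple. -/

namespace Groth.Agent.FF

open FunFld LocRes Submodule

variable {k K : Type*} [Field k] [Field K] [Algebra k K]

theorem not_isJump_one_iff {n : ℕ} {φ : Fin (n + 1) → K} (h0 : φ 0 ≠ 0)
    (hbir : IntermediateField.adjoin k (Set.range fun i => φ i / φ 0) = ⊤)
    (τ : K →ₐ[k] K) {s : K} {H : K →ₐ[k] PowerSeries K} (hH : IsHasseFamily s H) :
    ¬ IsJump K (hcol τ H φ) 1 ↔ τ = AlgHom.id k K := by
  have hIio : Set.Iio 1 = ({0} : Set ℕ) := by ext i; simp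
  rw [IsJump, not_not, hIio, Set.image_singleton, mem_span_singleton]
  constructor
  · rintro ⟨a, ha⟩
    have hφ : ∀ i, a * τ (φ i) = φ i := fun i => by
      have := congrFun ha i
      simpa [hcol, hH.2] using this
    have ha0 : a ≠ 0 := fun h => h0 (by rw [← hφ 0, h, zero_mul])
    have hfix : ∀ x ∈ IntermediateField.adjoin k (Set.range fun i => φ i / φ 0), τ x = x := by
      intro x hx
      induction hx using IntermediateField.adjoin_induction with
      | mem x hx =>
        obtain ⟨i, rfl⟩ := hx
        change τ (φ i / φ 0) = φ i / φ 0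
        conv_rhs => rw [← hφ i, ← hφ 0, mul_div_mul_left _ _ ha0]
        rw [map_div₀]
      | algebraMap r => exact τ.commutes r
      | add x y _ _ hx hy => rw [map_add, hx, hy]
      | mul x y _ _ hx hy => rw [map_mul, hx, hy]
      | inv x _ hx => rw [map_inv₀, hx]
    exact AlgHom.ext fun x => hfix x (by rw [hbir]; trivial)
  · rintro rfl
    exact ⟨1, funext fun i => by simp [hcol, hH.2]⟩

end Groth.Agent.FF
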