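import Mathlib
import Groth.Prelude.Def_W4bk4goldsch23FF
import Groth.Agent.FF.WeilRH

/-!
# Genus bound and point count for a plane equation with a rational smooth point over `t = 0`
-/

set_option autoImplicit false
set_option linter.style.haveILetI false

universe u

open FunFld IntermediateField Module

namespace Groth.Agent.FF

theorem transcendental_linearIndependent_pow {k K : Type*} [Field k] [Field K] [Algebra k K] {t : K}
    (ht : Transcendental k t) : LinearIndependent k (fun i : ℕ => t ^ i) := by
  have h := (Polynomial.basisMonomials k).linearIndependent.map' (Polynomial.aeval t).toLinearMap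
    (LinearMap.ker_eq_bot.mpr (transcendental_iff_injective.mp ht))
  rw [show (fun i : ℕ => t ^ i) = (Polynomial.aeval t).toLinearMap ∘ (Polynomial.basisMonomials k) from
    funext fun i => by simp [Polynomial.coe_basisMonomials]]
  exact h

/-- Genus bound for `K = k(t)(η)` with `η` bounded by the `c`-th power of `t` at every place. -/
theorem genus_le_of_pole_bound {k K : Type*} [Field k] [Field K] [Algebra k K] (hK : IsFunctionField k K)
    {t η : K} (ht : Transcendental k t) (htop : IntermediateField.adjoin k ({t, η} : Set K) = ⊤) (c : ℕ)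
    (hη : ∀ P : Place k K, P.1 η ≤ max 1 (P.1 t) ^ c) :
    genus k K ≤ c * finrank k⟮t⟯ K ^ 2 := by
  classical
  haveI := finiteDimensional_adjoin hK ht
  set m := finrank k⟮t⟯ K with hm
  have htop' : (k⟮t⟯)⟮η⟯ = (⊤ : IntermediateField k⟮t⟯ K) := by
    apply IntermediateField.restrictScalars_injective k
    rw [IntermediateField.adjoin_simple_adjoin_simple, IntermediateField.restrictScalars_top, htop]
  have hint : IsIntegral k⟮t⟯ η := Algebra.IsIntegral.isIntegral η
  have hdeg : (minpoly k⟮t⟯ η).natDegree = m := by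
    rw [← IntermediateField.adjoin.finrank hint, htop', IntermediateField.finrank_top']
  obtain ⟨N₀, hN⟩ := exists_defect_eq_genus_of_deg_ge hK
  have hm0 : 0 < m := Module.finrank_pos
  let N : ℕ := N₀.toNat
  let D : Divisor k K := ((N + c * m : ℕ) : ℤ) • poles (k := k) t
  have hpt : (poles (k := k) t).deg = m := deg_poles hK ht
  have hD : D.deg = ((N + c * m : ℕ) : ℤ) * m := by rw [deg_zsmul, hpt]
  have hge : N₀ ≤ D.deg := by
    rw [hD]
    have h1 : N₀ ≤ (N : ℤ) := Int.self_le_toNat _
    have h2 : (1 : ℤ) ≤ m := by exact_mod_cast hm0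
    have h3 : (N : ℤ) * 1 ≤ (N : ℤ) * m := mul_le_mul_of_nonneg_left h2 (Nat.cast_nonneg N)
    have h4 : (0 : ℤ) ≤ (c : ℤ) * m * m := by positivity
    push_cast
    nlinarith
  have hmem : ∀ i j : ℕ, i ≤ N → j < m → t ^ i * η ^ j ∈ L D := by
    intro i j hi hj P
    have hp : max 1 (P.1 t) ≤ WithZero.exp (poles (k := k) t P) :=
      max_le (by rw [← WithZero.exp_zero, WithZero.exp_le_exp]; exact poles_nonneg t P) (val_le_exp_poles hK t P)
    have h1 : (1 : WithZero (Multiplicative ℤ)) ≤ max 1 (P.1 t) := le_max_left _ _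
    calc P.1 (t ^ i * η ^ j) = P.1 t ^ i * P.1 η ^ j := by rw [map_mul, map_pow, map_pow]
      _ ≤ max 1 (P.1 t) ^ i * (max 1 (P.1 t) ^ c) ^ j :=
          mul_le_mul' (pow_le_pow_left₀ zero_le (le_max_right _ _) _) (pow_le_pow_left₀ zero_le (hη P) _)
      _ = max 1 (P.1 t) ^ (i + c * j) := by rw [← pow_mul, pow_add]
      _ ≤ max 1 (P.1 t) ^ (N + c * m) := pow_le_pow_right₀ h1 (by gcongr)
      _ ≤ WithZero.exp (poles (k := k) t P) ^ (N + c * m) := pow_le_pow_left₀ zero_le hp _
      _ = WithZero.exp (D P) := by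
          rw [← WithZero.exp_nsmul, nsmul_eq_mul, Finsupp.smul_apply, smul_eq_mul]
  let v : Fin (N + 1) × Fin m → K := fun p => t ^ (p.1 : ℕ) * η ^ (p.2 : ℕ)
  have hv : LinearIndependent k v := by
    have h1 : LinearIndependent k⟮t⟯ (fun j : Fin m => η ^ (j : ℕ)) := by
      have := linearIndependent_pow (K := k⟮t⟯) η
      rw [hdeg] at this
      exact this
    have h2 : LinearIndependent k (fun i : Fin (N + 1) => (⟨t, mem_adjoin_simple_self k t⟩ : k⟮t⟯) ^ (i : ℕ)) := by
      apply LinearIndependent.of_comp (IntermediateField.val k⟮t⟯).toLinearMap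
      have h := (transcendental_linearIndependent_pow ht).comp (fun i : Fin (N + 1) => (i : ℕ)) Fin.val_injective
      rw [show (⇑(IntermediateField.val k⟮t⟯).toLinearMap ∘
          fun i : Fin (N + 1) => (⟨t, mem_adjoin_simple_self k t⟩ : k⟮t⟯) ^ (i : ℕ)) =
          ((fun i : ℕ => t ^ i) ∘ fun i : Fin (N + 1) => (i : ℕ)) from funext fun i => by simp]
      exact h
    have h3 := linearIndependent_smul h2 h1
    rw [show v = fun p : Fin (N + 1) × Fin m =>
        ((⟨t, mem_adjoin_simple_self k t⟩ : k⟮t⟯) ^ (p.1 : ℕ)) • η ^ (p.2 : ℕ) from funext fun p => rfl]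
    exact h3
  haveI := finiteDimensional_L hK D
  have hell : (N + 1) * m ≤ ell D := by
    let v' : Fin (N + 1) × Fin m → L D := fun p => ⟨v p, hmem _ _ (Nat.lt_succ_iff.1 p.1.2) p.2.2⟩
    have hv' : LinearIndependent k v' := LinearIndependent.of_comp (L D).subtype hv
    have := hv'.fintype_card_le_finrank
    simp only [Fintype.card_prod, Fintype.card_fin] at this
    exact this
  have h := hN D hge
  rw [defect, hD] at h
  push_cast at h
  have hell' : ((N : ℤ) + 1) * m ≤ ell D := by exact_mod_cast hell
  have : (genus k K : ℤ) ≤ (c : ℤ) * (m : ℤ) ^ 2 := by nlinarith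
  exact_mod_cast this

/-- Point bound from the Riemann hypothesis. -/
theorem le_card_deg_one {k K : Type u} [Field k] [Finite k] [Field K] [Algebra k K] (hK : IsFunctionField k K) :
    (Nat.card k : ℝ) + 1 - 2 * genus k K * Real.sqrt (Nat.card k) ≤ Nat.card {P : Place k K // P.deg = 1} := by
  obtain ⟨α, -, hα, -⟩ := exists_alpha hK
  have h := NN_formula hK hα one_ne_zero
  rw [NN_one hK] at h
  simp only [pow_one] at h
  have h2 : ((Nat.card k : ℝ) + 1 - (Nat.card {P : Place k K // P.deg = 1} : ℝ) : ℂ) = ∑ i, α i := by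
    push_cast; rw [h]; ring
  have h3 : |(Nat.card k : ℝ) + 1 - (Nat.card {P : Place k K // P.deg = 1} : ℝ)| ≤
      2 * genus k K * Real.sqrt (Nat.card k) := by
    rw [← Real.norm_eq_abs, ← Complex.norm_real]
    push_cast
    rw [show ((Nat.card k : ℂ) + 1 - (Nat.card {P : Place k K // P.deg = 1} : ℂ)) = ∑ i, α i by
      rw [← h2]; push_cast; rfl]
    refine (norm_sum_le _ _).trans ?_
    rw [Finset.sum_congr rfl fun i _ => show ‖α i‖ = Real.sqrt (Nat.card k) by
      rw [← norm_sq_alpha hK hα i, Real.sqrt_sq (norm_nonneg _)]]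
    simp
  have := abs_le.1 h3
  linarith [this.2]

section Series

variable {F : Type u} [Field F]

theorem isUnit_or_mem (f : PowerSeries F) : IsUnit f ↔ PowerSeries.constantCoeff f ≠ 0 := by
  rw [PowerSeries.isUnit_iff_constantCoeff, isUnit_iff_ne_zero]

variable [Finite F]

/-- Constants are algebraically closed in Laurent series over a finite field. -/
theorem mem_range_of_isAlgebraic {y : LaurentSeries F} (hy : IsAlgebraic F y) :
    y ∈ Set.range (algebraMap F (LaurentSeries F)) := by
  rcases eq_or_ne y 0 with rfl | hy0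
  · exact ⟨0, map_zero _⟩
  have key : ∀ z : LaurentSeries F, IsAlgebraic F z → z ≠ 0 → z.order = 0 := by
    intro z hz hz0
    haveI : FiniteDimensional F F⟮z⟯ := IntermediateField.adjoin.finiteDimensional hz.isIntegral
    haveI : Finite F⟮z⟯ := Module.finite_of_finite F
    let z' : (F⟮z⟯)ˣ := Units.mk0 ⟨z, mem_adjoin_simple_self F z⟩ (fun h => hz0 (congrArg Subtype.val h))
    obtain ⟨N, hN, h⟩ : ∃ N, 0 < N ∧ z' ^ N = 1 := ⟨orderOf z', orderOf_pos z', pow_orderOf_eq_one z'⟩
    have h1 : z ^ N = 1 := by
      have := congrArg (fun w : (F⟮z⟯)ˣ => ((w : F⟮z⟯) : LaurentSeries F)) h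
      simpa [z'] using this
    have h2 := congrArg HahnSeries.order h1
    rw [HahnSeries.order_pow, HahnSeries.order_one, smul_eq_zero] at h2
    exact h2.resolve_left hN.ne'
  refine ⟨y.coeff 0, ?_⟩
  by_contra hne
  have hsub : y - algebraMap F (LaurentSeries F) (y.coeff 0) ≠ 0 := sub_ne_zero.2 (Ne.symm hne)
  have h0 := key _ (hy.sub (isAlgebraic_algebraMap _)) hsub
  have h1 := mt HahnSeries.coeff_order_eq_zero.1 hsub
  rw [h0] at h1
  rw [HahnSeries.coeff_sub] at h1
  refine h1 ?_
  rw [LaurentSeries.algebraMap_apply, HahnSeries.C_apply,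
    HahnSeries.coeff_single_same, sub_self]

end Series

open Polynomial in
/-- A plane equation with a rational smooth point over `t = 0` has many rational roots. -/
theorem card_roots_ge {F : Type u} [Field F] [Finite F] (g : Polynomial (Polynomial F)) (hg : g.Monic)
    (c : ℕ) (hc : ∀ i, (g.coeff i).natDegree ≤ c) (y₀ : F)
    (h0 : (g.map (Polynomial.evalRingHom (0 : F))).eval y₀ = 0)
    (h1 : (g.map (Polynomial.evalRingHom (0 : F))).derivative.eval y₀ ≠ 0) :
    (Nat.card F : ℝ) + 1 - 2 * (c * g.natDegree ^ 2 : ℕ) * Real.sqrt (Nat.card F) ≤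
      g.natDegree * (Nat.card {t₀ : F // ∃ y, (g.map (Polynomial.evalRingHom t₀)).eval y = 0} + 1 : ℕ) := by
  classical
  set d := g.natDegree with hd
  -- the root as a power series
  let ι : Polynomial F →+* PowerSeries F := Polynomial.coeToPowerSeries.ringHom
  have hιc : (PowerSeries.constantCoeff (R := F)).comp ι = Polynomial.evalRingHom 0 := by
    refine Polynomial.ringHom_ext (fun a => ?_) ?_ <;> simp [ι]
  let I : Ideal (PowerSeries F) := Ideal.span {PowerSeries.X}
  haveI : HenselianRing (PowerSeries F) I := inferInstance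
  obtain ⟨e, he, hec⟩ : ∃ e : PowerSeries F, (g.map ι).IsRoot e ∧ e - PowerSeries.C y₀ ∈ I := by
    refine HenselianRing.is_henselian (g.map ι) (hg.map ι) (PowerSeries.C y₀) ?_ ?_
    · rw [Ideal.mem_span_singleton, PowerSeries.X_dvd_iff]
      rw [← Polynomial.eval₂_hom, Polynomial.eval₂_map, hιc, PowerSeries.constantCoeff_C, ← Polynomial.eval_map]
      exact h0
    · refine IsUnit.map _ ((PowerSeries.isUnit_iff_constantCoeff).2 (isUnit_iff_ne_zero.2 ?_))
      rw [← Polynomial.eval₂_hom, Polynomial.derivative_map, Polynomial.eval₂_map, hιc,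
        PowerSeries.constantCoeff_C, ← Polynomial.eval_map, ← Polynomial.derivative_map]
      exact h1
  let Λ := LaurentSeries F
  let T : Λ := HahnSeries.ofPowerSeries ℤ F PowerSeries.X
  let E : Λ := HahnSeries.ofPowerSeries ℤ F e
  let j : Polynomial F →+* Λ := (HahnSeries.ofPowerSeries ℤ F).comp ι
  have hj : ∀ p, j p = aeval T p := fun p => by
    refine RingHom.congr_fun (Polynomial.ringHom_ext (f := j) (g := (aeval T).toRingHom) (fun a => ?_) ?_) p
    · simp [j, ι, HahnSeries.C_apply]
      exact ((LaurentSeries.algebraMap_apply (K := F) a).trans (HahnSeries.C_apply a)).symm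
    · simp [j, ι, T]
  have hroot : g.eval₂ j E = 0 := by
    rw [← Polynomial.eval_map] at *
    have := congrArg (HahnSeries.ofPowerSeries ℤ F) (he : (g.map ι).eval e = 0)
    rw [map_zero, ← Polynomial.eval₂_hom, Polynomial.eval₂_eq_eval_map, Polynomial.map_map] at this
    exact this
  -- the function field
  let K : IntermediateField F Λ := IntermediateField.adjoin F ({T, E} : Set Λ)
  let t : K := ⟨T, IntermediateField.subset_adjoin F _ (by simp)⟩
  let η : K := ⟨E, IntermediateField.subset_adjoin F _ (by simp)⟩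
  have htT : Transcendental F T := by
    rintro ⟨p, hp, hp0⟩
    rw [← hj] at hp0
    exact hp (Polynomial.coe_injective F ((HahnSeries.ofPowerSeries_injective (hp0.trans (map_zero _).symm)).trans
      Polynomial.coe_zero.symm))
  have ht : Transcendental F t := fun h => htT ((h.algebraMap : IsAlgebraic F (algebraMap K Λ t)))
  have hKj : ∀ p, ((aeval t p : K) : Λ) = j p := fun p => by
    rw [hj]; exact (Polynomial.aeval_algebraMap_apply Λ t p).symm
  have hrootK : g.eval₂ (aeval t : Polynomial F →ₐ[F] K).toRingHom η = 0 := by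
    apply (algebraMap K Λ).injective
    rw [Polynomial.hom_eval₂, map_zero]
    refine (congrArg (fun r => g.eval₂ r E) (RingHom.ext fun p => ?_)).trans hroot
    exact hKj p
  have htop : IntermediateField.adjoin F ({t, η} : Set K) = ⊤ := by
    apply IntermediateField.lift_injective K
    rw [IntermediateField.lift_adjoin, IntermediateField.lift_top, Set.image_pair]
  let gK : Polynomial F⟮t⟯ := g.map (aeval (⟨t, mem_adjoin_simple_self F t⟩ : F⟮t⟯) : Polynomial F →ₐ[F] F⟮t⟯).toRingHom
  have hgK : aeval η gK = 0 := by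
    rw [aeval_def, eval₂_map]
    refine (congrArg (fun r => g.eval₂ r η) (RingHom.ext fun p => ?_)).trans hrootK
    exact (Polynomial.aeval_algebraMap_apply K (⟨t, mem_adjoin_simple_self F t⟩ : F⟮t⟯) p).symm
  have hint : IsIntegral F⟮t⟯ η := ⟨gK, hg.map _, hgK⟩
  have htop' : (F⟮t⟯)⟮η⟯ = (⊤ : IntermediateField F⟮t⟯ K) := by
    apply IntermediateField.restrictScalars_injective F
    rw [IntermediateField.adjoin_simple_adjoin_simple, IntermediateField.restrictScalars_top, htop]
  haveI hfin : FiniteDimensional F⟮t⟯ K := by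
    have := IntermediateField.adjoin.finiteDimensional hint
    rw [htop'] at this
    exact Module.Finite.equiv IntermediateField.topEquiv.toLinearEquiv
  have hm : finrank F⟮t⟯ K ≤ d := by
    rw [← IntermediateField.finrank_top', ← htop', IntermediateField.adjoin.finrank hint]
    exact (natDegree_le_of_dvd (minpoly.dvd _ _ hgK) (hg.map _).ne_zero).trans_eq (hg.natDegree_map _)
  have hK : IsFunctionField F K := ⟨⟨t, ht, hfin⟩, fun y hy => by
    obtain ⟨a, ha⟩ := mem_range_of_isAlgebraic (hy.algebraMap : IsAlgebraic F (algebraMap K Λ y))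
    exact ⟨a, Subtype.ext ha⟩⟩
  -- the bound at every place
  have hcoef : ∀ (P : Place F K) (p : Polynomial F), p.natDegree ≤ c → P.1 (aeval t p) ≤ max 1 (P.1 t) ^ c := by
    intro P p hp
    rw [aeval_eq_sum_range]
    refine P.1.map_sum_le fun n hn => ?_
    rw [Algebra.smul_def, map_mul, map_pow]
    calc P.1 (algebraMap F K (p.coeff n)) * P.1 t ^ n ≤ 1 * max 1 (P.1 t) ^ n :=
          mul_le_mul' (P.2.1 _) (pow_le_pow_left₀ zero_le (le_max_right _ _) _)
      _ ≤ max 1 (P.1 t) ^ c := by
          rw [one_mul]; exact pow_le_pow_right₀ (le_max_left _ _) (by have := Finset.mem_range.1 hn; omega)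
  have hη : ∀ P : Place F K, P.1 η ≤ max 1 (P.1 t) ^ c := by
    intro P
    by_contra hlt
    push Not at hlt
    set M := max 1 (P.1 t) ^ c with hM
    have hM1 : 1 ≤ M := one_le_pow₀ (le_max_left _ _)
    have hη0 : P.1 η ≠ 0 := ne_of_gt (lt_of_le_of_lt zero_le hlt)
    have hη1 : 1 < P.1 η := lt_of_le_of_lt hM1 hlt
    have hsum : g.eval₂ (aeval t : Polynomial F →ₐ[F] K).toRingHom η =
        η ^ d + ∑ i ∈ Finset.range d, aeval t (g.coeff i) * η ^ i := by
      rw [eval₂_eq_sum_range, Finset.sum_range_succ, ← hd, hg.coeff_natDegree, map_one, one_mul, add_comm]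
      rfl
    have hsmall : P.1 (∑ i ∈ Finset.range d, aeval t (g.coeff i) * η ^ i) < P.1 (η ^ d) := by
      rw [map_pow]
      refine P.1.map_sum_lt (pow_ne_zero _ hη0) fun i hi => ?_
      rw [map_mul, map_pow]
      have hi' : i < d := Finset.mem_range.1 hi
      calc P.1 (aeval t (g.coeff i)) * P.1 η ^ i ≤ M * P.1 η ^ i :=
            mul_le_mul' (hcoef P _ (hc i)) le_rfl
        _ < P.1 η * P.1 η ^ i := by
            exact mul_lt_mul_of_pos_right hlt (pow_pos (lt_trans zero_lt_one hη1) _)
        _ = P.1 η ^ (i + 1) := (pow_succ' _ _).symm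
        _ ≤ P.1 η ^ d := pow_le_pow_right₀ hη1.le hi'
    have := P.1.map_add_eq_of_lt_left hsmall
    rw [← hsum, hrootK, map_zero, map_pow] at this
    exact pow_ne_zero _ hη0 this.symm
  have hgen : genus F K ≤ c * d ^ 2 :=
    (genus_le_of_pole_bound hK ht htop c hη).trans (Nat.mul_le_mul_left _ (Nat.pow_le_pow_left hm 2))
  -- places to roots
  let S := {t₀ : F // ∃ y, (g.map (Polynomial.evalRingHom t₀)).eval y = 0}
  have hfib : ∀ (x : K), Transcendental F x → ∀ Ps : Finset (Place F K), (∀ P ∈ Ps, P.deg = 1 ∧ 0 < P.ord x) →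
      Ps.card ≤ finrank F⟮x⟯ K := by
    intro x hx Ps hPs
    have := sum_ord_mul_deg_le hK hx Ps (fun P hP => (hPs P hP).2.le)
    have h2 : (Ps.card : ℤ) ≤ ∑ P ∈ Ps, P.ord x * P.deg := by
      rw [Finset.card_eq_sum_ones, Nat.cast_sum]
      refine Finset.sum_le_sum fun P hP => ?_
      rw [(hPs P hP).1]; have := (hPs P hP).2; push_cast; omega
    exact_mod_cast h2.trans this
  have hfinP : {P : Place F K | P.deg = 1}.Finite :=
    (finite_places_deg_le hK 1).subset fun P hP => le_of_eq hP
  let Ps := hfinP.toFinset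
  -- the value of `t` at a rational place
  have hval : ∀ P : Place F K, P.deg = 1 → ∀ z : K, P.1 z ≤ 1 → ∃ a : F, P.1 (z - algebraMap F K a) < 1 := by
    intro P hP z hz
    have hbij : Function.Surjective (algebraMap F (IsLocalRing.ResidueField P.O)) :=
      (Algebra.finrank_eq_one_iff_bijective_algebraMap.1 hP).2
    obtain ⟨a, ha⟩ := hbij (IsLocalRing.residue P.O ⟨z, (mem_O P).2 hz⟩)
    refine ⟨a, ?_⟩
    rw [algebraMap_res, ← sub_eq_zero, ← map_sub, residue_eq_zero_iff] at ha
    rw [← P.1.map_neg, neg_sub]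
    exact ha
  let tv : Place F K → Option S := fun P =>
    if h : ∃ a : S, P.1 (t - algebraMap F K a.1) < 1 then some h.choose else none
  have hm' : ∀ o : Option S, (Ps.filter fun P => tv P = o).card ≤ d := by
    intro o
    rcases o with _ | a
    · -- poles
      have hx : Transcendental F t⁻¹ := fun h => ht (by simpa using h.inv)
      refine (hfib t⁻¹ hx _ fun P hP => ?_).trans ?_
      · rw [Finset.mem_filter, Set.Finite.mem_toFinset] at hP
        refine ⟨hP.1, (val_lt_one_iff P (inv_ne_zero fun h => ht (by rw [h]; exact isAlgebraic_zero))).1 ?_⟩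
        rw [map_inv₀, inv_lt_one₀ (zero_lt_iff.2 ((_root_.map_ne_zero _).2 fun h => ht (by rw [h]; exact isAlgebraic_zero)))]
        by_contra hle
        push Not at hle
        obtain ⟨a, ha⟩ := hval P hP.1 t hle
        have hη1 : P.1 η ≤ 1 := (hη P).trans (by rw [max_eq_left hle, one_pow])
        obtain ⟨b, hb⟩ := hval P hP.1 η hη1
        have hmem : ∃ y, (g.map (Polynomial.evalRingHom a)).eval y = 0 := by
          refine ⟨b, ?_⟩
          let φ : P.1.integer →+* IsLocalRing.ResidueField P.O := res P
          let tO : P.O := ⟨t, (mem_O P).2 hle⟩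
          let ηO : P.O := ⟨η, (mem_O P).2 hη1⟩
          have hres : ∀ (z : P.O) (s : F), P.1 ((z : K) - algebraMap F K s) < 1 →
              IsLocalRing.residue P.O z = algebraMap F _ s := fun z s hs => by
            rw [algebraMap_res, ← sub_eq_zero, ← map_sub, residue_eq_zero_iff]
            exact hs
          have h := congrArg (IsLocalRing.residue P.O) (show g.eval₂ (aeval tO : Polynomial F →ₐ[F] P.O).toRingHom ηO = 0 by
            apply P.O.subtype_injective
            rw [Polynomial.hom_eval₂, map_zero]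
            refine (congrArg (fun r => g.eval₂ r η) (RingHom.ext fun p => ?_)).trans hrootK
            exact (Polynomial.aeval_algHom_apply (⟨P.O.subtype, fun s => rfl⟩ : P.O →ₐ[F] K) tO p).symm)
          rw [map_zero, Polynomial.hom_eval₂, hres ηO b hb] at h
          apply (algebraMap F (IsLocalRing.ResidueField P.O)).injective
          rw [map_zero, ← Polynomial.eval₂_hom, Polynomial.eval₂_map, ← h]
          refine congrArg (fun r => g.eval₂ r _) (Polynomial.ringHom_ext (fun s => ?_) ?_)
          · simp [algebraMap_res]; rfl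
          · simp only [RingHom.comp_apply, Polynomial.coe_evalRingHom, Polynomial.eval_X]
            exact (hres tO a ha).symm.trans (congrArg _ (Polynomial.aeval_X tO).symm)
        have hex : ∃ a : S, P.1 (t - algebraMap F K a.1) < 1 := ⟨⟨a, hmem⟩, ha⟩
        have := hP.2
        simp only [tv, dif_pos hex] at this
        exact Option.some_ne_none _ this
      · have e : F⟮t⁻¹⟯ = F⟮t⟯ := le_antisymm
          (adjoin_simple_le_iff.2 (inv_mem (mem_adjoin_simple_self F t)))
          (adjoin_simple_le_iff.2 (by simpa using inv_mem (mem_adjoin_simple_self F t⁻¹)))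
        rw [e]; exact hm
    · have hx : Transcendental F (t - algebraMap F K a.1) := fun h =>
        ht (by simpa using h.add (isAlgebraic_algebraMap a.1))
      refine (hfib _ hx _ fun P hP => ?_).trans ?_
      · rw [Finset.mem_filter, Set.Finite.mem_toFinset] at hP
        refine ⟨hP.1, (val_lt_one_iff P fun h => hx (by rw [h]; exact isAlgebraic_zero)).1 ?_⟩
        have h2 := hP.2
        simp only [tv] at h2
        split_ifs at h2 with h
        exact Option.some.inj h2 ▸ h.choose_spec
      · have e : F⟮t - algebraMap F K a.1⟯ = F⟮t⟯ := by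
          refine le_antisymm (adjoin_simple_le_iff.2 (sub_mem (mem_adjoin_simple_self F t) (IntermediateField.algebraMap_mem _ _)))
            (adjoin_simple_le_iff.2 ?_)
          have := add_mem (mem_adjoin_simple_self F (t - algebraMap F K a.1))
            (IntermediateField.algebraMap_mem F⟮t - algebraMap F K a.1⟯ a.1)
          rwa [sub_add_cancel] at this
        rw [e]; exact hm
  haveI : Finite S := Subtype.finite
  haveI := Fintype.ofFinite S
  have hcard : Ps.card ≤ d * (Fintype.card S + 1) := by
    have h := Finset.card_le_mul_card_image (f := tv) Ps d (fun o _ => hm' o)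
    refine h.trans (Nat.mul_le_mul_left _ ?_)
    exact (Finset.card_le_univ _).trans_eq Fintype.card_option
  have h1' := le_card_deg_one hK
  have hPsc : Nat.card {P : Place F K // P.deg = 1} = Ps.card := Nat.card_eq_card_finite_toFinset hfinP
  rw [hPsc] at h1'
  refine le_trans ?_ (h1'.trans ?_)
  · have : ((genus F K : ℕ) : ℝ) ≤ ((c * d ^ 2 : ℕ) : ℝ) := Nat.cast_le.2 hgen
    nlinarith [Real.sqrt_nonneg (Nat.card F : ℝ)]
  · rw [Nat.card_eq_fintype_card (α := S)]
    exact_mod_cast hcard

end Groth.Agent.FF
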