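import Groth.Agent.FF.PlaneModel
import Mathlib.RingTheory.MvPolynomial.Homogeneous

/-! The homogeneous ideal of a plane curve is principal. -/

open MvPolynomial

namespace Groth.Agent.FF

variable {k K : Type*} [Field k] [Field K] [Algebra k K]

variable (k) in
/-- Dehomogenization `X₀ ↦ 1`. -/
noncomputable def dehom : MvPolynomial (Fin 3) k →ₐ[k] MvPolynomial (Fin 2) k :=
  aeval ![1, X 0, X 1]

variable (k) in
/-- Homogenization in degree `n`. -/
noncomputable def homog (n : ℕ) : MvPolynomial (Fin 2) k →ₗ[k] MvPolynomial (Fin 3) k :=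
  (basisMonomials (Fin 2) k).constr k fun b =>
    X 0 ^ (n - (b 0 + b 1)) * X 1 ^ b 0 * X 2 ^ b 1

theorem monomial_two_eq (b : Fin 2 →₀ ℕ) : (monomial b (1 : k)) = X 0 ^ b 0 * X 1 ^ b 1 := by
  rw [monomial_eq, C_1, one_mul, Finsupp.prod_fintype _ _ (fun _ => pow_zero _), Fin.prod_univ_two]

theorem monomial_three_eq (b : Fin 3 →₀ ℕ) : (monomial b (1 : k)) = X 0 ^ b 0 * X 1 ^ b 1 * X 2 ^ b 2 := by
  rw [monomial_eq, C_1, one_mul, Finsupp.prod_fintype _ _ (fun _ => pow_zero _), Fin.prod_univ_three]

theorem homog_monomial (n : ℕ) (b : Fin 2 →₀ ℕ) :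
    homog k n (monomial b 1) = X 0 ^ (n - (b 0 + b 1)) * X 1 ^ b 0 * X 2 ^ b 1 := by
  have : monomial b (1 : k) = basisMonomials (Fin 2) k b := by simp
  rw [this, homog, Module.Basis.constr_basis]

theorem dehom_homog (n : ℕ) (p : MvPolynomial (Fin 2) k) : dehom k (homog k n p) = p := by
  induction p using MvPolynomial.induction_on' with
  | monomial b c =>
    rw [show monomial b c = c • monomial b (1 : k) by simp [smul_monomial], map_smul, map_smul,
      homog_monomial, monomial_two_eq]
    simp [dehom]
  | add p q hp hq => rw [map_add, map_add, hp, hq]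

theorem isHomogeneous_homog {n : ℕ} {p : MvPolynomial (Fin 2) k} (hp : p.totalDegree ≤ n) :
    (homog k n p).IsHomogeneous n := by
  rw [p.as_sum, map_sum]
  refine IsHomogeneous.sum _ _ _ fun b hb => ?_
  have h1 : b 0 + b 1 ≤ n := by
    have h := (le_totalDegree hb).trans hp
    rwa [Finsupp.sum_fintype b (fun _ e => e) (fun _ => rfl), Fin.sum_univ_two] at h
  rw [show monomial b (p.coeff b) = p.coeff b • monomial b (1 : k) by simp [smul_monomial], map_smul,
    homog_monomial, smul_eq_C_mul]
  have := (((isHomogeneous_X k (0 : Fin 3)).pow (n - (b 0 + b 1))).mul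
    ((isHomogeneous_X k (1 : Fin 3)).pow (b 0))).mul ((isHomogeneous_X k (2 : Fin 3)).pow (b 1))
  exact IsHomogeneous.C_mul (by convert this using 1; omega) _

theorem homog_dehom {n : ℕ} {G : MvPolynomial (Fin 3) k} (hG : G.IsHomogeneous n) :
    homog k n (dehom k G) = G := by
  conv_rhs => rw [G.as_sum]
  conv_lhs => rw [G.as_sum, map_sum, map_sum]
  refine Finset.sum_congr rfl fun d hd => ?_
  have hdeg : d 0 + d 1 + d 2 = n := by
    have h := hG (mem_support_iff.mp hd)
    rw [Finsupp.weight_apply, Finsupp.sum_fintype _ _ (fun _ => by simp), Fin.sum_univ_three] at h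
    simpa using h
  rw [show monomial d (G.coeff d) = G.coeff d • monomial d (1 : k) by simp [smul_monomial], map_smul, map_smul]
  congr 1
  have e : dehom k (monomial d (1 : k)) = monomial (Finsupp.equivFunOnFinite.symm ![d 1, d 2]) 1 := by
    rw [monomial_three_eq, monomial_two_eq]; simp [dehom]
  rw [e, homog_monomial, monomial_three_eq]
  simp
  congr 3
  omega

theorem totalDegree_dehom_le {n : ℕ} {G : MvPolynomial (Fin 3) k} (hG : G.IsHomogeneous n) :
    (dehom k G).totalDegree ≤ n := by
  rw [G.as_sum, map_sum]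
  refine (totalDegree_finset_sum _ _).trans (Finset.sup_le fun d hd => ?_)
  have hdeg : d 0 + d 1 + d 2 = n := by
    have h := hG (mem_support_iff.mp hd)
    rw [Finsupp.weight_apply, Finsupp.sum_fintype _ _ (fun _ => by simp), Fin.sum_univ_three] at h
    simpa using h
  rw [show monomial d (G.coeff d) = G.coeff d • monomial d (1 : k) by simp [smul_monomial], map_smul]
  refine (totalDegree_smul_le _ _).trans ?_
  rw [monomial_three_eq]
  simp only [dehom, map_mul, map_pow, aeval_X, Matrix.cons_val, one_pow, one_mul]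
  refine (totalDegree_mul _ _).trans ?_
  rw [totalDegree_X_pow, totalDegree_X_pow]
  omega

theorem plane_ideal [IsAlgClosed k] (hK : FunFld.IsFunctionField k K) {x y : K}
    (hxy : IntermediateField.adjoin k ({x, y} : Set K) = ⊤) :
    ∃ F : MvPolynomial (Fin 3) k, Irreducible F ∧ F.IsHomogeneous F.totalDegree ∧
      RingHom.ker (aeval fun i => Polynomial.C (![(1 : K), x, y] i) * Polynomial.X :
        MvPolynomial (Fin 3) k →ₐ[k] Polynomial K) = Ideal.span {F} := by
  obtain ⟨f, hf, hfxy⟩ := exists_relation hK hxy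
  have hker := ker_eq_span x y (exists_not_range_of_adjoin hK hxy) hf hfxy
  set Φ : MvPolynomial (Fin 3) k →ₐ[k] Polynomial K :=
    aeval fun i => Polynomial.C (![(1 : K), x, y] i) * Polynomial.X
  have hΦ : ∀ n G, G.IsHomogeneous n → Φ G = Polynomial.C (aeval ![x, y] (dehom k G)) * Polynomial.X ^ n := by
    intro n G hG
    rw [G.as_sum, map_sum, map_sum, map_sum, map_sum, Finset.sum_mul]
    refine Finset.sum_congr rfl fun d hd => ?_
    have hdeg : d 0 + d 1 + d 2 = n := by
      have h := hG (mem_support_iff.mp hd)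
      rw [Finsupp.weight_apply, Finsupp.sum_fintype _ _ (fun _ => by simp), Fin.sum_univ_three] at h
      simpa using h
    rw [show monomial d (G.coeff d) = G.coeff d • monomial d (1 : k) by simp [smul_monomial]]
    simp only [map_smul, monomial_three_eq, dehom, Φ, map_mul, map_pow, aeval_X, Matrix.cons_val, one_pow,
      map_one, one_mul, Algebra.smul_def, Polynomial.algebraMap_apply, AlgHom.commutes, mul_pow]
    rw [← hdeg]; ring
  set e := f.totalDegree
  set F := homog k e f with hFdef
  have hFhom : F.IsHomogeneous e := isHomogeneous_homog le_rfl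
  have hF0 : F ≠ 0 := fun h => hf.ne_zero (by rw [← dehom_homog e f, ← hFdef, h, map_zero])
  have hFmem : Φ F = 0 := by rw [hΦ e F hFhom, hFdef, dehom_homog, hfxy, map_zero, zero_mul]
  have hkey : RingHom.ker Φ = Ideal.span {F} := by
    refine le_antisymm (fun G hG => ?_) ((Ideal.span_singleton_le_iff_mem _).mpr hFmem)
    rw [RingHom.mem_ker, ← sum_homogeneousComponent G, map_sum] at hG
    have hcomp : ∀ i ∈ Finset.range (G.totalDegree + 1), aeval ![x, y] (dehom k (homogeneousComponent i G)) = 0 := by
      intro i hi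
      have := congrArg (fun p : Polynomial K => p.coeff i) hG
      simp only [Polynomial.finsetSum_coeff, Polynomial.coeff_zero] at this
      rw [Finset.sum_congr rfl fun j _ => by rw [hΦ j _ (homogeneousComponent_isHomogeneous j G), Polynomial.coeff_C_mul_X_pow]] at this
      rw [Finset.sum_ite_eq, if_pos hi] at this
      exact this
    rw [← sum_homogeneousComponent G]
    refine Submodule.sum_mem _ fun i hi => ?_
    have hGi := homogeneousComponent_isHomogeneous i G
    have hm : dehom k (homogeneousComponent i G) ∈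
      RingHom.ker (aeval ![x, y] : MvPolynomial (Fin 2) k →ₐ[k] K) := hcomp i hi
    rw [hker] at hm
    obtain ⟨h, hh⟩ := Ideal.mem_span_singleton'.mp hm
    rcases eq_or_ne h 0 with rfl | hne
    · rw [← homog_dehom hGi, ← hh, zero_mul, map_zero]; exact zero_mem _
    have hle := totalDegree_dehom_le hGi
    rw [← hh, totalDegree_mul_of_isDomain hne hf.ne_zero] at hle
    have he : homogeneousComponent i G = F * homog k (i - e) h := by
      rw [← homog_dehom hGi, ← homog_dehom (show (F * homog k (i - e) h).IsHomogeneous i from by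
        have := hFhom.mul (isHomogeneous_homog (n := i - e) (p := h) (by omega))
        rwa [show e + (i - e) = i by omega] at this)]
      rw [map_mul, hFdef, dehom_homog, dehom_homog, ← hh, mul_comm h f]
    rw [he]
    exact Ideal.mem_span_singleton'.mpr ⟨_, mul_comm _ _⟩
  refine ⟨F, ?_, hFhom.totalDegree hF0 ▸ hFhom, hkey⟩
  have hp : (Ideal.span {F}).IsPrime := hkey ▸ RingHom.ker_isPrime _
  exact ((Ideal.span_singleton_prime hF0).mp hp).irreducible

end Groth.Agent.FF
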