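import Groth.Agent.FF.AdjointPlane
import Groth.Agent.FF.PlaneHom
import Mathlib.RingTheory.MvPolynomial.EulerIdentity

/-! Plane points: gradient criterion for nonsingularity and the tangent line, affine and projective. -/

namespace Groth.Agent.FF

open FunFld WithZero MvPolynomial
open scoped Classical

variable {k K : Type*} [Field k] [IsAlgClosed k] [Field K] [Algebra k K] {P : Place k K}

/-- Chain rule in several variables for substitutions into a polynomial ring. -/
theorem chain_rule_fin {n : ℕ} {R : Type*} [CommRing R] [Algebra k R] (d : Derivation k R R) (w : Fin n → R)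
    (g : MvPolynomial (Fin n) k) : d (aeval w g) = ∑ i, aeval w (pderiv i g) * d (w i) := by
  induction g using MvPolynomial.induction_on with
  | C c => simp
  | add p q hp hq => simp only [map_add, hp, hq, add_mul, Finset.sum_add_distrib]
  | mul_X p i hp =>
    rw [map_mul, aeval_X, d.leibniz, hp, smul_eq_mul, smul_eq_mul, Finset.mul_sum]
    simp only [pderiv_mul, map_add, map_mul, aeval_X, add_mul, Finset.sum_add_distrib]
    rw [add_comm]
    congr 1
    · exact Finset.sum_congr rfl fun j _ => by ring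
    · rw [Finset.sum_eq_single i (fun j _ hj => by rw [pderiv_X_of_ne (Ne.symm hj), map_zero, mul_zero, zero_mul])
        (fun h => absurd (Finset.mem_univ i) h), pderiv_X_self, map_one, mul_one]

theorem val_sub_lt_iff_eval {u v : K} {a b : k} (ha : P.1 (u - algebraMap k K a) < 1)
    (hb : P.1 (v - algebraMap k K b) < 1) (G : MvPolynomial (Fin 2) k) :
    P.1 (aeval ![u, v] G) < 1 ↔ constantCoeff (aeval ![(X 0 + C a : MvPolynomial (Fin 2) k), X 1 + C b] G) = 0 := by
  set H := aeval ![(X 0 + C a : MvPolynomial (Fin 2) k), X 1 + C b] G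
  have e : aeval ![u - algebraMap k K a, v - algebraMap k K b] H = aeval ![u, v] G := by
    rw [← AlgHom.comp_apply, comp_aeval]
    congr 2
    ext i; fin_cases i <;> simp
  have h := val_aeval_sub_lt ha hb H
  rw [e] at h
  exact val_lt_iff_const h

/-- Nonsingularity of an affine point by the gradient. -/
theorem locFull_iff_gradient (hK : IsFunctionField k K) {u v : K} {F : MvPolynomial (Fin 2) k}
    (hu : P.1 u ≤ 1) (hv : P.1 v ≤ 1) (hgen : IntermediateField.adjoin k ({u, v} : Set K) = ⊤)
    (hrel : aeval ![u, v] F = 0) (hker : ∀ G, aeval ![u, v] G = 0 → F ∣ G) :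
    LocFull P u v ↔ ¬ (P.1 (aeval ![u, v] (pderiv 0 F)) < 1 ∧ P.1 (aeval ![u, v] (pderiv 1 F)) < 1) := by
  obtain ⟨a, ha⟩ := exists_const_near hK P hu
  obtain ⟨b, hb⟩ := exists_const_near hK P hv
  rw [val_sub_lt_iff_eval ha hb, val_sub_lt_iff_eval ha hb]
  set u' := u - algebraMap k K a with hu'
  set v' := v - algebraMap k K b with hv'
  let σ : MvPolynomial (Fin 2) k →ₐ[k] MvPolynomial (Fin 2) k := aeval ![X 0 + C a, X 1 + C b]
  let τ : MvPolynomial (Fin 2) k →ₐ[k] MvPolynomial (Fin 2) k := aeval ![X 0 - C a, X 1 - C b]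
  have hev : ∀ G, aeval ![u', v'] (σ G) = aeval ![u, v] G := fun G => by
    simp only [σ]
    rw [← AlgHom.comp_apply, comp_aeval]
    congr 2
    ext i; fin_cases i <;> simp [hu', hv']
  have hevτ : ∀ G, aeval ![u, v] (τ G) = aeval ![u', v'] G := fun G => by
    simp only [τ]
    rw [← AlgHom.comp_apply, comp_aeval]
    congr 2
    ext i; fin_cases i <;> simp [hu', hv']
  have hστ : ∀ G, σ (τ G) = G := fun G => by
    have : σ.comp τ = AlgHom.id k _ := algHom_ext fun i => by fin_cases i <;> simp [σ, τ]
    exact AlgHom.congr_fun this G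
  have hset : Algebra.adjoin k ({u', v'} : Set K) = Algebra.adjoin k ({u, v} : Set K) := by
    refine le_antisymm (Algebra.adjoin_le ?_) (Algebra.adjoin_le ?_)
    · rintro z (rfl | rfl)
      · exact sub_mem (Algebra.subset_adjoin (show u ∈ ({u, v} : Set K) from Or.inl rfl)) (Subalgebra.algebraMap_mem _ a)
      · exact sub_mem (Algebra.subset_adjoin (show v ∈ ({u, v} : Set K) from Or.inr rfl)) (Subalgebra.algebraMap_mem _ b)
    · rintro z (hz | hz) <;> subst hz
      · exact (show u' + algebraMap k K a = z from sub_add_cancel _ _) ▸ add_mem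
          (Algebra.subset_adjoin (show u' ∈ ({u', v'} : Set K) from Or.inl rfl)) (Subalgebra.algebraMap_mem _ a)
      · exact (show v' + algebraMap k K b = z from sub_add_cancel _ _) ▸ add_mem
          (Algebra.subset_adjoin (show v' ∈ ({u', v'} : Set K) from Or.inr rfl)) (Subalgebra.algebraMap_mem _ b)
  have h : PtCfg P u' v' (σ F) :=
    { gen := by
        rw [eq_top_iff, ← hgen, IntermediateField.adjoin_le_iff]
        intro z hz
        have hz' : z ∈ Algebra.adjoin k ({u', v'} : Set K) := hset ▸ Algebra.subset_adjoin hz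
        exact IntermediateField.algebra_adjoin_le_adjoin k _ hz'
      hu := ha
      hv := hb
      rel := by rw [hev]; exact hrel }
  have hd : ∀ i, pderiv i (σ F) = σ (pderiv i F) := by
    intro i
    simp only [σ]
    rw [chain_rule]
    fin_cases i <;> simp [pderiv_X_self, pderiv_X_of_ne]
  have hk' : ∀ G, aeval ![u', v'] G = 0 → σ F ∣ G := fun G hG => by
    obtain ⟨H, hH⟩ := hker (τ G) (by rw [hevτ]; exact hG)
    exact ⟨σ H, by rw [← map_mul, ← hH, hστ]⟩
  have hl : LocFull P u' v' ↔ LocFull P u v := by simp only [LocFull, LocZ, hset]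
  rw [← hl]
  constructor
  · intro hf hs
    exact h.not_locFull hk' ⟨by rw [hd]; exact hs.1, by rw [hd]; exact hs.2⟩ hf
  · intro hns
    exact h.locFull_of_gradient fun hs => hns ⟨by have := hs.1; rwa [hd] at this, by have := hs.2; rwa [hd] at this⟩

/-- The tangent form of a relation vanishes to order two. -/
theorem val_tangent_le {u v : K} {F : MvPolynomial (Fin 2) k} {a b : k}
    (ha : P.1 (u - algebraMap k K a) < 1) (hb : P.1 (v - algebraMap k K b) < 1) (hrel : aeval ![u, v] F = 0)
    {ca cb : k} (hca : P.1 (aeval ![u, v] (pderiv 0 F) - algebraMap k K ca) < 1)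
    (hcb : P.1 (aeval ![u, v] (pderiv 1 F) - algebraMap k K cb) < 1) :
    P.1 (ca • (u - algebraMap k K a) + cb • (v - algebraMap k K b)) ≤ exp (-2 : ℤ) := by
  set σ : MvPolynomial (Fin 2) k →ₐ[k] MvPolynomial (Fin 2) k := aeval ![X 0 + C a, X 1 + C b]
  set u' := u - algebraMap k K a with hu'
  set v' := v - algebraMap k K b with hv'
  have hev : ∀ G, aeval ![u', v'] (σ G) = aeval ![u, v] G := fun G => by
    simp only [σ]
    rw [← AlgHom.comp_apply, comp_aeval]
    congr 2
    ext i; fin_cases i <;> simp [hu', hv']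
  have hd : ∀ i, pderiv i (σ F) = σ (pderiv i F) := by
    intro i
    simp only [σ]
    rw [chain_rule]
    fin_cases i <;> simp [pderiv_X_self, pderiv_X_of_ne]
  have hrel' : aeval ![u', v'] (σ F) = 0 := by rw [hev]; exact hrel
  have h0 := constantCoeff_eq_zero_of_aeval ha hb hrel'
  obtain ⟨g1, g2, hg⟩ := exists_split (σ F)
  obtain ⟨e1, e2⟩ := const_pderiv_zero _ g1 g2 _ hg
  rw [h0, C_0, zero_add] at hg
  have hc : ∀ (G : MvPolynomial (Fin 2) k) (H : MvPolynomial (Fin 2) k) (c : k), constantCoeff (σ G) = constantCoeff H →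
      P.1 (aeval ![u, v] G - algebraMap k K c) < 1 → P.1 (aeval ![u', v'] H - algebraMap k K c) < 1 := by
    intro G H c he hG
    have h1 := val_aeval_sub_lt ha hb (σ G)
    rw [hev, he] at h1
    have h2 := P.1.map_add_lt (val_aeval_sub_lt ha hb H) (P.1.map_sub_lt hG h1)
    convert h2 using 2
    ring
  have h1 := hc _ g1 ca (by rw [← e1, hd]) hca
  have h2 := hc _ g2 cb (by rw [← e2, hd]) hcb
  rw [hg, map_add, map_mul, map_mul, aeval_X, aeval_X] at hrel'
  have e : ca • u' + cb • v' = -(u' * (aeval ![u', v'] g1 - algebraMap k K ca) +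
      v' * (aeval ![u', v'] g2 - algebraMap k K cb)) := by
    rw [Algebra.smul_def, Algebra.smul_def]
    simp only [Matrix.cons_val_zero, Matrix.cons_val_one] at hrel'
    linear_combination hrel'
  have hmul : ∀ p q : K, P.1 p < 1 → P.1 q < 1 → P.1 (p * q) ≤ exp (-2 : ℤ) := fun p q hp hq => by
    rw [map_mul, show (-2 : ℤ) = -1 + -1 from rfl, exp_add]
    exact mul_le_mul' (val_le_of_lt_one P hp) (val_le_of_lt_one P hq)
  rw [e, P.1.map_neg]
  exact P.1.map_add_le (hmul _ _ ha h1) (hmul _ _ hb h2)

/-- The dehomogenization of a plane relation at the entry of least order. -/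
theorem plane_chart_data (hK : IsFunctionField k K) {φ : Fin 3 → K}
    (hbir : IntermediateField.adjoin k (Set.range fun i => φ i / φ 0) = ⊤)
    {f : MvPolynomial (Fin 3) k} (hf : Irreducible f) (hhom : f.IsHomogeneous f.totalDegree)
    (hfφ : aeval φ f = 0) {j : Fin 3} (hj : IsMax φ P j) (hne : φ 0 ≠ 0) :
    ∃ g : MvPolynomial (Fin 2) k,
      P.1 (φ (j.succAbove 0) / φ j) ≤ 1 ∧ P.1 (φ (j.succAbove 1) / φ j) ≤ 1 ∧
      IntermediateField.adjoin k ({φ (j.succAbove 0) / φ j, φ (j.succAbove 1) / φ j} : Set K) = ⊤ ∧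
      aeval ![φ (j.succAbove 0) / φ j, φ (j.succAbove 1) / φ j] g = 0 ∧
      (∀ G, aeval ![φ (j.succAbove 0) / φ j, φ (j.succAbove 1) / φ j] G = 0 → g ∣ G) ∧
      (∀ i : Fin 2, aeval ![φ (j.succAbove 0) / φ j, φ (j.succAbove 1) / φ j] (pderiv i g) =
        aeval (fun l => φ l / φ j) (pderiv (j.succAbove i) f)) ∧
      (∑ l, φ l / φ j * aeval (fun l => φ l / φ j) (pderiv l f) = 0) ∧
      ratioAlg k φ j = Algebra.adjoin k ({φ (j.succAbove 0) / φ j, φ (j.succAbove 1) / φ j} : Set K) := by
  have hj0 := hj.1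
  set x := φ (j.succAbove 0) / φ j with hx
  set y := φ (j.succAbove 1) / φ j with hy
  have hψ : (fun l => φ l / φ j) = Fin.insertNth j 1 ![x, y] := by
    refine (Fin.insertNth_eq_iff.mpr ⟨?_, ?_⟩).symm
    · exact (div_self hj0).symm
    · ext i; fin_cases i <;> simp [Fin.removeNth, hx, hy]
  have hsc : ∀ n (G : MvPolynomial (Fin 3) k), G.IsHomogeneous n → aeval φ G = φ j ^ n * aeval (fun l => φ l / φ j) G := by
    intro n G hG
    rw [G.as_sum, map_sum, map_sum, Finset.mul_sum]
    refine Finset.sum_congr rfl fun d hd => ?_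
    have h : d 0 + d 1 + d 2 = n := by
      have h := hG (mem_support_iff.mp hd)
      rw [Finsupp.weight_apply, Finsupp.sum_fintype _ _ (fun _ => by simp), Fin.sum_univ_three] at h
      simpa using h
    rw [aeval_monomial, aeval_monomial, Finsupp.prod_fintype _ _ (fun _ => pow_zero _),
      Finsupp.prod_fintype _ _ (fun _ => pow_zero _), Fin.prod_univ_three, Fin.prod_univ_three, ← h]
    simp only [div_pow, pow_add]
    field_simp
  have hval : aeval (fun l => φ l / φ j) f = 0 := by
    have := hsc _ f hhom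
    rw [hfφ] at this
    exact (mul_eq_zero.mp this.symm).resolve_left (pow_ne_zero _ hj0)
  let e : Fin 3 ≃ Fin 3 := Equiv.ofBijective ![j, j.succAbove 0, j.succAbove 1] (by
    fin_cases j <;> decide)
  have he : ∀ i, e i = ![j, j.succAbove 0, j.succAbove 1] i := fun i => rfl
  set f' := rename e.symm f with hf'
  have hhom' : f'.IsHomogeneous f.totalDegree := hhom.rename_isHomogeneous
  have hirr : Irreducible f' := hf.map (f := renameEquiv k e.symm)
  have hψe : (fun l => φ l / φ j) = fun l => ![(1 : K), x, y] (e.symm l) := by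
    ext l
    obtain ⟨i, rfl⟩ := e.surjective l
    rw [e.symm_apply_apply, he]
    fin_cases i
    · simp [hj0]
    · simp [hx]
    · simp [hy]
  have hev' : ∀ G : MvPolynomial (Fin 3) k, aeval ![(1 : K), x, y] (rename e.symm G) = aeval (fun l => φ l / φ j) G :=
    fun G => by rw [aeval_rename, hψe]; rfl
  have hdh : ∀ G : MvPolynomial (Fin 3) k, aeval ![x, y] (dehom k G) = aeval ![(1 : K), x, y] G := fun G => by
    simp only [dehom]
    rw [← AlgHom.comp_apply, comp_aeval]
    congr 2
    ext i; fin_cases i <;> simp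
  have hgen : IntermediateField.adjoin k ({x, y} : Set K) = ⊤ := by
    rw [eq_top_iff, ← hbir, IntermediateField.adjoin_le_iff]
    rintro z ⟨i, rfl⟩
    have hm : ∀ l, φ l / φ j ∈ IntermediateField.adjoin k ({x, y} : Set K) := fun l => by
      rw [congrFun hψe l]
      generalize e.symm l = i
      fin_cases i
      · exact one_mem _
      · exact IntermediateField.subset_adjoin k _ (Or.inl rfl)
      · exact IntermediateField.subset_adjoin k _ (Or.inr rfl)
    show φ i / φ 0 ∈ IntermediateField.adjoin k ({x, y} : Set K)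
    rw [show φ i / φ 0 = (φ i / φ j) / (φ 0 / φ j) by field_simp]
    exact div_mem (hm i) (hm 0)
  obtain ⟨F', hF', hF'hom, hker⟩ := plane_ideal hK hgen
  have hzero : ∀ n (G : MvPolynomial (Fin 3) k), G.IsHomogeneous n →
      (aeval (fun i => Polynomial.C (![(1 : K), x, y] i) * Polynomial.X) G : Polynomial K) =
        Polynomial.C (aeval ![(1 : K), x, y] G) * Polynomial.X ^ n := by
    intro n G hG
    rw [G.as_sum, map_sum, map_sum, map_sum, Finset.sum_mul]
    refine Finset.sum_congr rfl fun d hd => ?_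
    have h : d 0 + d 1 + d 2 = n := by
      have h := hG (mem_support_iff.mp hd)
      rw [Finsupp.weight_apply, Finsupp.sum_fintype _ _ (fun _ => by simp), Fin.sum_univ_three] at h
      simpa using h
    rw [aeval_monomial, aeval_monomial, Finsupp.prod_fintype _ _ (fun _ => pow_zero _),
      Finsupp.prod_fintype _ _ (fun _ => pow_zero _), Fin.prod_univ_three, Fin.prod_univ_three, ← h,
      Polynomial.algebraMap_apply]
    simp only [map_mul, map_pow, mul_pow, pow_add]
    ring
  have hmem : f' ∈ Ideal.span {F'} := hker ▸ (RingHom.mem_ker.mpr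
    (by rw [hzero _ f' hhom', hev', hval, map_zero, zero_mul]) : f' ∈ RingHom.ker _)
  have hass : Associated F' f' := hF'.associated_of_dvd hirr (Ideal.mem_span_singleton.mp hmem)
  refine ⟨dehom k f', ?_, ?_, hgen, by rw [hdh, hev', hval], fun G hG => ?_, fun i => ?_, ?_, ?_⟩
  · rw [hx, map_div₀, div_le_one₀ hj.pos]; exact hj.2 _
  · rw [hy, map_div₀, div_le_one₀ hj.pos]; exact hj.2 _
  · have hG' : homog k G.totalDegree G ∈ Ideal.span {f'} := by
      rw [← Ideal.span_singleton_eq_span_singleton.mpr hass]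
      refine hker ▸ (RingHom.mem_ker.mpr ?_ : homog k G.totalDegree G ∈ RingHom.ker _)
      rw [hzero _ _ (isHomogeneous_homog le_rfl), ← hdh, dehom_homog, hG, map_zero, zero_mul]
    obtain ⟨H, hH⟩ := Ideal.mem_span_singleton.mp hG'
    exact ⟨dehom k H, by rw [← map_mul, ← hH, dehom_homog]⟩
  · have h1 : pderiv i (dehom k f') = dehom k (pderiv i.succ f') := by
      simp only [dehom]
      rw [chain_rule_fin, Fin.sum_univ_three]
      fin_cases i <;> simp [pderiv_X_self, pderiv_X_of_ne]
    have h2 : pderiv i.succ f' = rename e.symm (pderiv (j.succAbove i) f) := by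
      rw [hf', ← pderiv_rename e.symm.injective]
      congr 2
      rw [eq_comm, Equiv.symm_apply_eq, he]
      fin_cases i <;> rfl
    rw [h1, hdh, h2, hev']
  · have := congrArg (aeval (fun l => φ l / φ j)) hhom.sum_X_mul_pderiv
    simpa [hval] using this
  · refine le_antisymm (Algebra.adjoin_le ?_) (Algebra.adjoin_le ?_)
    · rintro z ⟨l, rfl⟩
      show φ l / φ j ∈ _
      rw [congrFun hψe l]
      generalize e.symm l = i
      fin_cases i
      · exact one_mem _
      · exact Algebra.subset_adjoin (Or.inl rfl)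
      · exact Algebra.subset_adjoin (Or.inr rfl)
    · rintro z (rfl | rfl)
      · exact Algebra.subset_adjoin ⟨_, rfl⟩
      · exact Algebra.subset_adjoin ⟨_, rfl⟩

theorem residue_aeval_eq {σ : Type*} (a : σ → P.O) (G : MvPolynomial σ k) :
    aeval (fun i => IsLocalRing.residue P.O (a i)) G = IsLocalRing.residue P.O (aeval a G) ∧
      ((aeval a G : P.O) : K) = aeval (fun i => (a i : K)) G := by
  constructor <;> induction G using MvPolynomial.induction_on with
  | C c => simp only [aeval_C]; rfl
  | add p q hp hq => simp only [map_add, hp, hq, AddMemClass.coe_add]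
  | mul_X p i hp => simp only [map_mul, aeval_X, hp, MulMemClass.coe_mul]

end Groth.Agent.FF
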