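import Groth.Agent.FF.RiemannRoch

/-!
# Uniqueness of the rational subfield of index two
-/

set_option autoImplicit false

open FunFld IntermediateField Module

universe u v

namespace Groth.Agent.FF

variable {k : Type u} {K : Type v} [Field k] [Field K] [Algebra k K]

theorem transcendental_of_finrank_eq_two (hK : IsFunctionField k K) {x : K}
    (hx : Module.finrank (IntermediateField.adjoin k ({x} : Set K)) K = 2) : Transcendental k x := by
  intro ha
  obtain ⟨c, hc⟩ := hK.2 x ha
  have hbot : IntermediateField.adjoin k ({x} : Set K) = ⊥ := by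
    rw [IntermediateField.adjoin_simple_eq_bot_iff, IntermediateField.mem_bot]
    exact ⟨c, hc⟩
  rw [hbot, IntermediateField.finrank_bot'] at hx
  haveI : FiniteDimensional k K := Module.finite_of_finrank_pos (by omega)
  obtain ⟨t, ht, -⟩ := hK.1
  exact ht (Algebra.IsAlgebraic.isAlgebraic t)

theorem mem_adjoin_of_finrank_eq_two (hK : IsFunctionField k K) (hg : 2 ≤ genus k K) {x x' : K}
    (hx : Module.finrank (IntermediateField.adjoin k ({x} : Set K)) K = 2)
    (hx' : Module.finrank (IntermediateField.adjoin k ({x'} : Set K)) K = 2) :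
    x' ∈ IntermediateField.adjoin k ({x} : Set K) := by
  obtain ⟨m, hm⟩ : ∃ m, genus k K = m + 2 := ⟨genus k K - 2, by omega⟩
  obtain ⟨C₀, hC₀⟩ := exists_isCanonical hK
  have hC0 := ell_canonical hK hC₀
  -- the data attached to one element
  have key : ∀ z : K, Module.finrank (IntermediateField.adjoin k ({z} : Set K)) K = 2 →
      ∃ h : K, h ≠ 0 ∧ ((m + 1 : ℕ) : ℤ) • poles z = C₀ + div k h ∧
        L (((m + 1 : ℕ) : ℤ) • poles (k := k) z) = Submodule.span k (Set.range fun i : Fin (m + 2) => z ^ (i : ℕ)) := by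
    intro z hz
    have ht := transcendental_of_finrank_eq_two hK hz
    set C := ((m + 1 : ℕ) : ℤ) • poles (k := k) z with hC
    have hdeg : C.deg = 2 * (genus k K : ℤ) - 2 := by
      rw [hC, deg_zsmul, deg_poles hK ht, hz, hm]; push_cast; ring
    have hli : LinearIndependent k (fun i : Fin (m + 2) => z ^ (i : ℕ)) := by
      have h1 := (Polynomial.basisMonomials k).linearIndependent.map' (Polynomial.aeval z).toLinearMap
        (LinearMap.ker_eq_bot.mpr (transcendental_iff_injective.mp ht))
      have e : (fun i : Fin (m + 2) => z ^ (i : ℕ)) =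
          (⇑(Polynomial.aeval z).toLinearMap ∘ ⇑(Polynomial.basisMonomials k)) ∘ fun i : Fin (m + 2) => (i : ℕ) := by
        funext i; simp
      rw [e]; exact h1.comp _ Fin.val_injective
    have hle : Submodule.span k (Set.range fun i : Fin (m + 2) => z ^ (i : ℕ)) ≤ L C := by
      rw [Submodule.span_le]
      rintro _ ⟨i, rfl⟩ P
      show P.1 (z ^ (i : ℕ)) ≤ WithZero.exp (C P)
      rw [map_pow]
      refine (pow_le_pow_left₀ zero_le (val_le_exp_poles hK z P) _).trans ?_
      rw [← WithZero.exp_nsmul, WithZero.exp_le_exp, nsmul_eq_mul, hC, Finsupp.smul_apply, smul_eq_mul]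
      exact mul_le_mul_of_nonneg_right (by exact_mod_cast Nat.le_of_lt_succ i.2) (poles_nonneg z P)
    haveI := finiteDimensional_L hK C
    have hge : m + 2 ≤ ell C := by
      have h1 := Submodule.finrank_mono hle
      rwa [finrank_span_eq_card hli, Fintype.card_fin] at h1
    have hRR := riemann_roch' hK hC₀ C
    have hd0 : (C₀ - C).deg = 0 := by rw [deg_sub]; omega
    have hpos : 0 < ell (C₀ - C) := by omega
    obtain ⟨h, h0, hh⟩ := exists_div_of_ell_pos_deg_zero hK hd0 hpos
    have hh' : C = C₀ + div k h := by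
      have : C₀ + div k h - C = 0 := by rw [← hh]; abel
      exact (sub_eq_zero.mp this).symm
    have hell : ell C = m + 2 := by
      have := ell_add_div hK C₀ h0
      rw [← hh'] at this
      omega
    refine ⟨h, h0, hh', (Submodule.eq_of_le_of_finrank_eq hle ?_).symm⟩
    rw [finrank_span_eq_card hli, Fintype.card_fin]
    exact hell.symm
  obtain ⟨a, ha0, haC, haL⟩ := key x hx
  obtain ⟨b, hb0, hbC, hbL⟩ := key x' hx'
  let d := b * a⁻¹
  have hd0 : d ≠ 0 := mul_ne_zero hb0 (inv_ne_zero ha0)
  have hC' : ((m + 1 : ℕ) : ℤ) • poles (k := k) x' = ((m + 1 : ℕ) : ℤ) • poles x + div k d := by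
    rw [haC, hbC, div_mul hK hb0 (inv_ne_zero ha0), div_inv hK]; abel
  have hmem : ∀ i : Fin (m + 2), d * x' ^ (i : ℕ) ∈ IntermediateField.adjoin k ({x} : Set K) := by
    intro i
    have h1 : x' ^ (i : ℕ) ∈ L (((m + 1 : ℕ) : ℤ) • poles (k := k) x') := by
      rw [hbL]; exact Submodule.subset_span ⟨i, rfl⟩
    rw [hC', ← mul_mem_L_iff hK hd0, haL] at h1
    refine (Submodule.span_le (p := Subalgebra.toSubmodule
      (IntermediateField.adjoin k ({x} : Set K)).toSubalgebra)).mpr ?_ h1
    rintro _ ⟨j, rfl⟩
    exact pow_mem (IntermediateField.mem_adjoin_simple_self k x) _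
  have h0 := hmem ⟨0, by omega⟩
  have h1 := hmem ⟨1, by omega⟩
  simp only [pow_zero, mul_one, pow_one] at h0 h1
  have := mul_mem (inv_mem h0) h1
  rwa [inv_mul_cancel_left₀ hd0] at this

/-- A function field of genus at least two has at most one rational subfield of index two. -/
theorem adjoin_eq_of_finrank_eq_two (hK : IsFunctionField k K) (hg : 2 ≤ genus k K) {x x' : K}
    (hx : Module.finrank (IntermediateField.adjoin k ({x} : Set K)) K = 2)
    (hx' : Module.finrank (IntermediateField.adjoin k ({x'} : Set K)) K = 2) :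
    IntermediateField.adjoin k ({x} : Set K) = IntermediateField.adjoin k ({x'} : Set K) :=
  le_antisymm
    (IntermediateField.adjoin_simple_le_iff.mpr (mem_adjoin_of_finrank_eq_two hK hg hx' hx))
    (IntermediateField.adjoin_simple_le_iff.mpr (mem_adjoin_of_finrank_eq_two hK hg hx hx'))

end Groth.Agent.FF
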