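import Groth.Agent.FF.HyperGenus
import Groth.Agent.FF.Integral
import Groth.Agent.FF.Extension
import Groth.Agent.FF.Geometric
import Groth.Agent.FF.GeometricSub
import Groth.Agent.FF.DiffDegree
import Mathlib.RingTheory.Discriminant
import Mathlib.FieldTheory.PrimitiveElement

/-!
# Infinitely many places with separable residue field
-/

set_option autoImplicit false

open FunFld WithZero Module IntermediateField

universe u v

namespace Groth.Agent.FF.SepPlaces

open Groth.Agent.FF

variable {k : Type u} {K : Type v} [Field k] [Field K] [Algebra k K]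

/-- Values at a place over `t = a`. -/
theorem eval_zero_or_unit (P : Place k K) {t : K} {a : k} (ha : P.1 (t - algebraMap k K a) < 1) (p : Polynomial k) :
    P.1 (Polynomial.aeval t p - algebraMap k K (p.eval a)) < 1 := by
  have ht : P.1 t ≤ 1 := by
    have : t = (t - algebraMap k K a) + algebraMap k K a := by ring
    rw [this]; exact (P.1.map_add _ _).trans (max_le ha.le (P.2.1 a))
  obtain ⟨q, hq⟩ := Polynomial.X_sub_C_dvd_sub_C_eval (a := a) (p := p)
  have h := congrArg (Polynomial.aeval t) hq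
  rw [map_sub, map_mul, map_sub, Polynomial.aeval_C, Polynomial.aeval_X, Polynomial.aeval_C] at h
  rw [h, map_mul]
  exact lt_of_le_of_lt (mul_le_of_le_one_right zero_le (HyperGenus.val_aeval_le_one P ht q)) ha

/-- The reduction of an element `num(t)/den(t)` at a place over `t = a`. -/
theorem exists_residue_const (P : Place k K) {t : K} {a : k} (ha : P.1 (t - algebraMap k K a) < 1)
    {num den : Polynomial k} {c : K} (hc : c * Polynomial.aeval t den = Polynomial.aeval t num) :
    (den.eval a ≠ 0 → P.1 c ≤ 1) ∧ (IsCoprime num den → P.1 c ≤ 1 → ∃ r : k, P.1 (c - algebraMap k K r) < 1) := by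
  have hv : ∀ p : Polynomial k, p.eval a ≠ 0 → P.1 (Polynomial.aeval t p) = 1 := fun p hp => by
    have h1 := eval_zero_or_unit P ha p
    rw [show Polynomial.aeval t p = (Polynomial.aeval t p - algebraMap k K (p.eval a)) + algebraMap k K (p.eval a) by ring]
    rw [Valuation.map_add_eq_of_lt_right]
    · exact val_algebraMap P hp
    · rw [val_algebraMap P hp]; exact h1
  have hle : ∀ p : Polynomial k, P.1 (Polynomial.aeval t p) ≤ 1 := fun p => by
    rw [show Polynomial.aeval t p = (Polynomial.aeval t p - algebraMap k K (p.eval a)) + algebraMap k K (p.eval a) by ring]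
    exact (P.1.map_add _ _).trans (max_le (eval_zero_or_unit P ha p).le (P.2.1 _))
  refine ⟨fun hd => ?_, fun hcop hc1 => ?_⟩
  · have h := congrArg P.1 hc
    rw [map_mul, hv den hd, mul_one] at h
    rw [h]; exact hle num
  · have hd : den.eval a ≠ 0 := fun hd => by
      have hn : num.eval a ≠ 0 := fun hn => by
        obtain ⟨x, y, hxy⟩ := hcop
        have := congrArg (Polynomial.eval a) hxy
        simp [hn, hd] at this
      have h := congrArg P.1 hc
      rw [map_mul, hv num hn] at h
      have h2 := eval_zero_or_unit P ha den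
      rw [hd, map_zero, sub_zero] at h2
      exact absurd h (ne_of_lt (lt_of_le_of_lt (mul_le_of_le_one_left zero_le hc1) h2))
    refine ⟨num.eval a / den.eval a, ?_⟩
    have h2 : (c - algebraMap k K (num.eval a / den.eval a)) * Polynomial.aeval t den =
        (Polynomial.aeval t num - algebraMap k K (num.eval a)) -
        algebraMap k K (num.eval a / den.eval a) * (Polynomial.aeval t den - algebraMap k K (den.eval a)) := by
      have h3 : algebraMap k K (num.eval a / den.eval a) * algebraMap k K (den.eval a) = algebraMap k K (num.eval a) := by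
        rw [← map_mul, div_mul_cancel₀ _ hd]
      rw [sub_mul, hc, mul_sub, h3]; ring
    have h4 : P.1 ((c - algebraMap k K (num.eval a / den.eval a)) * Polynomial.aeval t den) < 1 := by
      rw [h2]
      refine lt_of_le_of_lt (P.1.map_sub _ _) (max_lt (eval_zero_or_unit P ha num) ?_)
      rw [map_mul]
      exact lt_of_le_of_lt (mul_le_of_le_one_left zero_le (P.2.1 _)) (eval_zero_or_unit P ha den)
    rwa [map_mul, hv den hd, mul_one] at h4

theorem exists_fraction {t : K} (ht : Transcendental k t) (c : k⟮t⟯) :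
    ∃ num den : Polynomial k, IsCoprime num den ∧ den ≠ 0 ∧
      (c : K) * Polynomial.aeval t den = Polynomial.aeval t num := by
  let e : RatFunc k ≃ₐ[k] k⟮t⟯ := RatFunc.algEquivOfTranscendental t ht
  have he : ∀ p : Polynomial k, (e (algebraMap (Polynomial k) (RatFunc k) p) : K) = Polynomial.aeval t p := fun p => by
    rw [RatFunc.algEquivOfTranscendental_algebraMap]; simp
  refine ⟨(e.symm c).num, (e.symm c).denom, RatFunc.isCoprime_num_denom _, RatFunc.denom_ne_zero _, ?_⟩
  have h := RatFunc.num_div_denom (e.symm c)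
  rw [div_eq_iff ((map_ne_zero_iff _ (RatFunc.algebraMap_injective k)).mpr (RatFunc.denom_ne_zero _))] at h
  have h' := congrArg (fun s => (e s : K)) h
  simp only [map_mul, MulMemClass.coe_mul, he, AlgEquiv.apply_symm_apply] at h'
  exact h'.symm

theorem isSeparable_of_mem_adjoin {F : Type u} {L : Type*} [Field F] [Field L] [Algebra F L] {z w : L}
    (hz : IsSeparable F z) (hw : w ∈ IntermediateField.adjoin F ({z} : Set L)) : IsSeparable F w := by
  haveI : Algebra.IsSeparable F (IntermediateField.adjoin F ({z} : Set L)) :=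
    (IntermediateField.isSeparable_adjoin_simple_iff_isSeparable _ _).2 hz
  exact (isSeparable_map_iff (IntermediateField.adjoin F ({z} : Set L)).val Subtype.val_injective
    (x := (⟨w, hw⟩ : IntermediateField.adjoin F ({z} : Set L)))).mpr (Algebra.IsSeparable.isSeparable F _)

theorem infinite_separable_over [Infinite k] (hK : IsFunctionField k K) {t : K} (ht : Transcendental k t)
    [Algebra.IsSeparable k⟮t⟯ K] :
    {P : Place k K | (∃ a : k, P.1 (t - algebraMap k K a) < 1) ∧
      Algebra.IsSeparable k (IsLocalRing.ResidueField P.O)}.Infinite := by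
  classical
  haveI := finiteDimensional_adjoin hK ht
  have hF := isFunctionField_intermediate hK k⟮t⟯ ⟨t, mem_adjoin_simple_self k t, ht⟩
  let B := Field.powerBasisOfFiniteOfSeparable k⟮t⟯ K
  set g := minpoly k⟮t⟯ B.gen with hg
  have hgm : g.Monic := minpoly.monic (Algebra.IsIntegral.isIntegral _)
  obtain ⟨pu, pv, hbez⟩ : IsCoprime g (Polynomial.derivative g) :=
    Algebra.IsSeparable.isSeparable k⟮t⟯ B.gen
  set d := Algebra.discr k⟮t⟯ B.basis with hd
  have hd0 : d ≠ 0 := Algebra.discr_not_zero_of_basis k⟮t⟯ B.basis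
  let S : Finset k⟮t⟯ := g.coeffs ∪ pu.coeffs ∪ pv.coeffs ∪ {d, d⁻¹}
  choose num den hcop hden hfrac using fun c : k⟮t⟯ => exists_fraction ht c
  let bad : Finset k := S.biUnion fun c => (den c).roots.toFinset
  have hgood : ∀ a : k, a ∉ bad → ∀ c ∈ S, (den c).eval a ≠ 0 := fun a ha c hc h => by
    apply ha
    rw [Finset.mem_biUnion]
    exact ⟨c, hc, by rw [Multiset.mem_toFinset, Polynomial.mem_roots (hden c)]; exact h⟩
  have hex : ∀ a : k, ∃ P : Place k K, P.1 (t - algebraMap k K a) < 1 := fun a => by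
    have h0 : Transcendental k (t - algebraMap k K a) := fun h => ht (by
      simpa using h.add (isAlgebraic_algebraMap a))
    have h1 : Transcendental k (t - algebraMap k K a)⁻¹ := fun h => h0 (by simpa using h.inv)
    obtain ⟨P, hP⟩ := HyperGenus.exists_place_pole hK h1
    rw [map_inv₀, one_lt_inv_iff₀] at hP
    exact ⟨P, hP.2⟩
  choose PP hPP using hex
  have hinj : Function.Injective PP := fun a b hab => by
    by_contra hne
    have h1 := hPP a
    rw [hab] at h1
    have h2 : (PP b).1 (algebraMap k K (b - a)) < 1 := by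
      rw [map_sub, show algebraMap k K b - algebraMap k K a =
        (t - algebraMap k K a) - (t - algebraMap k K b) by ring]
      exact lt_of_le_of_lt ((PP b).1.map_sub _ _) (max_lt h1 (hPP b))
    rw [val_algebraMap (PP b) (sub_ne_zero.mpr (Ne.symm hne))] at h2
    exact lt_irrefl _ h2
  refine ((Set.Finite.infinite_compl bad.finite_toSet).image hinj.injOn).mono ?_
  rintro _ ⟨a, ha, rfl⟩
  set P := PP a with hPdef
  have hPa : P.1 (t - algebraMap k K a) < 1 := hPP a
  obtain ⟨P₀, e, -, heP⟩ := exists_isOverWith (k := k) (K := k⟮t⟯) (K' := K) (isFF'_of_isFunctionField hF) P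
  have hover : IsOver P P₀ := ⟨e, heP⟩
  letI iO : Algebra P₀.O K := ((algebraMap k⟮t⟯ K).comp P₀.O.subtype).toAlgebra
  haveI : IsScalarTower P₀.O k⟮t⟯ K := IsScalarTower.of_algebraMap_eq fun _ => rfl
  have hSO : ∀ c ∈ S, c ∈ P₀.O := fun c hc => by
    rw [mem_O, ← ow_le_one_iff heP]
    exact (exists_residue_const P hPa (hfrac c)).1 (hgood a (by simpa using ha) c hc)
  have hcO : ∀ c : P₀.O, ∃ r : k, P.1 (algebraMap P₀.O K c - algebraMap k K r) < 1 := fun c => by
    refine (exists_residue_const P hPa (hfrac c.1)).2 (hcop c.1) ?_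
    exact (ow_le_one_iff heP c.1).mpr ((mem_O P₀).mp c.2)
  let κ := IsLocalRing.ResidueField P.O
  let res : P.O →+* κ := IsLocalRing.residue P.O
  let θ : P₀.O →+* κ := res.comp (ringMap hover)
  have hθ : ∀ c : P₀.O, ∃ r : k, algebraMap k κ r = θ c := fun c => by
    obtain ⟨r, hr⟩ := hcO c
    refine ⟨r, ?_⟩
    have hmem : (ringMap hover c - algebraMap k P.O r) ∈ IsLocalRing.maximalIdeal P.O := by
      rw [IsLocalRing.mem_maximalIdeal, mem_nonunits_iff]
      intro hu
      obtain ⟨w, hw⟩ := hu.exists_right_inv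
      have h1 := congrArg (fun z : P.O => P.1 (z : K)) hw
      simp only [MulMemClass.coe_mul, map_mul, OneMemClass.coe_one, map_one] at h1
      have h2 : P.1 ((ringMap hover c - algebraMap k P.O r : P.O) : K) < 1 := hr
      exact absurd h1 (ne_of_lt (lt_of_le_of_lt (mul_le_of_le_one_right zero_le ((mem_O P).mp w.2)) h2))
    have := (IsLocalRing.residue_eq_zero_iff _).mpr hmem
    rw [map_sub, sub_eq_zero] at this
    exact this.symm
  choose ρf hρf using hθ
  let ρ : P₀.O →+* k :=
    { toFun := ρf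
      map_one' := (algebraMap k κ).injective (by rw [hρf, map_one, map_one])
      map_mul' := fun x y => (algebraMap k κ).injective (by rw [map_mul, hρf, hρf, hρf, map_mul])
      map_zero' := (algebraMap k κ).injective (by rw [hρf, map_zero, map_zero])
      map_add' := fun x y => (algebraMap k κ).injective (by rw [map_add, hρf, hρf, hρf, map_add]) }
  have hlift : ∀ p : Polynomial k⟮t⟯, p.coeffs ⊆ S → ∃ p₀ : Polynomial P₀.O, p₀.map P₀.O.subtype = p := fun p hp => by
    refine (Polynomial.mem_lifts _).mp ((Polynomial.lifts_iff_coeff_lifts _).mpr fun n => ?_)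
    rcases eq_or_ne (p.coeff n) 0 with h | h
    · exact ⟨0, by rw [map_zero, h]⟩
    · exact ⟨⟨_, hSO _ (hp (Polynomial.coeff_mem_coeffs h))⟩, rfl⟩
  obtain ⟨g₀, hg₀⟩ := hlift g (by intro x hx; simp [S, hx])
  obtain ⟨u₀, hu₀⟩ := hlift pu (by intro x hx; simp [S, hx])
  obtain ⟨v₀, hv₀⟩ := hlift pv (by intro x hx; simp [S, hx])
  have hinjO : Function.Injective P₀.O.subtype := Subtype.val_injective
  have hbez₀ : u₀ * g₀ + v₀ * Polynomial.derivative g₀ = 1 := by
    apply Polynomial.map_injective _ hinjO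
    rw [Polynomial.map_add, Polynomial.map_mul, Polynomial.map_mul, ← Polynomial.derivative_map, hg₀, hu₀, hv₀,
      Polynomial.map_one]
    exact hbez
  have hg₀m : g₀.Monic := Polynomial.monic_of_injective hinjO (by rw [hg₀]; exact hgm)
  have hgen0 : Polynomial.aeval B.gen g₀ = 0 := by
    rw [← Polynomial.aeval_map_algebraMap k⟮t⟯, show algebraMap P₀.O k⟮t⟯ = P₀.O.subtype from rfl, hg₀]
    exact minpoly.aeval _ _
  have hgenint : IsIntegral P₀.O B.gen := ⟨g₀, hg₀m, hgen0⟩
  have hgenO : P.1 B.gen ≤ 1 := (isIntegral_iff_forall_place (isFF'_of_isFunctionField hF) P₀ B.gen).mp hgenint P hover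
  let zb : κ := res ⟨B.gen, (mem_O P).mpr hgenO⟩
  have hroot : Polynomial.aeval zb (g₀.map ρ) = 0 := by
    have hθρ : (algebraMap k κ).comp ρ = θ := RingHom.ext hρf
    rw [Polynomial.aeval_def, Polynomial.eval₂_map, hθρ]
    show g₀.eval₂ (res.comp (ringMap hover)) (res ⟨B.gen, (mem_O P).mpr hgenO⟩) = 0
    rw [← Polynomial.hom_eval₂]
    have h0 : g₀.eval₂ (ringMap hover) ⟨B.gen, (mem_O P).mpr hgenO⟩ = 0 := by
      apply Subtype.val_injective
      show P.O.subtype _ = P.O.subtype 0
      rw [Polynomial.hom_eval₂, map_zero]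
      exact hgen0
    rw [h0, map_zero]
  have hzsep : IsSeparable k zb := by
    have hsep : (g₀.map ρ).Separable := ⟨u₀.map ρ, v₀.map ρ, by
      rw [Polynomial.derivative_map, ← Polynomial.map_mul, ← Polynomial.map_mul, ← Polynomial.map_add, hbez₀,
        Polynomial.map_one]⟩
    exact hsep.of_dvd (minpoly.dvd k zb hroot)
  let E := IntermediateField.adjoin k ({zb} : Set κ)
  have hE : ∀ w : κ, w ∈ E → IsSeparable k w := fun w hw => isSeparable_of_mem_adjoin hzsep hw
  refine ⟨⟨a, hPa⟩, ⟨fun w => hE w ?_⟩⟩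
  obtain ⟨u, rfl⟩ := IsLocalRing.residue_surjective (R := P.O) w
  -- approximation
  have hfin : {Q : Place k K | IsOver Q P₀}.Finite := finite_over (isFF'_of_isFunctionField hF) P₀
  obtain ⟨Pinf, hPinf⟩ := HyperGenus.exists_place_pole hK ht
  have hnot : Pinf ∉ hfin.toFinset := fun hmem => by
    obtain ⟨e', he'⟩ := hfin.mem_toFinset.mp hmem
    have h1 : P₀.1 ⟨t, mem_adjoin_simple_self k t⟩ ≤ 1 := (ow_le_one_iff heP _).mp (by
      show P.1 t ≤ 1
      have : t = (t - algebraMap k K a) + algebraMap k K a := by ring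
      rw [this]; exact (P.1.map_add _ _).trans (max_le hPa.le (P.2.1 a)))
    exact absurd hPinf (not_lt.mpr ((ow_le_one_iff he' _).mpr h1))
  obtain ⟨w', hw', -⟩ := strong_approximation' hK Pinf hfin.toFinset hnot
    (fun Q => if Q = P then (u : K) else 0) (fun Q => if Q = P then -1 else 0)
  have hwP : P.1 (w' - (u : K)) < 1 := by
    have h := hw' P (hfin.mem_toFinset.mpr hover)
    rw [if_pos rfl, if_pos rfl] at h
    exact lt_of_le_of_lt h (by rw [← exp_zero, exp_lt_exp]; norm_num)
  have hwint : IsIntegral P₀.O w' := by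
    refine (isIntegral_iff_forall_place (isFF'_of_isFunctionField hF) P₀ w').mpr fun Q hQ => ?_
    by_cases hQP : Q = P
    · subst hQP
      rw [show w' = (w' - (u : K)) + u by ring]
      exact (P.1.map_add _ _).trans (max_le hwP.le ((mem_O P).mp u.2))
    · have h := hw' Q (hfin.mem_toFinset.mpr hQ)
      rwa [if_neg hQP, if_neg hQP, sub_zero, exp_zero] at h
  have hmem := Algebra.discr_mul_isIntegral_mem_adjoin (K := k⟮t⟯) (B := B) hgenint hwint
  have hkey : ∀ y ∈ Algebra.adjoin P₀.O ({B.gen} : Set K), ∃ hy : P.1 y ≤ 1, res ⟨y, (mem_O P).mpr hy⟩ ∈ E := by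
    intro y hy
    induction hy using Algebra.adjoin_induction with
    | mem x hx =>
      rw [Set.mem_singleton_iff] at hx
      subst hx
      exact ⟨hgenO, IntermediateField.mem_adjoin_simple_self k zb⟩
    | algebraMap c =>
      refine ⟨(ow_le_one_iff heP c.1).mpr ((mem_O P₀).mp c.2), ?_⟩
      show θ c ∈ E
      rw [← hρf c]
      exact E.algebraMap_mem _
    | add x y _ _ hx hy =>
      obtain ⟨hx1, hx2⟩ := hx
      obtain ⟨hy1, hy2⟩ := hy
      refine ⟨(P.1.map_add _ _).trans (max_le hx1 hy1), ?_⟩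
      show res (⟨x, (mem_O P).mpr hx1⟩ + ⟨y, (mem_O P).mpr hy1⟩) ∈ E
      rw [map_add]; exact add_mem hx2 hy2
    | mul x y _ _ hx hy =>
      obtain ⟨hx1, hx2⟩ := hx
      obtain ⟨hy1, hy2⟩ := hy
      refine ⟨by rw [map_mul]; exact mul_le_one' hx1 hy1, ?_⟩
      show res (⟨x, (mem_O P).mpr hx1⟩ * ⟨y, (mem_O P).mpr hy1⟩) ∈ E
      rw [map_mul]; exact mul_mem hx2 hy2
  obtain ⟨hy1, hy2⟩ := hkey _ hmem
  let d₀ : P₀.O := ⟨d, hSO d (by simp [S])⟩
  let d₁ : P₀.O := ⟨d⁻¹, hSO d⁻¹ (by simp [S])⟩
  have hdd : θ d₀ * θ d₁ = 1 := by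
    rw [← map_mul, show d₀ * d₁ = 1 from Subtype.ext (mul_inv_cancel₀ hd0), map_one]
  have hd1mem : θ d₁ ∈ E := by rw [← hρf d₁]; exact E.algebraMap_mem _
  have hw1 : P.1 w' ≤ 1 := (isIntegral_iff_forall_place (isFF'_of_isFunctionField hF) P₀ w').mp hwint P hover
  have hsplit : res ⟨_, (mem_O P).mpr hy1⟩ = θ d₀ * res ⟨w', (mem_O P).mpr hw1⟩ := by
    rw [show θ d₀ = res (ringMap hover d₀) from rfl, ← map_mul]
    exact congrArg res (Subtype.ext (Algebra.smul_def d w'))
  have huw : res ⟨w', (mem_O P).mpr hw1⟩ = res u := by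
    rw [← sub_eq_zero, ← map_sub]
    refine (IsLocalRing.residue_eq_zero_iff _).mpr ?_
    rw [IsLocalRing.mem_maximalIdeal, mem_nonunits_iff]
    intro hu'
    obtain ⟨w, hw⟩ := hu'.exists_right_inv
    have h1 := congrArg (fun z : P.O => P.1 (z : K)) hw
    simp only [MulMemClass.coe_mul, map_mul, OneMemClass.coe_one, map_one] at h1
    exact absurd h1 (ne_of_lt (lt_of_le_of_lt (mul_le_of_le_one_right zero_le ((mem_O P).mp w.2)) hwP))
  rw [hsplit, huw] at hy2
  have := mul_mem hd1mem hy2
  rwa [← mul_assoc, mul_comm (θ d₁), hdd, one_mul] at this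

theorem infinite_separable_of_infinite [Infinite k] (hK : IsFunctionField k K) {t : K} (ht : Transcendental k t)
    [Algebra.IsSeparable k⟮t⟯ K] :
    {P : Place k K | Algebra.IsSeparable k (IsLocalRing.ResidueField P.O)}.Infinite :=
  (infinite_separable_over hK ht).mono fun _ h => h.2

theorem infinite_places (hK : IsFunctionField k K) : Infinite (Place k K) := by
  classical
  by_contra hc
  rw [not_infinite_iff_finite] at hc
  obtain ⟨t, ht⟩ := exists_transcendental hK
  haveI := Fintype.ofFinite (Place k K)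
  have hinj := transcendental_iff_injective.mp ht
  have hq : ∀ P : Place k K, ∃ q : Polynomial k, q ≠ 0 ∧
      ((∃ q : Polynomial k, q ≠ 0 ∧ P.1 (Polynomial.aeval t q) < 1) → P.1 (Polynomial.aeval t q) < 1) := fun P => by
    by_cases h : ∃ q : Polynomial k, q ≠ 0 ∧ P.1 (Polynomial.aeval t q) < 1
    · obtain ⟨q, hq0, hq⟩ := h
      exact ⟨q, hq0, fun _ => hq⟩
    · exact ⟨1, one_ne_zero, fun h' => absurd h' h⟩
  choose q hq0 hq using hq
  set u := ∏ P : Place k K, q P with hu
  have hu0 : u ≠ 0 := Finset.prod_ne_zero_iff.mpr fun P _ => hq0 P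
  set p := Polynomial.X * u + 1 with hp
  have hdeg : 0 < p.natDegree := by
    rw [hp, Polynomial.natDegree_add_eq_left_of_natDegree_lt] <;>
      rw [Polynomial.natDegree_mul Polynomial.X_ne_zero hu0, Polynomial.natDegree_X] <;> simp
  have hp0 : p ≠ 0 := fun h => by rw [h] at hdeg; simp at hdeg
  have htp : Transcendental k (Polynomial.aeval t p) := fun ha => by
    obtain ⟨c, hc⟩ := hK.2 _ ha
    have h : p = Polynomial.C c := hinj (by rw [Polynomial.aeval_C]; exact hc.symm)
    rw [h, Polynomial.natDegree_C] at hdeg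
    exact lt_irrefl _ hdeg
  have htpi : Transcendental k (Polynomial.aeval t p)⁻¹ := fun h => htp (by simpa using h.inv)
  obtain ⟨P, hP⟩ := HyperGenus.exists_place_pole hK htpi
  rw [map_inv₀, one_lt_inv_iff₀] at hP
  have ht1 : P.1 t ≤ 1 := by
    by_contra hgt
    have := HyperGenus.val_aeval_eq P (not_le.mp hgt) hp0
    rw [this] at hP
    exact absurd hP.2 (not_lt.mpr (one_le_pow₀ (not_le.mp hgt).le))
  have hqP := hq P ⟨p, hp0, hP.2⟩
  have hlt : P.1 (Polynomial.aeval t (Polynomial.X * u)) < 1 := by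
    rw [hu, ← Finset.mul_prod_erase Finset.univ q (Finset.mem_univ P), mul_left_comm, map_mul, map_mul]
    exact lt_of_le_of_lt (mul_le_of_le_one_right zero_le (HyperGenus.val_aeval_le_one P ht1 _)) hqP
  have h1 := hP.2
  rw [hp, map_add, map_one, Valuation.map_add_eq_of_lt_right] at h1
  · rw [map_one] at h1; exact lt_irrefl _ h1
  · rw [map_one]; exact hlt

theorem infinite_separable (hK : IsFunctionField k K) (hg : IsGeometric k K) :
    {P : Place k K | Algebra.IsSeparable k (IsLocalRing.ResidueField P.O)}.Infinite := by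
  rcases finite_or_infinite k with hk | hk
  · haveI := infinite_places hK
    refine Set.infinite_univ.mono fun P _ => ?_
    show @Algebra.IsSeparable k (IsLocalRing.ResidueField P.O) _ _ (Place.algRes P)
    have hfd := finiteDimensional_residue' (isFF'_of_isFunctionField hK) P
    exact @Algebra.IsAlgebraic.isSeparable_of_perfectField _ _ _ _ _
      (@Algebra.IsAlgebraic.of_finite _ _ _ _ _ _ hfd) _
  · obtain ⟨t, ht, -, hsep⟩ := exists_separating_of_isGeometric hK hg
    exact @infinite_separable_of_infinite _ _ _ _ _ hk hK t ht hsep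

end Groth.Agent.FF.SepPlaces
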