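import Groth.Agent.FF.DiffGenus
import Mathlib.GroupTheory.CosetCover
import Mathlib.FieldTheory.PrimitiveElement

/-! Separating variables and generators in a given subspace. -/

namespace Groth.Agent.FF

open FunFld WithZero LocRes IntermediateField
open scoped Classical

variable {k K : Type*} [Field k] [IsAlgClosed k] [Field K] [Algebra k K]

theorem isSeparable_of_derivative_ne (hK : IsFunctionField k K) {s : K} {H : K →ₐ[k] PowerSeries K}
    (hH : IsHasseFamily s H) {x : K} (hx : hasseD H 1 x ≠ 0) : Algebra.IsSeparable k⟮x⟯ K := by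
  have := isSeparable_of_hasse hK hH
  have htr : Transcendental k x := transcendental_of_not_mem hK fun ⟨c, hc⟩ => hx (by
    rw [← hc]; exact (hasseDer hH).map_algebraMap c)
  have := finiteDimensional_adjoin hK htr
  rw [← Algebra.FormallyUnramified.iff_isSeparable]
  let d : Derivation k K (KaehlerDifferential k⟮x⟯ K) := (KaehlerDifferential.D k⟮x⟯ K).restrictScalars k
  have hd : ∀ z, d z = hasseD H 1 z • d s := by
    have he : d = (LinearMap.toSpanSingleton K _ (d s)).compDer (hasseDer hH) := by
      refine derivation_ext_separable (x := s) _ _ ?_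
      change d s = hasseD H 1 s • d s
      rw [hasseD_one_self hH, one_smul]
    exact fun z => Derivation.congr_fun he z
  have h0 : d s = 0 := by
    have := hd x
    rw [show d x = 0 from (KaehlerDifferential.D k⟮x⟯ K).map_algebraMap (AdjoinSimple.gen k x)] at this
    exact (smul_eq_zero.mp this.symm).resolve_left hx
  refine ⟨subsingleton_of_forall_eq 0 fun w => ?_⟩
  have htop : (⊤ : Submodule K (KaehlerDifferential k⟮x⟯ K)) ≤ ⊥ := by
    rw [← KaehlerDifferential.span_range_derivation, Submodule.span_le]
    rintro _ ⟨z, rfl⟩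
    change d z = 0
    rw [hd z, h0, smul_zero]
  exact htop trivial

theorem transcendental_of_separable_adjoin (hK : IsFunctionField k K) {x : K}
    [Algebra.IsSeparable k⟮x⟯ K] : Transcendental k x := by
  refine transcendental_of_not_mem hK fun ⟨c, hc⟩ => ?_
  obtain ⟨⟨z, hz, -⟩, -⟩ := id hK
  have hbot : k⟮x⟯ = ⊥ := by
    rw [IntermediateField.adjoin_simple_eq_bot_iff]; exact IntermediateField.mem_bot.mpr ⟨c, hc⟩
  have h1 : Algebra.IsAlgebraic k k⟮x⟯ := by rw [hbot]; infer_instance
  exact hz ((Algebra.IsAlgebraic.trans k k⟮x⟯ K).isAlgebraic z)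

theorem exists_intermediate_avoid (hK : IsFunctionField k K) {x : K} [Algebra.IsSeparable k⟮x⟯ K]
    (W : Submodule k K) (hW : IntermediateField.adjoin k (W : Set K) = ⊤) (M : Submodule k K) (hM : ¬ W ≤ M) :
    ∃ y ∈ W, y ∉ M ∧ IntermediateField.adjoin k ({x, y} : Set K) = ⊤ := by
  have := finiteDimensional_adjoin hK (transcendental_of_separable_adjoin hK (x := x))
  have hfin : Finite (IntermediateField k⟮x⟯ K) :=
    Field.finite_intermediateField_of_exists_primitive_element _ _ (Field.exists_primitive_element _ _)
  let P := {F : IntermediateField k⟮x⟯ K // F ≠ ⊤}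
  let p : Option P → Submodule k W := fun o => o.elim (M.comap W.subtype)
    fun F => ((F.1.restrictScalars k).toSubalgebra.toSubmodule).comap W.subtype
  obtain ⟨⟨y, hy⟩, hav⟩ : ∃ y : W, ∀ o, y ∉ p o := by
    by_contra hcon
    push Not at hcon
    obtain ⟨o, ho⟩ := Subspace.exists_eq_top_of_iUnion_eq_univ (p := p)
      (Set.eq_univ_of_forall fun x => Set.mem_iUnion.mpr (hcon x))
    cases o with
    | none =>
      exact hM fun z hz => (Submodule.mem_comap.mp (ho ▸ Submodule.mem_top : (⟨z, hz⟩ : W) ∈ p none))
    | some F =>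
      refine F.2 (eq_top_iff.mpr fun z _ => ?_)
      have hle : IntermediateField.adjoin k (W : Set K) ≤ F.1.restrictScalars k :=
        IntermediateField.adjoin_le_iff.mpr fun z hz =>
          (Submodule.mem_comap.mp (ho ▸ Submodule.mem_top : (⟨z, hz⟩ : W) ∈ p (some F)))
      rw [hW] at hle
      exact hle (IntermediateField.mem_top (x := z))
  refine ⟨y, hy, fun h => hav none h, ?_⟩
  by_contra hne
  refine hav (some ⟨IntermediateField.adjoin k⟮x⟯ ({y} : Set K), fun h => hne ?_⟩)
    (show y ∈ IntermediateField.adjoin k⟮x⟯ ({y} : Set K) from IntermediateField.subset_adjoin _ _ rfl)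
  have h' := congrArg (IntermediateField.restrictScalars k) h
  rw [IntermediateField.adjoin_adjoin_left, IntermediateField.restrictScalars_top, Set.singleton_union] at h'
  exact h'

end Groth.Agent.FF
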