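import Groth.Agent.FF.Dichotomy

/-! The bound for the number of strong fixed places of an endomorphism. -/

namespace Groth.Agent.FF

open FunFld LocRes WithZero Submodule Module
open scoped Classical

variable {k K : Type*} [Field k] [Field K] [Algebra k K] [IsAlgClosed k]

theorem two_mul_sum_succ (n : ℕ) : 2 * ∑ l : Fin n, ((l : ℕ) + 1 : ℤ) = (n : ℤ) * (n + 1) := by
  induction n with
  | zero => simp
  | succ m ih => rw [Fin.sum_univ_castSucc]; simp only [Fin.val_castSucc, Fin.val_last]; push_cast; linarith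

theorem exists_exact_pole' (hK : IsFunctionField k K) (P : Place k K) {m : ℕ} (hm : 2 * genus k K ≤ m) :
    ∃ f ∈ L (Finsupp.single P (m : ℤ)), P.1 f = exp (m : ℤ) := by
  rcases Nat.eq_zero_or_pos m with rfl | hpos
  · refine ⟨1, ?_, by simp⟩
    simp only [Nat.cast_zero, Finsupp.single_zero, L_zero_eq hK]
    exact mem_span_singleton_self _
  · refine isPoleNum_iff_exists.mp fun h => ?_
    have h1 := ell_eq_of_deg_large hK (D := Finsupp.single P (m : ℤ)) (by rw [deg_single, deg_eq_one hK]; omega)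
    have h2 := ell_eq_of_deg_large hK (D := Finsupp.single P ((m : ℤ) - 1)) (by rw [deg_single, deg_eq_one hK]; omega)
    rw [deg_single, deg_eq_one hK] at h1 h2
    have he := congrArg (fun V : Submodule k K => finrank k V) h
    simp only [ell] at h1 h2 he
    omega

theorem strong_fixed_card_bound (hK : IsFunctionField k K) (τ : K →ₐ[k] K) (n : ℕ) (hn : genus k K < n) :
    {P : Place k K | IsStrongFixedPt τ P}.Finite ∧
    (n : ℤ) * (Set.ncard {P : Place k K | IsStrongFixedPt τ P} : ℤ) ≤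
      n * (1 + finrank τ.fieldRange K) + ((n : ℤ) ^ 2 + finrank τ.fieldRange K) * genus k K +
        2 * (genus k K : ℤ) ^ 2 * ((genus k K : ℤ) - 1) := by
  set q : ℤ := (finrank τ.fieldRange K : ℤ) with hq
  have hq0 : 0 ≤ q := Int.natCast_nonneg _
  set g := genus k K with hgdef
  rcases Set.eq_empty_or_nonempty {P : Place k K | IsStrongFixedPt τ P} with he | ⟨P₀, hP₀⟩
  · rw [he, Set.ncard_empty, Nat.cast_zero, mul_zero]
    refine ⟨Set.finite_empty, add_nonneg (by positivity) ?_⟩
    rcases Nat.eq_zero_or_pos g with h | h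
    · simp [h]
    · have : (0 : ℤ) ≤ (g : ℤ) - 1 := by omega
      positivity
  let D : Divisor k K := Finsupp.single P₀ ((n + g : ℕ) : ℤ)
  have hdegD : D.deg = (n : ℤ) + g := by
    simp only [D]; rw [deg_single, deg_eq_one hK]; push_cast; ring
  have hfd := finiteDimensional_L hK D
  have hell : finrank k (L D) = n + 1 := by
    have := ell_eq_of_deg_large hK (D := D) (by rw [hdegD]; omega)
    rw [hdegD] at this
    simp only [ell] at this
    omega
  let b := Module.finBasisOfFinrankEq k (L D) hell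
  let φ : Fin (n + 1) → K := fun i => (b i : K)
  have hφ : LinearIndependent k φ := b.linearIndependent.map' (L D).subtype (L D).ker_subtype
  have hspan : span k (Set.range φ) = L D := by
    rw [show Set.range φ = (L D).subtype '' Set.range b from (Set.range_comp _ _), ← Submodule.map_span, b.span_eq,
      Submodule.map_top, Submodule.range_subtype]
  obtain ⟨h, hh, hhv⟩ := exists_exact_pole' hK P₀ (m := n + g) (by omega)
  have hh0 : h ≠ 0 := fun e => by rw [e, map_zero] at hhv; exact exp_ne_zero hhv.symm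
  let y := h⁻¹
  have hy : y ≠ 0 := inv_ne_zero hh0
  have hvy : P₀.1 y = exp (-((n + g : ℕ) : ℤ)) := by rw [map_inv₀, hhv, exp_neg]
  have hli : LinearIndependent k (y • φ) :=
    hφ.map' (LinearMap.mulLeft k y) (LinearMap.ker_eq_bot.mpr (mul_right_injective₀ hy))
  have hmem : ∀ f ∈ L D, y * f ∈ span k (Set.range (y • φ)) := fun f hf => by
    rw [← hspan] at hf
    have := Submodule.mem_map_of_mem (f := LinearMap.mulLeft k y) hf
    rwa [Submodule.map_span, ← Set.range_comp] at this
  have h1 : (1 : K) ∈ span k (Set.range (y • φ)) := by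
    have := hmem h hh
    rwa [show y * h = 1 from inv_mul_cancel₀ hh0] at this
  have hnorm : ∀ i, P₀.1 ((y • φ) i) ≤ 1 := fun i => by
    change P₀.1 (y * φ i) ≤ 1
    have := (b i).2 P₀
    simp only [D, Finsupp.single_eq_same] at this
    rw [map_mul, hvy]
    exact (mul_le_mul' le_rfl this).trans_eq (by rw [← exp_add, neg_add_cancel, exp_zero])
  obtain ⟨t, -, ht⟩ := exists_uniformizer P₀
  obtain ⟨H, hH⟩ := exists_hasse_uniformizer hK P₀ ht
  obtain ⟨J', hJ'⟩ := exists_ordersAt hK P₀ ht hH hnorm hli h1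
  obtain ⟨hpos, -, hiff⟩ := exists_adapted hK P₀ ht hH hnorm hli h1 hJ'
  obtain ⟨J, hJ, -⟩ := exists_orders hK hli τ hH
  choose u hu0 hu using fun P : Place k K => exists_uniformizer P
  choose Φ hΦ' using fun P : Place k K => exists_expansion hK P (hu P)
  have hΦ : ∀ P : Place k K, IsExpansionAt P.1 (Φ P) := fun P => (hΦ' P).1
  obtain ⟨hW0, hdeg⟩ := wDiv_nonneg_and_deg hK τ hli hH hJ hΦ
  have hnpos : 0 < n := by omega
  have hge : ∀ P, IsStrongFixedPt τ P → (n : ℤ) ≤ wDiv τ H Φ t (y • φ) J P := fun P hP =>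
    strong_fixed_bound hK τ hnpos hli hH hJ hΦ hP
  set W := wDiv τ H Φ t (y • φ) J with hWdef
  have hsub : {P : Place k K | IsStrongFixedPt τ P} ⊆ (W.support : Set (Place k K)) :=
    fun P hP => Finsupp.mem_support_iff.mpr (by have := hge P hP; omega)
  have hfin := W.support.finite_toSet.subset hsub
  refine ⟨hfin, ?_⟩
  have hNW : (n : ℤ) * (Set.ncard {P : Place k K | IsStrongFixedPt τ P} : ℤ) ≤ W.deg := by
    rw [Set.ncard_eq_toFinset_card _ hfin]
    calc (n : ℤ) * (hfin.toFinset.card : ℤ) = ∑ _P ∈ hfin.toFinset, (n : ℤ) := by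
          rw [Finset.sum_const, nsmul_eq_mul, mul_comm]
      _ ≤ ∑ P ∈ hfin.toFinset, W P * P.deg := Finset.sum_le_sum fun P hP => by
          rw [deg_eq_one hK, Nat.cast_one, mul_one]
          exact hge P (hfin.mem_toFinset.mp hP)
      _ ≤ ∑ P ∈ W.support, W P * P.deg := Finset.sum_le_sum_of_subset_of_nonneg
          (fun P hP => hsub (hfin.mem_toFinset.mp hP)) fun P _ _ => mul_nonneg (hW0 P) (Int.natCast_nonneg _)
      _ = W.deg := rfl
  have hdegφ : (mapDiv k (y • φ)).deg ≤ (n : ℤ) + g := by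
    have hle : mapDiv k φ ≤ D := fun P => mapDiv_le_of_val hK hφ.ne_zero P fun i => (b i).2 P
    have h2 : mapDiv k (y • φ) = mapDiv k φ - div k y := by
      ext Q; simp [mapDiv_smul hK hφ.ne_zero hy Q, div_apply hK]
    rw [h2, deg_sub, deg_div_eq_zero hK, sub_zero, ← hdegD]
    exact deg_mono hle
  have hJ'n : ∀ l : Fin n, (J' l : ℤ) ≤ (n : ℤ) + g := fun l =>
    (orders_at_le_deg hK P₀ hli h1 hnorm ht hH hJ' l).trans hdegφ
  -- the small orders
  have hrange : ∀ j, 1 ≤ j → j + g ≤ n → j ∈ Set.range J' := fun j hj hjn => by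
    obtain ⟨f, hf, hfv⟩ := exists_exact_pole' hK P₀ (m := n + g - j) (by omega)
    refine ((hiff j).mpr ⟨y * f, hmem f (L_mono (fun R => ?_) hf), ?_⟩).resolve_left (by omega)
    · simp only [D, Finsupp.single_apply]; split_ifs <;> omega
    · rw [map_mul, hvy, hfv, ← exp_add]; congr 1; omega
  have hsmall : ∀ l : Fin n, (l : ℕ) + g < n → J' l ≤ (l : ℕ) + 1 := fun l hl => by
    have hex : ∀ i : Fin ((l : ℕ) + 1), ∃ a, J' a = (i : ℕ) + 1 := fun i => hrange _ (by omega) (by omega)
    choose a ha using hex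
    have hmono : StrictMono a := fun i j hij => hJ'.1.lt_iff_lt.mp (by rw [ha, ha]; exact Nat.succ_lt_succ hij)
    have hid : ∀ m : ℕ, ∀ hm : m < (l : ℕ) + 1, m ≤ (a ⟨m, hm⟩ : ℕ) := fun m => by
      induction m with
      | zero => intro hm; exact Nat.zero_le _
      | succ m ih =>
        intro hm
        have h1 := ih (by omega)
        have h2 : (a ⟨m, by omega⟩ : ℕ) < (a ⟨m + 1, hm⟩ : ℕ) := hmono (Nat.lt_succ_self m)
        omega
    have := hJ'.1.monotone (show l ≤ a ⟨(l : ℕ), Nat.lt_succ_self _⟩ from hid _ _)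
    rw [ha] at this
    exact this
  have hbig : ∀ d : ℕ, ∀ l : Fin n, (l : ℕ) + 1 + d = n → J' l + d ≤ n + g := fun d => by
    induction d with
    | zero => intro l _; have := hJ'n l; omega
    | succ d ih =>
      intro l hl
      have h1 := ih ⟨(l : ℕ) + 1, by omega⟩ (by simp only; omega)
      have h2 := hJ'.1 (show l < (⟨(l : ℕ) + 1, by omega⟩ : Fin n) from Nat.lt_succ_self _)
      omega
  have hJle : ∀ l, J l + 1 ≤ J' l := fun l => by
    have := orders_strong_le hK P₀ hli h1 hnorm ht hH hJ' hP₀ hnpos hJ l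
    have := hpos ⟨0, hnpos⟩
    omega
  have hJge : ∀ l : Fin n, (l : ℕ) ≤ J l := by
    rintro ⟨l, hl⟩
    induction l with
    | zero => exact Nat.zero_le _
    | succ l ih =>
      have := hJ.1 (show (⟨l, by omega⟩ : Fin n) < ⟨l + 1, hl⟩ from Nat.lt_succ_self l)
      have := ih (by omega)
      simp only at *
      omega
  have hsumle : ∑ l, (J l : ℤ) ≤ ∑ l : Fin n, (((l : ℕ) + 1 : ℤ) + (if (l : ℕ) + g < n then 0 else (g : ℤ)) - 1) :=
    Finset.sum_le_sum fun l _ => by
      have := hJle l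
      split_ifs with h
      · have := hsmall l h; omega
      · have := hbig (n - 1 - l) l (by omega); omega
  have hsumge : ∑ l : Fin n, (((l : ℕ) + 1 : ℤ) - 1) ≤ ∑ l, (J l : ℤ) :=
    Finset.sum_le_sum fun l _ => by have := hJge l; omega
  have hcard : ∑ l : Fin n, (if (l : ℕ) + g < n then 0 else (g : ℤ)) = (g : ℤ) * g := by
    rw [Fin.sum_univ_eq_sum_range (fun l : ℕ => if l + g < n then 0 else (g : ℤ)) n, Finset.sum_ite,
      Finset.sum_const_zero, zero_add, Finset.sum_const, nsmul_eq_mul]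
    congr 2
    rw [show (Finset.range n).filter (fun l => ¬ l + g < n) = Finset.Ico (n - g) n by ext l; simp; omega, Nat.card_Ico]
    omega
  have hT := two_mul_sum_succ n
  have hn1 : ∑ _l : Fin n, (1 : ℤ) = n := by simp
  rw [Finset.sum_sub_distrib, Finset.sum_add_distrib, hcard, hn1] at hsumle
  rw [Finset.sum_sub_distrib, hn1] at hsumge
  refine hNW.trans (hdeg.trans_le ?_)
  have hq' : (q + n) * (mapDiv k (y • φ)).deg ≤ (q + n) * ((n : ℤ) + g) :=
    mul_le_mul_of_nonneg_left hdegφ (add_nonneg hq0 (Int.natCast_nonneg n))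
  rw [← hgdef, ← hq]
  rcases Nat.eq_zero_or_pos g with h | h
  · rw [h] at hq' ⊢
    push_cast at hq' ⊢
    linarith
  · have hg1 : (0 : ℤ) ≤ 2 * (g : ℤ) - 2 := by omega
    have h2 := mul_le_mul_of_nonneg_left hsumle hg1
    have h3 := congrArg (fun x : ℤ => ((g : ℤ) - 1) * x) hT
    linarith

end Groth.Agent.FF
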