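import Groth.Agent.FF.Chain

/-! Members of a linear series supported at two places. -/

namespace Groth.Agent.FF

open WithZero FunFld Module
open scoped Classical

variable {k K : Type*} [Field k] [IsAlgClosed k] [Field K] [Algebra k K]
  {V : Submodule k K} {D : Divisor k K} {d r : ℕ}

theorem exists_exact_member (h : IsSeries k V D d r) {P Q : Place k K} (hPQ : P ≠ Q) {m n : ℤ}
    (hmn : m + n = d) (hge : r + 2 ≤ fdim V D P m + fdim V D Q n) :
    ∃ s, s ≠ 0 ∧ s ∈ V ∧ D + div k s = Finsupp.single P m + Finsupp.single Q n := by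
  have : FiniteDimensional k V := Module.finite_of_finrank_pos (by rw [h.dim]; omega)
  have : FiniteDimensional k ↥(V ⊓ L (D - Finsupp.single P m)) :=
    Submodule.finiteDimensional_of_le inf_le_left
  have : FiniteDimensional k ↥(V ⊓ L (D - Finsupp.single Q n)) :=
    Submodule.finiteDimensional_of_le inf_le_left
  have h1 := Submodule.finrank_sup_add_finrank_inf_eq (V ⊓ L (D - Finsupp.single P m))
    (V ⊓ L (D - Finsupp.single Q n))
  have h2 := (Submodule.finrank_mono (sup_le inf_le_left inf_le_left :
    (V ⊓ L (D - Finsupp.single P m)) ⊔ (V ⊓ L (D - Finsupp.single Q n)) ≤ V))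
  rw [h.dim] at h2
  simp only [fdim] at hge
  have hne : (V ⊓ L (D - Finsupp.single P m)) ⊓ (V ⊓ L (D - Finsupp.single Q n)) ≠ ⊥ := fun e => by
    rw [e, finrank_bot] at h1; omega
  obtain ⟨s, hs, hs0⟩ := Submodule.exists_mem_ne_zero_of_ne_bot hne
  refine ⟨s, hs0, hs.1.1, ?_⟩
  have hL : s ∈ L (D - Finsupp.single P m - Finsupp.single Q n) := fun R => by
    rcases eq_or_ne R Q with rfl | hR
    · simpa [Finsupp.single_eq_of_ne hPQ.symm] using hs.2.2 R
    · simpa [Finsupp.single_eq_of_ne hR] using hs.1.2 R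
  have := eq_of_le_of_deg_le h.hK (D := Finsupp.single P m + Finsupp.single Q n) (E := D + div k s)
    (fun R => by have := (mem_L_iff h.hK hs0).mp hL R; simp at this ⊢; omega)
    (by simp [deg_add, deg_div_eq_zero h.hK, deg_eq_one h.hK, h.deg, hmn])
  exact this.symm

/-- A nonzero member vanishing to order `m` bounds the weight from below. -/
theorem wsum_ge_order (h : IsSeries k V D d r) {P : Place k K} {m : ℕ} {s : K} (hm : m ≤ d)
    (hs0 : s ≠ 0) (hs : s ∈ V) (hsm : s ∈ L (D - Finsupp.single P (m : ℤ))) :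
    m ≤ wsum V D d P := by
  have : FiniteDimensional k V := Module.finite_of_finrank_pos (by rw [h.dim]; omega)
  refine le_trans ?_ (Finset.sum_le_sum_of_subset (Finset.range_mono hm))
  refine (le_of_eq (by simp)).trans (Finset.card_nsmul_le_sum _ _ 1 fun n hn => ?_)
  rw [Finset.mem_range] at hn
  have : FiniteDimensional k ↥(V ⊓ L (D - Finsupp.single P ((n : ℤ) + 1))) :=
    Submodule.finiteDimensional_of_le inf_le_left
  have hmem : s ∈ V ⊓ L (D - Finsupp.single P ((n : ℤ) + 1)) := ⟨hs, L_mono (sub_le_sub_left (fun Q => by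
    simp only [Finsupp.single_apply]; split_ifs <;> omega) D) hsm⟩
  have : Nontrivial ↥(V ⊓ L (D - Finsupp.single P ((n : ℤ) + 1))) :=
    ⟨⟨⟨s, hmem⟩, 0, fun e => hs0 (congrArg Subtype.val e)⟩⟩
  exact Module.finrank_pos

/-- In genus zero a function with divisor supported at two places has no double value elsewhere. -/
theorem not_double_value [CharZero k] (hK : IsFunctionField k K) (hg : genus k K = 0) {h : K} {P P' Q : Place k K}
    {m : ℕ} (hm : 0 < m) (hPP' : P ≠ P') (hQ : Q ≠ P) (hQ' : Q ≠ P') (h0 : h ≠ 0)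
    (hdiv : div k h = Finsupp.single P (m : ℤ) - Finsupp.single P' (m : ℤ)) (c : k) :
    ¬ Q.1 (h - algebraMap k K c) ≤ exp (-2 : ℤ) := by
  intro hQc
  have hord : ∀ R, R.ord h = Finsupp.single P (m : ℤ) R - Finsupp.single P' (m : ℤ) R := fun R => by
    rw [← div_apply hK, hdiv]; rfl
  have hnc : ∀ a : k, h ≠ algebraMap k K a := fun a e => by
    have := hord P
    rw [e, ord_algebraMap, Finsupp.single_eq_same, Finsupp.single_eq_of_ne hPP'] at this; omega
  let D : Divisor k K := Finsupp.single P' (m : ℤ)
  let V : Submodule k K := Submodule.span k (Set.range ![1, h])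
  have h1L : (1 : K) ∈ L D := L_mono (Finsupp.single_nonneg.mpr (Int.natCast_nonneg m))
    (by rw [L_zero_eq hK]; exact Submodule.mem_span_singleton_self _)
  have hhL : h ∈ L D := by
    rw [mem_L_iff hK h0, hdiv, add_sub_cancel]; exact Finsupp.single_nonneg.mpr (Int.natCast_nonneg m)
  have hli : LinearIndependent k ![(1 : K), h] := by
    refine LinearIndependent.pair_iff.mpr fun s t hst => ?_
    rcases eq_or_ne t 0 with rfl | ht
    · simpa using hst
    · refine absurd ?_ (hnc (-s / t))
      rw [Algebra.smul_def, Algebra.smul_def, mul_one] at hst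
      rw [map_div₀, map_neg, eq_div_iff ((map_ne_zero _).mpr ht)]
      linear_combination hst
  have hser : IsSeries k V D m 1 :=
    ⟨hK, by rw [deg_single, deg_eq_one hK]; simp, Submodule.span_le.mpr (by
      rintro _ ⟨i, rfl⟩; fin_cases i <;> assumption), by
      rw [finrank_span_eq_card hli]; rfl⟩
  have h1V : (1 : K) ∈ V := Submodule.subset_span ⟨0, rfl⟩
  have hhV : h ∈ V := Submodule.subset_span ⟨1, rfl⟩
  have w1 : m ≤ wsum V D m P' := wsum_ge_order hser le_rfl one_ne_zero h1V (by
    rw [sub_self, L_zero_eq hK]; exact Submodule.mem_span_singleton_self _)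
  have w2 : m ≤ wsum V D m P := wsum_ge_order hser le_rfl h0 hhV (by
    rw [mem_L_iff hK h0, hdiv]; intro R; simp [D])
  have hc0 : h - algebraMap k K c ≠ 0 := sub_ne_zero.mpr (hnc c)
  have hm2 : 2 ≤ m := by
    have hL : h - algebraMap k K c ∈ L (D - Finsupp.single Q 2) := fun R => by
      rcases eq_or_ne R Q with rfl | hR
      · simpa [D, Finsupp.single_eq_of_ne hQ'] using hQc
      · have := Submodule.sub_mem (L D) hhL (show algebraMap k K c ∈ L D by
          rw [Algebra.algebraMap_eq_smul_one]; exact Submodule.smul_mem _ _ h1L) R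
        simpa [Finsupp.single_eq_of_ne hR] using this
    by_contra hc
    rw [L_eq_bot_of_deg_neg hK (D := D - Finsupp.single Q 2)
      (by rw [deg_sub, deg_single, deg_single, deg_eq_one hK, deg_eq_one hK]; push_cast; omega),
      Submodule.mem_bot] at hL
    exact hc0 hL
  have w3 : 2 ≤ wsum V D m Q := wsum_ge_order hser hm2 hc0
    (V.sub_mem hhV (by rw [Algebra.algebraMap_eq_smul_one]; exact V.smul_mem _ h1V)) fun R => by
      rcases eq_or_ne R Q with rfl | hR
      · simpa [D, Finsupp.single_eq_of_ne hQ'] using hQc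
      · have := Submodule.sub_mem (L D) hhL (show algebraMap k K c ∈ L D by
          rw [Algebra.algebraMap_eq_smul_one]; exact Submodule.smul_mem _ _ h1L) R
        simpa [Finsupp.single_eq_of_ne hR] using this
  have hp := plucker hK hg hser {P, P', Q}
  rw [Finset.sum_insert (by simp [hPP', hQ.symm]), Finset.sum_insert (by simp [hQ'.symm]),
    Finset.sum_singleton] at hp
  omega

/-- With a cusp at `Q`, two members of a genus-zero series supported on `{P, P'}` are proportional. -/
theorem two_point_unique [CharZero k] (hg : genus k K = 0) (h : IsSeries k V D d r) {P P' Q : Place k K}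
    (hP : P ≠ Q) (hP' : P' ≠ Q) (hc : r ≤ fdim V D Q 2) {f g : K} (hf : f ∈ V) (hg' : g ∈ V)
    (hf0 : f ≠ 0) (hg0 : g ≠ 0) (hfs : ∀ R, R ≠ P → R ≠ P' → (div k f + D) R = 0)
    (hgs : ∀ R, R ≠ P → R ≠ P' → (div k g + D) R = 0) : ∃ c : k, g = c • f := by
  by_contra hne; push Not at hne
  have hK := h.hK
  have hdivh : div k (g / f) = div k g - div k f := by
    rw [div_eq_mul_inv, div_mul hK hg0 (inv_ne_zero hf0), div_inv hK, ← sub_eq_add_neg]
  have hsupp : ∀ R, R ≠ P → R ≠ P' → div k (g / f) R = 0 := fun R h1 h2 => by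
    have := hfs R h1 h2; have := hgs R h1 h2
    simp [hdivh] at *; omega
  have hh0 : g / f ≠ 0 := div_ne_zero hg0 hf0
  have hnc : ∀ a : k, g / f ≠ algebraMap k K a := fun a e => hne a (by
    rw [Algebra.smul_def, ← e, div_mul_cancel₀ _ hf0])
  -- the divisor of the ratio
  set e := div k (g / f) P with he
  have hne' : P ≠ P' := by
    intro e'
    have hz : div k (g / f) = Finsupp.single P e := by
      ext R; rcases eq_or_ne R P with rfl | hR
      · simp [he]
      · rw [Finsupp.single_eq_of_ne hR]; exact hsupp R hR (e' ▸ hR)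
    have hd := deg_div_eq_zero hK (g / f)
    rw [hz, deg_single, deg_eq_one hK] at hd
    obtain ⟨c, hc⟩ : ∃ c : k, g / f = c • 1 := by
      have hmem : g / f ∈ L (0 : Divisor k K) := by
        rw [mem_L_iff hK hh0, hz, show e = 0 by simpa using hd]; simp
      rw [L_zero_eq hK] at hmem
      exact (Submodule.mem_span_singleton.mp hmem).imp fun _ h => h.symm
    exact hnc c (hc.trans (Algebra.algebraMap_eq_smul_one c).symm)
  have hz : div k (g / f) = Finsupp.single P e - Finsupp.single P' e := by
    have h1 : div k (g / f) = Finsupp.single P e + Finsupp.single P' (div k (g / f) P') := by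
      ext R
      rcases eq_or_ne R P with rfl | hR
      · simp [he, Finsupp.single_eq_of_ne hne']
      · rcases eq_or_ne R P' with rfl | hR'
        · simp [Finsupp.single_eq_of_ne hne'.symm]
        · simp [Finsupp.single_eq_of_ne hR, Finsupp.single_eq_of_ne hR', hsupp R hR hR']
    have hd := deg_div_eq_zero hK (g / f)
    rw [h1, deg_add, deg_single, deg_single, deg_eq_one hK, deg_eq_one hK] at hd
    rw [sub_eq_add_neg, ← Finsupp.single_neg, show -e = div k (g / f) P' by push_cast at hd; omega]
    exact h1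
  -- a member of `span {f, g}` vanishing twice at `Q`
  have hfin : FiniteDimensional k V := Module.finite_of_finrank_pos (by rw [h.dim]; omega)
  let U := Submodule.span k (Set.range ![f, g])
  have hU : U ≤ V := Submodule.span_le.mpr (by rintro _ ⟨i, rfl⟩; fin_cases i <;> assumption)
  have hli : LinearIndependent k ![f, g] := by
    refine LinearIndependent.pair_iff.mpr fun s t hst => ?_
    rcases eq_or_ne t 0 with rfl | ht
    · exact ⟨by simpa [hf0] using hst, rfl⟩
    · refine absurd ?_ (hne (-s / t))
      rw [Algebra.smul_def, Algebra.smul_def] at hst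
      rw [Algebra.smul_def, map_div₀, map_neg, div_mul_eq_mul_div, eq_div_iff ((map_ne_zero _).mpr ht)]
      linear_combination hst
  have hUd : finrank k U = 2 := by rw [finrank_span_eq_card hli]; rfl
  have : FiniteDimensional k U := Submodule.finiteDimensional_of_le hU
  have : FiniteDimensional k ↥(V ⊓ L (D - Finsupp.single Q 2)) :=
    Submodule.finiteDimensional_of_le inf_le_left
  have h1 := Submodule.finrank_sup_add_finrank_inf_eq U (V ⊓ L (D - Finsupp.single Q 2))
  have h2 := Submodule.finrank_mono (sup_le hU inf_le_left : U ⊔ (V ⊓ L (D - Finsupp.single Q 2)) ≤ V)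
  simp only [fdim] at hc
  rw [hUd] at h1; rw [h.dim] at h2
  have hbot : U ⊓ (V ⊓ L (D - Finsupp.single Q 2)) ≠ ⊥ := fun e => by
    rw [e, finrank_bot] at h1; omega
  obtain ⟨s, ⟨hsU, -, hsQ⟩, hs0⟩ := Submodule.exists_mem_ne_zero_of_ne_bot hbot
  obtain ⟨a, b, rfl⟩ : ∃ a b : k, a • f + b • g = s := by
    obtain ⟨c, hc⟩ := (Submodule.mem_span_range_iff_exists_fun k).mp hsU
    exact ⟨c 0, c 1, by simpa [Fin.sum_univ_two] using hc⟩
  have hDQ : D Q + Q.ord f = 0 := by
    have := hfs Q hP.symm hP'.symm
    rw [Finsupp.add_apply, div_apply hK] at this; omega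
  have hval : Q.1 (algebraMap k K a + algebraMap k K b * (g / f)) ≤ exp (-2 : ℤ) := by
    have h3 := hsQ Q
    rw [show a • f + b • g = f * (algebraMap k K a + algebraMap k K b * (g / f)) by
      rw [Algebra.smul_def, Algebra.smul_def]; field_simp, map_mul, val_eq_exp_neg_ord Q hf0,
      Finsupp.sub_apply, Finsupp.single_eq_same, show D Q - 2 = -Q.ord f + -2 by omega, exp_add] at h3
    exact le_of_mul_le_mul_left h3 exp_pos
  rcases eq_or_ne b 0 with rfl | hb
  · rcases eq_or_ne a 0 with rfl | ha
    · simp at hs0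
    · rw [map_zero, zero_mul, add_zero, val_algebraMap Q ha, ← exp_zero, exp_le_exp] at hval; omega
  have hval' : Q.1 (g / f - algebraMap k K (-a / b)) ≤ exp (-2 : ℤ) := by
    have e : g / f - algebraMap k K (-a / b) =
        (algebraMap k K b)⁻¹ * (algebraMap k K a + algebraMap k K b * (g / f)) := by
      rw [map_div₀, map_neg]; field_simp [(map_ne_zero (algebraMap k K)).mpr hb]; ring
    rw [e, map_mul, map_inv₀, val_algebraMap Q hb, inv_one, one_mul]; exact hval
  rcases lt_trichotomy e 0 with hlt | heq | hgt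
  · refine not_double_value hK hg (m := (-e).toNat) (by omega) hne'.symm hP'.symm hP.symm hh0 ?_ _ hval'
    rw [hz, Int.toNat_of_nonneg (by omega), Finsupp.single_neg, Finsupp.single_neg]; abel
  · obtain ⟨c, hc'⟩ : ∃ c : k, g / f = c • 1 := by
      have hmem : g / f ∈ L (0 : Divisor k K) := by rw [mem_L_iff hK hh0, hz, heq]; simp
      rw [L_zero_eq hK] at hmem
      exact (Submodule.mem_span_singleton.mp hmem).imp fun _ h => h.symm
    exact hnc c (hc'.trans (Algebra.algebraMap_eq_smul_one c).symm)
  · refine not_double_value hK hg (m := e.toNat) (by omega) hne' hP.symm hP'.symm hh0 ?_ _ hval'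
    rw [hz, Int.toNat_of_nonneg (by omega)]

theorem card_exact_ge (h : IsSeries k V D d r) {P Q : Place k K} (hPQ : P ≠ Q) :
    r + 1 + wsum V D d P + wsum V D d Q ≤
      ((Finset.range (d + 1)).filter fun m : ℕ =>
        r + 2 ≤ fdim V D P m + fdim V D Q ((d : ℤ) - m)).card + (r + 1) * d := by
  let a : ℕ → ℕ := fun m => fdim V D P m + fdim V D Q ((d : ℤ) + 1 - m)
  have hale : ∀ m, a m ≤ r + 1 := fun m => fdim_add_le h hPQ _ _ (by omega)
  have htop : a (d + 1) = r + 1 := by
    simp only [a]
    rw [fdim_eq_zero h P (by push_cast; omega), show (d : ℤ) + 1 - ((d + 1 : ℕ) : ℤ) = 0 by push_cast; ring,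
      fdim_zero h, zero_add]
  have hsum : ∑ m ∈ Finset.range d, a (m + 1) = wsum V D d P + wsum V D d Q := by
    simp only [a, Finset.sum_add_distrib, wsum]
    rw [← Finset.sum_range_reflect (fun n : ℕ => fdim V D Q ((n : ℤ) + 1))]
    congr 1
    refine Finset.sum_congr rfl fun m hm => ?_
    rw [Finset.mem_range] at hm
    congr 1; omega
  have hlast' := Finset.sum_range_succ (fun m => a (m + 1)) d
  have key : ∀ m ∈ Finset.range (d + 1), fdim V D P m + a (m + 1) ≤ fdim V D P ((m : ℤ) + 1) +
      ((if r + 2 ≤ fdim V D P m + fdim V D Q ((d : ℤ) - m) then 1 else 0) + (r + 1)) := by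
    intro m _
    have h1 := fdim_step h P m
    have h2 := hale (m + 1)
    simp only [a] at h2 ⊢
    push_cast at h2 ⊢
    rw [show (d : ℤ) + 1 - ((m : ℤ) + 1) = (d : ℤ) - m by ring] at h2 ⊢
    split_ifs with hc <;> omega
  have h3 := Finset.sum_le_sum key
  clear_value a
  rw [Finset.sum_add_distrib, Finset.sum_add_distrib, Finset.sum_add_distrib, hlast',
    htop, hsum, ← Finset.card_filter, Finset.sum_const, Finset.card_range, smul_eq_mul] at h3
  have htel : ∑ m ∈ Finset.range (d + 1), fdim V D P m =
      r + 1 + ∑ m ∈ Finset.range (d + 1), fdim V D P ((m : ℤ) + 1) := by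
    have := Finset.sum_range_succ' (fun m => fdim V D P (m : ℤ)) (d + 1)
    rw [Finset.sum_range_succ] at this
    rw [fdim_eq_zero h P (n := ((d + 1 : ℕ) : ℤ)) (by push_cast; omega), add_zero] at this
    rw [this, Nat.cast_zero, fdim_zero h, add_comm]
    push_cast; rfl
  rw [htel, add_mul, one_mul, mul_comm d] at h3
  omega

end Groth.Agent.FF
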