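import Groth.Agent.FF.WDiv
import Groth.Agent.FF.BinomRank
import Groth.Agent.FF.OrdersBir

/-! The Weierstrass divisor at fixed points and orders at a place against generic orders. -/

namespace Groth.Agent.FF

open FunFld LocRes WithZero Submodule Module
open scoped Classical

variable {k K : Type*} [Field k] [Field K] [Algebra k K] [IsAlgClosed k]

theorem evalP_eq_one_of (P : Place k K) {z : K} (h : P.1 (z - 1) < 1) : evalP P z = 1 := by
  have hz : P.1 z ≤ 1 := by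
    have := P.1.map_add_le h.le (le_of_eq (map_one P.1))
    rwa [sub_add_cancel] at this
  rw [evalP, dif_pos hz, ← map_one (IsLocalRing.residue P.O), ← sub_eq_zero, ← map_sub, residue_eq_zero_iff]
  exact h

theorem eq_of_sum_le {n : ℕ} {J J' : Fin n → ℕ} (hle : ∀ l, J l ≤ J' l) (hs : ∑ l, ((J' l : ℤ) - J l) ≤ 0) (l : Fin n) :
    J' l = J l := by
  have h := Finset.single_le_sum (f := fun l => (J' l : ℤ) - J l)
    (fun l _ => by have := hle l; omega) (Finset.mem_univ l)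
  have := hle l
  omega

theorem le_of_range_sdiff {n : ℕ} {J j : Fin n → ℕ} (hJ : StrictMono J) (hj : StrictMono j) (hj0 : ∀ l, 0 < j l)
    (m : Fin n) (h : ∀ i, i ∈ Set.range J ↔ (i = 0 ∨ ∃ l, l ≠ m ∧ j l = i)) (l : Fin n) : J l ≤ j l := by
  by_contra hlt
  push Not at hlt
  let T := insert 0 (((Finset.Iic l).erase m).image j)
  have hsub : T ⊆ (Finset.Iio l).image J := fun i hi => by
    have hi' : (i = 0 ∨ ∃ a, a ≠ m ∧ j a = i) ∧ i ≤ j l := by
      rcases Finset.mem_insert.mp hi with rfl | hi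
      · exact ⟨Or.inl rfl, Nat.zero_le _⟩
      · obtain ⟨a, ha, rfl⟩ := Finset.mem_image.mp hi
        rw [Finset.mem_erase, Finset.mem_Iic] at ha
        exact ⟨Or.inr ⟨a, ha.1, rfl⟩, hj.monotone ha.2⟩
    obtain ⟨a, rfl⟩ := (h i).mpr hi'.1
    exact Finset.mem_image.mpr ⟨a, Finset.mem_Iio.mpr (hJ.lt_iff_lt.mp (hi'.2.trans_lt hlt)), rfl⟩
  have h1 : l.1 + 1 ≤ T.card := by
    rw [Finset.card_insert_of_notMem (by simp; intro a _ _; exact (hj0 a).ne'), Finset.card_image_of_injective _ hj.injective]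
    have := Finset.pred_card_le_card_erase (a := m) (s := Finset.Iic l)
    rw [Fin.card_Iic] at this
    omega
  have := (Finset.card_le_card hsub).trans Finset.card_image_le
  simp at this
  omega

theorem strong_fixed {τ : K →ₐ[k] K} {P : Place k K} (h : IsStrongFixedPt τ P) : IsFixedPt τ P := fun z hz =>
  (h z hz).trans_lt (exp_zero (M := ℤ) ▸ exp_lt_exp.mpr (by norm_num))

section

variable (hK : IsFunctionField k K) {n : ℕ} (P : Place k K) {φ : Fin (n + 1) → K} (hφ : LinearIndependent k φ)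
  (heff : (1 : K) ∈ span k (Set.range φ)) (hnorm : ∀ i, P.1 (φ i) ≤ 1) {t : K} (ht : P.1 t = exp (-1 : ℤ))
  {Ht : K →ₐ[k] PowerSeries K} (hHt : IsHasseFamily t Ht)
  {J' : Fin n → ℕ} (hJ' : IsOrders (IsLocalRing.ResidueField P.O) (hcolAt P Ht φ) J')

theorem det_wrMat_ne_zero_of_val {τ : K →ₐ[k] K} {I : Fin n → ℕ} {m : ℤ}
    (h : P.1 (wrMat τ Ht φ I).det = exp m) : (wrMat τ Ht φ I).det ≠ 0 := fun h0 => by
  rw [h0, map_zero] at h
  exact exp_ne_zero h.symm

theorem orders_id_pos {s : K} {H : K →ₐ[k] PowerSeries K} (hH : IsHasseFamily s H) {J : Fin n → ℕ}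
    (hJ : IsOrders K (hcol (AlgHom.id k K) H φ) J) (l : Fin n) : 0 < J l := Nat.pos_of_ne_zero fun h => by
  have := (hJ.2 (J l)).mp ⟨l, rfl⟩
  rw [h] at this
  exact this (subset_span ⟨0, by simp, funext fun i => by simp [hcol, hH.2]⟩)

include hK hφ heff hnorm ht hHt hJ' in
theorem orders_id_le {J : Fin n → ℕ} (hJ : IsOrders K (hcol (AlgHom.id k K) Ht φ) J) (l : Fin n) : J l ≤ J' l := by
  have hpos := (exists_adapted hK P ht hHt hnorm hφ heff hJ').1
  have h := ((val_wrMat_le_and_iff hK (AlgHom.id k K) P (fun z hz => hz) ht hHt hφ heff hnorm hJ' J').2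
    (Or.inl hpos)).mpr (binomMat_self_det_ne_zero hJ'.1)
  exact orders_le hJ hJ'.1 ((det_ne_zero_iff _ _ φ J').mp (det_wrMat_ne_zero_of_val P h)) l

include hK hφ heff hnorm ht hHt hJ' in
theorem orders_strong_le {τ : K →ₐ[k] K} (hP : IsStrongFixedPt τ P) (hn : 0 < n) {J : Fin n → ℕ}
    (hJ : IsOrders K (hcol τ Ht φ) J) (l : Fin n) : J l + J' ⟨0, hn⟩ ≤ J' l := by
  obtain ⟨I, hI, hIle, hdet⟩ := exists_binom_selection (k := k) J' hJ'.1 hn
  have h := ((val_wrMat_le_and_iff hK τ P (strong_fixed hP) ht hHt hφ heff hnorm hJ' I).2 (Or.inr hP)).mpr hdet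
  have := orders_le hJ hI ((det_ne_zero_iff _ _ φ I).mp (det_wrMat_ne_zero_of_val P h)) l
  have := hIle l
  omega

include hK hφ heff hnorm ht hHt hJ' in
theorem sum_le_wDiv {τ : K →ₐ[k] K} (hP : IsFixedPt τ P) {J : Fin n → ℕ} (hJ : IsOrders K (hcol τ Ht φ) J)
    {Φ : Place k K → (K →ₐ[k] LaurentSeries k)} (hΦ : ∀ P : Place k K, IsExpansionAt P.1 (Φ P)) :
    (∑ l, ((J' l : ℤ) - J l)) ≤ wDiv τ Ht Φ t φ J P ∧
    (P.1 (wrMat τ Ht φ J).det = exp (-(∑ l, ((J' l : ℤ) - J l))) ↔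
      wDiv τ Ht Φ t φ J P = ∑ l, ((J' l : ℤ) - J l)) := by
  rw [(wDiv_normalised hK τ hφ P heff hnorm ht hHt hJ hΦ).2 hP]
  have hdet := det_ne_zero_of_orders hK τ hφ hHt hJ
  have h := (val_wrMat_le_and_iff hK τ P hP ht hHt hφ heff hnorm hJ' J).1
  rw [val_eq_exp_neg_ord P hdet] at h ⊢
  rw [exp_le_exp] at h
  refine ⟨by omega, ?_⟩
  rw [exp_inj]
  omega

include hK hφ heff hnorm ht hHt hJ' in
theorem orders_at_le_deg (l : Fin n) : (J' l : ℤ) ≤ (mapDiv k φ).deg := by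
  obtain ⟨f, hf, hfv⟩ := ((exists_adapted hK P ht hHt hnorm hφ heff hJ').2.2 (J' l)).mp (Or.inr ⟨l, rfl⟩)
  have hf0 : f ≠ 0 := fun h => by rw [h, map_zero] at hfv; exact exp_ne_zero hfv.symm
  let D := mapDiv k φ + div k f
  have hD : 0 ≤ D := (mem_L_iff hK hf0).mp fun Q => val_le_of_mem_span' hK Q hf
  have hdeg : D.deg = (mapDiv k φ).deg := by
    rw [deg_add, deg_div_eq_zero hK, add_zero]
  have hle : Finsupp.single P (D P) ≤ D := fun Q => by
    rw [Finsupp.single_apply]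
    split_ifs with h
    · rw [h]
    · exact hD Q
  have h1 := deg_mono hle
  rw [deg_single, deg_eq_one hK, hdeg, Nat.cast_one, mul_one] at h1
  have h2 : D P = J' l := by
    simp only [D, Finsupp.add_apply, div_apply hK, mapDiv_eq_zero_of hK hφ.ne_zero P hnorm heff, zero_add]
    exact ord_eq_of_val P hfv
  rwa [h2] at h1

end

/-- Normalised data at a place for given orders. -/
theorem exists_local_data (hK : IsFunctionField k K) {n : ℕ} {φ : Fin (n + 1) → K} (hφ : LinearIndependent k φ)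
    (τ : K →ₐ[k] K) {s : K} {H : K →ₐ[k] PowerSeries K} (hH : IsHasseFamily s H) {J : Fin n → ℕ}
    (hJ : IsOrders K (hcol τ H φ) J) (P : Place k K) :
    ∃ (y t : K) (Ht : K →ₐ[k] PowerSeries K) (J' : Fin n → ℕ), y ≠ 0 ∧ LinearIndependent k (y • φ) ∧
      (1 : K) ∈ span k (Set.range (y • φ)) ∧ (∀ i, P.1 ((y • φ) i) ≤ 1) ∧ P.1 t = exp (-1 : ℤ) ∧
      IsHasseFamily t Ht ∧ IsOrders K (hcol τ Ht (y • φ)) J ∧
      IsOrders (IsLocalRing.ResidueField P.O) (hcolAt P Ht (y • φ)) J' ∧ (∀ l, 0 < J' l) ∧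
      (mapDiv k (y • φ)).deg = (mapDiv k φ).deg ∧
      ∀ Φ : Place k K → (K →ₐ[k] LaurentSeries k), (∀ Q : Place k K, IsExpansionAt Q.1 (Φ Q)) →
        wDiv τ Ht Φ t (y • φ) J = wDiv τ H Φ s φ J := by
  obtain ⟨y, hy, hli, h1, hnorm⟩ := exists_normalisation hK hφ P
  obtain ⟨t, -, ht⟩ := exists_uniformizer P
  obtain ⟨Ht, hHt⟩ := exists_hasse_uniformizer hK P ht
  obtain ⟨J', hJ'⟩ := exists_ordersAt hK P ht hHt hnorm hli h1
  have hJt : IsOrders K (hcol τ Ht (y • φ)) J :=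
    ((orders_smul τ hHt φ hy).1 J).mpr (((orders_change hK τ hH hHt φ).1 J).mpr hJ)
  refine ⟨y, t, Ht, J', hy, hli, h1, hnorm, ht, hHt, hJt, hJ', (exists_adapted hK P ht hHt hnorm hli h1 hJ').1,
    ?_, fun Φ hΦ => (wDiv_invariant hK τ hφ hH hHt hJ 1 (by simp) hy (fun i => by simp [Matrix.one_apply]) hΦ).2⟩
  have : mapDiv k (y • φ) = mapDiv k φ - div k y := by
    ext Q; simp [mapDiv_smul hK hφ.ne_zero hy Q, div_apply hK]
  rw [this, deg_sub, deg_div_eq_zero hK, sub_zero]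

theorem strong_fixed_bound (hK : IsFunctionField k K) (τ : K →ₐ[k] K) {n : ℕ} (hn : 0 < n) {φ : Fin (n + 1) → K}
    (hφ : LinearIndependent k φ) {s : K} {H : K →ₐ[k] PowerSeries K} (hH : IsHasseFamily s H) {J : Fin n → ℕ}
    (hJ : IsOrders K (hcol τ H φ) J) {Φ : Place k K → (K →ₐ[k] LaurentSeries k)}
    (hΦ : ∀ P : Place k K, IsExpansionAt P.1 (Φ P)) {P : Place k K} (hP : IsStrongFixedPt τ P) :
    (n : ℤ) ≤ wDiv τ H Φ s φ J P := by
  obtain ⟨y, t, Ht, J', hy, hli, h1, hnorm, ht, hHt, hJt, hJ', hpos, -, hW⟩ := exists_local_data hK hφ τ hH hJ P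
  rw [← hW Φ hΦ]
  refine le_trans ?_ (sum_le_wDiv hK P hli h1 hnorm ht hHt hJ' (strong_fixed hP) hJt hΦ).1
  calc (n : ℤ) = ∑ _l : Fin n, (1 : ℤ) := by simp
    _ ≤ _ := Finset.sum_le_sum fun l _ => by
      have := orders_strong_le hK P hli h1 hnorm ht hHt hJ' hP hn hJt l
      have := hpos ⟨0, hn⟩
      omega

end Groth.Agent.FF
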