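import Groth.Agent.FF.RiemannRoch
import Groth.Prelude.Def_W4bk4goldsch45
import Mathlib.LinearAlgebra.FreeModule.Finite.CardQuotient
import Mathlib.FieldTheory.Finite.Basic
import Mathlib.GroupTheory.QuotientGroup.Basic

/-! Function fields over finite constant fields: divisor classes and counting effective divisors. -/

open FunFld WithZero Module
open scoped Classical

namespace Groth.Agent.FF

variable {k K : Type*} [Field k] [Field K] [Algebra k K]

section general
variable (k K)

/-- Divisor classes. -/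
abbrev DivCl : Type _ := Divisor k K ⧸ prinDivs k K

variable {k K}

theorem mem_prinDivs (hK : IsFunctionField k K) {D : Divisor k K} :
    D ∈ prinDivs k K ↔ ∃ x : K, x ≠ 0 ∧ div k x = D := by
  constructor
  · intro h
    induction h using AddSubgroup.closure_induction with
    | mem x hx =>
      obtain ⟨y, rfl⟩ := hx
      rcases eq_or_ne y 0 with rfl | hy
      · exact ⟨1, one_ne_zero, Finsupp.ext fun P => by simp [div_apply hK]⟩
      · exact ⟨y, hy, rfl⟩
    | zero => exact ⟨1, one_ne_zero, Finsupp.ext fun P => by simp [div_apply hK]⟩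
    | add a b _ _ ha hb =>
      obtain ⟨x, hx, rfl⟩ := ha; obtain ⟨y, hy, rfl⟩ := hb
      exact ⟨x * y, mul_ne_zero hx hy, div_mul hK hx hy⟩
    | neg a _ ha =>
      obtain ⟨x, hx, rfl⟩ := ha
      exact ⟨x⁻¹, inv_ne_zero hx, div_inv hK x⟩
  · rintro ⟨x, -, rfl⟩
    exact AddSubgroup.subset_closure ⟨x, rfl⟩

theorem cl_eq_iff (hK : IsFunctionField k K) {D E : Divisor k K} :
    (QuotientAddGroup.mk D : DivCl k K) = QuotientAddGroup.mk E ↔ ∃ x : K, x ≠ 0 ∧ E = D + div k x := by
  rw [QuotientAddGroup.eq, mem_prinDivs hK]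
  refine exists_congr fun x => and_congr_right fun _ => ?_
  constructor <;> intro h
  · rw [h]; abel
  · rw [h]; abel

theorem degHom_apply (D : Divisor k K) : degHom k K D = D.deg := by
  simp [degHom, Divisor.deg, Finsupp.sum, mul_comm]

/-- Degree of a class. -/
noncomputable def clDeg (hK : IsFunctionField k K) : DivCl k K →+ ℤ :=
  QuotientAddGroup.lift (prinDivs k K) (degHom k K) fun D hD => by
    obtain ⟨x, -, rfl⟩ := (mem_prinDivs hK).mp hD
    rw [AddMonoidHom.mem_ker, degHom_apply]
    exact deg_div_eq_zero hK x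

theorem clDeg_mk (hK : IsFunctionField k K) (D : Divisor k K) : clDeg hK (QuotientAddGroup.mk D) = D.deg :=
  degHom_apply D

/-- Dimension attached to a class. -/
noncomputable def clEll (c : DivCl k K) : ℕ := ell c.out

theorem clEll_mk (hK : IsFunctionField k K) (D : Divisor k K) : clEll (QuotientAddGroup.mk D : DivCl k K) = ell D := by
  obtain ⟨x, hx, h⟩ := (cl_eq_iff hK).mp
    (QuotientAddGroup.out_eq' (QuotientAddGroup.mk D : DivCl k K))
  rw [clEll]
  conv_rhs => rw [h]
  rw [ell_add_div hK _ hx]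

/-- The class number identification. -/
theorem classNum_eq (hK : IsFunctionField k K) : classNum k K = Nat.card {c : DivCl k K // clDeg hK c = 0} := by
  refine Nat.card_congr (Equiv.ofBijective
    (Quotient.lift (fun D : (degHom k K).ker => (⟨QuotientAddGroup.mk D.1, D.2⟩ : {c : DivCl k K // clDeg hK c = 0}))
      fun a b hab => ?_) ⟨?_, ?_⟩)
  · refine Subtype.ext (QuotientAddGroup.eq.mpr ?_)
    have h1 := QuotientAddGroup.leftRel_apply.mp
      (show (QuotientAddGroup.leftRel ((prinDivs k K).addSubgroupOf (degHom k K).ker)) a b from hab)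
    exact AddSubgroup.mem_addSubgroupOf.mp h1
  · intro a b
    induction a using Quotient.inductionOn with
    | h a => induction b using Quotient.inductionOn with
      | h b =>
        intro h
        refine Quotient.sound (QuotientAddGroup.leftRel_apply.mpr ?_)
        exact AddSubgroup.mem_addSubgroupOf.mpr (QuotientAddGroup.eq.mp
          (show (QuotientAddGroup.mk a.1 : DivCl k K) = QuotientAddGroup.mk b.1 from congrArg Subtype.val h))
  · rintro ⟨c, hc⟩
    induction c using QuotientAddGroup.induction_on with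
    | H D => exact ⟨Quotient.mk _ ⟨D, hc⟩, rfl⟩

end general

section finite
variable [Finite k]

theorem card_base : 2 ≤ Nat.card k := by
  have := Fintype.ofFinite k
  rw [Nat.card_eq_fintype_card]
  exact Fintype.one_lt_card

omit [Finite k] in
theorem natCard_eq_pow (hK : IsFunctionField k K) (D : Divisor k K) :
    Nat.card (L D) = Nat.card k ^ ell D := by
  have := finiteDimensional_L hK D
  exact Module.natCard_eq_pow_finrank

theorem finite_places_deg_le (hK : IsFunctionField k K) (n : ℕ) : {P : Place k K | P.deg ≤ n}.Finite := by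
  obtain ⟨x, hx⟩ := exists_transcendental hK
  have := Fintype.ofFinite k
  let F : Set (Polynomial k) := {f | f.Monic ∧ f.natDegree ≤ n}
  have hF : F.Finite := by
    refine Set.Finite.subset (Set.finite_range fun c : Fin (n + 1) → k => ∑ i, Polynomial.C (c i) * Polynomial.X ^ (i : ℕ)) ?_
    rintro f ⟨-, hdeg⟩
    refine ⟨fun i => f.coeff i, ?_⟩
    simp only
    rw [Fin.sum_univ_eq_sum_range (fun i => Polynomial.C (f.coeff i) * Polynomial.X ^ i)]
    exact (f.as_sum_range_C_mul_X_pow' (Nat.lt_succ_of_le hdeg)).symm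
  refine (((finite_support_ord hK x)).union (hF.biUnion fun f _ => finite_support_ord hK (Polynomial.aeval x f))).subset ?_
  intro P hP
  by_contra hc
  simp only [Set.mem_union, Set.mem_iUnion, Function.mem_support, not_or, not_exists, ne_eq, not_not] at hc
  obtain ⟨h0, hf⟩ := hc
  have hx0 : x ≠ 0 := fun e => hx (e ▸ isAlgebraic_zero)
  have hx1 : P.1 x ≤ 1 := (val_le_one_iff P hx0).mpr h0.ge
  set a : P.O := ⟨x, (mem_O P).mpr hx1⟩
  have hfd := finiteDimensional_residue hK P
  have hint : IsIntegral k (IsLocalRing.residue P.O a) :=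
    @IsIntegral.of_finite k (IsLocalRing.ResidueField P.O) _ _ (Place.algRes P) hfd _
  set f := minpoly k (IsLocalRing.residue P.O a)
  have hfdeg : f.natDegree ≤ n :=
    (@minpoly.natDegree_le k (IsLocalRing.ResidueField P.O) _ _ (Place.algRes P) hfd _ _).trans hP
  let inc : P.O →ₐ[k] K := AlgHom.mk (P.O.subtype) fun _ => rfl
  let res : P.O →ₐ[k] IsLocalRing.ResidueField P.O := AlgHom.mk (IsLocalRing.residue P.O) fun _ => rfl
  have hval : P.1 (Polynomial.aeval x f) < 1 := by
    have h1 : res (Polynomial.aeval a f) = 0 := by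
      rw [← Polynomial.aeval_algHom_apply]; exact minpoly.aeval k _
    have h2 := (residue_eq_zero_iff P).mp h1
    have h3 : (Polynomial.aeval a f : K) = Polynomial.aeval x f := (Polynomial.aeval_algHom_apply inc a f).symm
    rwa [h3] at h2
  have hne : Polynomial.aeval x f ≠ 0 := fun e =>
    minpoly.ne_zero hint (transcendental_iff_injective.mp hx (e.trans (map_zero _).symm))
  have := hf f ⟨minpoly.monic hint, hfdeg⟩
  rw [val_lt_one_iff P hne] at hval
  omega

theorem finite_effDiv (hK : IsFunctionField k K) (n : ℤ) : Finite {D : Divisor k K // 0 ≤ D ∧ D.deg = n} := by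
  rcases lt_or_ge n 0 with hn | hn
  · exact @Finite.of_subsingleton _ ⟨fun a => absurd (deg_nonneg a.2.1) (by rw [a.2.2]; omega)⟩
  have hS := finite_places_deg_le hK n.toNat
  have := hS.to_subtype
  refine Finite.of_injective (fun D P => (⟨(D.1 P.1).toNat, ?_⟩ : Fin (n.toNat + 1)) :
    {D : Divisor k K // 0 ≤ D ∧ D.deg = n} → ({P : Place k K | P.deg ≤ n.toNat} → Fin (n.toNat + 1))) ?_
  · have h1 : Finsupp.single P.1 (D.1 P.1) ≤ D.1 := fun Q => by
      rw [Finsupp.single_apply]; split_ifs with h
      · rw [h]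
      · exact D.2.1 Q
    have h2 := deg_mono h1
    rw [deg_single, D.2.2] at h2
    have := deg_pos hK P.1
    have := D.2.1 P.1
    simp only [Finsupp.coe_zero, Pi.zero_apply] at this
    have : D.1 P.1 ≤ D.1 P.1 * (P.1.deg : ℤ) := le_mul_of_one_le_right ‹_› (by omega)
    omega
  · intro D E h
    refine Subtype.ext (Finsupp.ext fun P => ?_)
    by_cases hP : P.deg ≤ n.toNat
    · have h1 := congrArg Fin.val (congrFun h ⟨P, hP⟩)
      have := D.2.1 P
      have := E.2.1 P
      simp only [Finsupp.coe_zero, Pi.zero_apply] at *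
      omega
    · have key : ∀ D : {D : Divisor k K // 0 ≤ D ∧ D.deg = n}, D.1 P = 0 := fun D => by
        by_contra h0
        have h1 : Finsupp.single P (1 : ℤ) ≤ D.1 := fun Q => by
          rw [Finsupp.single_apply]; split_ifs with hQ
          · have := D.2.1 P; subst hQ; simp only [Finsupp.coe_zero, Pi.zero_apply] at this; omega
          · exact D.2.1 Q
        have h2 := deg_mono h1
        rw [deg_single, D.2.2] at h2
        omega
      rw [key D, key E]

/-- Effective divisors in a class. -/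
theorem card_effDiv_class (hK : IsFunctionField k K) (D : Divisor k K) :
    Nat.card {E : Divisor k K // 0 ≤ E ∧ (QuotientAddGroup.mk E : DivCl k K) = QuotientAddGroup.mk D} *
      (Nat.card k - 1) = Nat.card k ^ ell D - 1 := by
  have hfd := finiteDimensional_L hK D
  have : Finite (L D) := Module.finite_of_finite k
  have hR : Nat.card {x : L D // x ≠ 0} = Nat.card k ^ ell D - 1 := by
    rw [← natCard_eq_pow hK D]
    have := Fintype.ofFinite (L D)
    rw [Nat.card_eq_fintype_card, Nat.card_eq_fintype_card, Fintype.card_subtype_compl, Fintype.card_subtype_eq]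
  let T := {E : Divisor k K // 0 ≤ E ∧ (QuotientAddGroup.mk E : DivCl k K) = QuotientAddGroup.mk D}
  choose y hy0 hy using fun E : T => (cl_eq_iff hK).mp E.2.2.symm
  have hmem : ∀ E : T, y E ∈ L D := fun E => (mem_L_iff hK (hy0 E)).mpr (hy E ▸ E.2.1)
  have hdivsmul : ∀ (c : k) (z : K), c ≠ 0 → z ≠ 0 → div k (c • z) = div k z := fun c z hc hz => by
    refine Finsupp.ext fun P => ?_
    rw [div_apply hK, div_apply hK, Algebra.smul_def, ord_mul P ((map_ne_zero _).mpr hc) hz, ord_algebraMap, zero_add]
  have hbij : Function.Bijective (fun p : T × kˣ =>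
      (⟨(p.2 : k) • ⟨y p.1, hmem p.1⟩, smul_ne_zero p.2.ne_zero fun h => hy0 p.1 (congrArg Subtype.val h)⟩ :
        {x : L D // x ≠ 0})) := by
    constructor
    · rintro ⟨E, c⟩ ⟨E', c'⟩ h
      have h1 : (c : k) • y E = (c' : k) • y E' := congrArg (fun x : {x : L D // x ≠ 0} => (x.1 : K)) h
      have hEE : E = E' := Subtype.ext (by
        rw [hy E, hy E', ← hdivsmul _ _ c.ne_zero (hy0 E), h1, hdivsmul _ _ c'.ne_zero (hy0 E')])
      subst hEE
      exact Prod.ext rfl (Units.ext (smul_left_injective k (hy0 E) h1))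
    · rintro ⟨⟨x, hx⟩, hx0⟩
      have hx0' : x ≠ 0 := fun e => hx0 (Subtype.ext e)
      let E : T := ⟨D + div k x, (mem_L_iff hK hx0').mp hx, ((cl_eq_iff hK).mpr ⟨x, hx0', rfl⟩).symm⟩
      have hdiv : div k (x / y E) = 0 := by
        rw [div_eq_mul_inv, div_mul hK hx0' (inv_ne_zero (hy0 E)), div_inv hK, ← sub_eq_add_neg, sub_eq_zero]
        exact add_left_cancel (hy E)
      have hk : x / y E ∈ L (0 : Divisor k K) :=
        (mem_L_iff hK (div_ne_zero hx0' (hy0 E))).mpr (by rw [hdiv, add_zero])
      rw [L_zero_eq hK, Submodule.mem_span_singleton] at hk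
      obtain ⟨c, hc⟩ := hk
      have hc0 : c ≠ 0 := fun e => div_ne_zero hx0' (hy0 E) (by rw [← hc, e, zero_smul])
      refine ⟨⟨E, Units.mk0 c hc0⟩, Subtype.ext (Subtype.ext ?_)⟩
      change c • y E = x
      rw [Algebra.smul_def, mul_one] at hc
      rw [Algebra.smul_def, hc, div_mul_cancel₀ _ (hy0 E)]
  rw [← hR, ← Nat.card_congr (Equiv.ofBijective _ hbij), Nat.card_prod, Nat.card_units]

theorem finite_cl (hK : IsFunctionField k K) (n : ℤ) : Finite {c : DivCl k K // clDeg hK c = n} := by
  obtain ⟨B, -, hB⟩ := exists_deg_ge hK (|n| + genus k K + 1)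
  have := finite_effDiv hK (n + B.deg)
  have hg : ∀ c : {c : DivCl k K // clDeg hK c = n}, ∃ E : {E : Divisor k K // 0 ≤ E ∧ E.deg = n + B.deg},
      (QuotientAddGroup.mk E.1 : DivCl k K) = c.1 + QuotientAddGroup.mk B := by
    rintro ⟨c, hc⟩
    induction c using QuotientAddGroup.induction_on with
    | H D =>
      rw [clDeg_mk] at hc
      have hdef := defect_le_genus hK (D + B)
      simp only [defect, deg_add, hc] at hdef
      have := le_abs_self (-n)
      rw [abs_neg] at this
      obtain ⟨x, hx0, hx⟩ := exists_of_ell_pos (D := D + B) (by omega)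
      refine ⟨⟨D + B + div k x, (mem_L_iff hK hx0).mp hx, by rw [deg_add, deg_div_eq_zero hK x, deg_add, hc, add_zero]⟩, ?_⟩
      rw [← QuotientAddGroup.mk_add]
      exact ((cl_eq_iff hK).mpr ⟨x, hx0, rfl⟩).symm
  choose g hg using hg
  refine Finite.of_injective g fun c c' h => Subtype.ext (add_right_cancel ((hg c).symm.trans ((by rw [h]) : _ = _) |>.trans (hg c')))

/-- The weighted class sums `∑ q ^ ℓ`. -/
noncomputable def clSum (hK : IsFunctionField k K) (n : ℤ) : ℕ :=
  ∑ᶠ c : {c : DivCl k K // clDeg hK c = n}, Nat.card k ^ clEll c.1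

theorem effDivCount_eq (hK : IsFunctionField k K) (n : ℕ) :
    ((Nat.card k : ℤ) - 1) * effDivCount k K n =
      (clSum hK n : ℤ) - Nat.card {c : DivCl k K // clDeg hK c = (n : ℤ)} := by
  have := finite_cl hK (n : ℤ)
  have := Fintype.ofFinite {c : DivCl k K // clDeg hK c = (n : ℤ)}
  have := finite_effDiv hK (n : ℤ)
  let e : {D : Divisor k K // 0 ≤ D ∧ D.deg = (n : ℤ)} ≃ Σ c : {c : DivCl k K // clDeg hK c = (n : ℤ)},
      {E : Divisor k K // 0 ≤ E ∧ (QuotientAddGroup.mk E : DivCl k K) = c.1} :=
    { toFun := fun D => ⟨⟨QuotientAddGroup.mk D.1, by rw [clDeg_mk]; exact D.2.2⟩, D.1, D.2.1, rfl⟩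
      invFun := fun p => ⟨p.2.1, p.2.2.1, by
        have h := p.1.2
        rw [← p.2.2.2, clDeg_mk] at h
        exact h⟩
      left_inv := fun D => rfl
      right_inv := fun p => Sigma.subtype_ext (Subtype.ext p.2.2.2) rfl }
  have hfib : ∀ c : {c : DivCl k K // clDeg hK c = (n : ℤ)},
      ((Nat.card k : ℤ) - 1) * Nat.card {E : Divisor k K // 0 ≤ E ∧ (QuotientAddGroup.mk E : DivCl k K) = c.1} =
        (Nat.card k : ℤ) ^ clEll c.1 - 1 := fun c => by
    have h := card_effDiv_class hK c.1.out
    rw [QuotientAddGroup.out_eq'] at h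
    have h2 := congrArg (Nat.cast : ℕ → ℤ) h
    have := card_base (k := k)
    rw [Nat.cast_mul, Nat.cast_sub (by omega), Nat.cast_sub (Nat.one_le_pow _ _ (by omega))] at h2
    push_cast at h2
    rw [mul_comm]
    exact h2
  have hfin : ∀ c : {c : DivCl k K // clDeg hK c = (n : ℤ)},
      Finite {E : Divisor k K // 0 ≤ E ∧ (QuotientAddGroup.mk E : DivCl k K) = c.1} := fun c =>
    Finite.of_injective (fun E => e.symm ⟨c, E⟩) fun E E' h => by simpa using e.symm.injective h
  have hc : effDivCount k K n = ∑ c : {c : DivCl k K // clDeg hK c = (n : ℤ)},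
      Nat.card {E : Divisor k K // 0 ≤ E ∧ (QuotientAddGroup.mk E : DivCl k K) = c.1} := by
    rw [effDivCount, Nat.card_congr e, Nat.card_sigma]
  rw [hc, Nat.cast_sum, Finset.mul_sum, Finset.sum_congr rfl fun c _ => hfib c, Finset.sum_sub_distrib,
    clSum, finsum_eq_sum_of_fintype, Nat.card_eq_fintype_card (α := {c : DivCl k K // clDeg hK c = (n : ℤ)})]
  simp

/-- Serre duality on the class sums. -/
theorem clSum_duality (hK : IsFunctionField k K) (n : ℤ) :
    (clSum hK n : ℚ) = (Nat.card k : ℚ) ^ (n + 1 - genus k K) * clSum hK (2 * genus k K - 2 - n) := by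
  obtain ⟨C, hC⟩ := exists_isCanonical hK
  have hCd := (ell_canonical hK hC).2
  have := finite_cl hK n
  have := finite_cl hK (2 * genus k K - 2 - n)
  have := Fintype.ofFinite {c : DivCl k K // clDeg hK c = n}
  have := Fintype.ofFinite {c : DivCl k K // clDeg hK c = 2 * genus k K - 2 - n}
  have hq : (Nat.card k : ℚ) ≠ 0 := by have := card_base (k := k); positivity
  rw [clSum, clSum, finsum_eq_sum_of_fintype, finsum_eq_sum_of_fintype, Nat.cast_sum, Nat.cast_sum, Finset.mul_sum]
  refine Fintype.sum_equiv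
    { toFun := fun c => ⟨QuotientAddGroup.mk C - c.1, by rw [map_sub, c.2, clDeg_mk, hCd]⟩
      invFun := fun c => ⟨QuotientAddGroup.mk C - c.1, by rw [map_sub, c.2, clDeg_mk, hCd]; ring⟩
      left_inv := fun c => Subtype.ext (sub_sub_cancel _ _)
      right_inv := fun c => Subtype.ext (sub_sub_cancel _ _) } _ _ fun c => ?_
  obtain ⟨c, hc⟩ := c
  induction c using QuotientAddGroup.induction_on with
  | H D =>
    rw [clDeg_mk] at hc
    simp only [Equiv.coe_fn_mk]
    rw [← QuotientAddGroup.mk_sub, clEll_mk hK, clEll_mk hK]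
    push_cast
    rw [← zpow_natCast, ← zpow_natCast, ← zpow_add₀ hq]
    congr 1
    rw [riemann_roch' hK hC D, hc]

theorem clSum_of_large (hK : IsFunctionField k K) {n : ℤ} (hn : 2 * (genus k K : ℤ) - 1 ≤ n) :
    clSum hK n = Nat.card {c : DivCl k K // clDeg hK c = n} * Nat.card k ^ (n + 1 - genus k K).toNat := by
  have := finite_cl hK n
  have := Fintype.ofFinite {c : DivCl k K // clDeg hK c = n}
  rw [clSum, finsum_eq_sum_of_fintype, Finset.sum_congr rfl (g := fun _ => Nat.card k ^ (n + 1 - genus k K).toNat),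
    Finset.sum_const, Nat.card_eq_fintype_card (α := {c : DivCl k K // clDeg hK c = n}), smul_eq_mul, Finset.card_univ]
  rintro ⟨c, hc⟩ -
  induction c using QuotientAddGroup.induction_on with
  | H D =>
    rw [clDeg_mk] at hc
    rw [clEll_mk hK]
    congr 1
    have := ell_eq_of_deg_large hK (D := D) (by omega)
    omega

omit [Finite k] in
theorem card_cl_eq (hK : IsFunctionField k K) {n : ℤ} (D₀ : Divisor k K) (hD : D₀.deg = n) :
    Nat.card {c : DivCl k K // clDeg hK c = n} = classNum k K := by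
  rw [classNum_eq hK]
  refine Nat.card_congr
    { toFun := fun c => ⟨c.1 - QuotientAddGroup.mk D₀, by rw [map_sub, c.2, clDeg_mk, hD, sub_self]⟩
      invFun := fun c => ⟨c.1 + QuotientAddGroup.mk D₀, by rw [map_add, c.2, clDeg_mk, hD, zero_add]⟩
      left_inv := fun c => Subtype.ext (sub_add_cancel _ _)
      right_inv := fun c => Subtype.ext (add_sub_cancel_right _ _) }

theorem classNum_pos (hK : IsFunctionField k K) : 0 < classNum k K := by
  rw [classNum_eq hK]
  have := finite_cl hK 0
  have : Nonempty {c : DivCl k K // clDeg hK c = 0} := ⟨⟨0, map_zero _⟩⟩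
  exact Nat.card_pos

/-- Upper bound for the number of effective divisors. -/
theorem effDivCount_le (hK : IsFunctionField k K) (n : ℕ) :
    effDivCount k K n ≤ classNum k K * Nat.card k ^ (n + 1) := by
  rcases Nat.eq_zero_or_pos (effDivCount k K n) with h0 | h0
  · omega
  obtain ⟨⟨D₀, hD₀, hd₀⟩⟩ : Nonempty {D : Divisor k K // 0 ≤ D ∧ D.deg = (n : ℤ)} := by
    by_contra hc
    rw [not_nonempty_iff] at hc
    simp [effDivCount] at h0
  have := finite_effDiv hK (n : ℤ)
  have := finite_cl hK (n : ℤ)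
  have := Fintype.ofFinite {c : DivCl k K // clDeg hK c = (n : ℤ)}
  have hterm : ∀ c : {c : DivCl k K // clDeg hK c = (n : ℤ)}, Nat.card k ^ clEll c.1 ≤ Nat.card k ^ (n + 1) := fun c => by
    refine Nat.pow_le_pow_right (by have := card_base (k := k); omega) ?_
    rcases Nat.eq_zero_or_pos (clEll c.1) with h | h
    · omega
    obtain ⟨x, hx0, hx⟩ := exists_of_ell_pos (D := c.1.out) h
    have h1 := ell_le_deg_add_one hK ((mem_L_iff hK hx0).mp hx)
    have hc := c.2
    rw [← QuotientAddGroup.out_eq' c.1, clDeg_mk] at hc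
    rw [ell_add_div hK _ hx0, deg_add, deg_div_eq_zero hK x, hc] at h1
    unfold clEll
    omega
  have h1 := effDivCount_eq hK n
  have h2 : clSum hK n ≤ classNum k K * Nat.card k ^ (n + 1) := by
    rw [← card_cl_eq hK D₀ hd₀, clSum, finsum_eq_sum_of_fintype, Nat.card_eq_fintype_card (α := {c : DivCl k K // clDeg hK c = (n : ℤ)}),
      ← Finset.card_univ, ← smul_eq_mul, ← Finset.sum_const]
    exact Finset.sum_le_sum fun c _ => hterm c
  have h3 : (effDivCount k K n : ℤ) ≤ ((Nat.card k : ℤ) - 1) * effDivCount k K n := by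
    refine le_mul_of_one_le_left (by positivity) ?_
    have := card_base (k := k)
    omega
  have : (clSum hK n : ℤ) ≤ ((classNum k K * Nat.card k ^ (n + 1) : ℕ) : ℤ) := Nat.cast_le.mpr h2
  have : 0 ≤ (Nat.card {c : DivCl k K // clDeg hK c = (n : ℤ)} : ℤ) := Nat.cast_nonneg _
  omega

/-- Lower bound in degrees occurring. -/
theorem effDivCount_ge (hK : IsFunctionField k K) {n : ℕ} (hn : 2 * genus k K ≤ n)
    (D₀ : Divisor k K) (hD : D₀.deg = (n : ℤ)) : Nat.card k ^ (n - genus k K) ≤ effDivCount k K n := by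
  have h1 := effDivCount_eq hK n
  rw [clSum_of_large hK (by omega), card_cl_eq hK D₀ hD] at h1
  have h2 : ((n : ℤ) + 1 - genus k K).toNat = n - genus k K + 1 := by omega
  rw [h2, pow_succ] at h1
  push_cast at h1
  have hq := card_base (k := k)
  set Q := Nat.card k ^ (n - genus k K)
  have hQ : 1 ≤ Q := Nat.one_le_pow _ _ (by omega)
  have hh := classNum_pos hK
  have hQ' : ((Nat.card k : ℤ) ^ (n - genus k K)) = (Q : ℤ) := by simp [Q]
  rw [hQ'] at h1
  have : ((Nat.card k : ℤ) - 1) * (Q : ℤ) ≤ ((Nat.card k : ℤ) - 1) * effDivCount k K n := by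
    rw [h1]
    have hh' : (1 : ℤ) ≤ classNum k K := by exact_mod_cast hh
    have hQ'' : (1 : ℤ) ≤ Q := by exact_mod_cast hQ
    have hq' : (2 : ℤ) ≤ Nat.card k := by exact_mod_cast hq
    nlinarith [mul_le_mul_of_nonneg_right hh' (show (0 : ℤ) ≤ (Q : ℤ) * Nat.card k - 1 by nlinarith)]
  exact_mod_cast le_of_mul_le_mul_left this (by omega)

end finite

end Groth.Agent.FF
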