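import Groth.Agent.FF.DeltaOne
import Mathlib.Analysis.Complex.Polynomial.Basic
import Mathlib.Algebra.Polynomial.Reverse
import Mathlib.Algebra.BigOperators.Intervals

/-! The numerator of the zeta series of a function field over a finite field. -/

open FunFld WithZero Module Polynomial
open scoped Classical

namespace Groth.Agent.FF

variable {k K : Type*} [Field k] [Field K] [Algebra k K]

variable (k K) in
/-- `a_K` extended by zero to negative degrees. -/
noncomputable def aZ (n : ℤ) : ℤ := if n < 0 then 0 else (effDivCount k K n.toNat : ℤ)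

variable (k K) in
/-- The coefficients of the numerator, on all integers. -/
noncomputable def numC (n : ℤ) : ℤ :=
  aZ k K n - ((Nat.card k : ℤ) + 1) * aZ k K (n - 1) + (Nat.card k : ℤ) * aZ k K (n - 2)

theorem aZ_natCast (n : ℕ) : aZ k K n = effDivCount k K n := by
  rw [aZ, if_neg (by omega), Int.toNat_natCast]

theorem coeff_numerZ (n : ℕ) : PowerSeries.coeff n (numerZ k K) = numC k K n := by
  have h : numerZ k K = zetaZ k K - PowerSeries.C ((Nat.card k : ℤ) + 1) * (PowerSeries.X * zetaZ k K)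
      + PowerSeries.C (Nat.card k : ℤ) * (PowerSeries.X * (PowerSeries.X * zetaZ k K)) := by
    rw [numerZ, map_add, map_one]; ring
  rw [h, map_add, map_sub, PowerSeries.coeff_C_mul, PowerSeries.coeff_C_mul, numC]
  rcases n with _ | _ | n
  · simp [aZ, zetaZ]
  · simp [aZ, zetaZ, PowerSeries.coeff_succ_X_mul]
  · rw [PowerSeries.coeff_succ_X_mul, PowerSeries.coeff_succ_X_mul, PowerSeries.coeff_succ_X_mul]
    simp only [zetaZ, PowerSeries.coeff_mk]
    rw [show ((n + 1 + 1 : ℕ) : ℤ) - 1 = ((n + 1 : ℕ) : ℤ) by omega, show ((n + 1 + 1 : ℕ) : ℤ) - 2 = (n : ℤ) by omega,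
      aZ_natCast, aZ_natCast, aZ_natCast]

variable [Finite k]

theorem card_cl (hK : IsFunctionField k K) (n : ℤ) :
    Nat.card {c : DivCl k K // clDeg hK c = n} = classNum k K := by
  obtain ⟨D, hD⟩ := surjective_deg hK n
  exact card_cl_eq hK D hD

theorem clSum_of_neg (hK : IsFunctionField k K) {n : ℤ} (hn : n < 0) : clSum hK n = classNum k K := by
  have := finite_cl hK n
  have := Fintype.ofFinite {c : DivCl k K // clDeg hK c = n}
  rw [← card_cl hK n, clSum, finsum_eq_sum_of_fintype,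
    Nat.card_eq_fintype_card (α := {c : DivCl k K // clDeg hK c = n}), ← Finset.card_univ, Finset.card_eq_sum_ones]
  refine Finset.sum_congr rfl fun c _ => ?_
  obtain ⟨c, hc⟩ := c
  induction c using QuotientAddGroup.induction_on with
  | H D =>
    rw [clDeg_mk] at hc
    rw [clEll_mk hK, ell_eq_zero_of_deg_neg hK (by omega), pow_zero]

theorem q_sub_one_mul_aZ (hK : IsFunctionField k K) (n : ℤ) :
    ((Nat.card k : ℤ) - 1) * aZ k K n = (clSum hK n : ℤ) - classNum k K := by
  rcases lt_or_ge n 0 with hn | hn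
  · rw [aZ, if_pos hn, clSum_of_neg hK hn]; simp
  · obtain ⟨m, rfl⟩ := Int.eq_ofNat_of_zero_le hn
    rw [aZ_natCast, effDivCount_eq hK m, card_cl hK]

theorem q_sub_one_mul_numC (hK : IsFunctionField k K) (n : ℤ) :
    ((Nat.card k : ℤ) - 1) * numC k K n = (clSum hK n : ℤ) - ((Nat.card k : ℤ) + 1) * clSum hK (n - 1)
      + (Nat.card k : ℤ) * clSum hK (n - 2) := by
  have h0 := q_sub_one_mul_aZ hK n
  have h1 := q_sub_one_mul_aZ hK (n - 1)
  have h2 := q_sub_one_mul_aZ hK (n - 2)
  unfold numC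
  linear_combination h0 - ((Nat.card k : ℤ) + 1) * h1 + (Nat.card k : ℤ) * h2

theorem clSum_large (hK : IsFunctionField k K) {n : ℤ} (hn : 2 * (genus k K : ℤ) - 1 ≤ n) :
    (clSum hK n : ℤ) = classNum k K * (Nat.card k : ℤ) ^ (n + 1 - genus k K).toNat := by
  rw [clSum_of_large hK hn, card_cl hK]; push_cast; ring

theorem qm1_ne_zero : (Nat.card k : ℤ) - 1 ≠ 0 := by
  have := card_base (k := k); omega

theorem numC_of_gt (hK : IsFunctionField k K) {n : ℤ} (hn : 2 * (genus k K : ℤ) < n) : numC k K n = 0 := by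
  have h := q_sub_one_mul_numC hK n
  rw [clSum_large hK (n := n) (by omega), clSum_large hK (n := n - 1) (by omega),
    clSum_large hK (n := n - 2) (by omega)] at h
  obtain ⟨m, hm⟩ : ∃ m : ℕ, n - 1 - genus k K = m := Int.eq_ofNat_of_zero_le (by omega)
  rw [show (n + 1 - genus k K).toNat = m + 2 by omega, show (n - 1 + 1 - genus k K).toNat = m + 1 by omega,
    show (n - 2 + 1 - genus k K).toNat = m by omega] at h
  refine (mul_eq_zero.mp (h.trans ?_)).resolve_left qm1_ne_zero
  ring

theorem numC_symm (hK : IsFunctionField k K) (i : ℤ) :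
    (numC k K (2 * genus k K - i) : ℚ) = (Nat.card k : ℚ) ^ ((genus k K : ℤ) - i) * numC k K i := by
  have hq0 : (Nat.card k : ℚ) ≠ 0 := by have := card_base (k := k); positivity
  have hq1 : (Nat.card k : ℚ) - 1 ≠ 0 := by
    have h : (2 : ℚ) ≤ Nat.card k := by exact_mod_cast card_base (k := k)
    intro h'; linarith
  have key : ∀ n, ((Nat.card k : ℚ) - 1) * (numC k K n : ℚ) = (clSum hK n : ℚ)
      - ((Nat.card k : ℚ) + 1) * clSum hK (n - 1) + (Nat.card k : ℚ) * clSum hK (n - 2) := fun n => by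
    exact_mod_cast congrArg (Int.cast : ℤ → ℚ) (q_sub_one_mul_numC hK n)
  refine mul_left_cancel₀ hq1 ?_
  rw [mul_left_comm, key, key, clSum_duality hK (2 * (genus k K : ℤ) - i), clSum_duality hK (2 * (genus k K : ℤ) - i - 1),
    clSum_duality hK (2 * (genus k K : ℤ) - i - 2)]
  rw [show 2 * (genus k K : ℤ) - 2 - (2 * genus k K - i) = i - 2 by ring,
    show 2 * (genus k K : ℤ) - 2 - (2 * genus k K - i - 1) = i - 1 by ring,
    show 2 * (genus k K : ℤ) - 2 - (2 * genus k K - i - 2) = i by ring,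
    show 2 * (genus k K : ℤ) - i + 1 - genus k K = (genus k K - i) + 1 by ring,
    show 2 * (genus k K : ℤ) - i - 1 + 1 - genus k K = genus k K - i by ring,
    show 2 * (genus k K : ℤ) - i - 2 + 1 - genus k K = (genus k K - i) - 1 by ring,
    zpow_add_one₀ hq0, zpow_sub_one₀ hq0]
  field_simp
  ring

omit [Finite k] in
theorem eq_zero_of_nonneg_of_deg_eq_zero (hK : IsFunctionField k K) {D : Divisor k K} (h : 0 ≤ D)
    (hd : D.deg = 0) : D = 0 := by
  refine Finsupp.ext fun P => ?_
  have h1 : Finsupp.single P (D P) ≤ D := fun Q => by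
    rw [Finsupp.single_apply]; split_ifs with e
    · rw [e]
    · exact h Q
  have h2 := deg_mono h1
  rw [deg_single, hd] at h2
  have h3 : 0 ≤ D P := h P
  have := deg_pos hK P
  simp only [Finsupp.coe_zero, Pi.zero_apply]
  nlinarith

theorem revAt_gt {N n : ℕ} (h : N < n) : revAt N n = n := if_neg (by omega)

theorem list_map_prod_eq {α M : Type*} [CommMonoid M] (f : α → M) (l : List α) {g : ℕ} (hl : l.length = g) :
    (l.map f).prod = ∏ i : Fin g, f (l.get (i.cast hl.symm)) := by
  subst hl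
  simp

theorem numC_zero (hK : IsFunctionField k K) : numC k K 0 = 1 := by
  have h : effDivCount k K 0 = 1 := by
    rw [effDivCount, Nat.card_eq_one_iff_unique]
    refine ⟨⟨fun a b => Subtype.ext ?_⟩, ⟨⟨0, le_refl _, by simp [← degHom_apply]⟩⟩⟩
    rw [eq_zero_of_nonneg_of_deg_eq_zero hK a.2.1 (by rw [a.2.2]; simp),
      eq_zero_of_nonneg_of_deg_eq_zero hK b.2.1 (by rw [b.2.2]; simp)]
  simp [numC, aZ, h]

theorem numC_top (hK : IsFunctionField k K) :
    numC k K (2 * genus k K) = (Nat.card k : ℤ) ^ genus k K := by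
  have h := numC_symm hK 0
  rw [sub_zero, sub_zero, numC_zero hK, Int.cast_one, mul_one, zpow_natCast] at h
  exact_mod_cast h

omit [Finite k] in
theorem sum_numC (N : ℕ) :
    ∑ n ∈ Finset.range (N + 1), numC k K n = aZ k K N - (Nat.card k : ℤ) * aZ k K ((N : ℤ) - 1) := by
  induction N with
  | zero => simp [numC, aZ]
  | succ N ih =>
    rw [Finset.sum_range_succ, ih, numC]
    push_cast
    rw [show (N : ℤ) + 1 - 2 = (N : ℤ) - 1 by ring, add_sub_cancel_right]
    ring

theorem exists_poly (hK : IsFunctionField k K) :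
    ∃ p : ℤ[X], (p : PowerSeries ℤ) = numerZ k K ∧ p.natDegree ≤ 2 * genus k K ∧
      ∀ n : ℕ, p.coeff n = numC k K n := by
  refine ⟨∑ n ∈ Finset.range (2 * genus k K + 1), C (numC k K n) * X ^ n, ?_, ?_, ?_⟩
  rotate_left
  · exact natDegree_sum_le_of_forall_le _ _ fun n hn =>
      (natDegree_C_mul_X_pow_le _ _).trans (by have := Finset.mem_range.mp hn; omega)
  rotate_left
  · refine PowerSeries.ext fun n => ?_
    rw [Polynomial.coeff_coe, coeff_numerZ, finsetSum_coeff]
    simp only [coeff_C_mul_X_pow, Finset.sum_ite_eq, Finset.mem_range]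
    split_ifs with h
    · rfl
    · exact (numC_of_gt hK (by omega)).symm
  · intro n
    rw [finsetSum_coeff]
    simp only [coeff_C_mul_X_pow, Finset.sum_ite_eq, Finset.mem_range]
    split_ifs with h
    · rfl
    · exact (numC_of_gt hK (by omega)).symm

theorem eval_one_eq_classNum (hK : IsFunctionField k K) (p : ℤ[X]) (hp : (p : PowerSeries ℤ) = numerZ k K) :
    p.eval 1 = (classNum k K : ℤ) := by
  obtain ⟨p', hp', hdeg, hc⟩ := exists_poly hK
  obtain rfl : p = p' := Polynomial.coe_injective ℤ (hp.trans hp'.symm)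
  rw [eval_eq_sum_range' (n := 2 * genus k K + 1) (by omega)]
  simp only [one_pow, mul_one, hc]
  rw [sum_numC]
  refine mul_left_cancel₀ (qm1_ne_zero (k := k)) ?_
  have h0 := q_sub_one_mul_aZ hK ((2 * genus k K : ℕ) : ℤ)
  have h1 := q_sub_one_mul_aZ hK ((2 * genus k K : ℕ) - 1 : ℤ)
  rw [clSum_large hK (by omega), show (((2 * genus k K : ℕ) : ℤ) + 1 - genus k K).toNat = genus k K + 1 by omega] at h0
  rw [clSum_large hK (by omega), show (((2 * genus k K : ℕ) : ℤ) - 1 + 1 - genus k K).toNat = genus k K by omega] at h1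
  linear_combination h0 - (Nat.card k : ℤ) * h1

/-! ### Palindromic polynomials -/

/-- The symmetry `c_{2g-i} = q^{g-i} c_i`. -/
def IsPal (q : ℂ) (g : ℕ) (p : ℂ[X]) : Prop :=
  p.natDegree ≤ 2 * g ∧ (reflect (2 * g) p).comp (C q * X) = C (q ^ g) * p

theorem isPal_pow (q : ℂ) (g : ℕ) : IsPal q g ((1 + C q * X ^ 2) ^ g) := by
  have hd : ∀ n : ℕ, ((1 + C q * X ^ 2 : ℂ[X]) ^ n).natDegree ≤ 2 * n := fun n => by
    refine natDegree_pow_le.trans ?_
    rw [mul_comm 2]
    refine Nat.mul_le_mul_left _ ((natDegree_add_le _ _).trans (max_le (by simp) ?_))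
    exact natDegree_C_mul_X_pow_le _ _
  refine ⟨hd g, ?_⟩
  induction g with
  | zero => simp
  | succ g ih =>
    rw [pow_succ _ g, show 2 * (g + 1) = 2 * g + 2 by ring,
      reflect_mul _ _ (hd g) (by simpa using hd 1), mul_comp, ih, pow_succ q g, map_mul, mul_mul_mul_comm]
    congr 1
    rw [reflect_add, reflect_one, reflect_C_mul_X_pow, revAt_le le_rfl, Nat.sub_self, pow_zero, mul_one,
      add_comp, pow_comp, X_comp, C_comp]
    ring

theorem IsPal.exists_eval {q : ℂ} (hq : q ≠ 0) : ∀ {g : ℕ} {p : ℂ[X]}, IsPal q g p →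
    ∃ G : ℂ[X], G.natDegree ≤ g ∧ G.coeff g = p.coeff 0 ∧
      ∀ x : ℂ, x ≠ 0 → p.eval x = x ^ g * G.eval ((1 + q * x ^ 2) / x) := by
  intro g
  induction g with
  | zero =>
    intro p hp
    refine ⟨C (p.coeff 0), by simp, by simp, fun x _ => ?_⟩
    conv_lhs => rw [eq_C_of_natDegree_le_zero hp.1]
    simp
  | succ g ih =>
    intro p hp
    set c := p.coeff 0
    set r := p - C c * (1 + C q * X ^ 2) ^ (g + 1) with hr
    have hw := isPal_pow q (g + 1)
    have hrpal : (reflect (2 * (g + 1)) r).comp (C q * X) = C (q ^ (g + 1)) * r := by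
      rw [hr, reflect_sub, reflect_C_mul, sub_comp, mul_comp, C_comp, hp.2, hw.2]; ring
    have hr0 : r.coeff 0 = 0 := by
      rw [hr, coeff_sub, coeff_C_mul, coeff_zero_eq_eval_zero ((1 + C q * X ^ 2) ^ (g + 1))]
      simp [c]
    have hrd : r.natDegree ≤ 2 * (g + 1) := (natDegree_sub_le _ _).trans
      (max_le hp.1 ((natDegree_C_mul_le _ _).trans hw.1))
    have hrtop : r.coeff (2 * (g + 1)) = 0 := by
      have h := congrArg (eval 0) hrpal
      simp only [eval_comp, eval_mul, eval_C, eval_X, mul_zero, ← coeff_zero_eq_eval_zero, coeff_reflect, revAt_zero, hr0] at h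
      exact h
    obtain ⟨r', hr'⟩ : X ∣ r := X_dvd_iff.mpr hr0
    have hd : r'.natDegree ≤ 2 * g := by
      refine natDegree_le_iff_coeff_eq_zero.mpr fun N hN => ?_
      rw [← coeff_X_mul r' N, ← hr']
      rcases eq_or_lt_of_le (show 2 * (g + 1) ≤ N + 1 by omega) with h | h
      · rw [← h, hrtop]
      · exact coeff_eq_zero_of_natDegree_lt (hrd.trans_lt h)
    have hpal : IsPal q g r' := by
      refine ⟨hd, ?_⟩
      rw [hr', show 2 * (g + 1) = 2 + 2 * g by ring, reflect_mul _ _ (natDegree_X_le.trans (by omega)) hd,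
        show reflect 2 (X : ℂ[X]) = X by simpa [revAt_le] using reflect_monomial (R := ℂ) 2 1, mul_comp, X_comp,
        pow_succ, map_mul] at hrpal
      refine mul_left_cancel₀ (mul_ne_zero ((map_ne_zero_iff _ C_injective).mpr hq) X_ne_zero) ?_
      rw [hrpal]; ring
    obtain ⟨G, hG, -, hGe⟩ := ih hpal
    refine ⟨G + C c * X ^ (g + 1), (natDegree_add_le _ _).trans (max_le (hG.trans (by omega)) (natDegree_C_mul_X_pow_le _ _)), ?_, fun x hx => ?_⟩
    · rw [coeff_add, coeff_C_mul_X_pow, if_pos rfl, coeff_eq_zero_of_natDegree_lt (by omega), zero_add]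
    · have hp' : p = C c * (1 + C q * X ^ 2) ^ (g + 1) + X * r' := by rw [← hr', hr]; ring
      rw [hp']
      simp only [eval_add, eval_mul, eval_C, eval_pow, eval_X, eval_one, hGe x hx, div_pow]
      field_simp
      ring

theorem IsPal.exists_roots {q : ℂ} (hq : q ≠ 0) {g : ℕ} {p : ℂ[X]} (hp : IsPal q g p) (h0 : p.coeff 0 = 1) :
    ∃ α : Fin (2 * g) → ℂ, p = ∏ i, (1 - C (α i) * X) ∧ ∀ i, α i * α (Fin.rev i) = q := by
  obtain ⟨G, hG, hGc, hGe⟩ := hp.exists_eval hq
  rw [h0] at hGc
  have hGm : G.Monic := monic_of_natDegree_le_of_coeff_eq_one g hG hGc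
  have hGd : G.natDegree = g := le_antisymm hG (le_natDegree_of_ne_zero (by rw [hGc]; exact one_ne_zero))
  have hsplit : G.Splits := IsAlgClosed.splits G
  obtain ⟨β, hβ⟩ : ∃ β : Fin g → ℂ, G = ∏ i, (X - C (β i)) := by
    have hl : G.roots.toList.length = g := by rw [Multiset.length_toList, ← hsplit.natDegree_eq_card_roots, hGd]
    refine ⟨fun i => G.roots.toList.get (i.cast hl.symm), ?_⟩
    rw [← list_map_prod_eq (fun x => X - C x) G.roots.toList hl, ← Multiset.prod_coe, ← Multiset.map_coe,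
      Multiset.coe_toList]
    exact hsplit.eq_prod_roots_of_monic hGm
  have hquad : ∀ b : ℂ, ∃ a, a ≠ 0 ∧ b = a + q / a := fun b => by
    obtain ⟨a, ha⟩ := IsAlgClosed.exists_root (X ^ 2 - C b * X + C q) (by
      rw [show (X ^ 2 - C b * X + C q : ℂ[X]) = C 1 * X ^ 2 + C (-b) * X + C q by rw [map_one, map_neg]; ring,
        degree_quadratic one_ne_zero]
      exact two_ne_zero)
    simp only [IsRoot.def, eval_add, eval_sub, eval_pow, eval_X, eval_mul, eval_C] at ha
    have ha0 : a ≠ 0 := fun h => hq (by rw [h] at ha; simpa using ha)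
    exact ⟨a, ha0, by field_simp; linear_combination -ha⟩
  choose a ha0 ha using fun i => hquad (β i)
  let α : Fin (2 * g) → ℂ := fun i => if h : (i : ℕ) < g then a ⟨i, h⟩ else q / a ⟨2 * g - 1 - i, by omega⟩
  refine ⟨α, ?_, fun i => ?_⟩
  · refine Polynomial.eq_of_infinite_eval_eq _ _ (Set.Infinite.mono (s := {(0 : ℂ)}ᶜ) ?_ (Set.Finite.infinite_compl (Set.finite_singleton _)))
    intro x hx
    have hx : x ≠ 0 := hx
    change p.eval x = eval x _
    rw [hGe x hx, hβ, eval_prod, eval_prod, ← Fin.prod_congr' _ (two_mul g).symm, Fin.prod_univ_add]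
    conv_rhs => arg 2; rw [← Fintype.prod_equiv Fin.revPerm _ _ (fun i => rfl)]
    rw [← Finset.prod_mul_distrib, ← Fin.prod_const g x, ← Finset.prod_mul_distrib]
    refine Finset.prod_congr rfl fun i _ => ?_
    simp only [Fin.revPerm_apply, eval_sub, eval_one, eval_mul, eval_C, eval_X]
    have h1 : α (Fin.cast (two_mul g).symm (Fin.castAdd g i)) = a i := by simp [α]
    have h2 : α (Fin.cast (two_mul g).symm (Fin.natAdd g i.rev)) = q / a i := by
      simp only [α, Fin.val_cast, Fin.val_natAdd]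
      rw [dif_neg (by omega)]
      congr 2
      exact Fin.ext (by simp [Fin.val_rev]; omega)
    rw [h1, h2, ha i]
    have := ha0 i
    field_simp
    ring
  · have hi := i.2
    simp only [α, Fin.val_rev]
    split_ifs with h1 h2 h2
    · omega
    · rw [mul_comm, show (⟨2 * g - 1 - (2 * g - ((i : ℕ) + 1)), by omega⟩ : Fin g) = ⟨i, h1⟩ from Fin.ext (by simp; omega)]
      exact div_mul_cancel₀ _ (ha0 _)
    · rw [show (⟨2 * g - 1 - (i : ℕ), by omega⟩ : Fin g) = ⟨2 * g - ((i : ℕ) + 1), h2⟩ from Fin.ext (by simp; omega)]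
      exact div_mul_cancel₀ _ (ha0 _)
    · omega

theorem exists_alpha (hK : IsFunctionField k K) :
    ∃ α : Fin (2 * genus k K) → ℂ, (∀ i, IsIntegral ℤ (α i)) ∧
      PowerSeries.map (Int.castRingHom ℂ) (numerZ k K) =
        ((∏ i, (1 - C (α i) * X) : ℂ[X]) : PowerSeries ℂ) ∧
      ∀ i, α i * α (Fin.rev i) = (Nat.card k : ℂ) := by
  obtain ⟨p, hp, hpd, hpc⟩ := exists_poly hK
  set g := genus k K
  have hq : (Nat.card k : ℂ) ≠ 0 := by have := card_base (k := k); exact_mod_cast (by omega : Nat.card k ≠ 0)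
  have hd : (p.map (Int.castRingHom ℂ)).natDegree ≤ 2 * g := natDegree_map_le.trans hpd
  have hpal : IsPal (Nat.card k : ℂ) g (p.map (Int.castRingHom ℂ)) := by
    refine ⟨hd, Polynomial.ext fun n => ?_⟩
    rw [comp_C_mul_X_coeff, coeff_reflect, coeff_C_mul, coeff_map, coeff_map, hpc, hpc, eq_intCast, eq_intCast]
    rcases le_or_gt n (2 * g) with hn | hn
    · rw [revAt_le hn, Nat.cast_sub hn]
      have h := numC_symm hK (n : ℤ)
      have hq' : (Nat.card k : ℚ) ≠ 0 := by have := card_base (k := k); positivity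
      have h2 : (numC k K (2 * (g : ℤ) - n) : ℚ) * (Nat.card k : ℚ) ^ n = (Nat.card k : ℚ) ^ g * numC k K n := by
        rw [h, mul_right_comm, ← zpow_natCast, ← zpow_add₀ hq', sub_add_cancel, zpow_natCast]
      have h3 : numC k K (2 * (g : ℤ) - n) * (Nat.card k : ℤ) ^ n = (Nat.card k : ℤ) ^ g * numC k K n := by
        exact_mod_cast h2
      push_cast
      exact_mod_cast h3
    · rw [revAt_gt hn, numC_of_gt hK (n := (n : ℤ)) (by omega)]
      simp
  obtain ⟨α, hprod, hpair⟩ := hpal.exists_roots hq (by rw [coeff_map, hpc]; simp [numC_zero hK])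
  refine ⟨α, fun i => ?_, ?_, hpair⟩
  · have hα : α i ≠ 0 := fun h => hq (by rw [← hpair i, h, zero_mul])
    refine ⟨reflect (2 * g) p, monic_of_natDegree_le_of_coeff_eq_one (2 * g) ?_ ?_, ?_⟩
    · refine natDegree_le_iff_coeff_eq_zero.mpr fun N hN => ?_
      rw [coeff_reflect, revAt_gt hN,
        coeff_eq_zero_of_natDegree_lt (hpd.trans_lt hN)]
    · rw [coeff_reflect, revAt_le le_rfl, Nat.sub_self, hpc]; exact numC_zero hK
    · let : Invertible (α i)⁻¹ := ⟨α i, mul_inv_cancel₀ hα, inv_mul_cancel₀ hα⟩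
      refine (eval₂_reflect_eq_zero_iff (algebraMap ℤ ℂ) (α i)⁻¹ (2 * g) p hpd).mpr ?_
      rw [eval₂_eq_eval_map, show algebraMap ℤ ℂ = Int.castRingHom ℂ from rfl, hprod, eval_prod]
      exact Finset.prod_eq_zero (Finset.mem_univ i) (by simp [hα])
  · rw [← hp, ← Polynomial.polynomial_map_coe, hprod]

end Groth.Agent.FF
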